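import Mathlib.GroupTheory.PGroup
import Mathlib.GroupTheory.Sylow
import Mathlib.GroupTheory.GroupAction.ConjAct

/-!
Small lemmas on finite `p`-groups used by the involution characterisation statements.
-/

namespace CfsgLib.InvChar

/-- A nontrivial normal subgroup of a finite `p`-group contains a nontrivial central element. -/
theorem exists_mem_center_of_normal {P : Type*} [Group P] [Finite P] {p : ℕ} [Fact p.Prime]
    (hP : IsPGroup p P) (N : Subgroup P) [N.Normal] (hN : N ≠ ⊥) :
    ∃ z ∈ N, z ≠ 1 ∧ z ∈ Subgroup.center P := by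
  have hC : IsPGroup p (ConjAct P) := hP.of_equiv ConjAct.toConjAct
  have hdvd : p ∣ Nat.card N := by
    obtain ⟨k, hk⟩ := IsPGroup.iff_card.1 (hP.to_subgroup N)
    rcases k with _ | k
    · exact absurd (Subgroup.card_eq_one.1 (by simpa using hk)) hN
    · exact hk ▸ dvd_pow_self p k.succ_ne_zero
  have h1 : (1 : N) ∈ MulAction.fixedPoints (ConjAct P) N := by
    intro g
    ext
    rw [ConjAct.Subgroup.val_conj_smul]
    simp [ConjAct.smul_def]
  obtain ⟨z, hz, hz1⟩ := hC.exists_fixed_point_of_prime_dvd_card_of_fixed_point N hdvd h1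
  refine ⟨z, z.2, fun h => hz1 (Subtype.ext h.symm), Subgroup.mem_center_iff.2 fun g => ?_⟩
  have h := congrArg Subtype.val (hz (ConjAct.toConjAct g))
  rw [ConjAct.Subgroup.val_conj_smul, ConjAct.smul_def] at h
  simp only [ConjAct.ofConjAct_toConjAct] at h
  exact mul_inv_eq_iff_eq_mul.1 h

/-- An element whose order is a power of `p` and one of whose powers with exponent prime to `p`
lies in `K` itself lies in `K`. -/
theorem mem_of_pow_mem_of_coprime {G : Type*} [Group G] {K : Subgroup G} {g : G} {p k m : ℕ}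
    (hg : g ^ p ^ k = 1) (hm : Nat.Coprime p m) (h : g ^ m ∈ K) : g ∈ K := by
  have h1 : m.gcd (orderOf g) = 1 :=
    ((hm.pow_left k).coprime_dvd_left (orderOf_dvd_of_pow_eq_one hg)).symm
  exact (Subgroup.zpowers_le.2 h) (mem_zpowers_pow_iff.2 h1)

/-- If the index of a normal subgroup is prime to `p`, it contains every `p`-element. -/
theorem mem_of_normal_of_coprime_index {G : Type*} [Group G] {K : Subgroup G} [K.Normal]
    {g : G} {p k : ℕ} (hg : g ^ p ^ k = 1) (hm : Nat.Coprime p K.index) : g ∈ K :=
  mem_of_pow_mem_of_coprime hg hm (K.pow_index_mem g)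

end CfsgLib.InvChar
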