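import Cfsg.Agent.Lib.InvChar.CosetGroup
import Cfsg.Agent.Lib.InvChar.Basic
import Mathlib.GroupTheory.Subgroup.Simple

/-!
# Simplicity of a group from a faithful primitive permutation certificate

A nontrivial normal subgroup `N` is transitive, hence of order divisible by the degree; for a prime
`p` whose full part of the group order divides the degree it contains all `p`-elements, and the
relators then push every generator into `N`.
-/

set_option autoImplicit false

namespace CfsgLib.InvChar.Coset

variable {G : Type*} [Group G]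

/-- The coset orbit sizes of a subgroup rule out intermediate subgroups: a subgroup above `H` is a
union of `H`-orbits whose size divides the index. -/
theorem eq_top_or_le_of_suborbits (H : Subgroup G) [Finite (G ⧸ H)] (sizes : List ℕ)
    (reps : Fin sizes.length → G ⧸ H) (hsz : ∀ i, (MulAction.orbit H (reps i)).ncard = sizes.get i)
    (hcov : ∀ q : G ⧸ H, q = ((1 : G) : G ⧸ H) ∨ ∃ i, q ∈ MulAction.orbit H (reps i))
    (hdis : ∀ i j, reps j ∈ MulAction.orbit H (reps i) → i = j)
    (hone : ∀ i, ((1 : G) : G ⧸ H) ∉ MulAction.orbit H (reps i))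
    (hnum : ∀ I : Finset (Fin sizes.length), 1 + ∑ i ∈ I, sizes.get i ∣ H.index →
      I = ∅ ∨ I = Finset.univ)
    (K : Subgroup G) (hK : H ≤ K) : K = H ∨ K = ⊤ := by
  classical
  have : Fintype (G ⧸ H) := Fintype.ofFinite _
  let B : Set (G ⧸ H) := (fun k : G => (k : G ⧸ H)) '' (K : Set G)
  have hB : ∀ g : G, (g : G ⧸ H) ∈ B ↔ g ∈ K := by
    refine fun g => ⟨?_, fun h => ⟨g, h, rfl⟩⟩
    rintro ⟨k, hk, hkg⟩
    have h := hK (QuotientGroup.eq.1 hkg)
    simpa using mul_mem hk h
  have hinv : ∀ h ∈ H, ∀ q ∈ B, h • q ∈ B := by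
    rintro h hh _ ⟨k, hk, rfl⟩
    exact ⟨h * k, mul_mem (hK hh) hk, rfl⟩
  let I : Finset (Fin sizes.length) := Finset.univ.filter fun i => reps i ∈ B
  have horb : ∀ i, ∀ q ∈ MulAction.orbit H (reps i), (q ∈ B ↔ i ∈ I) := by
    rintro i _ ⟨⟨h, hh⟩, rfl⟩
    simp only [I, Finset.mem_filter, Finset.mem_univ, true_and]
    refine ⟨fun hq => ?_, hinv h hh _⟩
    have := hinv h⁻¹ (inv_mem hh) _ hq
    rwa [show ((⟨h, hh⟩ : H) • reps i) = h • reps i from rfl, inv_smul_smul] at this
  have hBeq : B = insert ((1 : G) : G ⧸ H) (⋃ i ∈ I, MulAction.orbit H (reps i)) := by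
    ext q
    simp only [Set.mem_insert_iff, Set.mem_iUnion, exists_prop]
    constructor
    · intro hq
      rcases hcov q with h | ⟨i, hi⟩
      · exact Or.inl h
      · exact Or.inr ⟨i, (horb i q hi).1 hq, hi⟩
    · rintro (rfl | ⟨i, hiI, hi⟩)
      · exact ⟨1, one_mem K, rfl⟩
      · exact (horb i q hi).2 hiI
  have hcard : B.ncard = 1 + ∑ i ∈ I, sizes.get i := by
    rw [hBeq, Set.ncard_insert_of_notMem (by simp only [Set.mem_iUnion, exists_prop, not_exists, not_and]; exact fun i _ => hone i) (Set.toFinite _),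
      add_comm]
    congr 1
    rw [Set.ncard_eq_toFinset_card' ]
    have : (⋃ i ∈ I, MulAction.orbit H (reps i)).toFinset = I.biUnion fun i => (MulAction.orbit H (reps i)).toFinset := by
      ext q; simp
    rw [this, Finset.card_biUnion]
    · exact Finset.sum_congr rfl fun i _ => by rw [← hsz i, Set.ncard_eq_toFinset_card']
    · intro i _ j _ hij
      rw [Function.onFun, Set.disjoint_toFinset, Set.disjoint_left]
      intro q hqi hqj
      refine hij (hdis i j ?_)
      rw [← MulAction.orbit_eq_iff.2 hqi, MulAction.orbit_eq_iff.2 hqj]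
      exact MulAction.mem_orbit_self _
  have hBdvd : B.ncard ∣ H.index := by
    have hBc : B.ncard = H.relIndex K := by
      rw [Subgroup.relIndex, Subgroup.index, ← Nat.card_coe_set_eq]
      refine (Nat.card_congr (Equiv.ofBijective
        (fun q : K ⧸ H.subgroupOf K => (⟨Quotient.liftOn' q (fun k => ((k : G) : G ⧸ H)) (fun a b hab =>
          QuotientGroup.eq.2 (by simpa [Subgroup.mem_subgroupOf] using QuotientGroup.leftRel_apply.1 hab)), ?_⟩ : B)) ⟨?_, ?_⟩)).symm
      · induction q using QuotientGroup.induction_on with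
        | _ k => exact ⟨k, k.2, rfl⟩
      · intro a b hab
        induction a using QuotientGroup.induction_on with
        | _ a =>
          induction b using QuotientGroup.induction_on with
          | _ b =>
            have := QuotientGroup.eq.1 (congrArg Subtype.val hab)
            exact QuotientGroup.eq.2 (by simpa [Subgroup.mem_subgroupOf] using this)
      · rintro ⟨_, k, hk, rfl⟩
        exact ⟨QuotientGroup.mk ⟨k, hk⟩, rfl⟩
    rw [hBc]
    exact ⟨K.index, (Subgroup.relIndex_mul_index hK).symm⟩
  rw [hcard] at hBdvd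
  rcases hnum I hBdvd with hI | hI
  · left
    refine le_antisymm (fun g hg => ?_) hK
    have h := (hB g).2 hg
    rw [hBeq, hI] at h
    simp only [Finset.notMem_empty, Set.iUnion_of_empty, Set.iUnion_empty, Set.mem_insert_iff,
      Set.mem_empty_iff_false, or_false] at h
    simpa using inv_mem (QuotientGroup.eq.1 h)
  · right
    refine eq_top_iff.2 fun g _ => (hB g).1 ?_
    rcases hcov (g : G ⧸ H) with h | ⟨i, hi⟩
    · rw [h]; exact ⟨1, one_mem K, rfl⟩
    · exact (horb i _ hi).2 (hI ▸ Finset.mem_univ i)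

/-- If all letters of a word but one lie in a normal subgroup and that one occurs an odd number of
times in a word with trivial value, it lies in the subgroup too. -/
theorem gen_mem_of_rel (N : Subgroup G) [N.Normal] (s : ℕ → G) (hs : ∀ x, s x * s x = 1) {r : List ℕ}
    (hr : wprod s r = 1) {y : ℕ} (hodd : r.count y % 2 = 1) (hrest : ∀ x ∈ r, x = y ∨ s x ∈ N) :
    s y ∈ N := by
  have key : ∀ L : List ℕ, (∀ x ∈ L, x = y ∨ s x ∈ N) →
      QuotientGroup.mk' N (wprod s L) = (QuotientGroup.mk' N (s y)) ^ L.count y := by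
    intro L
    induction L with
    | nil => intro _; simp [wprod]
    | cons a L ih =>
      intro hL
      obtain ⟨ha, hL⟩ := List.forall_mem_cons.1 hL
      have e : wprod s (a :: L) = s a * wprod s L := by simp [wprod]
      rw [e, map_mul, ih hL]
      rcases ha with rfl | ha
      · rw [List.count_cons_self, pow_succ']
      · rcases eq_or_ne a y with rfl | hne
        · rw [List.count_cons_self, pow_succ']
        · rw [List.count_cons_of_ne hne, (QuotientGroup.eq_one_iff (s a)).2 ha |> fun h => (show QuotientGroup.mk' N (s a) = 1 from h), one_mul]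
  have h := key r hrest
  rw [hr, map_one, ← Nat.div_add_mod (r.count y) 2, hodd, pow_succ, pow_mul, sq, ← map_mul, hs, map_one,
    one_pow, one_mul] at h
  exact (QuotientGroup.eq_one_iff _).1 h.symm

/-- The letters that the relators force into a normal subgroup. -/
def spreadOnce (R : List (List ℕ)) (g : ℕ) (known : List ℕ) : List ℕ :=
  known ++ (List.range g).filter fun y => R.any fun r =>
    decide (r.count y % 2 = 1) && r.all fun x => decide (x = y) || decide (x ∈ known)

/-- Iterate `spreadOnce`. -/
def spread (R : List (List ℕ)) (g : ℕ) : ℕ → List ℕ → List ℕ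
  | 0, known => known
  | n + 1, known => spread R g n (spreadOnce R g known)

theorem mem_of_spread (N : Subgroup G) [N.Normal] (s : ℕ → G) (hs : ∀ x, s x * s x = 1) (R : List (List ℕ))
    (hR : ∀ r ∈ R, wprod s r = 1) (g : ℕ) : ∀ (n : ℕ) (known : List ℕ), (∀ x ∈ known, s x ∈ N) →
      ∀ x ∈ spread R g n known, s x ∈ N := by
  intro n
  induction n with
  | zero => intro known h x hx; exact h x hx
  | succ n ih =>
    intro known h x hx
    refine ih _ (fun y hy => ?_) x hx
    rw [spreadOnce, List.mem_append] at hy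
    rcases hy with hy | hy
    · exact h y hy
    · simp only [List.mem_filter, List.any_eq_true, Bool.and_eq_true, List.all_eq_true, Bool.or_eq_true,
        decide_eq_true_eq] at hy
      obtain ⟨-, r, hr, hodd, hrest⟩ := hy
      exact gen_mem_of_rel N s hs (hR r hr) hodd fun z hz => (hrest z hz).imp_right (h z)

/-- **Simplicity criterion.** -/
theorem isSimpleGroup_of_cert [Finite G] [Nontrivial G] (H : Subgroup G) (hcore : H.normalCore = ⊥)
    (hmax : ∀ K : Subgroup G, H ≤ K → K = H ∨ K = ⊤) (p k : ℕ) [Fact p.Prime]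
    (hk : p ^ k ∣ H.index) (hpart : ¬ p ^ (k + 1) ∣ Nat.card G) (s : ℕ → G) (hs : ∀ x, s x * s x = 1)
    (R : List (List ℕ)) (hR : ∀ r ∈ R, wprod s r = 1) (g : ℕ)
    (hgen : Subgroup.closure (s '' Set.Iio g) = ⊤) (seeds : List ℕ)
    (hseed : ∀ y ∈ seeds, ∃ u v : G, u ^ p = 1 ∧ v ^ p = 1 ∧ u * v = s y)
    (hspread : ∀ x < g, x ∈ spread R g g seeds) : IsSimpleGroup G := by
  refine ⟨fun N hN => ?_⟩
  by_contra hne
  push Not at hne
  obtain ⟨hbot, htop⟩ := hne
  have hNH : ¬ N ≤ H := fun h => hbot (le_bot_iff.1 (hcore ▸ Subgroup.normal_le_normalCore.2 h))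
  have hsup : N ⊔ H = ⊤ := (hmax _ le_sup_right).resolve_left fun h => hNH (h ▸ le_sup_left)
  have hdvd : H.index ∣ Nat.card N := by
    have h1 : N.relIndex H = N.index := by
      rw [← Subgroup.relIndex_sup_left (K := N) (H := H), hsup, Subgroup.relIndex_top_right]
    have h2 : Nat.card (N ⊓ H : Subgroup G) * N.index = Nat.card H := by
      rw [← h1, ← Subgroup.card_mul_index (N.subgroupOf H), Subgroup.relIndex]
      congr 1
      rw [← Nat.card_congr (Subgroup.subgroupOfEquivOfLe (inf_le_right : N ⊓ H ≤ H)).toEquiv,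
        Subgroup.inf_subgroupOf_right]
    have h3 := N.card_mul_index.trans H.card_mul_index.symm
    rw [← h2, mul_right_comm] at h3
    exact ⟨_, (Nat.eq_of_mul_eq_mul_right (Nat.pos_of_ne_zero Subgroup.index_ne_zero_of_finite) h3).trans
      (mul_comm _ _)⟩
  have hcop : Nat.Coprime p N.index := by
    rw [(Fact.out : p.Prime).coprime_iff_not_dvd]
    intro hd
    refine hpart ?_
    rw [← N.card_mul_index, pow_succ]
    exact Nat.mul_dvd_mul (hk.trans hdvd) hd
  have helts : ∀ u : G, u ^ p = 1 → u ∈ N := fun u hu =>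
    CfsgLib.InvChar.mem_of_normal_of_coprime_index (k := 1) (by rwa [pow_one]) hcop
  have hseeds : ∀ y ∈ seeds, s y ∈ N := fun y hy => by
    obtain ⟨u, v, hu, hv, huv⟩ := hseed y hy
    exact huv ▸ mul_mem (helts u hu) (helts v hv)
  refine htop (top_le_iff.1 ?_)
  rw [← hgen, Subgroup.closure_le]
  rintro _ ⟨x, hx, rfl⟩
  exact mem_of_spread N s hs R hR g g seeds hseeds x (hspread x hx)

end CfsgLib.InvChar.Coset
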