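import Cfsg.Agent.Lib.InvChar.CosetCert
import Mathlib.GroupTheory.GroupAction.Quotient
import Mathlib.GroupTheory.Perm.Finite

/-!
# Permutation tables, exact indices, suborbits and lower bounds for orders
-/

set_option autoImplicit false

namespace CfsgLib.InvChar.Coset

open scoped Pointwise

namespace Table

variable (T : Table)

/-- Every word of the list leads from `i` back to `i`. -/
noncomputable def chkPoint (W : List (List ℕ)) (i : ℕ) : Bool :=
  List.rec true (fun L _ ih => Nat.beq (T.follow L i) i && ih) W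

/-- Every letter maps the point into range. -/
noncomputable def chkRange (i : ℕ) (m : ℕ) : Bool :=
  Nat.rec true (fun x ih => Nat.blt (T.app i x) T.n && ih) m

/-- Check `cnt` points from `i`. -/
noncomputable def chkPoints (W : List (List ℕ)) (cnt : ℕ) : ℕ → Bool :=
  Nat.rec (fun _ => true)
    (fun _ ih i => T.chkRange i T.g && T.chkPoint W i && force (i + 1) ih) cnt

/-- The letters of the table `U` are the given words in the letters of `T`, at `cnt` points from `i`. -/
noncomputable def chkDerived (U : Table) (W : List (List ℕ)) (cnt : ℕ) : ℕ → Bool :=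
  Nat.rec (fun _ => true)
    (fun _ ih i => List.rec (fun _ => true)
      (fun L _ ihW x => Nat.beq (U.app i x) (T.follow L i) && force (x + 1) ihW) W 0 && force (i + 1) ih) cnt

/-- One point of an orbit certificate: `pts k` is the `k`-th point, `pos` its inverse plus one. -/
noncomputable def chkOrbitPoint (S : List (List ℕ)) (pts pos par : Tr) (m k : ℕ) : Bool :=
  force (field pts 128 20 k) fun p =>
    Nat.blt p T.n && Nat.beq (field pos 128 20 p) (k + 1) &&
      (Nat.beq k 0 || force (field par 128 30 k) fun v =>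
        Nat.blt (v >>> 10) k && Nat.beq (T.follow (S.getD (v % 1024) []) (field pts 128 20 (v >>> 10))) p) &&
      List.rec true (fun L _ ih => force (T.follow L p) (fun q => force (field pos 128 20 q) fun c =>
        Nat.ble 1 c && Nat.ble c m && Nat.beq (field pts 128 20 (c - 1)) q) && ih) S

/-- Check `cnt` points of an orbit certificate from number `k`. -/
noncomputable def chkOrbit (S : List (List ℕ)) (pts pos par : Tr) (m : ℕ) (cnt : ℕ) : ℕ → Bool :=
  Nat.rec (fun _ => true)
    (fun _ ih k => T.chkOrbitPoint S pts pos par m k && force (k + 1) ih) cnt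

/-- The table is valid and every word of `W` fixes every point. -/
structure Valid (T : Table) (W : List (List ℕ)) : Prop where
  range : ∀ i < T.n, ∀ x < T.g, T.app i x < T.n
  points : ∀ i < T.n, ∀ L ∈ W, T.follow L i = i

theorem chkPoint_iff (W : List (List ℕ)) (i : ℕ) :
    T.chkPoint W i = true ↔ ∀ L ∈ W, T.follow L i = i := by
  induction W with
  | nil => simp [chkPoint]
  | cons L W ih =>
    have h : T.chkPoint (L :: W) i = (Nat.beq (T.follow L i) i && T.chkPoint W i) := rfl
    rw [h, Bool.and_eq_true, ih, List.forall_mem_cons]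
    exact and_congr_left fun _ => ⟨Nat.eq_of_beq_eq_true, fun h => by rw [h]; exact Nat.beq_refl i⟩

theorem chkRange_get (i : ℕ) : ∀ m, T.chkRange i m = true → ∀ x < m, T.app i x < T.n := by
  intro m
  induction m with
  | zero => intro _ x hx; omega
  | succ m ih =>
    intro h x hx
    have h' : (Nat.blt (T.app i m) T.n && T.chkRange i m) = true := h
    rw [Bool.and_eq_true] at h'
    rcases Nat.lt_succ_iff_lt_or_eq.1 hx with h1 | h1
    · exact ih h'.2 x h1
    · subst h1; simpa [Nat.blt] using h'.1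

theorem chkPoints_get (W : List (List ℕ)) : ∀ (cnt i : ℕ), T.chkPoints W cnt i = true →
    ∀ j, i ≤ j → j < i + cnt → (∀ x < T.g, T.app j x < T.n) ∧ ∀ L ∈ W, T.follow L j = j := by
  intro cnt
  induction cnt with
  | zero => intro i _ j h1 h2; omega
  | succ cnt ih =>
    intro i h j h1 h2
    have h' : (T.chkRange i T.g && T.chkPoint W i &&
        force (i + 1) (fun i' => T.chkPoints W cnt i')) = true := h
    simp only [Bool.and_eq_true, force_eq] at h'
    rcases eq_or_lt_of_le h1 with rfl | h3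
    · exact ⟨T.chkRange_get _ _ h'.1.1, (T.chkPoint_iff W _).1 h'.1.2⟩
    · exact ih _ h'.2 j h3 (by omega)

theorem follow_append (L M : List ℕ) (i : ℕ) : T.follow (L ++ M) i = T.follow M (T.follow L i) := by
  induction L generalizing i with
  | nil => rfl
  | cons a L ih =>
    show force (T.app i a) (T.follow (L ++ M)) = T.follow M (force (T.app i a) (T.follow L))
    rw [force_eq, force_eq, ih]

/-- The letters of `T` are realised by elements of the subgroup `R`. -/
def Realises (T : Table) {n : ℕ} (R : Subgroup (Equiv.Perm (Fin n))) : Prop :=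
  ∀ x < T.g, ∃ σ ∈ R, ∀ i : Fin n, T.app i x = (σ i : ℕ)

theorem Realises.follow {n : ℕ} {R : Subgroup (Equiv.Perm (Fin n))} (h : T.Realises R) :
    ∀ L : List ℕ, (∀ x ∈ L, x < T.g) → ∃ σ ∈ R, ∀ i : Fin n, T.follow L i = (σ i : ℕ) := by
  intro L
  induction L with
  | nil => exact fun _ => ⟨1, one_mem R, fun i => rfl⟩
  | cons a L ih =>
    intro hL
    obtain ⟨ha, hL⟩ := List.forall_mem_cons.1 hL
    obtain ⟨σ, hσ, hσi⟩ := h a ha
    obtain ⟨τ, hτ, hτi⟩ := ih hL
    refine ⟨τ * σ, mul_mem hτ hσ, fun i => ?_⟩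
    show force (T.app i a) (T.follow L) = _
    rw [force_eq, hσi, hτi, Equiv.Perm.mul_apply]

theorem chkDerived_get (U : Table) (W : List (List ℕ)) : ∀ (cnt i : ℕ),
    T.chkDerived U W cnt i = true → ∀ j, i ≤ j → j < i + cnt →
      ∀ x, ∀ hx : x < W.length, U.app j x = T.follow W[x] j := by
  intro cnt
  induction cnt with
  | zero => intro i _ j h1 h2; omega
  | succ cnt ih =>
    intro i h j h1 h2 x hx
    have h' : (List.rec (motive := fun _ => ℕ → Bool) (fun _ => true)
        (fun L _ ihW x => Nat.beq (U.app i x) (T.follow L i) && force (x + 1) ihW) W 0 &&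
        force (i + 1) (fun i' => T.chkDerived U W cnt i')) = true := h
    rw [Bool.and_eq_true, force_eq] at h'
    rcases eq_or_lt_of_le h1 with rfl | h3
    · suffices ∀ (V : List (List ℕ)) (x₀ : ℕ), List.rec (motive := fun _ => ℕ → Bool) (fun _ => true)
          (fun L _ ihW x => Nat.beq (U.app i x) (T.follow L i) && force (x + 1) ihW) V x₀ = true →
          ∀ y, ∀ hy : y < V.length, U.app i (x₀ + y) = T.follow V[y] i by
        simpa using this W 0 h'.1 x hx
      intro V
      induction V with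
      | nil => intro _ _ y hy; simp at hy
      | cons L V ihV =>
        intro x₀ hV y hy
        simp only [force_eq, Bool.and_eq_true] at hV
        rcases y with _ | y
        · exact Nat.eq_of_beq_eq_true hV.1
        · have := ihV (x₀ + 1) (by simpa [force_eq] using hV.2) y (by simpa using hy)
          rw [show x₀ + (y + 1) = x₀ + 1 + y by omega]
          exact this
    · exact ih _ h'.2 j h3 (by omega) x hx

/-- Derived letters are realised by the same subgroup, and lie in any subgroup containing all the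
realising permutations. -/
theorem Realises.derived {n : ℕ} {R : Subgroup (Equiv.Perm (Fin n))} (h : T.Realises R) (U : Table)
    (W : List (List ℕ)) (hW : ∀ L ∈ W, ∀ x ∈ L, x < T.g) (hlen : U.g ≤ W.length)
    (hchk : T.chkDerived U W n 0 = true) : U.Realises R := by
  intro x hx
  obtain ⟨σ, hσ, hσi⟩ := h.follow T (W[x]'(by omega)) (hW _ (List.getElem_mem _))
  exact ⟨σ, hσ, fun i => by
    rw [T.chkDerived_get U W n 0 hchk i (Nat.zero_le _) (by simp) x (by omega), hσi]⟩

/-- What a checked orbit point says. -/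
def OrbitOK (T : Table) (S : List (List ℕ)) (pts pos par : Tr) (m k : ℕ) : Prop :=
  field pts 128 20 k < T.n ∧ field pos 128 20 (field pts 128 20 k) = k + 1 ∧
    (k = 0 ∨ ∃ j g, j < k ∧ T.follow (S.getD g []) (field pts 128 20 j) = field pts 128 20 k) ∧
    ∀ L ∈ S, ∃ c < m, T.follow L (field pts 128 20 k) = field pts 128 20 c

theorem chkOrbit_get (S : List (List ℕ)) (pts pos par : Tr) (m : ℕ) : ∀ (cnt k : ℕ),
    T.chkOrbit S pts pos par m cnt k = true → ∀ j, k ≤ j → j < k + cnt →
      OrbitOK T S pts pos par m j := by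
  intro cnt
  induction cnt with
  | zero => intro i _ j h1 h2; omega
  | succ cnt ih =>
    intro i h j h1 h2
    have h' : (T.chkOrbitPoint S pts pos par m i &&
      force (i + 1) (fun i' => T.chkOrbit S pts pos par m cnt i')) = true := h
    rw [Bool.and_eq_true, force_eq] at h'
    rcases eq_or_lt_of_le h1 with rfl | h3
    · have hp := h'.1
      simp only [chkOrbitPoint, force_eq, Bool.and_eq_true, Bool.or_eq_true] at hp
      obtain ⟨⟨⟨h4, h5⟩, h6⟩, h7⟩ := hp
      refine ⟨by simpa [Nat.blt] using h4, Nat.eq_of_beq_eq_true h5, ?_, ?_⟩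
      · exact h6.imp Nat.eq_of_beq_eq_true fun h => ⟨_, _, by simpa [Nat.blt] using h.1,
          Nat.eq_of_beq_eq_true h.2⟩
      · intro L hL
        clear ih h' h6 h
        induction S with
        | nil => simp at hL
        | cons A S ihS =>
          simp only [Bool.and_eq_true] at h7
          rcases List.mem_cons.1 hL with h8 | h8
          · subst h8
            obtain ⟨⟨⟨c1, c2⟩, c3⟩, -⟩ := h7
            have c1 := Nat.le_of_ble_eq_true c1
            exact ⟨_, by have := Nat.le_of_ble_eq_true c2; omega, (Nat.eq_of_beq_eq_true c3).symm⟩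
          · exact ihS h7.2 h8
    · exact ih _ h'.2 j h3 (by omega)

variable {T}

/-- A checked orbit gives exactly the orbit of the first point under the group generated by
permutations realising the words. -/
theorem orbit_eq {n : ℕ} (hn : T.n = n) {S : List (List ℕ)} {pts pos par : Tr} {m : ℕ} (hm : 0 < m)
    (hok : ∀ k < m, OrbitOK T S pts pos par m k) (σ : ℕ → Equiv.Perm (Fin n))
    (hσ : ∀ g < S.length, ∀ i : Fin n, T.follow (S.getD g []) i = (σ g i : ℕ)) (R : Subgroup (Equiv.Perm (Fin n)))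
    (hR : R = Subgroup.closure (σ '' Set.Iio S.length)) (p₀ : Fin n) (hp₀ : (p₀ : ℕ) = field pts 128 20 0) :
    (MulAction.orbit R p₀).ncard = m ∧
      ∀ q : Fin n, q ∈ MulAction.orbit R p₀ ↔ ∃ k < m, field pts 128 20 k = q := by
  subst hn
  let P : Fin m → Fin T.n := fun k => ⟨field pts 128 20 k, (hok k k.2).1⟩
  have hinj : Function.Injective P := fun a b h => by
    have ha := (hok a a.2).2.1
    rw [show field pts 128 20 a = field pts 128 20 b from congrArg Fin.val h, (hok b b.2).2.1] at ha
    exact Fin.ext (by omega)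
  have hmem : ∀ g < S.length, σ g ∈ R := fun g hg => hR ▸ Subgroup.subset_closure ⟨g, hg, rfl⟩
  have hreach : ∀ k, ∀ hk : k < m, P ⟨k, hk⟩ ∈ MulAction.orbit R p₀ := by
    intro k
    induction k using Nat.strong_induction_on with
    | _ k ih =>
      intro hk
      rcases (hok k hk).2.2.1 with rfl | ⟨j, g, hj, hg⟩
      · have : P ⟨0, hk⟩ = p₀ := Fin.ext hp₀.symm
        rw [this]; exact MulAction.mem_orbit_self p₀
      · rcases lt_or_ge g S.length with hl | hl
        · have e : P ⟨k, hk⟩ = (⟨σ g, hmem g hl⟩ : R) • P ⟨j, hj.trans hk⟩ :=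
            Fin.ext (by show field pts 128 20 k = _; rw [← hg]; exact hσ g hl (P ⟨j, hj.trans hk⟩))
          rw [e]
          exact MulAction.mem_orbit_of_mem_orbit _ (ih j hj (hj.trans hk))
        · have e : P ⟨k, hk⟩ = P ⟨j, hj.trans hk⟩ := Fin.ext <| by
            show field pts 128 20 k = field pts 128 20 j
            rw [← hg, List.getD_eq_default _ _ hl]; rfl
          rw [e]; exact ih j hj (hj.trans hk)
  have hR' : R ≤ MulAction.stabilizer (Equiv.Perm (Fin T.n)) (Set.range P) := by
    rw [hR, Subgroup.closure_le]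
    rintro _ ⟨g, hg, rfl⟩
    rw [SetLike.mem_coe, MulAction.mem_stabilizer_iff]
    have hsub : σ g • Set.range P ⊆ Set.range P := by
      rintro _ ⟨_, ⟨k, rfl⟩, rfl⟩
      obtain ⟨c, hc, e⟩ := (hok k k.2).2.2.2 (S.getD g []) (by
        rw [List.getD_eq_getElem _ _ hg]; exact List.getElem_mem _)
      exact ⟨⟨c, hc⟩, Fin.ext (by show field pts 128 20 c = _; rw [← e]; exact hσ g hg (P k))⟩
    exact Set.eq_of_subset_of_ncard_le hsub (by rw [Set.ncard_smul_set]) (Set.toFinite _)
  have horb : MulAction.orbit R p₀ = Set.range P := by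
    refine Set.Subset.antisymm ?_ (Set.range_subset_iff.2 fun k => hreach k k.2)
    rintro _ ⟨r, rfl⟩
    have hr : (r : Equiv.Perm (Fin T.n)) • Set.range P = Set.range P := hR' r.2
    have hp : p₀ ∈ Set.range P := ⟨⟨0, hm⟩, Fin.ext hp₀.symm⟩
    exact hr ▸ Set.smul_mem_smul_set hp
  refine ⟨?_, fun q => ?_⟩
  · rw [horb, Set.ncard_range_of_injective hinj, Nat.card_fin]
  · rw [horb]
    exact ⟨fun ⟨k, hk⟩ => ⟨k, k.2, congrArg Fin.val hk⟩, fun ⟨k, hk, e⟩ => ⟨⟨k, hk⟩, Fin.ext e⟩⟩

/-- Letters fixing a point are realised in its stabiliser. -/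
theorem Realises.inf_stabilizer {n : ℕ} {R : Subgroup (Equiv.Perm (Fin n))} (hT : T.Realises R)
    (b : Fin n) (hb : ∀ x < T.g, T.app b x = b) :
    T.Realises (R ⊓ MulAction.stabilizer (Equiv.Perm (Fin n)) b) := by
  intro x hx
  obtain ⟨σ, hσ, hσi⟩ := hT x hx
  refine ⟨σ, ⟨hσ, ?_⟩, hσi⟩
  show σ ∈ MulAction.stabilizer (Equiv.Perm (Fin n)) b
  rw [MulAction.mem_stabilizer_iff]
  exact Fin.ext (by rw [Equiv.Perm.smul_def, ← hσi b, hb x hx])

/-- One step of a stabiliser chain: an orbit with `m` points multiplies a lower bound for the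
order. -/
theorem card_ge_step {n : ℕ} (hn : T.n = n) {R : Subgroup (Equiv.Perm (Fin n))} (hT : T.Realises R)
    {S : List (List ℕ)} (hS : ∀ L ∈ S, ∀ x ∈ L, x < T.g) {pts pos par : Tr} {m : ℕ} (hm : 0 < m)
    (hok : ∀ k < m, OrbitOK T S pts pos par m k) (b : Fin n) (hb : (b : ℕ) = field pts 128 20 0) {N : ℕ}
    (hN : N ≤ Nat.card ↥(R ⊓ MulAction.stabilizer (Equiv.Perm (Fin n)) b)) :
    m * N ≤ Nat.card R := by
  have hlift : ∀ g : ℕ, ∃ σ, g < S.length → σ ∈ R ∧ ∀ i : Fin n, T.follow (S.getD g []) i = (σ i : ℕ) := by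
    intro g
    rcases lt_or_ge g S.length with hg | hg
    · obtain ⟨σ, h1, h2⟩ := hT.follow T _ (hS _ (List.getElem_mem hg))
      exact ⟨σ, fun _ => ⟨h1, fun i => by rw [List.getD_eq_getElem _ _ hg]; exact h2 i⟩⟩
    · exact ⟨1, fun h => absurd h (by omega)⟩
  choose σ hσ using hlift
  let K := Subgroup.closure (σ '' Set.Iio S.length)
  have hK : K ≤ R := by
    rw [Subgroup.closure_le]; rintro _ ⟨g, hg, rfl⟩; exact (hσ g hg).1
  obtain ⟨hc, -⟩ := orbit_eq hn hm hok σ (fun g hg => (hσ g hg).2) K rfl b hb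
  have h1 : m ≤ (MulAction.orbit R b).ncard := by
    rw [← hc]
    refine Set.ncard_le_ncard ?_ (Set.toFinite _)
    rintro _ ⟨k, rfl⟩
    exact ⟨⟨k, hK k.2⟩, rfl⟩
  have h2 : Nat.card R = (MulAction.orbit R b).ncard * Nat.card (MulAction.stabilizer R b) := by
    rw [← MulAction.index_stabilizer R b]
    exact ((MulAction.stabilizer R b).index_mul_card).symm
  have h3 : N ≤ Nat.card (MulAction.stabilizer R b) := by
    refine hN.trans (le_of_eq ?_)
    refine Nat.card_congr
      { toFun := fun x => ⟨⟨x, x.2.1⟩, x.2.2⟩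
        invFun := fun x => ⟨x.1, x.1.2, x.2⟩
        left_inv := fun x => rfl
        right_inv := fun x => rfl }
  rw [h2]
  exact Nat.mul_le_mul h1 h3

/-- The permutation given by a letter whose double fixes every point. -/
noncomputable def Valid.toPerm {W : List (List ℕ)} (hV : T.Valid W) (hsq : ∀ x < T.g, [x, x] ∈ W)
    (x : ℕ) : Equiv.Perm (Fin T.n) :=
  if hx : x < T.g then
    Function.Involutive.toPerm (fun i => ⟨T.app i x, hV.range i i.2 x hx⟩) fun i => Fin.ext <| by
      have h := hV.points i i.2 _ (hsq x hx)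
      have h' : force (T.app i x) (fun j => force (T.app j x) fun j' => j') = (i : ℕ) := h
      simpa [force_eq] using h'
  else 1

variable {W : List (List ℕ)} (hV : T.Valid W) (hsq : ∀ x < T.g, [x, x] ∈ W)

theorem Valid.toPerm_mul_self (x : ℕ) : hV.toPerm hsq x * hV.toPerm hsq x = 1 := by
  unfold Valid.toPerm
  split
  · ext i
    exact congrArg Fin.val ((Function.Involutive.toPerm_involutive _) i)
  · simp

theorem Valid.toPerm_apply {x : ℕ} (hx : x < T.g) (i : Fin T.n) :
    (hV.toPerm hsq x i : ℕ) = T.app i x := by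
  unfold Valid.toPerm
  rw [dif_pos hx]
  rfl

include hV hsq in
/-- The table of a homomorphism's values realises its range. -/
theorem realises_range {G : Type*}
    [Group G] (s : ℕ → G) (φ : G →* Equiv.Perm (Fin T.n)) (hφ : ∀ x < T.g, φ (s x) = hV.toPerm hsq x) :
    T.Realises φ.range := by
  intro x hx
  exact ⟨φ (s x), ⟨_, rfl⟩, fun i => by rw [hφ x hx, hV.toPerm_apply hsq hx]⟩

theorem Valid.follow_eq : ∀ (L : List ℕ), (∀ x ∈ L, x < T.g) → ∀ i : Fin T.n,
    T.follow L i = ((wprod (hV.toPerm hsq) L)⁻¹ i : Fin T.n) := by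
  intro L
  induction L with
  | nil => intro _ i; simp [Table.follow, wprod]
  | cons a L ih =>
    intro hL i
    obtain ⟨ha, hL⟩ := List.forall_mem_cons.1 hL
    have h : T.follow (a :: L) i = force (T.app i a) (T.follow L) := rfl
    rw [h, force_eq, ← hV.toPerm_apply hsq ha i, ih hL]
    simp [wprod, mul_inv_rev, inv_eq_of_mul_eq_one_right (hV.toPerm_mul_self hsq a)]

theorem Valid.wprod_eq_one {L : List ℕ} (hL : L ∈ W) (hlt : ∀ x ∈ L, x < T.g) :
    wprod (hV.toPerm hsq) L = 1 := by
  rw [← inv_eq_one]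
  ext i
  rw [← hV.follow_eq hsq L hlt i, hV.points i i.2 L hL, Equiv.Perm.one_apply]

theorem Valid.wprod_fix {L : List ℕ} (hlt : ∀ x ∈ L, x < T.g) (i : Fin T.n)
    (h : T.follow L i = i) : wprod (hV.toPerm hsq) L i = i := by
  conv_lhs => rw [show i = (wprod (hV.toPerm hsq) L)⁻¹ i from
    Fin.ext (by rw [← hV.follow_eq hsq L hlt]; exact h.symm)]
  exact Equiv.apply_symm_apply _ _

end Table

section Exact

open Table

variable {D : Cert} {T : Table} {live fin : Tr} {W : List (List ℕ)}

/-- **Certified coset enumeration**, exact form: the cosets are the points of the table. -/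
theorem Covered.exact (hC : Covered D T live fin) (hV : T.Valid W) (hsq : ∀ x < T.g, [x, x] ∈ W)
    {S : List (List ℕ)} {pts pos par : Tr} (hok : ∀ k < T.n, OrbitOK T S pts pos par T.n k)
    (hroot : field pts 128 20 0 = 0) (hS1 : ∀ g < S.length, S.getD g [] = [g]) (hSlen : S.length = T.g)
    {G : Type*} [Group G] (s : ℕ → G) (H : Subgroup G) (hs : ∀ x, s x * s x = 1)
    (hR : ∀ r ∈ D.rels, wprod s r = 1) (hS : ∀ r ∈ D.subs, wprod s r ∈ H)
    (hgen : Subgroup.closure (s '' Set.Iio T.g) = ⊤) (φ : G →* Equiv.Perm (Fin T.n))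
    (hφ : ∀ x < T.g, φ (s x) = hV.toPerm hsq x)
    (hH : ∀ h ∈ H, φ h ⟨0, hC.hn⟩ = ⟨0, hC.hn⟩) :
    H.index = T.n ∧
      ∃ e : Fin T.n ≃ G ⧸ H, e ⟨0, hC.hn⟩ = ((1 : G) : G ⧸ H) ∧
        ∀ (g : G) (i : Fin T.n), g • e i = e (φ g i) := by
  let q : Fin T.n → G ⧸ H := fun i => coset s H D live i
  have heq : ∀ (g : G) (i : Fin T.n), g • q i = q (φ g i) := by
    intro g
    induction (hgen ▸ Subgroup.mem_top g : g ∈ Subgroup.closure (s '' Set.Iio T.g))
      using Subgroup.closure_induction with
    | mem a ha =>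
      obtain ⟨x, hx, rfl⟩ := ha
      intro i
      rw [hφ x hx]
      show _ = coset s H D live (hV.toPerm hsq x i : ℕ)
      rw [hV.toPerm_apply hsq hx]
      exact hC.smul_coset s H hs hR hS hx i.2
    | one => intro i; simp
    | mul a b _ _ ha hb => intro i; rw [mul_smul, hb, ha, map_mul, Equiv.Perm.mul_apply]
    | inv a _ ha =>
      intro i
      rw [inv_smul_eq_iff, ha, map_inv, ← Equiv.Perm.mul_apply, mul_inv_cancel, Equiv.Perm.one_apply]
  have hq0 : q ⟨0, hC.hn⟩ = ((1 : G) : G ⧸ H) := hC.coset_zero s H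
  have hconst : ∀ a b : G, (a : G ⧸ H) = b → φ a ⟨0, hC.hn⟩ = φ b ⟨0, hC.hn⟩ := by
    intro a b hab
    have h := hH _ (QuotientGroup.eq.1 hab)
    rw [map_mul, map_inv, Equiv.Perm.mul_apply, Equiv.Perm.inv_eq_iff_eq] at h
    exact h.symm
  let ψ : G ⧸ H → Fin T.n := Quotient.lift (fun g : G => φ g ⟨0, hC.hn⟩) fun a b hab =>
    hconst a b (Quotient.sound hab)
  have hψ : ∀ g : G, ψ (g : G ⧸ H) = φ g ⟨0, hC.hn⟩ := fun g => rfl
  have hqψ : ∀ y : G ⧸ H, q (ψ y) = y := by
    intro y
    obtain ⟨g, rfl⟩ := QuotientGroup.mk_surjective y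
    rw [hψ, ← heq, hq0]
    show ((g * 1 : G) : G ⧸ H) = g
    rw [mul_one]
  have hψs : Function.Surjective ψ := by
    intro i
    obtain ⟨-, hmem⟩ := orbit_eq (T := T) rfl hC.hn hok (fun g => φ (s g)) (fun g hg i => by
      rw [hS1 g hg, hφ g (hSlen ▸ hg), hV.toPerm_apply hsq (hSlen ▸ hg)]
      exact force_eq _ _) _ rfl ⟨0, hC.hn⟩ hroot.symm
    have hin : i ∈ MulAction.orbit
        (Subgroup.closure ((fun g => φ (s g)) '' Set.Iio S.length)) (⟨0, hC.hn⟩ : Fin T.n) := by
      rw [hmem]
      let f : Fin T.n → Fin T.n := fun k => ⟨field pts 128 20 k, (hok k k.2).1⟩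
      have hf : Function.Injective f := fun a b h => by
        have ha := (hok a a.2).2.1
        rw [show field pts 128 20 a = field pts 128 20 b from congrArg Fin.val h, (hok b b.2).2.1] at ha
        exact Fin.ext (by omega)
      obtain ⟨k, hk⟩ := (Finite.injective_iff_surjective.1 hf) i
      exact ⟨k, k.2, congrArg Fin.val hk⟩
    obtain ⟨⟨r, hr⟩, hri⟩ := hin
    have : r ∈ φ.range := by
      refine (Subgroup.closure_le φ.range).2 ?_ hr
      rintro _ ⟨g, -, rfl⟩; exact ⟨_, rfl⟩
    obtain ⟨g, rfl⟩ := this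
    exact ⟨g, hri⟩
  let e : G ⧸ H ≃ Fin T.n :=
    Equiv.ofBijective ψ ⟨fun a b h => by rw [← hqψ a, h, hqψ b], hψs⟩
  have hes : ∀ j, e.symm j = q j := fun j => by
    rw [Equiv.symm_apply_eq]
    obtain ⟨a, rfl⟩ := hψs j
    rw [hqψ]; rfl
  refine ⟨by rw [Subgroup.index, Nat.card_congr e, Nat.card_fin], e.symm, by rw [hes, hq0],
    fun g i => ?_⟩
  rw [hes, hes, heq]

end Exact

end CfsgLib.InvChar.Coset
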