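import Cfsg.Agent.Lib.InvChar.CosetCert
import Cfsg.Prelude.Def_SporCoxeter
import Mathlib.GroupTheory.PresentedGroup
import Mathlib.GroupTheory.FreeGroup.Reduce

/-!
# Presented groups on a labelled graph as input to the certified coset enumeration
-/

set_option autoImplicit false

namespace CfsgLib.InvChar.Coset

/-- The letters of a free group element, forgetting the signs. -/
def letters {α : Type*} [DecidableEq α] (idx : α → ℕ) (w : FreeGroup α) : List ℕ :=
  w.toWord.map fun p => idx p.1

/-- The relator word of two letters. -/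
def coxWord {α : Type*} [DecidableEq α] (edges : List (α × ℕ × α)) (ofN : ℕ → α) (x y : ℕ) : List ℕ :=
  (List.replicate (Cfsg.Spor.coxLabel edges (ofN x) (ofN y)) [x, y]).flatten

/-- The Boolean test that a list of words presents the same group. -/
def presCheck {α : Type*} [DecidableEq α] (edges : List (α × ℕ × α)) (extra : List (FreeGroup α))
    (g : ℕ) (idx : α → ℕ) (ofN : ℕ → α) (R : List (List ℕ)) : Bool :=
  (List.range g).all (fun x => decide (idx (ofN x) = x) && decide (ofN x ∈ Cfsg.Spor.coxNodes edges) &&
      decide ([x, x] ∈ R) &&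
      (List.range g).all fun y => decide (coxWord edges ofN x y ∈ R ∨ coxWord edges ofN y x ∈ R)) &&
    extra.all (fun w => decide (letters idx w ∈ R)) &&
    R.all fun r => ((List.range g).any fun x => (List.range g).any fun y => decide (r = coxWord edges ofN x y)) ||
      extra.any fun w => decide (r = letters idx w)

/-- A list of words presents the group of a labelled graph. -/
structure IsPres {α : Type*} [DecidableEq α] (edges : List (α × ℕ × α)) (extra : List (FreeGroup α))
    (g : ℕ) (idx : α → ℕ) (ofN : ℕ → α) (R : List (List ℕ)) : Prop where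
  left : ∀ a, idx a < g ∧ ofN (idx a) = a
  check : presCheck edges extra g idx ofN R = true

section

variable {α : Type} [DecidableEq α] {edges : List (α × ℕ × α)} {extra : List (FreeGroup α)} {g : ℕ}
  {idx : α → ℕ} {ofN : ℕ → α} {R : List (List ℕ)}

theorem wprod_replicate {K : Type*} [Monoid K] (f : ℕ → K) (x y m : ℕ) :
    wprod f (List.replicate m [x, y]).flatten = (f x * f y) ^ m := by
  induction m with
  | zero => simp [wprod]
  | succ m ih => rw [List.replicate_succ, List.flatten_cons, wprod, List.map_append, List.prod_append,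
      pow_succ']; simp [wprod] at ih ⊢

theorem lift_eq_letters {K : Type*} [Group K] (idx : α → ℕ) (f : ℕ → K) (hf : ∀ x, f x * f x = 1)
    (w : FreeGroup α) : FreeGroup.lift (fun a => f (idx a)) w = wprod f (letters idx w) := by
  conv_lhs => rw [← FreeGroup.mk_toWord (x := w)]
  rw [FreeGroup.lift_mk]
  simp only [wprod, letters, List.map_map]
  refine congrArg List.prod (List.map_congr_left fun p _ => ?_)
  obtain ⟨a, b⟩ := p
  cases b <;> simp [inv_eq_of_mul_eq_one_right (hf _)]

variable (hP : IsPres edges extra g idx ofN R)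
include hP

theorem IsPres.forall_letter : ∀ x < g, idx (ofN x) = x ∧ ofN x ∈ Cfsg.Spor.coxNodes edges ∧ [x, x] ∈ R ∧
    ∀ y < g, coxWord edges ofN x y ∈ R ∨ coxWord edges ofN y x ∈ R := by
  have h := hP.check
  simp only [presCheck, Bool.and_eq_true, List.all_eq_true, List.mem_range, decide_eq_true_eq] at h
  intro x hx
  obtain ⟨⟨⟨h1, h2⟩, h3⟩, h4⟩ := h.1.1 x hx
  exact ⟨h1, h2, h3, h4⟩

/-- The generators of the presented group, numbered. -/
noncomputable def IsPres.gen (_ : IsPres edges extra g idx ofN R) (x : ℕ) :
    Cfsg.Spor.CoxPresented α edges extra :=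
  if x < g then PresentedGroup.of (ofN x) else 1

theorem IsPres.gen_idx (a : α) : hP.gen (idx a) = PresentedGroup.of a := by
  rw [IsPres.gen, if_pos (hP.left a).1, (hP.left a).2]

theorem IsPres.gen_mul_self (x : ℕ) : hP.gen x * hP.gen x = 1 := by
  rcases lt_or_ge x g with hx | hx
  · have hn := (hP.forall_letter x hx).2.1
    have h := PresentedGroup.one_of_mem (rels := Cfsg.Spor.coxRelators edges ∪ {r | r ∈ extra})
      (x := (FreeGroup.of (ofN x) * FreeGroup.of (ofN x)) ^ Cfsg.Spor.coxLabel edges (ofN x) (ofN x))
      (Or.inl ⟨_, hn, _, hn, rfl⟩)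
    rw [IsPres.gen, if_pos hx]
    rw [show Cfsg.Spor.coxLabel edges (ofN x) (ofN x) = 1 from if_pos rfl, pow_one, map_mul] at h
    exact h
  · simp [IsPres.gen, if_neg (not_lt.2 hx)]

theorem IsPres.mk_eq (w : FreeGroup α) :
    PresentedGroup.mk (Cfsg.Spor.coxRelators edges ∪ {r | r ∈ extra}) w = wprod hP.gen (letters idx w) := by
  rw [← lift_eq_letters idx hP.gen hP.gen_mul_self]
  refine DFunLike.congr_fun (?_ : PresentedGroup.mk _ = _) w
  ext a
  rw [FreeGroup.lift_apply_of, hP.gen_idx]
  rfl

theorem IsPres.gen_rel : ∀ r ∈ R, wprod hP.gen r = 1 := by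
  have h := hP.check
  simp only [presCheck, Bool.and_eq_true, Bool.or_eq_true, List.all_eq_true, List.any_eq_true,
    List.mem_range, decide_eq_true_eq] at h
  intro r hr
  rcases h.2 r hr with ⟨x, hx, y, hy, rfl⟩ | ⟨w, hw, rfl⟩
  · rw [coxWord, wprod_replicate, IsPres.gen, IsPres.gen, if_pos hx, if_pos hy]
    have := PresentedGroup.one_of_mem (rels := Cfsg.Spor.coxRelators edges ∪ {r | r ∈ extra})
      (x := (FreeGroup.of (ofN x) * FreeGroup.of (ofN y)) ^ Cfsg.Spor.coxLabel edges (ofN x) (ofN y))
      (Or.inl ⟨_, (hP.forall_letter x hx).2.1, _, (hP.forall_letter y hy).2.1, rfl⟩)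
    rwa [map_pow, map_mul] at this
  · rw [← hP.mk_eq]
    exact PresentedGroup.one_of_mem (Or.inr hw)

theorem IsPres.closure_gen : Subgroup.closure (hP.gen '' Set.Iio g) = ⊤ := by
  refine top_le_iff.1 ?_
  rw [← PresentedGroup.closure_range_of, Subgroup.closure_le]
  rintro _ ⟨a, rfl⟩
  exact Subgroup.subset_closure ⟨idx a, (hP.left a).1, hP.gen_idx a⟩

/-- A map to any group killing the words gives a homomorphism. -/
theorem IsPres.exists_hom {K : Type*} [Group K] (f : ℕ → K) (hf : ∀ x, f x * f x = 1)
    (hfR : ∀ r ∈ R, wprod f r = 1) :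
    ∃ φ : Cfsg.Spor.CoxPresented α edges extra →* K, ∀ x < g, φ (hP.gen x) = f x := by
  have hrel : ∀ r ∈ Cfsg.Spor.coxRelators edges ∪ {r | r ∈ extra},
      FreeGroup.lift (fun a => f (idx a)) r = 1 := by
    rintro r (⟨a, -, b, -, rfl⟩ | hr)
    · rw [map_pow, map_mul, FreeGroup.lift_apply_of, FreeGroup.lift_apply_of]
      have hword := (hP.forall_letter (idx a) (hP.left a).1).2.2.2 (idx b) (hP.left b).1
      unfold coxWord at hword
      rw [(hP.left a).2, (hP.left b).2] at hword
      rcases hword with h | h
      · have := hfR _ h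
        rwa [wprod_replicate] at this
      · have := hfR _ h
        rw [wprod_replicate] at this
        have hsymm : Cfsg.Spor.coxLabel edges b a = Cfsg.Spor.coxLabel edges a b := by
          rcases eq_or_ne a b with rfl | hne
          · rfl
          · simp only [Cfsg.Spor.coxLabel, if_neg hne, if_neg hne.symm, or_comm]
        rw [← hsymm, ← inv_eq_one, ← inv_pow, mul_inv_rev, inv_eq_of_mul_eq_one_right (hf _),
          inv_eq_of_mul_eq_one_right (hf _)]
        exact this
    · rw [lift_eq_letters idx f hf]
      have h := hP.check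
      simp only [presCheck, Bool.and_eq_true, List.all_eq_true, decide_eq_true_eq] at h
      exact hfR _ (h.1.2 r hr)
  refine ⟨PresentedGroup.toGroup hrel, fun x hx => ?_⟩
  rw [IsPres.gen, if_pos hx, PresentedGroup.toGroup.of, (hP.forall_letter x hx).1]

/-- The image of a subgroup generated by free group elements. -/
theorem IsPres.map_closure (S : Set (FreeGroup α)) :
    (Subgroup.closure S).map (PresentedGroup.mk (Cfsg.Spor.coxRelators edges ∪ {r | r ∈ extra})) =
      Subgroup.closure ((fun w => wprod hP.gen (letters idx w)) '' S) := by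
  rw [MonoidHom.map_closure]
  exact congrArg Subgroup.closure (Set.image_congr fun w _ => hP.mk_eq w)

end

section Chain

variable {D : Cert} {T : Table} {live fin : Tr}

/-- Re-numbered generators. -/
noncomputable def subGen {G : Type*} [One G] (s : ℕ → G) (emb : List ℕ) (x : ℕ) : G :=
  if x < emb.length then s (emb.getD x 0) else 1

/-- **One step of a chain of subgroups**: the subgroup generated by some letters is at most `n` times
as large as a subgroup containing the checked words. -/
theorem Covered.card_closure_le (hC : Covered D T live fin) {G : Type*} [Group G] (s : ℕ → G)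
    (hs : ∀ x, s x * s x = 1) (emb : List ℕ) (hlen : T.g = emb.length)
    (hR : ∀ r ∈ D.rels, wprod (subGen s emb) r = 1) (K : Subgroup G)
    (hK : K ≤ Subgroup.closure (subGen s emb '' Set.Iio T.g)) (hS : ∀ r ∈ D.subs, wprod (subGen s emb) r ∈ K)
    (hfin : Finite K) :
    Finite ↥(Subgroup.closure (subGen s emb '' Set.Iio T.g)) ∧
      Nat.card ↥(Subgroup.closure (subGen s emb '' Set.Iio T.g)) ≤ T.n * Nat.card K := by
  let B := Subgroup.closure (subGen s emb '' Set.Iio T.g)
  let s' : ℕ → B := fun x => if h : x < T.g then ⟨subGen s emb x, Subgroup.subset_closure ⟨x, h, rfl⟩⟩ else 1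
  have hval : ∀ x, (s' x : G) = subGen s emb x := fun x => by
    by_cases h : x < T.g
    · simp [s', h]
    · simp [s', h, subGen, ← hlen]
  have hw : ∀ L, ((wprod s' L : B) : G) = wprod (subGen s emb) L := fun L => by
    induction L with
    | nil => rfl
    | cons a L ih =>
      show ((s' a * wprod s' L : B) : G) = subGen s emb a * wprod (subGen s emb) L
      rw [Subgroup.coe_mul, hval, ih]
  have hgen : Subgroup.closure (s' '' Set.Iio T.g) = ⊤ := by
    refine Subgroup.map_injective B.subtype_injective ?_
    rw [MonoidHom.map_closure, ← MonoidHom.range_eq_map, Subgroup.range_subtype, ← Set.image_comp]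
    exact congrArg Subgroup.closure (Set.image_congr fun x _ => hval x)
  have hs' : ∀ x, s' x * s' x = 1 := fun x => Subtype.ext (by
    rw [Subgroup.coe_mul, hval]; unfold subGen; split <;> simp [hs])
  have hidx := hC.index_le s' (K.subgroupOf B) hs'
    (fun r hr => Subtype.ext (by rw [hw, Subgroup.coe_one]; exact hR r hr))
    (fun r hr => by rw [Subgroup.mem_subgroupOf, hw]; exact hS r hr) hgen
  have hcard : Nat.card (K.subgroupOf B) = Nat.card K :=
    Nat.card_congr (Subgroup.subgroupOfEquivOfLe hK).toEquiv
  have hpos : 0 < Nat.card K := Nat.card_pos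
  have hmul := (K.subgroupOf B).card_mul_index
  refine ⟨Nat.finite_of_card_ne_zero ?_, ?_⟩
  · show Nat.card B ≠ 0
    rw [← hmul, hcard]
    exact mul_ne_zero hpos.ne' hidx.1
  · show Nat.card B ≤ T.n * Nat.card K
    rw [← hmul, hcard, mul_comm T.n]
    exact Nat.mul_le_mul_left _ hidx.2

end Chain

end CfsgLib.InvChar.Coset
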