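import Cfsg.Agent.Lib.InvChar.CosetPerm
import Cfsg.Agent.Lib.InvChar.CosetPres

/-!
# Assembling indices and orders of presented groups from certificates
-/

set_option autoImplicit false

namespace CfsgLib.InvChar.Coset

/-- The subgroup generated by the values of some words. -/
noncomputable def wordsClosure {G : Type*} [Group G] (s : ℕ → G) (W : List (List ℕ)) : Subgroup G :=
  Subgroup.closure (wprod s '' {L | L ∈ W})

/-- The subgroup generated by some letters. -/
noncomputable def lettersClosure {G : Type*} [Group G] (s : ℕ → G) (emb : List ℕ) : Subgroup G :=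
  Subgroup.closure (subGen s emb '' Set.Iio emb.length)

theorem mem_wordsClosure {G : Type*} [Group G] (s : ℕ → G) {W : List (List ℕ)} {L : List ℕ} (h : L ∈ W) :
    wprod s L ∈ wordsClosure s W := Subgroup.subset_closure ⟨L, h, rfl⟩

theorem map_wprod {G K : Type*} [Monoid G] [Monoid K] (φ : G →* K) (s : ℕ → G) (f : ℕ → K) (L : List ℕ)
    (h : ∀ x ∈ L, φ (s x) = f x) : φ (wprod s L) = wprod f L := by
  rw [wprod, map_list_prod, List.map_map]
  exact congrArg List.prod (List.map_congr_left fun x hx => h x hx)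

theorem wprod_subGen {G : Type*} [Monoid G] (s : ℕ → G) (emb r : List ℕ) (h : ∀ x ∈ r, x < emb.length) :
    wprod (subGen s emb) r = wprod s (r.map fun x => emb.getD x 0) := by
  simp only [wprod, List.map_map]
  refine congrArg List.prod (List.map_congr_left fun x hx => ?_)
  simp [subGen, h x hx]

theorem subGen_mul_self {G : Type*} [Group G] (s : ℕ → G) (hs : ∀ x, s x * s x = 1) (emb : List ℕ) (x : ℕ) :
    subGen s emb x * subGen s emb x = 1 := by
  unfold subGen; split <;> simp [hs]

variable {D : Cert} {T : Table} {live fin : Tr}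

/-- One step of a chain, with the smaller subgroup given by some of the letters or trivial. -/
theorem Covered.chain_step (hC : Covered D T live fin) {G : Type*} [Group G] (s : ℕ → G)
    (hs : ∀ x, s x * s x = 1) (emb small : List ℕ) (hlen : T.g = emb.length)
    (hR : ∀ r ∈ D.rels, wprod (subGen s emb) r = 1)
    (hsub : ∀ x ∈ small, x ∈ emb)
    (hS : ∀ r ∈ D.subs, r.map (fun x => emb.getD x 0) ∈ small.map (fun x => [x]) ∧ ∀ x ∈ r, x < emb.length)
    {N : ℕ} (hfin : Finite (lettersClosure s small)) (hN : Nat.card (lettersClosure s small) ≤ N) :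
    Finite (lettersClosure s emb) ∧ Nat.card (lettersClosure s emb) ≤ T.n * N := by
  have hK : lettersClosure s small ≤ Subgroup.closure (subGen s emb '' Set.Iio T.g) := by
    rw [lettersClosure, Subgroup.closure_le]
    rintro _ ⟨i, hi, rfl⟩
    obtain ⟨j, hj, hje⟩ := List.mem_iff_getElem.1 (hsub _ (List.getElem_mem (h := (hi : i < small.length))))
    refine Subgroup.subset_closure ⟨j, show j < T.g by omega, ?_⟩
    simp [subGen, hj, (show i < small.length from hi), List.getD_eq_getElem _ _ hj,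
      List.getD_eq_getElem _ _ (show i < small.length from hi), hje]
    all_goals rfl
  have := hC.card_closure_le s hs emb hlen hR _ hK (fun r hr => ?_) hfin
  · rw [hlen] at this
    exact ⟨this.1, this.2.trans (Nat.mul_le_mul_left _ hN)⟩
  · obtain ⟨h1, h2⟩ := hS r hr
    obtain ⟨x, hx, hxe⟩ := List.mem_map.1 h1
    rw [wprod_subGen s emb r h2, ← hxe]
    obtain ⟨i, hi, rfl⟩ := List.mem_iff_getElem.1 hx
    refine Subgroup.subset_closure ⟨i, hi, ?_⟩
    simp [subGen, hi, wprod, List.getD_eq_getElem _ _ hi]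

theorem card_lettersClosure_nil {G : Type*} [Group G] (s : ℕ → G) :
    Finite (lettersClosure s []) ∧ Nat.card (lettersClosure s []) ≤ 1 := by
  have : lettersClosure s [] = ⊥ := by
    rw [lettersClosure, Subgroup.closure_eq_bot_iff]
    rintro _ ⟨i, hi, rfl⟩
    simp at hi
  rw [this]
  exact ⟨inferInstance, le_of_eq Subgroup.card_bot⟩

/-- A group with a subgroup of bounded index and bounded order is finite of bounded order. -/
theorem card_le_of_index {G : Type*} [Group G] (K : Subgroup G) (hfin : Finite K) {n N : ℕ}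
    (hi : K.index ≠ 0 ∧ K.index ≤ n) (hN : Nat.card K ≤ N) : Finite G ∧ Nat.card G ≤ n * N := by
  have h := K.card_mul_index
  have hpos : 0 < Nat.card K := Nat.card_pos
  refine ⟨Nat.finite_of_card_ne_zero ?_, ?_⟩
  · rw [← h]; exact mul_ne_zero hpos.ne' hi.1
  · rw [← h, mul_comm n]; exact Nat.mul_le_mul hN hi.2

/-- Lower and upper bounds meet: the order, and faithfulness of the permutation representation. -/
theorem card_eq_and_injective {G P : Type*} [Group G] [Group P] (φ : G →* P) {N : ℕ} (hN : 0 < N)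
    (hle : Finite G ∧ Nat.card G ≤ N) (hge : N ≤ Nat.card φ.range) :
    Nat.card G = N ∧ Function.Injective φ := by
  have := hle.1
  have h1 : Nat.card φ.range ≤ Nat.card G :=
    Nat.card_le_card_of_surjective φ.rangeRestrict φ.rangeRestrict_surjective
  refine ⟨by omega, ?_⟩
  have hb : Function.Bijective φ.rangeRestrict :=
    φ.rangeRestrict_surjective.bijective_of_nat_card_le (by omega)
  intro a b hab
  exact hb.1 (Subtype.ext hab)

/-- An upper bound on an index becomes exact when the product of the bounds is the order. -/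
theorem index_eq_of_card {G : Type*} [Group G] (K : Subgroup G) {n N : ℕ} (hG : Nat.card G = n * N)
    (hpos : 0 < n * N) (hi : K.index ≤ n) (hN : Nat.card K ≤ N) : K.index = n ∧ Nat.card K = N := by
  have h := K.card_mul_index
  rw [hG] at h
  have hn : 0 < n := Nat.pos_of_ne_zero fun e => by rw [e, zero_mul] at hpos; omega
  have hN0 : 0 < N := Nat.pos_of_ne_zero fun e => by rw [e, mul_zero] at hpos; omega
  rcases Nat.lt_or_ge K.index n with h1 | h1
  · exfalso
    have : Nat.card K * K.index < N * n :=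
      lt_of_le_of_lt (Nat.mul_le_mul_right _ hN) (Nat.mul_lt_mul_of_pos_left h1 hN0)
    rw [h, mul_comm n] at this
    exact lt_irrefl _ this
  · have hidx : K.index = n := le_antisymm hi h1
    refine ⟨hidx, Nat.eq_of_mul_eq_mul_right hn ?_⟩
    rw [hidx] at h
    rw [h, mul_comm]

/-- The values of single letters lie in the subgroup they generate. -/
theorem mem_lettersClosure {G : Type*} [Group G] (s : ℕ → G) (emb : List ℕ) {r : List ℕ}
    (h : r ∈ emb.map fun x => [x]) : wprod s r ∈ lettersClosure s emb := by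
  obtain ⟨x, hx, rfl⟩ := List.mem_map.1 h
  obtain ⟨i, hi, rfl⟩ := List.mem_iff_getElem.1 hx
  refine Subgroup.subset_closure ⟨i, hi, ?_⟩
  simp [subGen, hi, wprod, List.getD_eq_getElem _ _ hi]

/-- An orbit of a subgroup on cosets, read off an orbit of the table. -/
theorem suborbit_of_cert {n : ℕ} (T : Table) (hn : T.n = n) {W : List (List ℕ)} (hV : T.Valid W)
    (hsq : ∀ x < T.g, [x, x] ∈ W) {G : Type*} [Group G] {H : Subgroup G} (s : ℕ → G)
    (φ : G →* Equiv.Perm (Fin T.n)) (hφ : ∀ x < T.g, φ (s x) = hV.toPerm hsq x)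
    (e : Fin T.n ≃ G ⧸ H) (he : ∀ (g : G) (i : Fin T.n), g • e i = e (φ g i))
    {S : List (List ℕ)} (hS : ∀ L ∈ S, ∀ x ∈ L, x < T.g) (K : Subgroup G) (hK : K = wordsClosure s S)
    {pts pos par : Tr} {m : ℕ} (hm : 0 < m) (hok : ∀ k < m, Table.OrbitOK T S pts pos par m k)
    (p₀ : Fin T.n) (hp₀ : (p₀ : ℕ) = field pts 128 20 0) :
    (MulAction.orbit K (e p₀)).ncard = m ∧
      ∀ q : Fin T.n, e q ∈ MulAction.orbit K (e p₀) ↔ ∃ k < m, field pts 128 20 k = q := by
  let σ : ℕ → Equiv.Perm (Fin T.n) := fun g => (φ (wprod s (S.getD g [])))⁻¹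
  have hσ : ∀ g < S.length, ∀ i : Fin T.n, T.follow (S.getD g []) i = (σ g i : ℕ) := by
    intro g hg i
    have hlt : ∀ x ∈ S.getD g [], x < T.g := by
      rw [List.getD_eq_getElem _ _ hg]; exact hS _ (List.getElem_mem hg)
    show T.follow (S.getD g []) i = ((φ (wprod s (S.getD g [])))⁻¹ i : Fin T.n)
    rw [map_wprod φ s (hV.toPerm hsq) _ fun x hx => hφ x (hlt x hx)]
    exact hV.follow_eq hsq _ hlt i
  have hR : K.map φ = Subgroup.closure (σ '' Set.Iio S.length) := by
    rw [hK, wordsClosure, MonoidHom.map_closure, ← Subgroup.closure_inv]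
    congr 1
    ext π
    rw [Set.mem_inv]
    constructor
    · rintro ⟨_, ⟨L, hL, rfl⟩, hπ⟩
      obtain ⟨g, hg, rfl⟩ := List.mem_iff_getElem.1 hL
      refine ⟨g, hg, ?_⟩
      show (φ (wprod s (S.getD g [])))⁻¹ = π
      rw [List.getD_eq_getElem _ _ hg, hπ, inv_inv]
    · rintro ⟨g, hg, rfl⟩
      refine ⟨_, ⟨S[g]'hg, List.getElem_mem _, rfl⟩, ?_⟩
      show φ (wprod s (S[g]'hg)) = ((φ (wprod s (S.getD g [])))⁻¹)⁻¹
      rw [inv_inv, List.getD_eq_getElem _ _ (show g < S.length from hg)]
      rfl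
  obtain ⟨hc, hmem⟩ := Table.orbit_eq rfl hm hok σ hσ (K.map φ) hR p₀ hp₀
  have horb : MulAction.orbit K (e p₀) = e '' MulAction.orbit (K.map φ) p₀ := by
    ext y
    constructor
    · rintro ⟨⟨g, hg⟩, rfl⟩
      exact ⟨φ g p₀, ⟨⟨φ g, Subgroup.mem_map_of_mem φ hg⟩, rfl⟩, (he g p₀).symm⟩
    · rintro ⟨_, ⟨⟨_, g, hg, rfl⟩, rfl⟩, rfl⟩
      exact ⟨⟨g, hg⟩, he g p₀⟩
  refine ⟨by rw [horb, Set.ncard_image_of_injective _ e.injective, hc], fun q => ?_⟩
  rw [horb, e.injective.mem_set_image, hmem]

/-- A faithful coset action has trivial core. -/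
theorem normalCore_eq_bot {G : Type*} [Group G] {H : Subgroup G} {n : ℕ} (φ : G →* Equiv.Perm (Fin n))
    (hinj : Function.Injective φ) (e : Fin n ≃ G ⧸ H) (he : ∀ (g : G) (i : Fin n), g • e i = e (φ g i)) :
    H.normalCore = ⊥ := by
  refine eq_bot_iff.2 fun x hx => Subgroup.mem_bot.2 (hinj ?_)
  rw [map_one]
  ext i
  rw [Equiv.Perm.one_apply]
  congr 1
  apply e.injective
  rw [← he]
  obtain ⟨g, hg⟩ := QuotientGroup.mk_surjective (e i)
  rw [← hg]
  show ((x * g : G) : G ⧸ H) = g
  rw [QuotientGroup.eq]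
  have h := inv_mem (H.normalCore_le ((H.normalCore_normal).conj_mem x hx g⁻¹))
  simpa [mul_assoc] using h

end CfsgLib.InvChar.Coset
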