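import Cfsg.Prelude.Def_Spor_Fi22
import Cfsg.Agent.Lib.InvChar.CosetGroup
import Cfsg.Agent.Lib.InvChar.SporData.FiA.Main
import Cfsg.Agent.Lib.InvChar.SporData.FiA.Chain
import Cfsg.Agent.Lib.InvChar.SporData.FiB.Main
import Cfsg.Agent.Lib.InvChar.SporData.FiC.Main
import Cfsg.Agent.Lib.InvChar.SporData.FiD.Main
import Cfsg.Agent.Lib.InvChar.SporData.FiE.Main
import Cfsg.Agent.Lib.InvChar.SporData.FiF.Main

/-!
# The presented Fischer group Fi22: order and the action on 3510 points
-/

set_option autoImplicit false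
set_option maxRecDepth 100000

namespace CfsgLib.InvChar.SporFi22

open CfsgLib.InvChar.Coset Cfsg.Spor

/-- numbering of the generators -/
def idx : Fi22.Gen → ℕ
  | .a => 0 | .b => 1 | .c => 2 | .d => 3 | .e => 4 | .f => 5 | .g => 6 | .h => 7 | .i => 8

/-- the generators by number -/
def ofN : ℕ → Fi22.Gen
  | 0 => .a | 1 => .b | 2 => .c | 3 => .d | 4 => .e | 5 => .f | 6 => .g | 7 => .h | _ => .i

theorem pres : IsPres Fi22.edges Fi22.extra 9 idx ofN FiA.rels where
  left a := by cases a <;> decide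
  check := by decide +kernel

/-- The generators. -/
noncomputable abbrev gen : ℕ → Fi22 := pres.gen

theorem gen_mul_self (x : ℕ) : gen x * gen x = 1 := pres.gen_mul_self x

theorem closure_gen : Subgroup.closure (gen '' Set.Iio 9) = ⊤ := pres.closure_gen

/-- The permutations of the 3510 points. -/
noncomputable def perm (x : ℕ) : Equiv.Perm (Fin FiA.table.n) := FiA.valid.toPerm FiA.sq x

theorem exists_rep : ∃ φ : Fi22 →* Equiv.Perm (Fin FiA.table.n), ∀ x < 9, φ (gen x) = perm x :=
  pres.exists_hom perm (fun x => FiA.valid.toPerm_mul_self FiA.sq x) fun r hr =>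
    FiA.valid.wprod_eq_one FiA.sq hr
      ((by decide +kernel : ∀ r ∈ FiA.rels, ∀ x ∈ r, x < 9) r hr)

/-- The action on 3510 points. -/
noncomputable def rep : Fi22 →* Equiv.Perm (Fin FiA.table.n) := Classical.choose exists_rep

theorem rep_gen : ∀ x < 9, rep (gen x) = perm x := Classical.choose_spec exists_rep

/-- The subgroup of index 3510. -/
noncomputable def H : Subgroup Fi22 := wordsClosure gen FiA.subs

theorem H_fix : ∀ h ∈ H, rep h ⟨0, FiA.covered.hn⟩ = ⟨0, FiA.covered.hn⟩ := by
  intro h hh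
  suffices H ≤ (MulAction.stabilizer (Equiv.Perm (Fin FiA.table.n))
      (⟨0, FiA.covered.hn⟩ : Fin FiA.table.n)).comap rep from this hh
  rw [H, wordsClosure, Subgroup.closure_le]
  rintro _ ⟨L, hL, rfl⟩
  have hlt := (by decide +kernel : ∀ L ∈ FiA.subs, ∀ x ∈ L, x < 9) L hL
  show rep (wprod gen L) ⟨0, FiA.covered.hn⟩ = _
  rw [map_wprod rep gen perm L fun x hx => rep_gen x (hlt x hx)]
  exact FiA.valid.wprod_fix FiA.sq hlt _
    ((by decide +kernel : ∀ L ∈ FiA.subs, FiA.table.follow L 0 = 0) L hL)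

theorem index_H : H.index = 3510 ∧ ∃ e : Fin FiA.table.n ≃ Fi22 ⧸ H,
    e ⟨0, FiA.covered.hn⟩ = ((1 : Fi22) : Fi22 ⧸ H) ∧
    ∀ (g : Fi22) (i : Fin FiA.table.n), g • e i = e (rep g i) :=
  FiA.covered.exact FiA.valid FiA.sq FiA.orbit0_ok FiA.base0 (by decide) (by decide) gen H gen_mul_self
    (fun r hr => pres.gen_rel r hr) (fun r hr => mem_wordsClosure gen hr) closure_gen rep rep_gen H_fix

theorem rels_subGen (emb : List ℕ) (R : List (List ℕ))
    (h : ∀ r ∈ R, (∀ x ∈ r, x < emb.length) ∧ r.map (fun x => emb.getD x 0) ∈ FiA.rels) :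
    ∀ r ∈ R, wprod (subGen gen emb) r = 1 := by
  intro r hr
  obtain ⟨h1, h2⟩ := h r hr
  rw [wprod_subGen gen emb r h1]
  exact pres.gen_rel _ h2

theorem card_bcdefghi_le : Finite (lettersClosure gen FiC.emb) ∧
    Nat.card (lettersClosure gen FiC.emb) ≤ 4585351680 := by
  have h0 := card_lettersClosure_nil gen
  have h1 := FiF.covered.chain_step gen gen_mul_self FiF.emb [] rfl
    (rels_subGen _ _ (by decide +kernel)) (by decide) (by decide +kernel) h0.1 h0.2
  have h2 := FiE.covered.chain_step gen gen_mul_self FiE.emb FiF.emb rfl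
    (rels_subGen _ _ (by decide +kernel)) (by decide) (by decide +kernel) h1.1 h1.2
  have h3 := FiD.covered.chain_step gen gen_mul_self FiD.emb FiE.emb rfl
    (rels_subGen _ _ (by decide +kernel)) (by decide) (by decide +kernel) h2.1 h2.2
  have h4 := FiC.covered.chain_step gen gen_mul_self FiC.emb FiD.emb rfl
    (rels_subGen _ _ (by decide +kernel)) (by decide) (by decide +kernel) h3.1 h3.2
  exact ⟨h4.1, h4.2.trans (le_of_eq rfl)⟩

theorem card_le : Finite Fi22 ∧ Nat.card Fi22 ≤ 64561751654400 := by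
  obtain ⟨hfin, hc⟩ := card_bcdefghi_le
  have hi := FiB.covered.index_le gen (lettersClosure gen FiC.emb) gen_mul_self
    (fun r hr => pres.gen_rel r ((by decide +kernel : ∀ r ∈ FiB.rels, r ∈ FiA.rels) r hr))
    (fun r hr => mem_lettersClosure gen FiC.emb
      ((by decide +kernel : ∀ r ∈ FiB.subs, r ∈ FiC.emb.map fun x => [x]) r hr))
    closure_gen
  exact card_le_of_index _ hfin hi hc

/-- The order of the presented Fischer group, and faithfulness of the action on 3510 points. -/
theorem card_eq : Nat.card Fi22 = 64561751654400 ∧ Function.Injective rep :=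
  card_eq_and_injective rep (by norm_num) card_le (FiA.card_range_ge gen rep rep_gen)

/-- The index of the subgroup on eight generators. -/
theorem index_bcdefghi : (lettersClosure gen FiC.emb).index = 14080 := by
  have hi := FiB.covered.index_le gen (lettersClosure gen FiC.emb) gen_mul_self
    (fun r hr => pres.gen_rel r ((by decide +kernel : ∀ r ∈ FiB.rels, r ∈ FiA.rels) r hr))
    (fun r hr => mem_lettersClosure gen FiC.emb
      ((by decide +kernel : ∀ r ∈ FiB.subs, r ∈ FiC.emb.map fun x => [x]) r hr))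
    closure_gen
  exact (index_eq_of_card (n := 14080) _ (card_eq.1.trans (by norm_num)) (by norm_num) hi.2 card_bcdefghi_le.2).1

end CfsgLib.InvChar.SporFi22
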