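import Cfsg.Agent.Lib.InvChar.CosetWordGroup
import Cfsg.Agent.Lib.InvChar.CosetSimple
import Cfsg.Agent.Lib.InvChar.SporData.J2A.Main
import Cfsg.Agent.Lib.InvChar.SporData.J2A.Chain
import Cfsg.Agent.Lib.InvChar.SporData.J2A.Suborbits
import Cfsg.Agent.Lib.InvChar.SporData.J2A.Seeds
import Cfsg.Agent.Lib.InvChar.SporData.J2B.Main
import Cfsg.Agent.Lib.InvChar.SporData.J2C.Main
import Cfsg.Agent.Lib.InvChar.SporData.J2D.Main

/-!
# A presented model of the Hall-Janko group: order, the 100 points, simplicity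
-/

set_option autoImplicit false
set_option maxRecDepth 100000

namespace CfsgLib.InvChar.SporJ2

open CfsgLib.InvChar.Coset

/-- Five reflections and their relators. -/
def pres : WordPres where
  g := 5
  rels := J2A.rels
  pos := by decide
  lt := by decide +kernel
  sq := by decide +kernel

/-- The presented group. -/
abbrev P : Type := pres.Grp

/-- The generators. -/
noncomputable abbrev gen : ℕ → P := pres.gen

/-- The subgroup on four generators. -/
noncomputable def H : Subgroup P := lettersClosure gen J2B.emb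

theorem card_H_le : Finite H ∧ Nat.card H ≤ 6048 := by
  have h0 := card_lettersClosure_nil gen
  have h1 := J2D.covered.chain_step gen pres.gen_mul_self J2D.emb [] rfl
    (pres.rels_subGen _ _ (by decide +kernel)) (by decide) (by decide +kernel) h0.1 h0.2
  have h2 := J2C.covered.chain_step gen pres.gen_mul_self J2C.emb J2D.emb rfl
    (pres.rels_subGen _ _ (by decide +kernel)) (by decide) (by decide +kernel) h1.1 h1.2
  have h3 := J2B.covered.chain_step gen pres.gen_mul_self J2B.emb J2C.emb rfl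
    (pres.rels_subGen _ _ (by decide +kernel)) (by decide) (by decide +kernel) h2.1 h2.2
  exact ⟨h3.1, h3.2.trans (le_of_eq rfl)⟩

theorem subs_mem : ∀ r ∈ J2A.subs, wprod gen r ∈ H := fun r hr =>
  mem_lettersClosure gen J2B.emb
    ((by decide +kernel : ∀ r ∈ J2A.subs, r ∈ J2B.emb.map fun x => [x]) r hr)

theorem card_le : Finite P ∧ Nat.card P ≤ 604800 := by
  obtain ⟨hfin, hc⟩ := card_H_le
  have hi := J2A.covered.index_le gen H pres.gen_mul_self (fun r hr => pres.gen_rel r hr) subs_mem
    pres.closure_gen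
  exact card_le_of_index H hfin hi hc

instance finite_P : Finite P := card_le.1

/-- The permutations of the 100 points. -/
noncomputable def perm (x : ℕ) : Equiv.Perm (Fin J2A.table.n) := J2A.valid.toPerm J2A.sq x

theorem exists_rep : ∃ φ : P →* Equiv.Perm (Fin J2A.table.n), ∀ x < 5, φ (gen x) = perm x :=
  pres.exists_hom perm fun r hr => J2A.valid.wprod_eq_one J2A.sq hr (pres.lt r hr)

/-- The action on 100 points. -/
noncomputable def rep : P →* Equiv.Perm (Fin J2A.table.n) := Classical.choose exists_rep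

theorem rep_gen : ∀ x < 5, rep (gen x) = perm x := Classical.choose_spec exists_rep

theorem card_eq : Nat.card P = 604800 ∧ Function.Injective rep :=
  card_eq_and_injective rep (by norm_num) card_le (J2A.card_range_ge gen rep rep_gen)

instance nontrivial_P : Nontrivial P :=
  Finite.one_lt_card_iff_nontrivial.1 (by rw [card_eq.1]; norm_num)

theorem H_fix : ∀ h ∈ H, rep h ⟨0, J2A.covered.hn⟩ = ⟨0, J2A.covered.hn⟩ := by
  intro h hh
  suffices H ≤ (MulAction.stabilizer (Equiv.Perm (Fin J2A.table.n))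
      (⟨0, J2A.covered.hn⟩ : Fin J2A.table.n)).comap rep from this hh
  rw [H, lettersClosure, Subgroup.closure_le]
  rintro _ ⟨i, hi, rfl⟩
  have hlen : i < 4 := hi
  show rep (subGen gen J2B.emb i) ⟨0, J2A.covered.hn⟩ = _
  rw [subGen, if_pos (show i < J2B.emb.length from hi), rep_gen _ (by interval_cases i <;> decide)]
  refine Fin.ext ?_
  rw [perm, J2A.valid.toPerm_apply J2A.sq (show J2B.emb.getD i 0 < 5 by interval_cases i <;> decide)]
  interval_cases i <;> decide +kernel

theorem index_H : H.index = 100 ∧ ∃ e : Fin J2A.table.n ≃ P ⧸ H,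
    e ⟨0, J2A.covered.hn⟩ = ((1 : P) : P ⧸ H) ∧
    ∀ (g : P) (i : Fin J2A.table.n), g • e i = e (rep g i) :=
  J2A.covered.exact J2A.valid J2A.sq J2A.orbit0_ok J2A.base0 (by decide) (by decide) gen H
    pres.gen_mul_self (fun r hr => pres.gen_rel r hr) subs_mem pres.closure_gen rep rep_gen H_fix

theorem card_H : Nat.card H = 6048 :=
  (index_eq_of_card (n := 100) H (card_eq.1.trans (by norm_num)) (by norm_num) index_H.1.le
    card_H_le.2).2

theorem H_eq_words : H = wordsClosure gen J2A.subs := by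
  refine le_antisymm ?_ ((Subgroup.closure_le _).2 ?_)
  · rw [H, lettersClosure, Subgroup.closure_le]
    rintro _ ⟨i, hi, rfl⟩
    have hlen : i < 4 := hi
    have := mem_wordsClosure gen (W := J2A.subs) (L := [i]) (by interval_cases i <;> decide)
    simp only [wprod, List.map_cons, List.map_nil, List.prod_cons, List.prod_nil, mul_one] at this
    show subGen gen J2B.emb i ∈ wordsClosure gen J2A.subs
    rwa [subGen, if_pos (show i < J2B.emb.length from hi),
      show J2B.emb.getD i 0 = i by interval_cases i <;> rfl]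
  · rintro _ ⟨L, hL, rfl⟩
    exact subs_mem L hL

theorem seed_one (L : List ℕ) (h : L ∈ J2A.seedWords) : wprod gen L = 1 := by
  have hlt := (by decide +kernel : ∀ L ∈ J2A.seedWords, ∀ x ∈ L, x < 5) L h
  apply card_eq.2
  rw [map_one, map_wprod rep gen perm L fun x hx => rep_gen x (hlt x hx), ← inv_eq_one]
  ext i
  show ((wprod (J2A.valid.toPerm J2A.sq) L)⁻¹ i : ℕ) = _
  rw [← J2A.valid.follow_eq J2A.sq L hlt i, J2A.seeds_fix i i.2 L h, Equiv.Perm.one_apply]

/-- The two non-trivial orbits of the point stabiliser. -/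
theorem suborbits : ∃ c₁ c₂ : P ⧸ H, (MulAction.orbit H c₁).ncard = 36 ∧
    (MulAction.orbit H c₂).ncard = 63 ∧ ∀ K : Subgroup P, H ≤ K → K = H ∨ K = ⊤ := by
  obtain ⟨hi, e, he0, he⟩ := index_H
  have hS : ∀ L ∈ J2A.subs, ∀ x ∈ L, x < J2A.table.g := by decide +kernel
  have o0 := suborbit_of_cert J2A.table rfl J2A.valid J2A.sq gen rep rep_gen e he hS H H_eq_words (by norm_num)
    J2A.sub0_ok ⟨field J2A.sub0Pts 128 20 0, by decide +kernel⟩ rfl
  have o1 := suborbit_of_cert J2A.table rfl J2A.valid J2A.sq gen rep rep_gen e he hS H H_eq_words (by norm_num)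
    J2A.sub1_ok ⟨field J2A.sub1Pts 128 20 0, by decide +kernel⟩ rfl
  have hmax := eq_top_or_le_of_suborbits H [63, 36]
    ![e ⟨field J2A.sub0Pts 128 20 0, by decide +kernel⟩, e ⟨field J2A.sub1Pts 128 20 0, by decide +kernel⟩]
    ?_ ?_ ?_ ?_ ?_
  · exact ⟨_, _, o1.1, o0.1, hmax⟩
  · intro i
    fin_cases i
    · exact o0.1
    · exact o1.1
  · intro q
    obtain ⟨i, rfl⟩ := e.surjective q
    have key : ∀ j < 100, j = 0 ∨ ((field J2A.sub0Pos 128 20 j - 1 < 63) ∧ field J2A.sub0Pts 128 20 (field J2A.sub0Pos 128 20 j - 1) = j) ∨ ((field J2A.sub1Pos 128 20 j - 1 < 36) ∧ field J2A.sub1Pts 128 20 (field J2A.sub1Pos 128 20 j - 1) = j) := by decide +kernel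
    rcases key i i.2 with h | h | h
    · left
      rw [← he0]; exact congrArg e (Fin.ext h)
    · exact Or.inr ⟨0, (o0.2 i).2 ⟨_, h.1, h.2⟩⟩
    · exact Or.inr ⟨1, (o1.2 i).2 ⟨_, h.1, h.2⟩⟩
  · intro i j hij
    fin_cases i <;> fin_cases j <;> first
      | rfl
      | exact absurd ((o0.2 _).1 hij) (show ¬ ∃ c < 63, field J2A.sub0Pts 128 20 c = field J2A.sub1Pts 128 20 0 by decide +kernel)
      | exact absurd ((o1.2 _).1 hij) (show ¬ ∃ c < 36, field J2A.sub1Pts 128 20 c = field J2A.sub0Pts 128 20 0 by decide +kernel)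
  · intro i hmem
    rw [← he0] at hmem
    fin_cases i
    · exact absurd ((o0.2 _).1 hmem) (show ¬ ∃ c < 63, field J2A.sub0Pts 128 20 c = 0 by decide +kernel)
    · exact absurd ((o1.2 _).1 hmem) (show ¬ ∃ c < 36, field J2A.sub1Pts 128 20 c = 0 by decide +kernel)
  · rw [hi]
    decide +kernel

/-- **The presented group is simple.** -/
instance isSimpleGroup : IsSimpleGroup P := by
  haveI : Fact (Nat.Prime 5) := ⟨by norm_num⟩
  obtain ⟨hi, e, -, he⟩ := index_H
  obtain ⟨-, -, -, -, hmax⟩ := suborbits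
  refine isSimpleGroup_of_cert H (normalCore_eq_bot rep card_eq.2 e he) hmax 5 2
    (by rw [hi]; norm_num) (by rw [card_eq.1]; norm_num) gen pres.gen_mul_self J2A.rels pres.gen_rel 5
    pres.closure_gen [0] ?_ (by decide +kernel)
  intro y hy
  rw [List.mem_singleton] at hy
  subst hy
  refine ⟨wprod gen [2, 4], wprod gen [4, 2, 0], ?_, ?_, ?_⟩
  · have h := seed_one (List.replicate 5 [2, 4]).flatten (by decide +kernel)
    simpa [wprod, pow_succ, mul_assoc] using h
  · have h := seed_one (List.replicate 5 [4, 2, 0]).flatten (by decide +kernel)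
    simpa [wprod, pow_succ, mul_assoc] using h
  · rw [show ([4, 2, 0] : List ℕ) = [2, 4].reverse ++ [0] from rfl, wprod_append,
      wprod_reverse gen pres.gen_mul_self, ← mul_assoc, mul_inv_cancel, one_mul]
    simp [wprod]

theorem exists_noncomm : ∃ a b : P, a * b ≠ b * a := by
  refine ⟨gen 0, gen 1, fun h => ?_⟩
  have h' := congrArg (fun p => (rep p).toFun) h
  simp only [map_mul, rep_gen 0 (by norm_num), rep_gen 1 (by norm_num)] at h'
  have hsome : ∃ i < 100, J2A.table.app (J2A.table.app i 1) 0 ≠ J2A.table.app (J2A.table.app i 0) 1 := by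
    decide +kernel
  obtain ⟨i, hi, hne⟩ := hsome
  have h2 := congrArg Fin.val (congrFun h' (⟨i, hi⟩ : Fin J2A.table.n))
  simp only [Equiv.toFun_as_coe, Equiv.Perm.mul_apply] at h2
  simp only [perm, J2A.valid.toPerm_apply J2A.sq (show (0 : ℕ) < J2A.table.g by decide),
    J2A.valid.toPerm_apply J2A.sq (show (1 : ℕ) < J2A.table.g by decide)] at h2
  exact hne h2

end CfsgLib.InvChar.SporJ2
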