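import Cfsg.Agent.Lib.InvChar.IcoReflections
import Cfsg.Agent.Lib.InvChar.SporJ2

/-!
# `2·J₂` acts on the 315 lines with kernel `{±1}` and image the presented group
-/

set_option autoImplicit false
set_option maxRecDepth 100000

namespace CfsgLib.InvChar.Ico

open Quaternion
open Cfsg.Spor (tau icosians icoH leftIdeal icoLeech qip qrefl IsIcoReflection twoJ2 J2)

/-- `g` maps line `i` to line `j`. -/
def MapsLine (g : twoJ2) (i j : Fin 315) : Prop :=
  ∃ u, ∃ hu : IsU u, (g : Equiv.Perm icoLeech) (repL i) = smulL hu.1 (repL j)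

theorem isU_one : IsU one := ⟨mem_one, by decide⟩

theorem smulL_one (h : mem one = true) (x : icoLeech) : smulL h x = x :=
  Subtype.ext (by ext1 t; simp [smulL, phi_one])

theorem smulL_smulL {u w : D} (hu : mem u = true) (hw : mem w = true) (x : icoLeech) :
    smulL hu (smulL hw x) = smulL (mem_mul hu hw) x :=
  Subtype.ext (by ext1 t; simp [smulL, phi_mul hu hw, mul_assoc])

theorem mapsLine_ex (g : twoJ2) (i : Fin 315) : ∃ j, MapsLine g i j := by
  have h4 : qip ((g : Equiv.Perm icoLeech) (repL i)).1 ((g : Equiv.Perm icoLeech) (repL i)).1 = 4 := by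
    rw [(good_of_mem g.2).isom, repL_val i.2]
    exact (rep_spec i.2).2.1
  obtain ⟨j, hj, u, hu, e⟩ := exists_line h4
  exact ⟨⟨j, hj⟩, u, hu, e⟩

theorem mapsLine_uniq (g : twoJ2) (i j j' : Fin 315) (h : MapsLine g i j) (h' : MapsLine g i j') : j = j' := by
  obtain ⟨u, hu, e⟩ := h
  obtain ⟨w, hw, e'⟩ := h'
  exact Fin.ext (smulL_inj j.2 j'.2 hu hw (e.symm.trans e')).1

theorem mapsLine_one (i : Fin 315) : MapsLine 1 i i := ⟨one, isU_one, (smulL_one mem_one _).symm⟩

theorem mapsLine_mul (g k : twoJ2) (i j l : Fin 315) (h : MapsLine k i j) (h' : MapsLine g j l) :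
    MapsLine (g * k) i l := by
  obtain ⟨u, hu, e⟩ := h
  obtain ⟨w, hw, e'⟩ := h'
  refine ⟨mul u w, hu.mul hw, ?_⟩
  rw [Subgroup.coe_mul, Equiv.Perm.mul_apply, e, (good_of_mem g.2).smul, e', smulL_smulL]

theorem exists_lineHom : ∃ ρ : twoJ2 →* Equiv.Perm (Fin 315), ∀ g i, MapsLine g i (ρ g i) := by
  choose f hf using mapsLine_ex
  have h1 : ∀ i, f 1 i = i := fun i => mapsLine_uniq _ _ _ _ (hf 1 i) (mapsLine_one i)
  have hm : ∀ g k i, f (g * k) i = f g (f k i) := fun g k i =>
    mapsLine_uniq _ _ _ _ (hf _ i) (mapsLine_mul g k i _ _ (hf k i) (hf g _))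
  refine ⟨MonoidHom.mk' (fun g => ⟨f g, f g⁻¹, fun i => by rw [← hm, inv_mul_cancel, h1],
    fun i => by rw [← hm, mul_inv_cancel, h1]⟩) fun a b => Equiv.ext fun i => hm a b i, hf⟩

/-- The action on the lines. -/
noncomputable def lineHom : twoJ2 →* Equiv.Perm (Fin 315) := Classical.choose exists_lineHom

theorem lineHom_spec (g : twoJ2) (i : Fin 315) : MapsLine g i (lineHom g i) :=
  Classical.choose_spec exists_lineHom g i

theorem genLine_lt {x : ℕ} (hx : x < 5) : genLine x < 315 := by
  interval_cases x <;> decide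

theorem refl_gen_mem {x : ℕ} (hx : x < 5) : refl (genLine x) ∈ twoJ2 :=
  Subgroup.subset_closure (refl_isRefl (genLine_lt hx))

/-- The five reflections inside `2·J₂`. -/
noncomputable def tgen (x : ℕ) : twoJ2 := if h : x < 5 then ⟨refl (genLine x), refl_gen_mem h⟩ else 1

/-- The permutations of the lines. -/
noncomputable def linePerm (x : ℕ) : Equiv.Perm (Fin 315) := valid.toPerm table_sq x

theorem lineHom_tgen {x : ℕ} (hx : x < 5) : lineHom (tgen x) = linePerm x := by
  ext1 i
  obtain ⟨hj, u, hu, e⟩ := table_spec i.2 hx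
  refine mapsLine_uniq _ _ _ _ (lineHom_spec _ i) ⟨u, hu, ?_⟩
  rw [show ((linePerm x i : Fin 315) : ℕ) = table.app i x from valid.toPerm_apply table_sq hx i]
  simpa [tgen, hx] using e

theorem closure_tgen : Subgroup.closure (tgen '' Set.Iio 5) = ⊤ := by
  refine Subgroup.map_injective twoJ2.subtype_injective ?_
  rw [MonoidHom.map_closure, ← MonoidHom.range_eq_map, Subgroup.range_subtype, ← Set.image_comp]
  refine Eq.trans (congrArg Subgroup.closure (Set.image_congr fun x hx => ?_)) five_eq
  have hx : x < 5 := hx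
  simp [tgen, hx]

theorem exists_p315 : ∃ φ : SporJ2.P →* Equiv.Perm (Fin 315), ∀ x < 5, φ (SporJ2.gen x) = linePerm x :=
  SporJ2.pres.exists_hom linePerm fun r hr => valid.wprod_eq_one table_sq hr (SporJ2.pres.lt r hr)

/-- The presented group on the lines. -/
noncomputable def p315 : SporJ2.P →* Equiv.Perm (Fin 315) := Classical.choose exists_p315

theorem p315_gen : ∀ x < 5, p315 (SporJ2.gen x) = linePerm x := Classical.choose_spec exists_p315

theorem p315_injective : Function.Injective p315 := by
  rw [← MonoidHom.ker_eq_bot_iff]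
  refine (SporJ2.isSimpleGroup.eq_bot_or_eq_top_of_normal p315.ker (MonoidHom.normal_ker _)).resolve_right
    fun h => ?_
  have h1 : p315 (SporJ2.gen 0) = 1 := MonoidHom.mem_ker.1 (h ▸ Subgroup.mem_top _)
  rw [p315_gen 0 (by norm_num)] at h1
  have hsome : ∃ i < 315, table.app i 0 ≠ i := by decide +kernel
  obtain ⟨i, hi, hne⟩ := hsome
  exact hne ((valid.toPerm_apply table_sq (show (0 : ℕ) < table.g by decide) ⟨i, hi⟩).symm.trans
    (congrArg Fin.val (DFunLike.congr_fun h1 ⟨i, hi⟩)))

theorem range_eq : lineHom.range = p315.range := by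
  rw [MonoidHom.range_eq_map, MonoidHom.range_eq_map, ← closure_tgen, ← SporJ2.pres.closure_gen,
    MonoidHom.map_closure, MonoidHom.map_closure, ← Set.image_comp, ← Set.image_comp]
  refine congrArg Subgroup.closure (Set.image_congr fun x hx => ?_)
  exact (lineHom_tgen hx).trans (p315_gen x hx).symm

theorem exists_toP : ∃ θ : twoJ2 →* SporJ2.P, ∀ g, p315 (θ g) = lineHom g := by
  choose f hf using fun g : twoJ2 =>
    MonoidHom.mem_range.1 (range_eq ▸ (⟨g, rfl⟩ : lineHom g ∈ lineHom.range) : lineHom g ∈ p315.range)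
  exact ⟨MonoidHom.mk' f fun a b => p315_injective (by rw [hf, map_mul, map_mul, hf, hf]), hf⟩

/-- The map onto the presented group. -/
noncomputable def toP : twoJ2 →* SporJ2.P := Classical.choose exists_toP

theorem toP_spec (g : twoJ2) : p315 (toP g) = lineHom g := Classical.choose_spec exists_toP g

theorem toP_tgen {x : ℕ} (hx : x < 5) : toP (tgen x) = SporJ2.gen x :=
  p315_injective (by rw [toP_spec, lineHom_tgen hx, p315_gen x hx])

theorem toP_surjective : Function.Surjective toP := by
  rw [← MonoidHom.range_eq_top, MonoidHom.range_eq_map, ← closure_tgen, MonoidHom.map_closure,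
    ← SporJ2.pres.closure_gen, ← Set.image_comp]
  exact congrArg Subgroup.closure (Set.image_congr fun x hx => toP_tgen hx)

theorem frame_reps : rep 0 = smulV (neg one) ⟨smul 2 one, 0, 0⟩ ∧
    rep 1 = smulV (neg one) ⟨0, smul 2 one, 0⟩ ∧ rep 2 = smulV (neg one) ⟨0, 0, smul 2 one⟩ := by
  decide +kernel

theorem rep_frame : ∀ t : Fin 3, psi (rep t) = fun s => if s = t then -2 else 0 := by
  obtain ⟨e0, e1, e2⟩ := frame_reps
  have m2 : ∀ {v : V}, memV v = true → psi (smulV (neg one) v) = fun s => -psi v s := fun hv => by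
    rw [psi_smulV (by decide) hv]; ext1 s; simp [phi_neg, phi_one]
  have p2 : phi (smul 2 one) = 2 := by rw [phi_smul_two, phi_one, mul_one]
  intro t
  fin_cases t <;> dsimp only
  · show psi (rep 0) = _
    rw [e0, m2 (by decide)]
    ext1 s; fin_cases s <;> simp [psi, p2, phi_zero]
  · show psi (rep 1) = _
    rw [e1, m2 (by decide)]
    ext1 s; fin_cases s <;> simp [psi, p2, phi_zero]
  · show psi (rep 2) = _
    rw [e2, m2 (by decide)]
    ext1 s; fin_cases s <;> simp [psi, p2, phi_zero]

theorem refl_frame (t : Fin 3) (x : icoLeech) :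
    ((refl t x : icoLeech) : Fin 3 → ℍ[ℝ]) = fun s => if s = t then -x.1 s else x.1 s := by
  have ht : (t : ℕ) < 315 := by omega
  rw [refl_apply ht, qrefl_eq, rep_frame]
  have hq : qip x.1 (fun s => if s = t then -2 else 0) = 2 * -x.1 t := by
    have h2 : star (2 : ℍ[ℝ]) = 2 := by rw [two_eq]; ext <;> simp
    fin_cases t <;> simp [qip, Fin.sum_univ_three, h2, two_comm]
  rw [hq, half_smul_eq]
  ext1 s
  by_cases hs : s = t
  · subst hs
    simp [two_comm, two_mul]
  · simp [hs]

/-- Negation in `2·J₂`. -/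
noncomputable def negOne : twoJ2 :=
  ⟨refl (0 : Fin 3) * refl (1 : Fin 3) * refl (2 : Fin 3), mul_mem (mul_mem
    (Subgroup.subset_closure (refl_isRefl (by decide)))
    (Subgroup.subset_closure (refl_isRefl (by decide))))
    (Subgroup.subset_closure (refl_isRefl (by decide)))⟩

theorem negOne_apply (x : icoLeech) :
    (((negOne : Equiv.Perm icoLeech) x : icoLeech) : Fin 3 → ℍ[ℝ]) = -x.1 := by
  simp only [negOne, Equiv.Perm.mul_apply, refl_frame]
  ext1 s
  fin_cases s <;> simp

theorem negOne_ne : negOne ≠ 1 := by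
  intro h
  have := congrArg (fun g : twoJ2 => ((g : Equiv.Perm icoLeech) (repL 0)).1) h
  simp only [negOne_apply, Subgroup.coe_one, Equiv.Perm.one_apply, repL_val (show 0 < 315 by norm_num)] at this
  have h0 := congrFun this 0
  rw [show psi (rep 0) = psi (rep ((0 : Fin 3) : ℕ)) from rfl, rep_frame] at h0
  have := congrArg QuaternionAlgebra.re h0
  rw [two_eq] at this
  simp at this
  norm_num at this

theorem negOne_central : negOne ∈ Subgroup.center twoJ2 := by
  refine Subgroup.mem_center_iff.2 fun g => Subtype.ext (Equiv.ext fun x => Subtype.ext ?_)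
  have hg := good_of_mem g.2
  simp only [Subgroup.coe_mul, Equiv.Perm.mul_apply, negOne_apply]
  have h0 : ((g : Equiv.Perm icoLeech) ⟨0, leech_zero⟩).1 = 0 := by
    have := hg.add ⟨0, leech_zero⟩ ⟨0, leech_zero⟩ ⟨0, leech_zero⟩ (by simp)
    simpa using this
  rw [hg.sub (x := ⟨0, leech_zero⟩) (y := x) (by simp [negOne_apply]), h0, zero_sub]

/-- Units of the kernel test. -/
noncomputable def chkPinned (k : ℕ) : Bool :=
  forceD (unit k) fun b => decide (b = one) || decide (b = neg one) ||
    (List.range 315).any fun i => forceV (rep i) fun r =>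
      normOne r.y && normOne r.z && forceD (mul (conj r.z) r.y) fun c => !decide (mulRaw c b = mulRaw b c)

theorem chk_pinned : (List.range 120).all chkPinned = true := by decide +kernel

theorem line203 : (rep 203).y = (rep 203).z ∧ normOne (rep 203).y = true ∧ (rep 203).x ≠ 0 := by
  decide +kernel

theorem ker_le (g : twoJ2) (h : ∀ i, lineHom g i = i) : g = 1 ∨ g = negOne := by
  have hg := good_of_mem g.2
  have hfix : ∀ i : Fin 315, ∃ u, IsU u ∧ ((g : Equiv.Perm icoLeech) (repL i)).1 = fun t => phi u * psi (rep i) t := by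
    intro i
    obtain ⟨u, hu, e⟩ := lineHom_spec g i
    rw [h i] at e
    exact ⟨u, hu, by rw [e]; simp [smulL, repL_val i.2]⟩
  choose u hu he using fun t : Fin 3 => hfix ⟨t, by omega⟩
  -- the action is diagonal
  have diag : ∀ x : icoLeech, ((g : Equiv.Perm icoLeech) x).1 = fun t => x.1 t * phi (u t) := by
    intro x
    obtain ⟨a0, ha0, e0⟩ := mem_icosians_iff.1 (leech_coord x.2 0)
    obtain ⟨a1, ha1, e1⟩ := mem_icosians_iff.1 (leech_coord x.2 1)
    obtain ⟨a2, ha2, e2⟩ := mem_icosians_iff.1 (leech_coord x.2 2)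
    have k0 : ∀ (t : ℕ) (ht : t < 3) (a : D) (ha : mem a = true),
        ((g : Equiv.Perm icoLeech) (smulL ha (repL t))).1 =
          fun s => phi a * (phi (u ⟨t, ht⟩) * psi (rep t) s) := by
      intro t ht a ha
      rw [hg.smul]
      ext1 s
      simp only [smulL]
      rw [he ⟨t, ht⟩]
    let S0 := smulL ha0 (repL 0)
    let S1 := smulL ha1 (repL 1)
    let S2 := smulL ha2 (repL 2)
    let S01 : icoLeech := ⟨S0.1 + S1.1, leech_add S0.2 S1.2⟩
    let S : icoLeech := ⟨S01.1 + S2.1, leech_add S01.2 S2.2⟩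
    let T : icoLeech := ⟨x.1 + x.1, leech_add x.2 x.2⟩
    let Z : icoLeech := ⟨0, leech_zero⟩
    have hST : Z.1 = S.1 + T.1 := by
      ext1 s
      simp only [Z, S, T, S01, S0, S1, S2, smulL, Pi.add_apply, Pi.zero_apply,
        repL_val (show 0 < 315 by norm_num), repL_val (show 1 < 315 by norm_num),
        repL_val (show 2 < 315 by norm_num)]
      rw [show psi (rep 0) = psi (rep ((0 : Fin 3) : ℕ)) from rfl, show psi (rep 1) = psi (rep ((1 : Fin 3) : ℕ)) from rfl,
        show psi (rep 2) = psi (rep ((2 : Fin 3) : ℕ)) from rfl, rep_frame, rep_frame, rep_frame]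
      fin_cases s <;> simp [e0, e1, e2, two_comm, two_mul]
    have hZ : ((g : Equiv.Perm icoLeech) Z).1 = 0 := by
      have := hg.add Z Z Z (by simp [Z])
      simpa using this
    have key := hg.add S T Z hST
    rw [hZ, hg.add x x T rfl, hg.add S01 S2 S rfl, hg.add S0 S1 S01 rfl] at key
    ext1 s
    have ks := congrFun key s
    simp only [S0, S1, S2, Pi.add_apply, Pi.zero_apply] at ks
    rw [k0 0 (by norm_num) a0 ha0, k0 1 (by norm_num) a1 ha1, k0 2 (by norm_num) a2 ha2] at ks
    simp only [show psi (rep 0) = psi (rep ((0 : Fin 3) : ℕ)) from rfl, show psi (rep 1) = psi (rep ((1 : Fin 3) : ℕ)) from rfl,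
      show psi (rep 2) = psi (rep ((2 : Fin 3) : ℕ)) from rfl, rep_frame] at ks
    apply two_cancel
    fin_cases s <;> simp [e0, e1, e2, two_comm, two_mul, mul_add] at ks ⊢ <;> linear_combination (norm := abel) -ks
  -- the middle unit is central
  obtain ⟨hyz, hy, hx⟩ := line203
  have hyU := isU_of_normOne hy
  obtain ⟨w, hw, ew⟩ := hfix ⟨203, by norm_num⟩
  rw [diag, repL_val (show 203 < 315 by norm_num)] at ew
  have f0 : phi (rep 203).x * phi (u 0) = phi w * phi (rep 203).x := congrFun ew 0
  have f1 : phi (rep 203).y * phi (u 1) = phi w * phi (rep 203).y := congrFun ew 1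
  have f2 : phi (rep 203).z * phi (u 2) = phi w * phi (rep 203).z := congrFun ew 2
  rw [← hyz] at f2
  have hyne : phi (rep 203).y ≠ 0 := fun e => by
    have := hyU.mul_star; rw [e, zero_mul] at this; exact zero_ne_one this
  have e12 : phi (u 2) = phi (u 1) := mul_left_cancel₀ hyne (f2.trans f1.symm)
  obtain ⟨k, hk, ek⟩ := eq_unit (hu 1).1 (hu 1).2
  have hb : phi (u 1) = 1 ∨ phi (u 1) = -1 := by
    have hc := List.all_eq_true.1 chk_pinned k (List.mem_range.2 hk)
    simp only [chkPinned, forceD_eq, forceV_eq, ← ek, Bool.or_eq_true, decide_eq_true_eq, List.any_eq_true,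
      Bool.and_eq_true, Bool.not_eq_true', decide_eq_false_iff_not, List.mem_range] at hc
    rcases hc with (hc | hc) | ⟨i, hi, ⟨hiy, hiz⟩, hne⟩
    · exact Or.inl (by rw [hc, phi_one])
    · exact Or.inr (by rw [hc, phi_neg, phi_one])
    · exfalso
      have hY := isU_of_normOne hiy
      have hZ := isU_of_normOne hiz
      obtain ⟨v, hv, ev⟩ := hfix ⟨i, hi⟩
      rw [diag, repL_val hi] at ev
      have g1 : phi (rep i).y * phi (u 1) = phi v * phi (rep i).y := congrFun ev 1
      have g2 : phi (rep i).z * phi (u 2) = phi v * phi (rep i).z := congrFun ev 2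
      rw [e12] at g2
      refine hne (phi_injective ?_)
      rw [phi_mulRaw, phi_mulRaw, phi_mul hZ.conj.1 hY.1, phi_conj]
      congr 1
      calc star (phi (rep i).z) * phi (rep i).y * phi (u 1)
          = star (phi (rep i).z) * phi v * phi (rep i).y := by rw [mul_assoc, g1, ← mul_assoc]
        _ = phi (u 1) * star (phi (rep i).z) * phi (rep i).y := by
            congr 1
            calc star (phi (rep i).z) * phi v
                = star (phi (rep i).z) * phi v * (phi (rep i).z * star (phi (rep i).z)) := by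
                  rw [hZ.mul_star, mul_one]
              _ = star (phi (rep i).z) * (phi v * phi (rep i).z) * star (phi (rep i).z) := by
                  simp only [mul_assoc]
              _ = phi (u 1) * star (phi (rep i).z) := by
                  rw [← g2, ← mul_assoc (star (phi (rep i).z)), hZ.star_mul, one_mul]
        _ = phi (u 1) * (star (phi (rep i).z) * phi (rep i).y) := mul_assoc _ _ _
  have hall : phi (u 0) = phi (u 1) := by
    have hxne : phi (rep 203).x ≠ 0 := fun e => hx (phi_injective (e.trans phi_zero.symm))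
    rcases hb with hb | hb <;> rw [hb] at f1 ⊢ <;> simp only [mul_one, mul_neg] at f1
    · have hw1 : phi w = 1 := mul_right_cancel₀ hyne (by rw [one_mul]; exact f1.symm)
      rw [hw1, one_mul] at f0
      exact mul_left_cancel₀ hxne (by rw [f0, mul_one])
    · have hw1 : phi w = -1 := mul_right_cancel₀ hyne (by rw [neg_one_mul]; exact f1.symm)
      rw [hw1, neg_one_mul] at f0
      exact mul_left_cancel₀ hxne (by rw [f0, mul_neg, mul_one])
  rcases hb with hb | hb
  · refine Or.inl (Subtype.ext (Equiv.ext fun x => Subtype.ext ?_))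
    rw [diag]
    ext1 t
    fin_cases t <;> simp [hall, e12, hb]
  · refine Or.inr (Subtype.ext (Equiv.ext fun x => Subtype.ext ?_))
    rw [diag, negOne_apply]
    ext1 t
    fin_cases t <;> simp [hall, e12, hb]

theorem lineHom_negOne : lineHom negOne = 1 := by
  ext1 i
  refine mapsLine_uniq _ _ _ _ (lineHom_spec _ i) ⟨neg one, ⟨by decide, by decide⟩, Subtype.ext ?_⟩
  rw [negOne_apply]
  ext1 t
  simp [smulL, phi_neg, phi_one]

theorem toP_ker (g : twoJ2) : toP g = 1 ↔ g = 1 ∨ g = negOne := by
  constructor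
  · intro h
    refine ker_le g fun i => ?_
    rw [← toP_spec, h, map_one, Equiv.Perm.one_apply]
  · rintro (rfl | rfl)
    · exact map_one _
    · exact p315_injective (by rw [toP_spec, lineHom_negOne, map_one])

theorem center_P : Subgroup.center SporJ2.P = ⊥ := by
  refine (SporJ2.isSimpleGroup.eq_bot_or_eq_top_of_normal _ inferInstance).resolve_right fun h => ?_
  obtain ⟨a, b, hab⟩ := SporJ2.exists_noncomm
  exact hab (Subgroup.mem_center_iff.1 (h ▸ Subgroup.mem_top b) a)

theorem center_twoJ2 : Subgroup.center twoJ2 = toP.ker := by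
  refine le_antisymm (fun g hg => ?_) fun g hg => ?_
  · refine MonoidHom.mem_ker.2 ?_
    have : toP g ∈ Subgroup.center SporJ2.P := Subgroup.mem_center_iff.2 fun p => by
      obtain ⟨a, rfl⟩ := toP_surjective p
      rw [← map_mul, ← map_mul, Subgroup.mem_center_iff.1 hg a]
    rwa [center_P, Subgroup.mem_bot] at this
  · rcases (toP_ker g).1 hg with rfl | rfl
    · exact one_mem _
    · exact negOne_central

theorem card_center : Nat.card (Subgroup.center twoJ2) = 2 := by
  have hset : ((Subgroup.center twoJ2 : Subgroup twoJ2) : Set twoJ2) = {1, negOne} := by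
    rw [center_twoJ2]
    ext g
    simp [MonoidHom.mem_ker, toP_ker]
  rw [show Nat.card (Subgroup.center twoJ2) = ((Subgroup.center twoJ2 : Subgroup twoJ2) : Set twoJ2).ncard from
    Nat.card_coe_set_eq _, hset, Set.ncard_pair negOne_ne.symm]

/-- **`J₂` is the presented group.** -/
noncomputable def equivP : J2 ≃* SporJ2.P :=
  (QuotientGroup.quotientMulEquivOfEq center_twoJ2).trans
    (QuotientGroup.quotientKerEquivOfSurjective toP toP_surjective)

theorem equivP_mk (g : twoJ2) : equivP (QuotientGroup.mk g) = toP g := rfl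

theorem card_J2 : Nat.card J2 = 604800 :=
  (Nat.card_congr equivP.toEquiv).trans SporJ2.card_eq.1

theorem card_twoJ2 : Nat.card twoJ2 = 1209600 := by
  rw [(Subgroup.center twoJ2).card_eq_card_quotient_mul_card_subgroup, card_center]
  show Nat.card J2 * 2 = _
  rw [card_J2]

end CfsgLib.InvChar.Ico
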