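import Cfsg.Prelude.Def_SporadicB

/-!
# Small lemmas on braiding involutions and non-split double covers
-/

set_option autoImplicit false

namespace CfsgLib.InvChar.DoubleCoverUtil

/-- A bounded check. -/
def below (q : ℕ → Bool) : ℕ → Bool
  | 0 => true
  | n + 1 => q n && below q n

theorem below_get {q : ℕ → Bool} : ∀ n, below q n = true → ∀ i < n, q i = true := by
  intro n
  induction n with
  | zero => intro _ i hi; omega
  | succ n ih =>
    intro h i hi
    rw [below, Bool.and_eq_true] at h
    rcases Nat.lt_succ_iff_lt_or_eq.1 hi with hi | rfl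
    · exact ih h.2 i hi
    · exact h.1

/-- Braid identity for two involutions. -/
theorem braid_conj {G : Type*} [Group G] {a b : G} (ha : a * a = 1) (hb : b * b = 1) (h : (a * b) ^ 3 = 1) :
    a * b * a = b * a * b := by
  have e : (a * b * a) * (b * a * b) = 1 := by rw [← h]; simp [pow_succ, mul_assoc]
  have e' : (b * a * b) * (b * a * b) = 1 := by
    rw [show b * a * b * (b * a * b) = b * a * (b * b) * a * b by simp [mul_assoc], hb, mul_one,
      show b * a * a * b = b * (a * a) * b by simp [mul_assoc], ha, mul_one, hb]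
  exact mul_right_cancel (e.trans e'.symm)

theorem double_cover_of_mulEquiv {H₁ H₂ K : Type*} [Group H₁] [Group H₂] [Group K] (f : H₁ ≃* H₂)
    (h : Cfsg.IsNonsplitDoubleCover H₁ K) : Cfsg.IsNonsplitDoubleCover H₂ K := by
  obtain ⟨hc, ⟨q⟩, hs⟩ := h
  have hmap : (Subgroup.center H₁).map (f : H₁ →* H₂) = Subgroup.center H₂ := by
    ext x
    simp only [Subgroup.mem_map, Subgroup.mem_center_iff]
    constructor
    · rintro ⟨y, hy, rfl⟩ g
      obtain ⟨g, rfl⟩ := f.surjective g
      exact (map_mul f g y).symm.trans ((congrArg f (hy g)).trans (map_mul f y g))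
    · intro hx
      obtain ⟨y, rfl⟩ := f.surjective x
      exact ⟨y, fun g => f.injective (by rw [map_mul, map_mul]; exact hx (f g)), rfl⟩
  refine ⟨?_, ⟨(QuotientGroup.congr _ _ f hmap).symm.trans q⟩, fun L hL => hs (L.comap (f : H₁ →* H₂)) ?_⟩
  · rw [← hmap, Nat.card_congr (Subgroup.equivMapOfInjective _ _ f.injective).toEquiv.symm, hc]
  · rw [← hmap] at hL
    refine Subgroup.isComplement'_of_disjoint_and_mul_eq_univ ?_ ?_
    · rw [disjoint_iff, eq_bot_iff]
      rintro x ⟨hx1, hx2⟩
      have := hL.disjoint.le_bot ⟨Subgroup.mem_map_of_mem _ hx1, hx2⟩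
      exact f.injective ((Subgroup.mem_bot.1 this).trans (map_one f).symm)
    · refine Set.eq_univ_of_forall fun x => ?_
      obtain ⟨⟨⟨_, y, hy, rfl⟩, l, hl⟩, hyl⟩ := hL.2 (f x)
      obtain ⟨l, rfl⟩ := f.surjective l
      refine ⟨y, hy, l, hl, f.injective ?_⟩
      exact (map_mul f y l).trans hyl

end CfsgLib.InvChar.DoubleCoverUtil
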