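import Cfsg.Prelude.Def_Spor_Fi23
import Cfsg.Agent.Lib.InvChar.SporFi22
import Cfsg.Agent.Lib.InvChar.SporData.F23.Main
import Cfsg.Agent.Lib.InvChar.SporData.F23.Points
import Cfsg.Agent.Lib.InvChar.SporData.F23.Orb
import Cfsg.Agent.Lib.InvChar.SporData.F23.Beta
import Cfsg.Agent.Lib.InvChar.SporData.F2B.Main
import Cfsg.Agent.Lib.InvChar.SporData.F2C.Main
import Cfsg.Agent.Lib.InvChar.SporData.F2D.Main
import Cfsg.Agent.Lib.InvChar.SporData.F2E.Main
import Cfsg.Agent.Lib.InvChar.SporData.F2F.Main

/-!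
# The presented Fischer group Fi23: order, action on 31671 points, and the double cover of Fi22

The subgroup `H` on nine generators maps onto the presented Fi22 through its orbit of 3510 points;
this gives its order from below without a stabiliser chain.
-/

set_option autoImplicit false
set_option maxRecDepth 100000

namespace CfsgLib.InvChar.SporFi23

open CfsgLib.InvChar.Coset Cfsg.Spor

/-- numbering of the generators -/
def idx : Fi23.Gen → ℕ
  | .a => 0 | .b => 1 | .c => 2 | .d => 3 | .e => 4 | .f => 5 | .g => 6 | .j => 7 | .h => 8 | .i => 9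

/-- the generators by number -/
def ofN : ℕ → Fi23.Gen
  | 0 => .a | 1 => .b | 2 => .c | 3 => .d | 4 => .e | 5 => .f | 6 => .g | 7 => .j | 8 => .h | _ => .i

theorem pres : IsPres Fi23.edges Fi23.extra 10 idx ofN F23.rels where
  left a := by cases a <;> decide
  check := by decide +kernel

/-- The generators. -/
noncomputable abbrev gen : ℕ → Fi23 := pres.gen

theorem gen_mul_self (x : ℕ) : gen x * gen x = 1 := pres.gen_mul_self x

theorem closure_gen : Subgroup.closure (gen '' Set.Iio 10) = ⊤ := pres.closure_gen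

/-- The permutations of the 31671 points. -/
noncomputable def perm (x : ℕ) : Equiv.Perm (Fin F23.table.n) := F23.valid.toPerm F23.sq x

theorem exists_rep : ∃ φ : Fi23 →* Equiv.Perm (Fin F23.table.n), ∀ x < 10, φ (gen x) = perm x :=
  pres.exists_hom perm (fun x => F23.valid.toPerm_mul_self F23.sq x) fun r hr =>
    F23.valid.wprod_eq_one F23.sq hr
      ((by decide +kernel : ∀ r ∈ F23.rels, ∀ x ∈ r, x < 10) r hr)

/-- The action on 31671 points. -/
noncomputable def rep : Fi23 →* Equiv.Perm (Fin F23.table.n) := Classical.choose exists_rep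

theorem rep_gen : ∀ x < 10, rep (gen x) = perm x := Classical.choose_spec exists_rep

/-- The subgroup of index 31671. -/
noncomputable def H : Subgroup Fi23 := wordsClosure gen F23.subs

theorem H_fix : ∀ h ∈ H, rep h ⟨0, F23.covered.hn⟩ = ⟨0, F23.covered.hn⟩ := by
  intro h hh
  suffices H ≤ (MulAction.stabilizer (Equiv.Perm (Fin F23.table.n))
      (⟨0, F23.covered.hn⟩ : Fin F23.table.n)).comap rep from this hh
  rw [H, wordsClosure, Subgroup.closure_le]
  rintro _ ⟨L, hL, rfl⟩
  have hlt := (by decide +kernel : ∀ L ∈ F23.subs, ∀ x ∈ L, x < 10) L hL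
  show rep (wprod gen L) ⟨0, F23.covered.hn⟩ = _
  rw [map_wprod rep gen perm L fun x hx => rep_gen x (hlt x hx)]
  exact F23.valid.wprod_fix F23.sq hlt _
    ((by decide +kernel : ∀ L ∈ F23.subs, F23.table.follow L 0 = 0) L hL)

theorem index_H : H.index = 31671 ∧ ∃ e : Fin F23.table.n ≃ Fi23 ⧸ H,
    e ⟨0, F23.covered.hn⟩ = ((1 : Fi23) : Fi23 ⧸ H) ∧
    ∀ (g : Fi23) (i : Fin F23.table.n), g • e i = e (rep g i) :=
  F23.covered.exact F23.valid F23.sq F23.orb_ok F23.orb_root (by decide) (by decide) gen H gen_mul_self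
    (fun r hr => pres.gen_rel r hr) (fun r hr => mem_wordsClosure gen hr) closure_gen rep rep_gen H_fix

theorem rels_subGen (emb : List ℕ) (R : List (List ℕ))
    (h : ∀ r ∈ R, (∀ x ∈ r, x < emb.length) ∧ r.map (fun x => emb.getD x 0) ∈ F23.rels) :
    ∀ r ∈ R, wprod (subGen gen emb) r = 1 := by
  intro r hr
  obtain ⟨h1, h2⟩ := h r hr
  rw [wprod_subGen gen emb r h1]
  exact pres.gen_rel _ h2

theorem card_H_le : Finite H ∧ Nat.card H ≤ 129123503308800 := by
  have h0 := card_lettersClosure_nil gen
  have h1 := F2F.covered.chain_step gen gen_mul_self F2F.emb [] rfl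
    (rels_subGen _ _ (by decide +kernel)) (by decide) (by decide +kernel) h0.1 h0.2
  have h2 := F2E.covered.chain_step gen gen_mul_self F2E.emb F2F.emb rfl
    (rels_subGen _ _ (by decide +kernel)) (by decide) (by decide +kernel) h1.1 h1.2
  have h3 := F2D.covered.chain_step gen gen_mul_self F2D.emb F2E.emb rfl
    (rels_subGen _ _ (by decide +kernel)) (by decide) (by decide +kernel) h2.1 h2.2
  have h4 := F2C.covered.chain_step gen gen_mul_self F2C.emb F2D.emb rfl
    (rels_subGen _ _ (by decide +kernel)) (by decide) (by decide +kernel) h3.1 h3.2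
  have h5 := F2B.covered.chain_step gen gen_mul_self F2B.emb F2C.emb rfl
    (rels_subGen _ _ (by decide +kernel)) (by decide) (by decide +kernel) h4.1 h4.2
  have hle : H ≤ lettersClosure gen F2B.emb := by
    rw [H, wordsClosure, Subgroup.closure_le]
    rintro _ ⟨L, hL, rfl⟩
    exact mem_lettersClosure gen F2B.emb
      ((by decide +kernel : ∀ r ∈ F23.subs, r ∈ F2B.emb.map fun x => [x]) L hL)
  haveI := h5.1
  exact ⟨Finite.of_injective _ (Subgroup.inclusion_injective hle),
    ((Subgroup.card_le_of_le hle).trans h5.2).trans (le_of_eq rfl)⟩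

/-- The point of the smaller action, `3510` outside the orbit. -/
noncomputable def pointOf (p : Fin F23.table.n) : ℕ := field F23.beta 128 20 p

/-- `h` acts on the orbit of 3510 points as `y`. -/
def Induces (h : Fi23) (y : Fi22) : Prop :=
  ∀ p : Fin F23.table.n, ∀ hp : pointOf p < FiA.table.n,
    pointOf (rep h p) = (SporFi22.rep y ⟨pointOf p, hp⟩ : ℕ)

theorem induces_unique {h : Fi23} {y y' : Fi22} (hy : Induces h y) (hy' : Induces h y') : y = y' := by
  apply SporFi22.card_eq.2
  ext i
  obtain ⟨h1, h2⟩ := F23.repPt_ok i i.2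
  let p : Fin F23.table.n := ⟨_, h1⟩
  have hp : pointOf p = i := h2
  have hlt : pointOf p < FiA.table.n := hp ▸ i.2
  have e := (hy p hlt).symm.trans (hy' p hlt)
  have hi : (⟨pointOf p, hlt⟩ : Fin FiA.table.n) = i := Fin.ext hp
  rwa [hi] at e

theorem induces_of_rep_eq_one {h : Fi23} (hh : rep h = 1) : Induces h 1 := fun p hp => by
  rw [hh, map_one]; rfl

theorem induces_one : Induces 1 1 := induces_of_rep_eq_one (map_one rep)

theorem induces_mul {a b : Fi23} {y y' : Fi22} (ha : Induces a y) (hb : Induces b y') :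
    Induces (a * b) (y * y') := by
  intro p hp
  have h1 := hb p hp
  have hlt : pointOf (rep b p) < FiA.table.n := h1 ▸ (SporFi22.rep y' ⟨pointOf p, hp⟩).2
  rw [map_mul, Equiv.Perm.mul_apply, ha _ hlt, map_mul, Equiv.Perm.mul_apply]
  exact congrArg (fun i => (SporFi22.rep y i : ℕ)) (Fin.ext h1)

/-- The letters of the double cover. -/
def emb : List ℕ := [0, 1, 2, 3, 4, 5, 6, 8, 9]

theorem emb_lt : ∀ x < 9, emb.getD x 0 < 10 := by decide

theorem induces_gen {x : ℕ} (hx : x < 9) : Induces (gen (emb.getD x 0)) (SporFi22.gen x) := by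
  intro p hp
  rw [rep_gen _ (emb_lt x hx), SporFi22.rep_gen x hx, SporFi22.perm]
  show field F23.beta 128 20 _ = _
  rw [perm, F23.valid.toPerm_apply F23.sq (emb_lt x hx), FiA.valid.toPerm_apply FiA.sq hx]
  exact F23.beta_step x hx p p.2 hp

theorem induces_wprod : ∀ L : List ℕ, (∀ x ∈ L, x < 9) →
    Induces (wprod gen (L.map fun x => emb.getD x 0)) (wprod SporFi22.gen L) := by
  intro L
  induction L with
  | nil => exact fun _ => induces_one
  | cons a L ih =>
    intro hL
    obtain ⟨ha, hL⟩ := List.forall_mem_cons.1 hL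
    simpa [wprod] using induces_mul (induces_gen ha) (ih hL)

theorem gen_mem {x : ℕ} (hx : x < 9) : gen (emb.getD x 0) ∈ H := by
  have := mem_wordsClosure gen (W := F23.subs)
    ((by decide +kernel : ∀ x < 9, [emb.getD x 0] ∈ F23.subs) x hx)
  rw [← show wprod gen [emb.getD x 0] = gen (emb.getD x 0) by simp [wprod]]
  exact this

theorem exists_induces : ∀ h ∈ H, ∃ y, Induces h y := by
  have inv_case : ∀ h y, Induces h y → Induces h⁻¹ y⁻¹ := by
    intro h y hy p hp
    have key : ∀ q : Fin F23.table.n, pointOf (rep h q) < FiA.table.n → pointOf q < FiA.table.n := by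
      let O : Set (Fin F23.table.n) := {q | pointOf q < FiA.table.n}
      have hsub : rep h '' O ⊆ O := by
        rintro _ ⟨q, hq, rfl⟩
        show pointOf (rep h q) < FiA.table.n
        rw [hy q hq]; exact (SporFi22.rep y _).2
      have heq : rep h '' O = O :=
        Set.eq_of_subset_of_ncard_le hsub
          (by rw [Set.ncard_image_of_injective _ (rep h).injective]) (Set.toFinite _)
      intro q hq
      have : rep h q ∈ rep h '' O := heq.symm ▸ hq
      exact (rep h).injective.mem_set_image.1 this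
    have e : rep h (rep h⁻¹ p) = p := by
      rw [← Equiv.Perm.mul_apply, ← map_mul, mul_inv_cancel, map_one, Equiv.Perm.one_apply]
    have hq : pointOf (rep h⁻¹ p) < FiA.table.n := key _ (by rw [e]; exact hp)
    have h1 := hy _ hq
    rw [e] at h1
    have h2 : (⟨pointOf p, hp⟩ : Fin FiA.table.n) = SporFi22.rep y ⟨pointOf (rep h⁻¹ p), hq⟩ := Fin.ext h1
    rw [h2, ← Equiv.Perm.mul_apply, ← map_mul, inv_mul_cancel, map_one, Equiv.Perm.one_apply]
  intro h hh
  rw [H, wordsClosure] at hh
  induction hh using Subgroup.closure_induction with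
  | mem a ha =>
    obtain ⟨L, hL, rfl⟩ := ha
    obtain ⟨x, hx, rfl⟩ := (by decide +kernel : ∀ L ∈ F23.subs, ∃ x < 9, L = [emb.getD x 0]) L hL
    exact ⟨_, by simpa [wprod] using induces_gen hx⟩
  | one => exact ⟨1, induces_one⟩
  | mul a b _ _ ha hb =>
    obtain ⟨y, hy⟩ := ha
    obtain ⟨y', hy'⟩ := hb
    exact ⟨y * y', induces_mul hy hy'⟩
  | inv a _ ha =>
    obtain ⟨y, hy⟩ := ha
    exact ⟨y⁻¹, inv_case a y hy⟩

/-- The map of the double cover onto Fi22. -/
noncomputable def toFi22 : ↥H →* Fi22 :=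
  MonoidHom.mk' (fun h => Classical.choose (exists_induces h h.2)) fun a b =>
    induces_unique (Classical.choose_spec (exists_induces _ (a * b).2))
      (induces_mul (Classical.choose_spec (exists_induces a a.2)) (Classical.choose_spec (exists_induces b b.2)))

theorem toFi22_eq {h : Fi23} (hh : h ∈ H) {y : Fi22} (hy : Induces h y) : toFi22 ⟨h, hh⟩ = y :=
  induces_unique (Classical.choose_spec (exists_induces h hh)) hy

theorem toFi22_surjective : Function.Surjective toFi22 := by
  rw [← MonoidHom.range_eq_top, eq_top_iff, ← SporFi22.closure_gen, Subgroup.closure_le]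
  rintro _ ⟨x, hx, rfl⟩
  exact ⟨⟨_, gen_mem hx⟩, toFi22_eq _ (induces_gen hx)⟩

/-- A word in the letters of the smaller group for the central involution. -/
def zWord : List ℕ := (List.replicate 9 [1, 2, 3, 4, 5, 6, 7]).flatten

/-- The central involution. -/
noncomputable def z : Fi23 := wprod gen (zWord.map fun x => emb.getD x 0)

theorem z_mem : z ∈ H := by
  rw [z]
  have : ∀ L : List ℕ, (∀ x ∈ L, x < 9) → wprod gen (L.map fun x => emb.getD x 0) ∈ H := by
    intro L
    induction L with
    | nil => intro _; simpa [wprod] using one_mem H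
    | cons a L ih =>
      intro hL
      obtain ⟨ha, hL⟩ := List.forall_mem_cons.1 hL
      simpa [wprod] using mul_mem (gen_mem ha) (ih hL)
  exact this _ (by decide +kernel)

theorem toFi22_z : toFi22 ⟨z, z_mem⟩ = 1 :=
  toFi22_eq _ (by
    have h := induces_wprod zWord (by decide +kernel)
    rwa [SporFi22.pres.gen_rel zWord (by decide +kernel)] at h)

theorem rep_z_ne : rep z ≠ 1 := by
  intro h
  have hlt : ∀ x ∈ zWord.map (fun x => emb.getD x 0), x < 10 := by decide +kernel
  rw [z, map_wprod rep gen perm _ fun x hx => rep_gen x (hlt x hx), ← inv_eq_one] at h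
  have h1 := congrArg (fun σ : Equiv.Perm (Fin F23.table.n) => (σ ⟨1, by decide +kernel⟩ : ℕ)) h
  simp only [Equiv.Perm.one_apply] at h1
  change (((wprod (F23.valid.toPerm F23.sq) (zWord.map fun x => emb.getD x 0))⁻¹
    ⟨1, _⟩ : Fin F23.table.n) : ℕ) = 1 at h1
  rw [← F23.valid.follow_eq F23.sq _ hlt] at h1
  exact absurd h1 (by decide +kernel)

theorem z_ne_one : z ≠ 1 := fun h => rep_z_ne (by rw [h, map_one])

theorem card_H_ker : Nat.card H = 129123503308800 ∧ Nat.card toFi22.ker = 2 := by
  haveI := card_H_le.1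
  haveI : Finite Fi22 := SporFi22.card_le.1
  have h := toFi22.ker.card_mul_index
  rw [Subgroup.index_ker, MonoidHom.range_eq_top.2 toFi22_surjective, Subgroup.card_top,
    SporFi22.card_eq.1] at h
  have h2 : 1 < Nat.card toFi22.ker := by
    rw [Finite.one_lt_card_iff_nontrivial]
    exact ⟨⟨⟨⟨z, z_mem⟩, toFi22_z⟩, 1, fun e => z_ne_one (congrArg (fun t : toFi22.ker => ((t : H) : Fi23)) e)⟩⟩
  have h3 := card_H_le.2
  constructor <;> nlinarith

theorem eq_of_mem_ker {h : H} (hh : toFi22 h = 1) (hne : h ≠ 1) : h = ⟨z, z_mem⟩ := by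
  obtain ⟨t, -, hu⟩ := (Nat.card_eq_two_iff' (1 : toFi22.ker)).1 card_H_ker.2
  have h1 := hu ⟨h, hh⟩ fun e => hne (congrArg Subtype.val e)
  have h2 := hu ⟨⟨z, z_mem⟩, toFi22_z⟩ fun e =>
    z_ne_one (congrArg (fun t : toFi22.ker => ((t : H) : Fi23)) e)
  exact congrArg Subtype.val (h1.trans h2.symm)

/-- The order of the presented Fischer group, and faithfulness of the action on 31671 points. -/
theorem card_eq : Nat.card Fi23 = 4089470473293004800 ∧ Function.Injective rep := by
  haveI := card_H_le.1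
  have hc := H.card_mul_index
  rw [index_H.1, card_H_ker.1] at hc
  refine ⟨hc.symm, (injective_iff_map_eq_one rep).2 fun g hg => ?_⟩
  obtain ⟨-, e, he0, he⟩ := index_H
  have hmem : g ∈ H := by
    have := he g ⟨0, F23.covered.hn⟩
    rw [hg, Equiv.Perm.one_apply, he0] at this
    have h2 : (g : Fi23 ⧸ H) = ((1 : Fi23) : Fi23 ⧸ H) := by
      rw [← this]; show _ = ((g * 1 : Fi23) : Fi23 ⧸ H); rw [mul_one]
    simpa using inv_mem (QuotientGroup.eq.1 h2)
  by_contra hne
  have := eq_of_mem_ker (h := ⟨g, hmem⟩) (toFi22_eq hmem (induces_of_rep_eq_one hg))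
    fun e => hne (congrArg Subtype.val e)
  have hgz : g = z := congrArg Subtype.val this
  rw [hgz] at hg
  exact rep_z_ne hg

theorem finite : Finite Fi23 :=
  Nat.finite_of_card_ne_zero (by rw [card_eq.1]; norm_num)

end CfsgLib.InvChar.SporFi23
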