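import Cfsg.Prelude.Def_SporadicB
import Cfsg.Agent.Lib.InvChar.SporFi22Simple
import Cfsg.Agent.Lib.InvChar.SporFi23

/-!
# The subgroup of index 31671 of the presented Fi23 is a non-split double cover of Fi22
-/

set_option autoImplicit false
set_option maxRecDepth 100000

namespace CfsgLib.InvChar.SporFi23

open CfsgLib.InvChar.Coset Cfsg.Spor

theorem center_Fi22 : Subgroup.center Fi22 = ⊥ := by
  haveI : Finite Fi22 := SporFi22.card_le.1
  haveI := SporFi22.isSimpleGroup
  refine (Subgroup.Normal.eq_bot_or_eq_top (inferInstance : (Subgroup.center Fi22).Normal)).resolve_right fun h => ?_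
  letI : CommGroup Fi22 := { mul_comm := fun a b => (Subgroup.mem_center_iff.1 (h ▸ Subgroup.mem_top a) b).symm }
  have hp : (Nat.card Fi22).Prime := IsSimpleGroup.prime_card
  rw [SporFi22.card_eq.1] at hp
  exact absurd hp (Nat.not_prime_of_dvd_of_lt (m := 2) (by norm_num) (by norm_num) (by norm_num))

theorem center_H : Subgroup.center ↥H = toFi22.ker := by
  haveI := card_H_le.1
  refine le_antisymm (fun h hh => ?_) (fun h hh => Subgroup.mem_center_iff.2 fun g => ?_)
  · have : toFi22 h ∈ Subgroup.center Fi22 := by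
      refine Subgroup.mem_center_iff.2 fun y => ?_
      obtain ⟨g, rfl⟩ := toFi22_surjective y
      rw [← map_mul, ← map_mul, Subgroup.mem_center_iff.1 hh g]
    rw [center_Fi22, Subgroup.mem_bot] at this
    exact MonoidHom.mem_ker.2 this
  · have hk : toFi22 h = 1 := MonoidHom.mem_ker.1 hh
    rcases eq_or_ne h 1 with rfl | hne
    · simp
    have hz := eq_of_mem_ker hk hne
    have hc : toFi22 (g * h * g⁻¹) = 1 := by rw [map_mul, map_mul, hk, mul_one, map_inv, mul_inv_cancel]
    have hne' : g * h * g⁻¹ ≠ 1 := fun e => hne (by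
      have := congrArg (fun t => g⁻¹ * t * g) e
      simpa [mul_assoc] using this)
    have := (eq_of_mem_ker hc hne').trans hz.symm
    conv_rhs => rw [← this]
    group

/-- The generators, in the subgroup. -/
noncomputable def hgen (x : ℕ) : ↥H :=
  if hx : x < 9 then ⟨gen (emb.getD x 0), gen_mem hx⟩ else 1

theorem hgen_mul_self (x : ℕ) : hgen x * hgen x = 1 := by
  unfold hgen
  split
  · exact Subtype.ext (gen_mul_self _)
  · exact one_mul 1

theorem coe_wprod : ∀ L : List ℕ, (∀ x ∈ L, x < 9) →
    ((wprod hgen L : ↥H) : Fi23) = wprod gen (L.map fun x => emb.getD x 0) := by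
  intro L
  induction L with
  | nil => intro _; simp [wprod]
  | cons a L ih =>
    intro hL
    obtain ⟨ha, hL⟩ := List.forall_mem_cons.1 hL
    have h := ih hL
    simp only [wprod, List.map_cons, List.prod_cons, Subgroup.coe_mul] at h ⊢
    rw [h, hgen, dif_pos ha]

theorem hgen_rel : ∀ r ∈ F2B.rels, wprod hgen r = 1 := by
  intro r hr
  refine Subtype.ext ((coe_wprod r ((by decide +kernel : ∀ r ∈ F2B.rels, ∀ x ∈ r, x < 9) r hr)).trans ?_)
  exact pres.gen_rel _ ((by decide +kernel : ∀ r ∈ F2B.rels, r.map (fun x => emb.getD x 0) ∈ F23.rels) r hr)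

theorem closure_hgen : Subgroup.closure (hgen '' Set.Iio 9) = ⊤ := by
  apply Subgroup.map_injective (f := H.subtype) H.subtype_injective
  rw [MonoidHom.map_closure, ← MonoidHom.range_eq_map, Subgroup.range_subtype]
  conv_rhs => rw [H, wordsClosure]
  refine congrArg Subgroup.closure ?_
  rw [Set.image_image]
  ext y
  constructor
  · rintro ⟨x, hx, rfl⟩
    refine ⟨[emb.getD x 0], (by decide +kernel : ∀ x < 9, [emb.getD x 0] ∈ F23.subs) x hx, ?_⟩
    simp [hgen, dif_pos (show x < 9 from hx), wprod]
  · rintro ⟨L, hL, rfl⟩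
    obtain ⟨x, hx, rfl⟩ := (by decide +kernel : ∀ L ∈ F23.subs, ∃ x < 9, L = [emb.getD x 0]) L hL
    exact ⟨x, hx, by simp [hgen, dif_pos hx, wprod]⟩

theorem parity_word (L : Subgroup ↥H) (hL : L.index = 2) (hout : ∀ x < 9, hgen x ∉ L) :
    ∀ r : List ℕ, (∀ x ∈ r, x < 9) → (wprod hgen r ∈ L ↔ r.length % 2 = 0) := by
  intro r
  induction r with
  | nil => intro _; simp [wprod, one_mem L]
  | cons a r ih =>
    intro hr
    obtain ⟨ha, hr⟩ := List.forall_mem_cons.1 hr
    have e : wprod hgen (a :: r) = hgen a * wprod hgen r := by simp [wprod]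
    rw [e, Subgroup.mul_mem_iff_of_index_two hL, ih hr, List.length_cons]
    simp only [hout a ha, false_iff]
    omega

/-- **The double cover does not split.** -/
theorem isNonsplitDoubleCover : Cfsg.IsNonsplitDoubleCover ↥H Fi22 := by
  haveI := card_H_le.1
  refine ⟨by rw [center_H]; exact card_H_ker.2,
    ⟨(QuotientGroup.quotientMulEquivOfEq center_H).trans
      (QuotientGroup.quotientKerEquivOfSurjective toFi22 toFi22_surjective)⟩, fun L hc => ?_⟩
  have hidx : L.index = 2 := by
    rw [hc.index_eq_card, center_H]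
    exact card_H_ker.2
  haveI : L.Normal := Subgroup.normal_of_index_eq_two hidx
  have hall : (∀ x < 9, hgen x ∉ L) ∨ L = ⊤ := by
    by_cases h : ∃ x < 9, hgen x ∈ L
    · obtain ⟨x, hx, hxL⟩ := h
      right
      refine top_le_iff.1 ?_
      rw [← closure_hgen, Subgroup.closure_le]
      rintro _ ⟨y, hy, rfl⟩
      refine mem_of_spread L hgen hgen_mul_self F2B.rels hgen_rel 9 9 [x] ?_ y
        ((by decide +kernel : ∀ x < 9, ∀ y < 9, y ∈ spread F2B.rels 9 9 [x]) x hx y hy)
      intro w hw
      rw [List.mem_singleton] at hw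
      exact hw ▸ hxL
    · left
      exact fun x hx hxL => h ⟨x, hx, hxL⟩
  rcases hall with hout | htop
  · obtain ⟨r, hr, hodd⟩ := (by decide +kernel : ∃ r ∈ F2B.rels, r.length % 2 = 1)
    have := (parity_word L hidx hout r ((by decide +kernel : ∀ r ∈ F2B.rels, ∀ x ∈ r, x < 9) r hr)).1
      (hgen_rel r hr ▸ one_mem L)
    omega
  · rw [htop, Subgroup.index_top] at hidx
    norm_num at hidx

end CfsgLib.InvChar.SporFi23
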