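import Cfsg.Agent.Lib.InvChar.SporFi23Simple
import Cfsg.Agent.Lib.InvChar.SporFi23Cover
import Cfsg.Agent.Lib.InvChar.DoubleCoverUtil

/-!
# The transpositions of the presented Fischer group on 31671 points
-/

set_option autoImplicit false
set_option maxRecDepth 100000

namespace CfsgLib.InvChar.SporFi23

open CfsgLib.InvChar.Coset Cfsg.Spor

/-- A word carrying the point of the second generator to the base point. -/
def tw : List ℕ :=
  [7, 6, 5, 4, 3, 2, 1, 8, 3, 2, 4, 3, 5, 4, 6, 5, 7, 6, 8, 3, 2, 4, 3, 5, 4, 8, 3, 2]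

/-- Its value. -/
noncomputable def W : Fi23 := wprod gen tw

/-- The transposition of the base point. -/
noncomputable def t : Fi23 := W * gen 1 * W⁻¹

/-- The word of the transposition. -/
def tWord : List ℕ := tw ++ [1] ++ tw.reverse

theorem t_eq : t = wprod gen tWord := by
  rw [t, tWord, wprod_append, wprod_append, wprod_reverse gen gen_mul_self, W]
  simp [wprod]

theorem inv_gen (x : ℕ) : (gen x : Fi23)⁻¹ = gen x := inv_eq_of_mul_eq_one_right (gen_mul_self x)

theorem t_inv : t⁻¹ = t := by rw [t]; simp [inv_gen, mul_assoc]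

theorem tWord_lt : ∀ x ∈ tWord, x < 10 := by decide +kernel

theorem rep_inv_wprod (L : List ℕ) (hL : ∀ y ∈ L, y < 10) (p : Fin F23.table.n) :
    (rep (wprod gen L)⁻¹ p : ℕ) = F23.table.follow L p := by
  rw [map_inv, map_wprod rep gen perm _ fun y hy => rep_gen y (hL y hy)]
  exact (F23.valid.follow_eq F23.sq _ hL p).symm

theorem rep_t (p : Fin F23.table.n) : (rep t p : ℕ) = F23.table.follow tWord p := by
  rw [← rep_inv_wprod tWord tWord_lt p, ← t_eq, t_inv]

theorem gen_ne (x y : ℕ) (hx : x < 10) (hy : y < 10) (p : Fin F23.table.n)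
    (h : F23.table.follow [x] p ≠ F23.table.follow [y] p) : (gen x : Fi23) ≠ gen y := by
  intro e
  have hxL : ∀ z ∈ [x], z < 10 := by simpa using hx
  have hyL : ∀ z ∈ [y], z < 10 := by simpa using hy
  refine h ?_
  rw [← rep_inv_wprod _ hxL, ← rep_inv_wprod _ hyL]
  simp [wprod, e]

theorem t_mem : t ∈ H := by
  obtain ⟨-, e, he0, he⟩ := index_H
  have h0 : rep t ⟨0, F23.covered.hn⟩ = ⟨0, F23.covered.hn⟩ :=
    Fin.ext ((rep_t _).trans (by decide +kernel))
  have := he t ⟨0, F23.covered.hn⟩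
  rw [h0, he0] at this
  have h2 : (t * 1)⁻¹ * 1 ∈ H := QuotientGroup.eq.1 this
  simpa using h2

/-- The test that the transposition fixes the smaller orbit. -/
noncomputable def fixChk (o : ℕ) : Bool :=
  DoubleCoverUtil.below (fun i => force (field F23.beta 128 20 (o + i)) fun b =>
    Nat.ble 3510 b || Nat.beq (field F23.beta 128 20 (F23.table.follow tWord (o + i))) b) 4000

theorem fix0 : fixChk 0 = true := by decide +kernel
theorem fix1 : fixChk 4000 = true := by decide +kernel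
theorem fix2 : fixChk 8000 = true := by decide +kernel
theorem fix3 : fixChk 12000 = true := by decide +kernel
theorem fix4 : fixChk 16000 = true := by decide +kernel
theorem fix5 : fixChk 20000 = true := by decide +kernel
theorem fix6 : fixChk 24000 = true := by decide +kernel
theorem fix7 : fixChk 27671 = true := by decide +kernel

theorem t_induces : Induces t 1 := by
  intro p hp
  rw [map_one, Equiv.Perm.one_apply]
  have h31 : (p : ℕ) < 31671 := p.2
  obtain ⟨o, d, hd, hpd, hchk⟩ : ∃ o d : ℕ, d < 4000 ∧ o + d = (p : ℕ) ∧ fixChk o = true := by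
    rcases Nat.lt_or_ge (p : ℕ) 4000 with h | h
    · exact ⟨0, p, h, by omega, fix0⟩
    rcases Nat.lt_or_ge (p : ℕ) 8000 with h | h
    · exact ⟨4000, p - 4000, by omega, by omega, fix1⟩
    rcases Nat.lt_or_ge (p : ℕ) 12000 with h | h
    · exact ⟨8000, p - 8000, by omega, by omega, fix2⟩
    rcases Nat.lt_or_ge (p : ℕ) 16000 with h | h
    · exact ⟨12000, p - 12000, by omega, by omega, fix3⟩
    rcases Nat.lt_or_ge (p : ℕ) 20000 with h | h
    · exact ⟨16000, p - 16000, by omega, by omega, fix4⟩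
    rcases Nat.lt_or_ge (p : ℕ) 24000 with h | h
    · exact ⟨20000, p - 20000, by omega, by omega, fix5⟩
    rcases Nat.lt_or_ge (p : ℕ) 28000 with h | h
    · exact ⟨24000, p - 24000, by omega, by omega, fix6⟩
    · exact ⟨27671, p - 27671, by omega, by omega, fix7⟩
  have h := DoubleCoverUtil.below_get _ hchk d hd
  simp only [force_eq, hpd, Bool.or_eq_true] at h
  have hp' : field F23.beta 128 20 p < 3510 := hp
  rcases h with h | h
  · have := Nat.le_of_ble_eq_true h; omega
  · show field F23.beta 128 20 (rep t p : ℕ) = field F23.beta 128 20 p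
    rw [rep_t]
    exact Nat.eq_of_beq_eq_true h

theorem gen_one_ne_one : (gen 1 : Fi23) ≠ 1 := by
  intro h
  have e := rep_inv_wprod [1] (by decide) ⟨6, by decide +kernel⟩
  rw [show wprod (gen : ℕ → Fi23) [1] = gen 1 by simp [wprod], h, inv_one, map_one] at e
  exact absurd e (by decide +kernel)

theorem t_ne_one : t ≠ 1 := fun h => gen_one_ne_one (by
  have := congrArg (fun g => W⁻¹ * g * W) h
  simpa [t, mul_assoc] using this)

theorem t_central : ∀ k ∈ H, k * t = t * k := by
  intro k hk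
  have hc : (⟨t, t_mem⟩ : ↥H) ∈ Subgroup.center ↥H := by
    rw [center_H, MonoidHom.mem_ker]
    exact toFi22_eq _ t_induces
  exact congrArg Subtype.val (Subgroup.mem_center_iff.1 hc ⟨k, hk⟩)

theorem rel01 : ((gen 0 : Fi23) * gen 1) ^ 3 = 1 := by
  have h := pres.gen_rel [0, 1, 0, 1, 0, 1] (by decide +kernel)
  simpa [wprod, pow_succ, mul_assoc] using h

theorem rel12 : ((gen 1 : Fi23) * gen 2) ^ 3 = 1 := by
  have h := pres.gen_rel [1, 2, 1, 2, 1, 2] (by decide +kernel)
  simpa [wprod, pow_succ, mul_assoc] using h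

theorem rel23 : ((gen 2 : Fi23) * gen 3) ^ 3 = 1 := by
  have h := pres.gen_rel [2, 3, 2, 3, 2, 3] (by decide +kernel)
  simpa [wprod, pow_succ, mul_assoc] using h

theorem rel13 : ((gen 1 : Fi23) * gen 3) ^ 2 = 1 := by
  have h := pres.gen_rel [1, 3, 1, 3] (by decide +kernel)
  simpa [wprod, pow_succ, mul_assoc] using h

/-- The three representatives: `t` and two of its conjugates. -/
theorem step_one : ((gen 0 : Fi23) * gen 1) * gen 1 * (gen 0 * gen 1)⁻¹ = gen 0 * gen 1 * gen 0 := by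
  rw [mul_inv_rev, inv_gen, inv_gen, mul_assoc (gen 0 : Fi23) (gen 1) (gen 1), gen_mul_self, mul_one, mul_assoc]

theorem step_two : ((gen 2 : Fi23) * gen 3 * gen 1 * gen 2) * gen 1 * (gen 2 * gen 3 * gen 1 * gen 2)⁻¹ =
    gen 3 := by
  have b12 := DoubleCoverUtil.braid_conj (gen_mul_self 1) (gen_mul_self 2) rel12
  have b23 := DoubleCoverUtil.braid_conj (gen_mul_self 2) (gen_mul_self 3) rel23
  simp only [mul_inv_rev, inv_gen]
  calc gen 2 * gen 3 * gen 1 * gen 2 * gen 1 * (gen 2 * (gen 1 * (gen 3 * gen 2)))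
      = gen 2 * gen 3 * (gen 1 * gen 2 * gen 1) * (gen 2 * gen 1) * (gen 3 * gen 2) := by simp [mul_assoc]
    _ = gen 2 * gen 3 * (gen 2 * (gen 1 * (gen 2 * gen 2) * gen 1)) * (gen 3 * gen 2) := by
        rw [b12]; simp [mul_assoc]
    _ = gen 2 * gen 3 * gen 2 * (gen 3 * gen 2) := by
        rw [gen_mul_self, mul_one, gen_mul_self, mul_one]
    _ = gen 3 * gen 2 * (gen 3 * gen 3) * gen 2 := by rw [b23]; simp [mul_assoc]
    _ = gen 3 := by rw [gen_mul_self, mul_one, mul_assoc, gen_mul_self, mul_one]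

/-- Every conjugate of the transposition is, up to conjugation in `H`, one of three. -/
theorem conj_cases (u : Fi23) : ∃ k ∈ H, (u ∈ H ∧ u * t * u⁻¹ = k * t * k⁻¹) ∨
    u * t * u⁻¹ = k * (W * (gen 0 * gen 1 * gen 0) * W⁻¹) * k⁻¹ ∨
    u * t * u⁻¹ = k * (W * gen 3 * W⁻¹) * k⁻¹ := by
  obtain ⟨hi, e, he0, he⟩ := index_H
  have hS : ∀ L ∈ F23.subs, ∀ x ∈ L, x < F23.table.g := by decide +kernel
  have o0 := suborbit_of_cert F23.table rfl F23.valid F23.sq gen rep rep_gen e he hS H rfl (by norm_num)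
    F23.sub0_ok ⟨1, by decide +kernel⟩ F23.sub0_root.symm
  have o1 := suborbit_of_cert F23.table rfl F23.valid F23.sq gen rep rep_gen e he hS H rfl (by norm_num)
    F23.sub1_ok ⟨52, by decide +kernel⟩ F23.sub1_root.symm
  obtain ⟨hO0, hO1, hcov⟩ : (MulAction.orbit H (e ⟨1, by decide +kernel⟩)).ncard = 28160 ∧
      (MulAction.orbit H (e ⟨52, by decide +kernel⟩)).ncard = 3510 ∧
      ∀ p : Fin F23.table.n, (p : ℕ) = 0 ∨ e p ∈ MulAction.orbit H (e ⟨1, by decide +kernel⟩) ∨
        e p ∈ MulAction.orbit H (e ⟨52, by decide +kernel⟩) := by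
    refine ⟨o0.1, o1.1, ?_⟩
    obtain ⟨q₀, q₁, h0, h1, hall, -⟩ := orbits
    intro p
    rcases hall (e p) with h | h | h
    · rw [← he0] at h; exact Or.inl (congrArg Fin.val (e.injective h))
    all_goals
      by_contra hne
      simp only [not_or] at hne
      obtain ⟨hne0, hne1, hne2⟩ := hne
      rcases hall (e ⟨1, by decide +kernel⟩) with g | g | g <;>
        rcases hall (e ⟨52, by decide +kernel⟩) with g' | g' | g' <;>
        first
          | (rw [← he0] at g; exact absurd (congrArg Fin.val (e.injective g)) (by norm_num))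
          | (rw [← he0] at g'; exact absurd (congrArg Fin.val (e.injective g')) (by norm_num))
          | (refine hne1 ?_; rw [MulAction.orbit_eq_iff.2 g]; exact h)
          | (refine hne2 ?_; rw [MulAction.orbit_eq_iff.2 g']; exact h)
          | (have h5 := o0.1; have h6 := o1.1
             rw [MulAction.orbit_eq_iff.2 g] at h5; rw [MulAction.orbit_eq_iff.2 g'] at h6
             omega)
  have orb : ∀ r : Fi23, (u : Fi23 ⧸ H) ∈ MulAction.orbit H (r : Fi23 ⧸ H) →
      ∃ k ∈ H, u * t * u⁻¹ = k * (r * t * r⁻¹) * k⁻¹ := by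
    rintro r ⟨⟨k, hk⟩, hkr⟩
    have h1 : (k * r)⁻¹ * u ∈ H := QuotientGroup.eq.1 hkr
    refine ⟨k, hk, ?_⟩
    have hc := t_central _ h1
    calc u * t * u⁻¹ = (k * r) * (((k * r)⁻¹ * u) * t) * u⁻¹ := by simp [mul_assoc]
      _ = k * (r * t * r⁻¹) * k⁻¹ := by rw [hc]; simp [mul_assoc]
  -- a representative of each orbit
  have hrep : ∀ (L : List ℕ) (p : Fin F23.table.n), (∀ y ∈ L, y < 10) →
      F23.table.follow (tw ++ L ++ tw.reverse) 0 = (p : ℕ) →
      e p = ((W * (wprod gen L)⁻¹ * W⁻¹ : Fi23) : Fi23 ⧸ H) := by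
    intro L p hL h
    have hlt : ∀ y ∈ tw ++ L ++ tw.reverse, y < 10 := by
      intro y hy
      simp only [List.mem_append, List.mem_reverse] at hy
      rcases hy with (hy | hy) | hy
      · exact (by decide +kernel : ∀ y ∈ tw, y < 10) y hy
      · exact hL y hy
      · exact (by decide +kernel : ∀ y ∈ tw, y < 10) y hy
    have hp : rep (wprod gen (tw ++ L ++ tw.reverse))⁻¹ ⟨0, F23.covered.hn⟩ = p :=
      Fin.ext ((rep_inv_wprod _ hlt _).trans h)
    have hv : (wprod gen (tw ++ L ++ tw.reverse))⁻¹ = W * (wprod gen L)⁻¹ * W⁻¹ := by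
      rw [wprod_append, wprod_append, wprod_reverse gen gen_mul_self, W]; simp [mul_assoc]
    rw [← hp, ← he, he0, hv]
    show ((((W * (wprod gen L)⁻¹ * W⁻¹) * 1 : Fi23)) : Fi23 ⧸ H) = _
    rw [mul_one]
  have m0 : e ⟨11, by decide +kernel⟩ ∈ MulAction.orbit H (e ⟨1, by decide +kernel⟩) :=
    (o0.2 _).2 ⟨field F23.sub0Pos 128 20 11 - 1, by decide +kernel, by decide +kernel⟩
  have m1 : e ⟨8002, by decide +kernel⟩ ∈ MulAction.orbit H (e ⟨52, by decide +kernel⟩) :=
    (o1.2 _).2 ⟨field F23.sub1Pos 128 20 8002 - 1, by decide +kernel, by decide +kernel⟩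
  have conjW : ∀ r a : Fi23, (W * r * W⁻¹) * (W * a * W⁻¹) * (W * r * W⁻¹)⁻¹ = W * (r * a * r⁻¹) * W⁻¹ :=
    fun r a => by simp [mul_assoc]
  obtain ⟨i, hiu⟩ := e.surjective (u : Fi23 ⧸ H)
  rcases hcov i with h | h | h
  · have hu : u ∈ H := by
      rw [show i = (⟨0, F23.covered.hn⟩ : Fin F23.table.n) from Fin.ext h, he0] at hiu
      simpa using QuotientGroup.eq.1 hiu
    exact ⟨u, hu, Or.inl ⟨hu, rfl⟩⟩
  · rw [← MulAction.orbit_eq_iff.2 m0, hiu, hrep [1, 0] _ (by decide) (by decide +kernel)] at h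
    obtain ⟨k, hk, hku⟩ := orb _ h
    refine ⟨k, hk, Or.inr (Or.inl ?_)⟩
    rw [hku, show (wprod (gen : ℕ → Fi23) [1, 0])⁻¹ = gen 0 * gen 1 by simp [wprod, inv_gen], t, conjW, step_one]
  · rw [← MulAction.orbit_eq_iff.2 m1, hiu, hrep [2, 1, 3, 2] _ (by decide) (by decide +kernel)] at h
    obtain ⟨k, hk, hku⟩ := orb _ h
    refine ⟨k, hk, Or.inr (Or.inr ?_)⟩
    rw [hku, show (wprod (gen : ℕ → Fi23) [2, 1, 3, 2])⁻¹ = gen 2 * gen 3 * gen 1 * gen 2 by
      simp [wprod, inv_gen, mul_assoc], t, conjW, step_two]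

/-- The centraliser of the transposition is `H`. -/
theorem centralizer_t : Subgroup.centralizer ({t} : Set Fi23) = H := by
  refine le_antisymm (fun u hu => ?_) fun k hk =>
    Subgroup.mem_centralizer_singleton_iff.2 (t_central k hk)
  rw [Subgroup.mem_centralizer_singleton_iff] at hu
  have hz : u * t * u⁻¹ = t := by rw [hu, mul_inv_cancel_right]
  obtain ⟨k, hk, h⟩ := conj_cases u
  rw [hz] at h
  have hk' : ∀ y : Fi23, t = k * y * k⁻¹ → t = y := by
    intro y hy
    have h1 := t_central k hk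
    have h2 : y = k⁻¹ * t * k := by rw [hy]; simp [mul_assoc]
    rw [h2, mul_assoc, ← h1, inv_mul_cancel_left]
  rcases h with h | h | h
  · exact h.1
  · exfalso
    have e1 : (gen 1 : Fi23) = gen 0 * gen 1 * gen 0 := mul_left_cancel (mul_right_cancel (hk' _ h))
    have h2 : ((gen 0 : Fi23) * gen 1) * (gen 0 * gen 1) = 1 := by
      rw [show (gen 0 : Fi23) * gen 1 * (gen 0 * gen 1) = gen 0 * gen 1 * gen 0 * gen 1 by simp [mul_assoc],
        ← e1, gen_mul_self]
    have h3 := rel01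
    rw [pow_succ, pow_two, h2, one_mul] at h3
    exact gen_ne 1 0 (by norm_num) (by norm_num) ⟨6, by decide +kernel⟩ (by decide +kernel)
      ((inv_eq_of_mul_eq_one_right h3).symm.trans (inv_gen 0))
  · exact absurd (mul_left_cancel (mul_right_cancel (hk' _ h)))
      (gen_ne 1 3 (by norm_num) (by norm_num) ⟨4, by decide +kernel⟩ (by decide +kernel))

theorem conj_three (u : Fi23) : (t * (u * t * u⁻¹)) ^ 2 = 1 ∨ (t * (u * t * u⁻¹)) ^ 3 = 1 := by
  obtain ⟨k, hk, h⟩ := conj_cases u
  have move : ∀ (y : Fi23) (n : ℕ), (t * y) ^ n = 1 → (t * (k * y * k⁻¹)) ^ n = 1 := by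
    intro y n hy
    have : t * (k * y * k⁻¹) = k * (t * y) * k⁻¹ := by
      rw [← mul_assoc k, t_central k hk]; simp [mul_assoc]
    rw [this, conj_pow, hy, mul_one, mul_inv_cancel]
  have inW : ∀ (a b : Fi23) (n : ℕ), (a * b) ^ n = 1 → (W * a * W⁻¹ * (W * b * W⁻¹)) ^ n = 1 := by
    intro a b n hab
    rw [show W * a * W⁻¹ * (W * b * W⁻¹) = W * (a * b) * W⁻¹ by simp [mul_assoc], conj_pow, hab,
      mul_one, mul_inv_cancel]
  rcases h with h | h | h
  · refine Or.inl (h.2 ▸ move _ 2 ?_)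
    rw [t]; exact inW _ _ 2 (by rw [gen_mul_self, one_pow])
  · refine Or.inr (h ▸ move _ 3 ?_)
    rw [t]; refine inW _ _ 3 ?_
    have hb : ((gen 1 : Fi23) * gen 0) ^ 3 = 1 := by
      rw [show (gen 1 : Fi23) * gen 0 = (gen 0 * gen 1)⁻¹ by simp [inv_gen], inv_pow, rel01, inv_one]
    rw [show (gen 1 : Fi23) * (gen 0 * gen 1 * gen 0) = (gen 1 * gen 0) ^ 2 by simp [pow_two, mul_assoc],
      ← pow_mul, mul_comm, pow_mul, hb, one_pow]
  · refine Or.inl (h ▸ move _ 2 ?_)
    rw [t]; exact inW _ _ 2 rel13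

theorem orderOf_t : orderOf t = 2 :=
  orderOf_eq_prime (by rw [pow_two]; exact mul_eq_one_iff_inv_eq.2 t_inv) t_ne_one

theorem isThreeTranspositionClass : Cfsg.IsThreeTranspositionClass (conjugatesOf t) := by
  have hconj : ∀ d ∈ conjugatesOf t, ∃ g : Fi23, g * t * g⁻¹ = d := fun d hd => isConj_iff.1 hd
  refine ⟨⟨fun d hd => ?_, fun d hd f hf => ?_⟩, ⟨t, mem_conjugatesOf_self, rfl⟩, ?_⟩
  · obtain ⟨g, rfl⟩ := hconj d hd
    rw [show g * t * g⁻¹ = MulAut.conj g t from rfl, MulEquiv.orderOf_eq, orderOf_t]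
  · obtain ⟨g, rfl⟩ := hconj d hd
    obtain ⟨l, rfl⟩ := hconj f hf
    have e : g * t * g⁻¹ * (l * t * l⁻¹) = g * (t * ((g⁻¹ * l) * t * (g⁻¹ * l)⁻¹)) * g⁻¹ := by
      simp [mul_assoc]
    rw [e, conj_pow, conj_pow]
    rcases conj_three (g⁻¹ * l) with h | h
    · exact Or.inl (by rw [h, mul_one, mul_inv_cancel])
    · exact Or.inr (by rw [h, mul_one, mul_inv_cancel])
  · haveI := isSimpleGroup
    have hn : (Subgroup.closure (conjugatesOf t)) = Subgroup.normalClosure {t} := by
      rw [Subgroup.normalClosure, Group.conjugatesOfSet]; simp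
    rw [hn]
    refine ((Subgroup.normalClosure_normal).eq_bot_or_eq_top).resolve_left fun hb => ?_
    have h : t ∈ Subgroup.normalClosure ({t} : Set Fi23) := Subgroup.subset_normalClosure rfl
    rw [hb, Subgroup.mem_bot] at h
    exact t_ne_one h

theorem card_transpositions : Nat.card (conjugatesOf t) = 31671 := by
  let F : Fi23 ⧸ H → conjugatesOf t := fun q => Quotient.liftOn' q
    (fun g => ⟨g * t * g⁻¹, isConj_iff.2 ⟨g, rfl⟩⟩) (fun a b hab => Subtype.ext <| by
      have h := t_central _ (QuotientGroup.leftRel_apply.1 hab)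
      show a * t * a⁻¹ = b * t * b⁻¹
      calc a * t * a⁻¹ = a * (t * (a⁻¹ * b)) * b⁻¹ := by simp [mul_assoc]
        _ = b * t * b⁻¹ := by rw [← h]; simp [mul_assoc])
  have hF : Function.Bijective F := by
    constructor
    · intro p q
      induction p using QuotientGroup.induction_on with
      | _ a =>
        induction q using QuotientGroup.induction_on with
        | _ b =>
          intro h
          have h' : a * t * a⁻¹ = b * t * b⁻¹ := congrArg Subtype.val h
          refine QuotientGroup.eq.2 ?_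
          rw [← centralizer_t, Subgroup.mem_centralizer_singleton_iff]
          calc a⁻¹ * b * t = a⁻¹ * (b * t * b⁻¹) * b := by simp [mul_assoc]
            _ = t * (a⁻¹ * b) := by rw [← h']; simp [mul_assoc]
    · rintro ⟨d, hd⟩
      obtain ⟨g, rfl⟩ := isConj_iff.1 hd
      exact ⟨(g : Fi23 ⧸ H), rfl⟩
  rw [← Nat.card_congr (Equiv.ofBijective F hF), ← Subgroup.index_eq_card, index_H.1]

theorem centralizer_transposition (d : Fi23) (hd : d ∈ conjugatesOf t) :
    Cfsg.IsNonsplitDoubleCover (Subgroup.centralizer ({d} : Set Fi23)) Fi22 := by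
  obtain ⟨g, rfl⟩ := isConj_iff.1 hd
  have e : H.map (MulAut.conj g).toMonoidHom = Subgroup.centralizer ({g * t * g⁻¹} : Set Fi23) := by
    rw [← centralizer_t]
    ext x
    simp only [Subgroup.mem_map_equiv, Subgroup.mem_centralizer_singleton_iff, MulAut.conj_symm_apply]
    constructor
    · intro h
      calc x * (g * t * g⁻¹) = g * ((g⁻¹ * x * g) * t) * g⁻¹ := by simp [mul_assoc]
        _ = g * t * g⁻¹ * x := by rw [h]; simp [mul_assoc]
    · intro h
      calc g⁻¹ * x * g * t = g⁻¹ * (x * (g * t * g⁻¹)) * g := by simp [mul_assoc]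
        _ = t * (g⁻¹ * x * g) := by rw [h]; simp [mul_assoc]
  exact DoubleCoverUtil.double_cover_of_mulEquiv
    (((MulAut.conj g).subgroupMap H).trans (MulEquiv.subgroupCongr e)) isNonsplitDoubleCover

end CfsgLib.InvChar.SporFi23
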