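import Cfsg.Prelude.Def_Sporadic
import Cfsg.Agent.Lib.InvChar.SporFi23
import Cfsg.Agent.Lib.InvChar.CosetSimple
import Cfsg.Agent.Lib.InvChar.SporData.F23.Sub0
import Cfsg.Agent.Lib.InvChar.SporData.F23.Sub1
import Cfsg.Agent.Lib.InvChar.SporData.F23.Seeds

/-!
# Suborbits and simplicity of the presented group Fi23
-/

set_option autoImplicit false
set_option maxRecDepth 100000

namespace CfsgLib.InvChar.SporFi23

open CfsgLib.InvChar.Coset Cfsg.Spor

theorem seed_one (L : List ℕ) (h : L ∈ F23.seedWords) : wprod gen L = 1 := by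
  have hlt := (by decide +kernel : ∀ L ∈ F23.seedWords, ∀ x ∈ L, x < 10) L h
  apply card_eq.2
  rw [map_one, map_wprod rep gen perm L fun x hx => rep_gen x (hlt x hx), ← inv_eq_one]
  ext i
  show ((wprod (F23.valid.toPerm F23.sq) L)⁻¹ i : ℕ) = _
  rw [← F23.valid.follow_eq F23.sq L hlt i, F23.seeds_fix i i.2 L h, Equiv.Perm.one_apply]

theorem orbits : ∃ q₀ q₁ : Fi23 ⧸ H,
    (MulAction.orbit H q₀).ncard = 28160 ∧ (MulAction.orbit H q₁).ncard = 3510 ∧
    (∀ q : Fi23 ⧸ H, q = ((1 : Fi23) : Fi23 ⧸ H) ∨ q ∈ MulAction.orbit H q₀ ∨ q ∈ MulAction.orbit H q₁) ∧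
    q₀ ∉ MulAction.orbit H q₁ ∧ q₁ ∉ MulAction.orbit H q₀ ∧
    ((1 : Fi23) : Fi23 ⧸ H) ∉ MulAction.orbit H q₀ ∧ ((1 : Fi23) : Fi23 ⧸ H) ∉ MulAction.orbit H q₁ := by
  obtain ⟨-, e, he0, he⟩ := index_H
  have hS : ∀ L ∈ F23.subs, ∀ x ∈ L, x < F23.table.g := by decide +kernel
  have o0 := suborbit_of_cert F23.table rfl F23.valid F23.sq gen rep rep_gen e he hS H rfl (by norm_num)
    F23.sub0_ok ⟨1, by decide +kernel⟩ F23.sub0_root.symm
  have o1 := suborbit_of_cert F23.table rfl F23.valid F23.sq gen rep rep_gen e he hS H rfl (by norm_num)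
    F23.sub1_ok ⟨52, by decide +kernel⟩ F23.sub1_root.symm
  have hno : ∀ (pts pos par : Tr) (m r : ℕ), (∀ c < m, Table.OrbitOK F23.table F23.subs pts pos par m c) →
      field pos 128 20 r = 0 → ¬ ∃ c < m, field pts 128 20 c = r := by
    rintro pts pos par m r hok h0 ⟨c, hc, rfl⟩
    have := (hok c hc).2.1
    omega
  have hn01 : e ⟨1, by decide +kernel⟩ ∉ MulAction.orbit H (e ⟨52, by decide +kernel⟩) := fun h =>
    hno _ _ _ _ _ F23.sub1_ok (by decide +kernel) ((o1.2 _).1 h)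
  have hn10 : e ⟨52, by decide +kernel⟩ ∉ MulAction.orbit H (e ⟨1, by decide +kernel⟩) := fun h =>
    hno _ _ _ _ _ F23.sub0_ok (by decide +kernel) ((o0.2 _).1 h)
  have hn0 : ((1 : Fi23) : Fi23 ⧸ H) ∉ MulAction.orbit H (e ⟨1, by decide +kernel⟩) := by
    rw [← he0]
    exact fun h => hno _ _ _ _ _ F23.sub0_ok (by decide +kernel) ((o0.2 _).1 h)
  have hn1 : ((1 : Fi23) : Fi23 ⧸ H) ∉ MulAction.orbit H (e ⟨52, by decide +kernel⟩) := by
    rw [← he0]
    exact fun h => hno _ _ _ _ _ F23.sub1_ok (by decide +kernel) ((o1.2 _).1 h)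
  refine ⟨_, _, o0.1, o1.1, ?_, hn01, hn10, hn0, hn1⟩
  haveI : Finite (Fi23 ⧸ H) := Finite.of_equiv _ e
  have hdis : Disjoint (MulAction.orbit H (e ⟨1, by decide +kernel⟩)) (MulAction.orbit H (e ⟨52, by decide +kernel⟩)) := by
    rw [Set.disjoint_left]
    intro q hq hq'
    refine hn10 ?_
    rw [← MulAction.orbit_eq_iff.2 hq, MulAction.orbit_eq_iff.2 hq']
    exact MulAction.mem_orbit_self _
  have hall : insert ((1 : Fi23) : Fi23 ⧸ H) (MulAction.orbit H (e ⟨1, by decide +kernel⟩) ∪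
      MulAction.orbit H (e ⟨52, by decide +kernel⟩)) = Set.univ := by
    refine Set.eq_of_subset_of_ncard_le (Set.subset_univ _) ?_ (Set.toFinite _)
    rw [Set.ncard_univ, Set.ncard_insert_of_notMem (by simp [hn0, hn1]) (Set.toFinite _),
      Set.ncard_union_eq hdis (Set.toFinite _) (Set.toFinite _), o0.1, o1.1,
      ← Subgroup.index_eq_card, index_H.1]
  intro q
  have hq := hall.symm ▸ Set.mem_univ q
  simpa using hq

theorem wprod_flatten_replicate {K : Type*} [Monoid K] (f : ℕ → K) (L : List ℕ) (m : ℕ) :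
    wprod f (List.replicate m L).flatten = wprod f L ^ m := by
  induction m with
  | zero => simp [wprod]
  | succ m ih =>
    rw [List.replicate_succ, List.flatten_cons, pow_succ', ← ih]
    simp [wprod, List.prod_append]

theorem isSimpleGroup : IsSimpleGroup Fi23 := by
  haveI : Finite Fi23 := finite
  haveI : Nontrivial Fi23 := Finite.one_lt_card_iff_nontrivial.1 (by rw [card_eq.1]; norm_num)
  haveI : Fact (Nat.Prime 23) := ⟨by norm_num⟩
  obtain ⟨hi, e, -, he⟩ := index_H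
  obtain ⟨q₀, q₁, h0, h1, hcov, h01, h10, hn0, hn1⟩ := orbits
  have hmax := eq_top_or_le_of_suborbits H [28160, 3510] ![q₀, q₁] ?_ ?_ ?_ ?_ ?_
  · refine isSimpleGroup_of_cert H (normalCore_eq_bot rep card_eq.2 e he) hmax 23 1
      (by rw [hi]; norm_num) (by rw [card_eq.1]; norm_num) gen gen_mul_self F23.rels pres.gen_rel 10
      closure_gen [8] ?_ (by decide +kernel)
    intro y hy
    simp only [List.mem_cons, List.not_mem_nil, or_false] at hy
    subst hy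
    refine ⟨wprod gen [9, 2, 3, 8, 4, 3, 8, 7, 1, 6, 2, 0, 1, 5, 9, 2, 0, 3, 4, 1, 0, 5, 3, 5, 3, 9, 5, 8, 6, 3, 6], wprod gen [6, 3, 6, 8, 5, 9, 3, 5, 3, 5, 0, 1, 4, 3, 0, 2, 9, 5, 1, 0, 2, 6, 1, 7, 8, 3, 4, 8, 3, 2, 9, 8], ?_, ?_, ?_⟩
    · have h := seed_one (List.replicate 23 [9, 2, 3, 8, 4, 3, 8, 7, 1, 6, 2, 0, 1, 5, 9, 2, 0, 3, 4, 1, 0, 5, 3, 5, 3, 9, 5, 8, 6, 3, 6]).flatten List.mem_cons_self
      rw [← wprod_flatten_replicate gen _ 23]
      exact h
    · have h := seed_one (List.replicate 23 [6, 3, 6, 8, 5, 9, 3, 5, 3, 5, 0, 1, 4, 3, 0, 2, 9, 5, 1, 0, 2, 6, 1, 7, 8, 3, 4, 8, 3, 2, 9, 8]).flatten (List.mem_cons_of_mem _ List.mem_cons_self)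
      rw [← wprod_flatten_replicate gen _ 23]
      exact h
    · rw [show ([6, 3, 6, 8, 5, 9, 3, 5, 3, 5, 0, 1, 4, 3, 0, 2, 9, 5, 1, 0, 2, 6, 1, 7, 8, 3, 4, 8, 3, 2, 9, 8] : List ℕ) = [9, 2, 3, 8, 4, 3, 8, 7, 1, 6, 2, 0, 1, 5, 9, 2, 0, 3, 4, 1, 0, 5, 3, 5, 3, 9, 5, 8, 6, 3, 6].reverse ++ [8] from rfl, wprod_append, wprod_reverse gen gen_mul_self,
        ← mul_assoc, mul_inv_cancel, one_mul]
      simp [wprod]
  · intro i
    fin_cases i
    · exact h0
    · exact h1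
  · intro q
    rcases hcov q with h | h | h
    · exact Or.inl h
    · exact Or.inr ⟨0, h⟩
    · exact Or.inr ⟨1, h⟩
  · intro i j hij
    fin_cases i <;> fin_cases j <;> first
      | rfl
      | exact absurd hij h10
      | exact absurd hij h01
  · intro i
    fin_cases i
    · exact hn0
    · exact hn1
  · rw [hi]
    decide +kernel

end CfsgLib.InvChar.SporFi23
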