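import Mathlib

/-!
# Non-abelian groups of order sixty-four with a fixed-point-free automorphism of order three

Such a group is special with centre of order four, and the commutator pairing is determined by the
automorphism.
-/

set_option autoImplicit false

namespace CfsgLib.InvChar.FpfThree

open Subgroup
open scoped commutatorElement

variable {T : Type*} [Group T] [Finite T]

/-- The hypotheses. -/
structure Setup (ρ : MulAut T) : Prop where
  card : Nat.card T = 64
  nab : ∃ a b : T, a * b ≠ b * a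
  three : ∀ y, ρ (ρ (ρ y)) = y
  fpf : ∀ y, ρ y = y → y = 1

namespace Setup

variable {ρ : MulAut T} (S : Setup ρ)
include S

theorem prod_orbit (g : T) : g * ρ g * ρ (ρ g) = 1 := by
  have hinj : Function.Injective fun y : T => y⁻¹ * ρ y := by
    intro a b e
    have e' : a⁻¹ * ρ a = b⁻¹ * ρ b := e
    have : ρ (b * a⁻¹) = b * a⁻¹ := by
      rw [map_mul, map_inv]
      calc ρ b * (ρ a)⁻¹ = b * (b⁻¹ * ρ b) * (ρ a)⁻¹ := by group
        _ = b * a⁻¹ := by rw [← e']; group
    exact (mul_inv_eq_one.1 (S.fpf _ this)).symm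
  obtain ⟨y, hy⟩ := (Finite.injective_iff_surjective.1 hinj) g
  rw [← hy]
  simp only [map_mul, map_inv, S.three]
  group

theorem comm_image (g : T) : g * ρ g = ρ g * g := by
  have h1 := S.prod_orbit g
  have h2 := S.prod_orbit g⁻¹
  rw [map_inv, map_inv] at h2
  have e1 : g * ρ g = (ρ (ρ g))⁻¹ := eq_inv_of_mul_eq_one_left h1
  have e2 : g⁻¹ * (ρ g)⁻¹ = ρ (ρ g) := by
    rw [← inv_inv (ρ (ρ g))]; exact eq_inv_of_mul_eq_one_left h2
  calc g * ρ g = (g⁻¹ * (ρ g)⁻¹)⁻¹ := by rw [e1, e2]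
    _ = ρ g * g := by group

theorem rho2 (g : T) : ρ (ρ g) = (g * ρ g)⁻¹ := eq_inv_of_mul_eq_one_right (S.prod_orbit g)

theorem isPGroup : IsPGroup 2 T := IsPGroup.of_card (n := 6) (by rw [S.card]; norm_num)

theorem center_invariant {z : T} (hz : z ∈ center T) : ρ z ∈ center T := by
  refine mem_center_iff.2 fun y => ?_
  obtain ⟨y, rfl⟩ := ρ.surjective y
  rw [← map_mul, ← map_mul, mem_center_iff.1 hz y]

theorem center_invariant' {z : T} (hz : ρ z ∈ center T) : z ∈ center T := by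
  refine mem_center_iff.2 fun y => ρ.injective ?_
  rw [map_mul, map_mul, mem_center_iff.1 hz (ρ y)]

theorem fpf_quot {g : T} (h : g⁻¹ * ρ g ∈ center T) : g ∈ center T := by
  obtain ⟨z, hz⟩ : ∃ z, z = g⁻¹ * ρ g := ⟨_, rfl⟩
  rw [← hz] at h
  have e : ρ g = g * z := by rw [hz, mul_inv_cancel_left]
  have h1 := S.prod_orbit g
  rw [e, map_mul, e] at h1
  have h3 : g ^ 3 = (z * z * ρ z)⁻¹ := by
    have hc : ∀ y, y * z = z * y := mem_center_iff.1 h
    rw [eq_inv_iff_mul_eq_one]
    calc g ^ 3 * (z * z * ρ z) = g * (g * (g * z)) * z * ρ z := by rw [pow_succ, pow_two]; group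
      _ = g * (g * (z * g)) * z * ρ z := by rw [hc g]
      _ = g * (g * z) * (g * z * ρ z) := by group
      _ = 1 := h1
  obtain ⟨k, hk⟩ := S.isPGroup g
  obtain ⟨a, ha⟩ : ∃ a : ℤ, g = (g ^ 3) ^ a := by
    refine ⟨Nat.gcdA 3 (2 ^ k), ?_⟩
    have hb := Nat.gcd_eq_gcd_ab 3 (2 ^ k)
    rw [show Nat.gcd 3 (2 ^ k) = 1 from
      Nat.Coprime.pow_right k (by norm_num : Nat.Coprime 3 2)] at hb
    rw [← zpow_natCast, ← zpow_mul]
    conv_lhs => rw [← zpow_one g, show (1 : ℤ) = ((1 : ℕ) : ℤ) from rfl, hb, zpow_add,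
      zpow_mul g ((2 ^ k : ℕ) : ℤ), zpow_natCast g (2 ^ k), hk, one_zpow, mul_one]
  rw [ha, h3]
  exact zpow_mem (inv_mem (mul_mem (mul_mem h h) (S.center_invariant h))) a

/-- A fixed-point-free stable subgroup has order `1` modulo `3`. -/
theorem card_stable (H : Subgroup T) (hH : ∀ y ∈ H, ρ y ∈ H) : Nat.card ↥H % 3 = 1 := by
  classical
  haveI : Fact (Nat.Prime 3) := ⟨Nat.prime_three⟩
  haveI := Fintype.ofFinite ↥H
  let σ : Function.End ↥H := fun y => ⟨ρ y, hH y y.2⟩
  have hσ : σ ^ 3 ^ 1 = 1 := funext fun y => Subtype.ext (S.three y)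
  have h1 := Equiv.Perm.card_fixedPoints_modEq hσ
  have hfix : Fintype.card (Function.fixedPoints σ) = 1 :=
    Fintype.card_eq_one_iff.2 ⟨⟨1, Subtype.ext (map_one ρ)⟩, fun y => Subtype.ext (Subtype.ext
      (S.fpf _ (congrArg Subtype.val y.2)))⟩
  rw [hfix] at h1
  rw [Nat.card_eq_fintype_card]
  exact h1

/-- A fixed-point-free quotient. -/
theorem card_center : Nat.card ↥(center T) = 4 := by
  classical
  haveI : Fact (Nat.Prime 2) := ⟨Nat.prime_two⟩
  have hd : Nat.card ↥(center T) ∣ 2 ^ 6 := by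
    rw [show (2 : ℕ) ^ 6 = 64 by norm_num, ← S.card]; exact card_subgroup_dvd_card _
  obtain ⟨i, hi, hc⟩ := (Nat.dvd_prime_pow Nat.prime_two).1 hd
  have h3 := S.card_stable (center T) fun y hy => S.center_invariant hy
  haveI : Nontrivial T := Finite.one_lt_card_iff_nontrivial.1 (by rw [S.card]; norm_num)
  haveI := S.isPGroup.center_nontrivial
  have h1 : 1 < Nat.card ↥(center T) := Finite.one_lt_card
  obtain ⟨a, b, hab⟩ := S.nab
  have hne : Nat.card ↥(center T) ≠ 64 := fun e => hab (by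
    have := eq_top_of_card_eq (center T) (e.trans S.card.symm)
    exact (mem_center_iff.1 (this ▸ mem_top b : b ∈ center T) a))
  have hne16 : Nat.card ↥(center T) ≠ 16 := by
    intro e
    obtain ⟨g, hg⟩ : ∃ g, g ∉ center T := ⟨b, fun hb => hab (mem_center_iff.1 hb a)⟩
    let K : Subgroup T := center T ⊔ zpowers g
    let L : Subgroup T := K ⊔ zpowers (ρ g)
    have hh : g ^ (2 : ℤ) ∈ center T := by
      have hq : Nat.card (T ⧸ center T) = 4 := by
        have := card_eq_card_quotient_mul_card_subgroup (center T)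
        rw [S.card, e] at this
        omega
      by_contra hsq
      have hs := pow_card_eq_one' (x := (g : T ⧸ center T))
      rw [hq] at hs
      have ho : orderOf (g : T ⧸ center T) = 4 := by
        have hd4 : orderOf (g : T ⧸ center T) ∣ 2 ^ 2 := orderOf_dvd_of_pow_eq_one hs
        obtain ⟨k, hk, hk'⟩ := (Nat.dvd_prime_pow Nat.prime_two).1 hd4
        rcases k with _ | _ | _ | k
        · exfalso; apply hg
          rw [← QuotientGroup.eq_one_iff, ← orderOf_eq_one_iff, hk']; rfl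
        · exfalso; apply hsq
          rw [← QuotientGroup.eq_one_iff, QuotientGroup.mk_zpow, zpow_ofNat]
          simpa [hk'] using pow_orderOf_eq_one (g : T ⧸ center T)
        · exact hk'
        · omega
      haveI : IsCyclic (T ⧸ center T) :=
        isCyclic_of_orderOf_eq_card (g : T ⧸ center T) (ho.trans hq.symm)
      exact hab (commutative_of_cyclic_center_quotient (QuotientGroup.mk' (center T))
        (QuotientGroup.ker_mk' _).le a b)
    have hK : ρ g ∉ K := by
      intro hK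
      rw [mem_sup_of_normal_left] at hK
      obtain ⟨z, hz, w, hw, e1⟩ := hK
      obtain ⟨j, rfl⟩ := mem_zpowers_iff.1 hw
      rcases Int.even_or_odd j with ⟨l, rfl⟩ | ⟨l, rfl⟩
      · apply hg
        apply S.center_invariant'
        rw [← e1, ← two_mul, zpow_mul]
        exact mul_mem hz (zpow_mem hh l)
      · apply hg
        apply S.fpf_quot
        rw [← e1, zpow_add_one, zpow_mul]
        have hmem : z * (g ^ (2 : ℤ)) ^ l ∈ center T := mul_mem hz (zpow_mem hh l)
        rw [show g⁻¹ * (z * ((g ^ (2 : ℤ)) ^ l * g)) = g⁻¹ * ((z * (g ^ (2 : ℤ)) ^ l) * g) by group,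
          ← mem_center_iff.1 hmem g, inv_mul_cancel_left]
        exact hmem
    have hlt1 : Nat.card ↥(center T) < Nat.card ↥K := lt_of_not_ge fun hge => hg (by
      rw [eq_of_le_of_card_ge (le_sup_left : center T ≤ K) hge]; exact mem_sup_right (mem_zpowers g))
    have hlt2 : Nat.card ↥K < Nat.card ↥L := lt_of_not_ge fun hge => hK (by
      rw [eq_of_le_of_card_ge (le_sup_left : K ≤ L) hge]; exact mem_sup_right (mem_zpowers (ρ g)))
    have hLtop : L = ⊤ := by
      apply eq_top_of_card_eq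
      rw [S.card]
      have hdK : Nat.card ↥K ∣ 2 ^ 6 := by
        rw [show (2 : ℕ) ^ 6 = 64 by norm_num, ← S.card]; exact card_subgroup_dvd_card _
      have hdL : Nat.card ↥L ∣ 2 ^ 6 := by
        rw [show (2 : ℕ) ^ 6 = 64 by norm_num, ← S.card]; exact card_subgroup_dvd_card _
      obtain ⟨u, hu, hu'⟩ := (Nat.dvd_prime_pow Nat.prime_two).1 hdK
      obtain ⟨v, hv, hv'⟩ := (Nat.dvd_prime_pow Nat.prime_two).1 hdL
      rw [e, hu'] at hlt1
      rw [hu', hv'] at hlt2
      rw [hv']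
      interval_cases u <;> interval_cases v <;> first | omega | (norm_num at hlt1 hlt2 ⊢)
    have hgc : L ≤ centralizer ({g} : Set T) := sup_le (sup_le (center_le_centralizer _)
      (zpowers_le.2 (mem_centralizer_singleton_iff.2 rfl)))
      (zpowers_le.2 (mem_centralizer_singleton_iff.2 (S.comm_image g).symm))
    exact hg (mem_center_iff.2 fun y => mem_centralizer_singleton_iff.1 (hgc (hLtop ▸ mem_top y)))
  rw [hc] at h1 h3 hne hne16 ⊢
  interval_cases i <;> simp_all

theorem center_exp {z : T} (hz : z ∈ center T) : z * z = 1 := by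
  classical
  by_contra h
  haveI := Fintype.ofFinite ↥(center T)
  have hcard : Fintype.card ↥(center T) = 4 := by rw [← Nat.card_eq_fintype_card, S.card_center]
  have hc2 : z * ρ z = ρ z * z := (mem_center_iff.1 hz (ρ z)).symm
  have h4 : z ^ 4 = 1 := by
    have := pow_card_eq_one (x := (⟨z, hz⟩ : ↥(center T)))
    rw [hcard] at this
    exact congrArg Subtype.val this
  have hz1 : z ≠ 1 := fun e => h (by rw [e, one_mul])
  -- `1, z, z², z³` exhaust the centre
  let f : Fin 4 → ↥(center T) := fun i => ⟨z ^ (i : ℕ), pow_mem hz _⟩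
  have hf : Function.Injective f := by
    intro i j e
    have e' : z ^ (i : ℕ) = z ^ (j : ℕ) := congrArg Subtype.val e
    have ho : orderOf z = 4 := by
      obtain ⟨k, hk, hk'⟩ := (Nat.dvd_prime_pow Nat.prime_two).1
        (orderOf_dvd_of_pow_eq_one h4 : orderOf z ∣ 2 ^ 2)
      rcases k with _ | _ | _ | k
      · exact absurd (orderOf_eq_one_iff.1 hk') hz1
      · exact absurd (by have h5 := pow_orderOf_eq_one z; rw [hk'] at h5; simpa [pow_two] using h5) h
      · exact hk'
      · omega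
    have := pow_inj_mod.1 e'
    rw [ho] at this
    ext; omega
  have hb := (Fintype.bijective_iff_injective_and_card f).2 ⟨hf, by rw [Fintype.card_fin, hcard]⟩
  obtain ⟨i, hi⟩ := hb.2 ⟨ρ z, S.center_invariant hz⟩
  have hi' : ρ z = z ^ (i : ℕ) := (congrArg Subtype.val hi).symm
  have h3 : ρ (ρ (ρ z)) = z ^ ((i : ℕ) * ((i : ℕ) * (i : ℕ))) := by
    rw [hi', map_pow, hi', map_pow, map_pow, hi', ← pow_mul, ← pow_mul]
  rw [S.three] at h3
  fin_cases i
  · simp at h3; exact hz1 h3
  · exact hz1 (S.fpf z (by simpa using hi'))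
  · apply hz1
    rw [h3, show (2 : ℕ) * (2 * 2) = 4 * 2 by rfl, pow_mul, h4, one_pow]
  · exact h (by
      conv_lhs => arg 1; rw [h3]
      rw [← pow_succ, show (3 : ℕ) * (3 * 3) + 1 = 4 * 7 by rfl, pow_mul, h4, one_pow])

theorem sq_center (g : T) : g * g ∈ center T := by
  classical
  by_contra hsq
  have hg : g ∉ center T := fun hg => hsq (mul_mem hg hg)
  haveI : Fact (Nat.Prime 2) := ⟨Nat.prime_two⟩
  let K : Subgroup T := center T ⊔ zpowers g
  let L : Subgroup T := K ⊔ zpowers (ρ g)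
  obtain ⟨m, hm⟩ := (S.isPGroup.to_quotient (center T)) (g : T ⧸ center T)
  have hm' : (g : T ⧸ center T) ^ (2 ^ m) = 1 := hm
  have hmem : ∀ y ∈ K, ∃ (z : T) (j : ℤ), z ∈ center T ∧ z * g ^ j = y := fun y hy => by
    rw [mem_sup_of_normal_left] at hy
    obtain ⟨z, hz, w, hw, e1⟩ := hy
    obtain ⟨j, rfl⟩ := mem_zpowers_iff.1 hw
    exact ⟨z, j, hz, e1⟩
  have hK : ρ g ∉ K := by
    intro hK
    obtain ⟨z, j, hz, e1⟩ := hmem _ hK
    have hq : ((ρ g : T) : T ⧸ center T) = (g : T ⧸ center T) ^ j := by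
      rw [← e1, QuotientGroup.mk_mul, (QuotientGroup.eq_one_iff _).2 hz, one_mul,
        QuotientGroup.mk_zpow]
    have hstep : ∀ (y : T) (l : ℤ), (y : T ⧸ center T) = (g : T ⧸ center T) ^ l →
        ((ρ y : T) : T ⧸ center T) = (g : T ⧸ center T) ^ (j * l) := by
      intro y l e
      rw [← QuotientGroup.mk_zpow, QuotientGroup.eq] at e
      have e2 := S.center_invariant e
      rw [map_mul, map_inv, map_zpow, ← QuotientGroup.eq, QuotientGroup.mk_zpow, hq, ← zpow_mul] at e2
      exact e2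
    have e3 := hstep _ _ (hstep g 1 (zpow_one _).symm |> fun e => by rw [mul_one] at e; exact hstep _ _ e)
    rw [S.three] at e3
    have hd : ((orderOf (g : T ⧸ center T) : ℕ) : ℤ) ∣ (j - 1) * (j * (j + 1) + 1) := by
      rw [show (j - 1) * (j * (j + 1) + 1) = j * (j * j) - 1 by ring,
        orderOf_dvd_iff_zpow_eq_one, zpow_sub, zpow_one, ← e3, mul_inv_cancel]
    obtain ⟨k, -, hk⟩ := (Nat.dvd_prime_pow Nat.prime_two).1 (orderOf_dvd_of_pow_eq_one hm')
    have hodd : IsCoprime ((orderOf (g : T ⧸ center T) : ℕ) : ℤ) (j * (j + 1) + 1) := by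
      rw [hk, Nat.cast_pow]
      refine IsCoprime.pow_left ?_
      obtain ⟨l, hl⟩ := Int.even_mul_succ_self j
      exact ⟨-l, 1, by rw [hl]; push_cast; ring⟩
    have hd1 := hodd.dvd_of_dvd_mul_right hd
    rw [orderOf_dvd_iff_zpow_eq_one, zpow_sub, zpow_one, ← hq, mul_inv_eq_one, eq_comm,
      QuotientGroup.eq] at hd1
    exact hg (S.fpf_quot hd1)
  have hcK : 16 ≤ Nat.card ↥K := by
    haveI := Fintype.ofFinite ↥K
    have hlt1 : Nat.card ↥(center T) < Nat.card ↥K := lt_of_not_ge fun hge => hg (by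
      rw [eq_of_le_of_card_ge (le_sup_left : center T ≤ K) hge]; exact mem_sup_right (mem_zpowers g))
    by_contra hlt
    obtain ⟨k, hk⟩ := (S.isPGroup.to_subgroup K).exists_card_eq
    have hk8 : Nat.card ↥K = 8 := by
      rw [S.card_center] at hlt1
      rw [hk] at hlt1 hlt ⊢
      rcases k with _ | _ | _ | _ | k <;> first | omega | (norm_num at hlt1) | rfl |
        (exact absurd (le_trans (by norm_num) (Nat.pow_le_pow_right (by norm_num : 1 ≤ 2)
          (by omega : 4 ≤ k + 1 + 1 + 1 + 1))) hlt)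
    have hgg : g * g ∈ K := mul_mem (mem_sup_right (mem_zpowers g)) (mem_sup_right (mem_zpowers g))
    haveI : (center T).Normal := inferInstance
    have hrel : (center T).relIndex K = 2 := by
      have h1 := relIndex_mul_relIndex ⊥ (center T) K bot_le le_sup_left
      rw [relIndex_bot_left, relIndex_bot_left, S.card_center, hk8] at h1
      omega
    have h2 := Subgroup.mul_self_mem_of_index_two (H := (center T).subgroupOf K) hrel
      ⟨g, mem_sup_right (mem_zpowers g)⟩
    exact hsq (mem_subgroupOf.1 h2)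
  have hlt2 : Nat.card ↥K < Nat.card ↥L := lt_of_not_ge fun hge => hK (by
    rw [eq_of_le_of_card_ge (le_sup_left : K ≤ L) hge]; exact mem_sup_right (mem_zpowers (ρ g)))
  have hstab : ∀ y ∈ L, ρ y ∈ L := by
    have hle : L ≤ L.comap ρ.toMonoidHom := by
      refine sup_le (sup_le (fun z hz => mem_sup_left (mem_sup_left (S.center_invariant hz))) ?_) ?_
      · exact zpowers_le.2 (mem_sup_right (mem_zpowers (ρ g)) : ρ g ∈ L)
      · refine zpowers_le.2 (show ρ (ρ g) ∈ L from ?_)
        rw [S.rho2]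
        exact inv_mem (mul_mem (mem_sup_left (mem_sup_right (mem_zpowers g)))
          (mem_sup_right (mem_zpowers (ρ g))))
    exact fun y hy => hle hy
  have hLtop : L = ⊤ := by
    apply eq_top_of_card_eq
    rw [S.card]
    obtain ⟨k, hk⟩ := (S.isPGroup.to_subgroup L).exists_card_eq
    have h3 := S.card_stable L hstab
    have h64 : Nat.card ↥L ≤ 64 := S.card ▸ Nat.le_of_dvd Nat.card_pos (card_subgroup_dvd_card L)
    rw [hk] at h3 h64 ⊢
    have h16 : 16 < 2 ^ k := hk ▸ lt_of_le_of_lt hcK hlt2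
    have hk6 : k ≤ 6 := (Nat.pow_le_pow_iff_right (le_refl 2)).1 (by norm_num; omega)
    interval_cases k <;> first | omega | rfl
  have hgc : L ≤ centralizer ({g} : Set T) := sup_le (sup_le (center_le_centralizer _)
    (zpowers_le.2 (mem_centralizer_singleton_iff.2 rfl)))
    (zpowers_le.2 (mem_centralizer_singleton_iff.2 (S.comm_image g).symm))
  exact hg (mem_center_iff.2 fun y => mem_centralizer_singleton_iff.1 (hgc (hLtop ▸ mem_top y)))

theorem comm_center (g h : T) : g * h * g⁻¹ * h⁻¹ ∈ center T := by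
  rw [← QuotientGroup.eq_one_iff]
  have hv : ∀ v : T ⧸ center T, v⁻¹ = v := fun v => by
    obtain ⟨y, rfl⟩ := QuotientGroup.mk_surjective v
    exact inv_eq_of_mul_eq_one_right ((QuotientGroup.eq_one_iff _).2 (S.sq_center y))
  simp only [QuotientGroup.mk_mul, QuotientGroup.mk_inv, hv]
  have h2 := (QuotientGroup.eq_one_iff _).2 (S.sq_center (g * h))
  simp only [QuotientGroup.mk_mul] at h2
  rwa [← mul_assoc] at h2

omit [Finite T] S in
/-- The commutator. -/
theorem cm_def (g h : T) : ⁅g, h⁆ = g * h * g⁻¹ * h⁻¹ := commutatorElement_def g h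

theorem cm_mem (g h : T) : ⁅g, h⁆ ∈ center T := by rw [cm_def]; exact S.comm_center g h

theorem cm_symm (g h : T) : ⁅h, g⁆ = ⁅g, h⁆ := by
  rw [← commutatorElement_inv]
  exact inv_eq_of_mul_eq_one_right (S.center_exp (S.cm_mem g h))

theorem cm_mul_left (g g' h : T) : ⁅g * g', h⁆ = ⁅g, h⁆ * ⁅g', h⁆ := by
  have hc := mem_center_iff.1 (S.cm_mem g' h)
  rw [cm_def, cm_def g h]
  calc g * g' * h * (g * g')⁻¹ * h⁻¹ = g * ⁅g', h⁆ * (h * g⁻¹ * h⁻¹) := by rw [cm_def]; group
    _ = ⁅g', h⁆ * (g * h * g⁻¹ * h⁻¹) := by rw [hc g]; group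
    _ = g * h * g⁻¹ * h⁻¹ * ⁅g', h⁆ := (hc _).symm

theorem cm_mul_right (g h h' : T) : ⁅g, h * h'⁆ = ⁅g, h⁆ * ⁅g, h'⁆ := by
  rw [S.cm_symm (h * h') g, S.cm_mul_left, S.cm_symm g h, S.cm_symm g h']

omit [Finite T] S in
theorem cm_map (g h : T) : ρ ⁅g, h⁆ = ⁅ρ g, ρ h⁆ := map_commutatorElement ρ g h

theorem mul_sq (g h : T) : g * h * (g * h) = g * g * (h * h) * ⁅g, h⁆ := by
  have hc := mem_center_iff.1 (S.cm_mem g h)
  rw [← S.cm_symm g h] at hc ⊢
  calc g * h * (g * h) = g * ⁅h, g⁆ * (g * h * h) := by rw [cm_def]; group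
    _ = ⁅h, g⁆ * (g * (g * h * h)) := by rw [hc g]; group
    _ = g * (g * h * h) * ⁅h, g⁆ := (hc _).symm
    _ = g * g * (h * h) * ⁅h, g⁆ := by group

theorem center_orbit {z : T} (hz : z ∈ center T) : z * ρ z = ρ (ρ z) := by
  rw [S.rho2]
  exact (inv_eq_of_mul_eq_one_right (S.center_exp (mul_mem hz (S.center_invariant hz)))).symm

/-- The pairing is determined by one value. -/
theorem pairing (g h : T) :
    ⁅g, ρ h⁆ = ρ (ρ ⁅g, h⁆) ∧ ⁅ρ g, h⁆ = ρ (ρ ⁅g, h⁆) := by
  obtain ⟨c, hc⟩ : ∃ c, c = ⁅g, h⁆ := ⟨_, rfl⟩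
  obtain ⟨d, hd⟩ : ∃ d, d = ⁅g, ρ h⁆ := ⟨_, rfl⟩
  have hcz : c ∈ center T := hc ▸ S.cm_mem _ _
  have hdz : d ∈ center T := hd ▸ S.cm_mem _ _
  have hinv : ∀ z ∈ center T, z⁻¹ = z := fun z hz => inv_eq_of_mul_eq_one_right (S.center_exp hz)
  have he : ⁅g, ρ (ρ h)⁆ = c * d := by
    have h1 := S.cm_mul_right g (h * ρ h) (ρ (ρ h))
    rw [S.prod_orbit, S.cm_mul_right, ← hc, ← hd, commutatorElement_one_right] at h1
    rw [← hinv (c * d) (mul_mem hcz hdz)]
    exact eq_inv_of_mul_eq_one_right h1.symm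
  have h10 : ⁅ρ g, h⁆ = ρ c * ρ d := by
    rw [← map_mul, ← he, cm_map, S.three]
  have h20 : ⁅ρ (ρ g), h⁆ = ρ (ρ d) := by
    rw [hd, cm_map, cm_map, S.three]
  have h1 := S.cm_mul_left (g * ρ g) (ρ (ρ g)) h
  rw [S.prod_orbit, S.cm_mul_left, ← hc, h10, h20, commutatorElement_one_left] at h1
  have hd' : d = ρ (ρ c) := by
    have e1 : ρ d * ρ (ρ d) = d := by
      rw [← S.center_orbit hdz, ← mul_assoc, mem_center_iff.1 hdz (ρ d), mul_assoc,
        S.center_exp (S.center_invariant hdz), mul_one]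
    rw [mul_assoc, mul_assoc, e1, ← mul_assoc, S.center_orbit hcz] at h1
    rw [← hinv d hdz]
    exact inv_eq_of_mul_eq_one_left h1.symm
  refine ⟨by rw [← hc, ← hd, hd'], ?_⟩
  rw [← hc, h10, hd', S.three, mem_center_iff.1 hcz (ρ c), S.center_orbit hcz]

end Setup

end CfsgLib.InvChar.FpfThree
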