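import Mathlib
import Cfsg.Agent.Lib.InvChar.FpfThreeSixtyFour

/-!
# The isomorphism type of a group of order sixty-four with an action of `S₃` fixed-point-free on `C₃`

It is the group of upper unitriangular matrices over the field with four elements, and the fixed
points of an involution inverting the element of order three form a dihedral or quaternion group.
-/

set_option autoImplicit false

namespace CfsgLib.InvChar.FpfThree

open Subgroup
open scoped commutatorElement

variable {T : Type*} [Group T] [Finite T]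

/-- A non-abelian group on two generators with the relations of `D₈` or `Q₈`. -/
theorem eight_cases {G : Type*} [Group G] (C : Subgroup G) (u v z : G) (hu2 : u * u = z) (hz : z ≠ 1)
    (hzz : z * z = 1) (hvu : v * u = u * z * v) (hne : u * v ≠ v * u) (hu : u ∈ C) (hv : v ∈ C)
    (hC : ∀ y ∈ C, ∃ i : ℕ, y = u ^ i ∨ y = v * u ^ i) (hv2 : v * v = 1 ∨ v * v = z) :
    Nonempty (↥C ≃* DihedralGroup 4) ∨ Nonempty (↥C ≃* QuaternionGroup 2) := by
  have hu4 : u ^ 4 = 1 := by rw [show (4 : ℕ) = 2 + 2 from rfl, pow_add, pow_two, hu2, hzz]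
  have hinv : u⁻¹ = u * z := inv_eq_of_mul_eq_one_right (by rw [← mul_assoc, hu2, hzz])
  have hmod : ∀ i : ℕ, u ^ i = u ^ (i % 4) := fun i => pow_eq_pow_mod i hu4
  have hshift : ∀ i j : ℕ, u ^ i * (v * u ^ j) = v * u ^ (3 * i + j) := by
    intro i j
    induction i with
    | zero => simp
    | succ i ih =>
      have h1 : u * v = v * u ^ 3 := by
        have h4 : u ^ 3 = u⁻¹ := by
          rw [eq_inv_iff_mul_eq_one, ← pow_succ, hu4]
        rw [h4, eq_mul_inv_iff_mul_eq, mul_assoc, hvu, ← mul_assoc, ← mul_assoc, hu2, hzz, one_mul]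
      rw [pow_succ', mul_assoc, ih, ← mul_assoc, h1, mul_assoc, ← pow_add]
      ring_nf
  have hnu : ∀ i : ℕ, v ≠ u ^ i := fun i e => hne (by rw [e, ← pow_succ', ← pow_succ])
  have hord : orderOf u = 4 := by
    obtain ⟨k, hk, hk'⟩ := (Nat.dvd_prime_pow Nat.prime_two).1
      (orderOf_dvd_of_pow_eq_one hu4 : orderOf u ∣ 2 ^ 2)
    rcases k with _ | _ | _ | k
    · exact absurd (orderOf_eq_one_iff.1 hk') (fun e => hne (by rw [e, one_mul, mul_one]))
    · exact absurd (by have h5 := pow_orderOf_eq_one u; rw [hk'] at h5; simpa [pow_two, hu2] using h5) hz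
    · exact hk'
    · omega
  have hinj : ∀ i j : ℕ, i < 4 → j < 4 → u ^ i = u ^ j → i = j := fun i j hi hj e => by
    have := pow_inj_mod.1 e
    rw [hord] at this; omega
  rcases hv2 with hv2 | hv2
  · left
    let f : DihedralGroup 4 → G := fun x => match x with
      | .r i => u ^ i.val
      | .sr i => v * u ^ i.val
    have kD : ∀ i j : ZMod 4, (3 * i.val + j.val) % 4 = (j - i).val := by decide +kernel
    have hf : ∀ x y, f (x * y) = f x * f y := by
      rintro (i | i) (j | j)
      · simp only [DihedralGroup.r_mul_r, f, ← pow_add]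
        rw [hmod (i.val + j.val), ZMod.val_add]
      · simp only [DihedralGroup.r_mul_sr, f, hshift]
        rw [hmod (3 * i.val + j.val), kD i j]
      · simp only [DihedralGroup.sr_mul_r, f, mul_assoc, ← pow_add]
        rw [hmod (i.val + j.val), ZMod.val_add]
      · simp only [DihedralGroup.sr_mul_sr, f]
        rw [mul_assoc, hshift, ← mul_assoc, hv2, one_mul, hmod (3 * i.val + j.val), kD i j]
    let F : DihedralGroup 4 →* G := MonoidHom.mk' f hf
    have hFi : Function.Injective F := by
      rintro (i | i) (j | j) e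
      · exact congrArg DihedralGroup.r (ZMod.val_injective 4 (hinj _ _ i.val_lt j.val_lt e))
      · exfalso
        have e' : u ^ i.val = v * u ^ j.val := e
        refine hnu (i.val + 3 * j.val) ?_
        rw [pow_add, e', mul_assoc, ← pow_add, show j.val + 3 * j.val = 4 * j.val by ring, pow_mul, hu4,
          one_pow, mul_one]
      · exfalso
        have e' : v * u ^ i.val = u ^ j.val := e
        refine hnu (j.val + 3 * i.val) ?_
        rw [pow_add, ← e', mul_assoc, ← pow_add, show i.val + 3 * i.val = 4 * i.val by ring, pow_mul, hu4,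
          one_pow, mul_one]
      · exact congrArg DihedralGroup.sr (ZMod.val_injective 4 (hinj _ _ i.val_lt j.val_lt
          (mul_left_cancel e)))
    have hr : F.range = C := by
      refine le_antisymm ?_ fun y hy => ?_
      · rintro _ ⟨x, rfl⟩
        cases x
        · exact pow_mem hu _
        · exact mul_mem hv (pow_mem hu _)
      · obtain ⟨i, rfl | rfl⟩ := hC y hy
        · exact ⟨.r (i : ZMod 4), by show u ^ _ = _; rw [ZMod.val_natCast, ← hmod]⟩
        · exact ⟨.sr (i : ZMod 4), by show v * u ^ _ = _; rw [ZMod.val_natCast, ← hmod]⟩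
    exact ⟨((MonoidHom.ofInjective hFi).trans (MulEquiv.subgroupCongr hr)).symm⟩
  · right
    have hv2' : v * v = u ^ 2 := by rw [hv2, pow_two, hu2]
    let f : QuaternionGroup 2 → G := fun x => match x with
      | .a i => u ^ i.val
      | .xa i => v * u ^ i.val
    have kQ : ∀ i j : ZMod (2 * 2), (3 * i.val + j.val) % 4 = (j - i).val := by decide +kernel
    have kQ' : ∀ i j : ZMod (2 * 2),
        (2 + (3 * i.val + j.val)) % 4 = (((2 : ℕ) : ZMod (2 * 2)) + j - i).val := by decide +kernel
    have hf : ∀ x y, f (x * y) = f x * f y := by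
      rintro (i | i) (j | j)
      · simp only [QuaternionGroup.a_mul_a, f, ← pow_add]
        rw [hmod (i.val + j.val), ZMod.val_add]
      · simp only [QuaternionGroup.a_mul_xa, f, hshift]
        rw [hmod (3 * i.val + j.val), kQ i j]
      · simp only [QuaternionGroup.xa_mul_a, f, mul_assoc, ← pow_add]
        rw [hmod (i.val + j.val), ZMod.val_add]
      · simp only [QuaternionGroup.xa_mul_xa, f]
        rw [mul_assoc, hshift, ← mul_assoc, hv2', ← pow_add, hmod (2 + (3 * i.val + j.val)), kQ' i j]
    let F : QuaternionGroup 2 →* G := MonoidHom.mk' f hf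
    have hFi : Function.Injective F := by
      rintro (i | i) (j | j) e
      · exact congrArg QuaternionGroup.a (ZMod.val_injective 4 (hinj _ _ i.val_lt j.val_lt e))
      · exfalso
        have e' : u ^ i.val = v * u ^ j.val := e
        refine hnu (i.val + 3 * j.val) ?_
        rw [pow_add, e', mul_assoc, ← pow_add, show j.val + 3 * j.val = 4 * j.val by ring, pow_mul, hu4,
          one_pow, mul_one]
      · exfalso
        have e' : v * u ^ i.val = u ^ j.val := e
        refine hnu (j.val + 3 * i.val) ?_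
        rw [pow_add, ← e', mul_assoc, ← pow_add, show i.val + 3 * i.val = 4 * i.val by ring, pow_mul, hu4,
          one_pow, mul_one]
      · exact congrArg QuaternionGroup.xa (ZMod.val_injective 4 (hinj _ _ i.val_lt j.val_lt
          (mul_left_cancel e)))
    have hr : F.range = C := by
      refine le_antisymm ?_ fun y hy => ?_
      · rintro _ ⟨x, rfl⟩
        cases x
        · exact pow_mem hu _
        · exact mul_mem hv (pow_mem hu _)
      · obtain ⟨i, rfl | rfl⟩ := hC y hy
        · exact ⟨.a (i : ZMod 4), by show u ^ _ = _; rw [ZMod.val_natCast, ← hmod]⟩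
        · exact ⟨.xa (i : ZMod 4), by show v * u ^ _ = _; rw [ZMod.val_natCast, ← hmod]⟩
    exact ⟨((MonoidHom.ofInjective hFi).trans (MulEquiv.subgroupCongr hr)).symm⟩

section Hom

variable {F : Type*} [Field F] [Fintype F]

/-- The four elements of a field of order four. -/
theorem four_cases (hF : Fintype.card F = 4) {w : F} (hw0 : w ≠ 0) (hw1 : w ≠ 1) :
    w * w = 1 + w ∧ (2 : F) = 0 ∧ (1 + w ≠ 0) ∧ (1 + w ≠ 1) ∧ (1 + w ≠ w) ∧
      ∀ x : F, x = 0 ∨ x = 1 ∨ x = w ∨ x = 1 + w := by
  classical
  have h2 : (2 : F) = 0 := by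
    have h0 : ((Fintype.card F : ℕ) : F) = 0 := FiniteField.cast_card_eq_zero F
    rw [hF, show (4 : ℕ) = 2 ^ 2 by rfl, Nat.cast_pow] at h0
    exact (pow_eq_zero_iff (by norm_num)).1 h0
  have h3 : w ^ 3 = 1 := by
    have := FiniteField.pow_card_sub_one_eq_one w hw0
    rwa [hF] at this
  have hq : w * w = 1 + w := by
    have h : (w - 1) * (w * w + w + 1) = 0 := by linear_combination h3
    rcases mul_eq_zero.1 h with e | e
    · exact absurd (sub_eq_zero.1 e) hw1
    · linear_combination e - (w + 1) * h2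
  have ha : 1 + w ≠ 0 := fun e => hw1 (by linear_combination e - (1 : F) * h2)
  have hb : 1 + w ≠ 1 := fun e => hw0 (by linear_combination e)
  have hc : 1 + w ≠ w := fun e => one_ne_zero (show (1 : F) = 0 by linear_combination e)
  refine ⟨hq, h2, ha, hb, hc, fun x => ?_⟩
  have hu : ({0, 1, w, 1 + w} : Finset F) = Finset.univ := by
    apply Finset.eq_univ_of_card
    rw [hF, Finset.card_insert_of_notMem (by simp [hw0.symm, ha.symm]),
      Finset.card_insert_of_notMem (by simp [hw1.symm, hb.symm, hw0, -add_eq_left, -left_eq_add]),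
      Finset.card_insert_of_notMem (by simpa using hc.symm), Finset.card_singleton]
  simpa using (hu ▸ Finset.mem_univ x : x ∈ ({0, 1, w, 1 + w} : Finset F))

/-- Two commuting involutions define a homomorphism from the additive group. -/
theorem exists_klein_hom (hF : Fintype.card F = 4) {w : F} (hw0 : w ≠ 0) (hw1 : w ≠ 1) (a b : T)
    (haa : a * a = 1) (hbb : b * b = 1) (hab : a * b = b * a) :
    ∃ f : F → T, (∀ x y, f (x + y) = f x * f y) ∧ f 1 = a ∧ f w = b := by
  classical
  obtain ⟨hq, h2, ha, hb, hc, hall⟩ := four_cases hF hw0 hw1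
  let f : F → T := fun x => if x = 0 then 1 else if x = 1 then a else if x = w then b else a * b
  have f0 : f 0 = 1 := by simp [f]
  have f1 : f 1 = a := by simp [f]
  have fw : f w = b := by simp [f, hw0, hw1]
  have fz : f (1 + w) = a * b := by simp [f, ha, hc, hw0]
  refine ⟨f, fun x y => ?_, f1, fw⟩
  have e11 : (1 : F) + 1 = 0 := by linear_combination h2
  have eww : w + w = 0 := by linear_combination w * h2
  have e1z : (1 : F) + (1 + w) = w := by linear_combination h2
  have ewz : w + (1 + w) = 1 := by linear_combination w * h2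
  have ezz : (1 + w) + (1 + w) = 0 := by linear_combination (1 + w) * h2
  rcases hall x with e | e | e | e <;> rcases hall y with e' | e' | e' | e' <;> rw [e, e'] <;>
    simp only [zero_add, add_zero, e11, eww, e1z, ewz, ezz, add_comm w (1 : F),
      add_comm (1 + w) (1 : F), add_comm (1 + w) w, f0, f1, fw, fz, one_mul, mul_one, haa, hbb]
  · rw [← mul_assoc, haa, one_mul]
  · exact hab
  · rw [hab, ← mul_assoc, hbb, one_mul]
  · rw [mul_assoc, ← hab, ← mul_assoc, haa, one_mul]
  · rw [mul_assoc, hbb, mul_one]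
  · rw [mul_assoc, ← mul_assoc b, ← hab, mul_assoc a b b, hbb, mul_one, haa]

end Hom

namespace Setup

variable {ρ : MulAut T} (S : Setup ρ)
include S

theorem involution_orbit {a : T} (ha : a * a = 1) :
    ρ a * ρ a = 1 ∧ ρ (ρ a) = a * ρ a := by
  refine ⟨by rw [← map_mul, ha, map_one], ?_⟩
  rw [S.rho2, _root_.mul_inv_rev, inv_eq_of_mul_eq_one_right ha,
    inv_eq_of_mul_eq_one_right (show ρ a * ρ a = 1 by rw [← map_mul, ha, map_one]), S.comm_image a]

theorem quot_sq (v : T ⧸ center T) : v * v = 1 := by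
  obtain ⟨y, rfl⟩ := QuotientGroup.mk_surjective v
  exact (QuotientGroup.eq_one_iff _).2 (S.sq_center y)

theorem quot_inv (v : T ⧸ center T) : v⁻¹ = v := inv_eq_of_mul_eq_one_right (S.quot_sq v)

theorem quot_comm (v w : T ⧸ center T) : v * w = w * v := by
  rw [← S.quot_inv (v * w), _root_.mul_inv_rev, S.quot_inv, S.quot_inv]

/-- The induced action on the quotient. -/
theorem exists_quot_map :
    ∃ σ : (T ⧸ center T) →* (T ⧸ center T), (∀ y : T, σ (y : T ⧸ center T) = ((ρ y : T) : T ⧸ center T)) ∧
      (∀ v, σ (σ (σ v)) = v) ∧ (∀ v, σ v = v → v = 1) ∧ (∀ v, σ (σ v) = v * σ v) := by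
  refine ⟨QuotientGroup.map (center T) (center T) ρ.toMonoidHom fun z hz => S.center_invariant hz,
    fun y => rfl, fun v => ?_, fun v hv => ?_, fun v => ?_⟩
  · obtain ⟨y, rfl⟩ := QuotientGroup.mk_surjective v
    exact congrArg _ (S.three y)
  · obtain ⟨y, rfl⟩ := QuotientGroup.mk_surjective v
    exact (QuotientGroup.eq_one_iff _).2 (S.fpf_quot (QuotientGroup.eq.1 hv.symm))
  · obtain ⟨y, rfl⟩ := QuotientGroup.mk_surjective v
    show ((ρ (ρ y) : T) : T ⧸ center T) = (y : T ⧸ center T) * ((ρ y : T) : T ⧸ center T)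
    rw [S.rho2, QuotientGroup.mk_inv, S.quot_inv, QuotientGroup.mk_mul]

omit [Finite T] S in
/-- Membership in the orbit span. -/
def InSpan (σ : (T ⧸ center T) →* (T ⧸ center T)) (r v : T ⧸ center T) : Prop :=
  v = 1 ∨ v = r ∨ v = σ r ∨ v = σ (σ r)

/-- The unitriangular model. -/
theorem exists_equiv {F : Type*} [Field F] [Fintype F] (hF : Fintype.card F = 4)
    {M : Type*} [Group M] (el : F → F → F → M)
    (hel : ∀ a b c a' b' c', el a b c * el a' b' c' = el (a + a') (b + b') (c + c' + a * b'))
    (hsur : ∀ m : M, ∃ a b c, el a b c = m) (hcM : Nat.card M = 64)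
    (σ : (T ⧸ center T) →* (T ⧸ center T))
    (hσ : ∀ y : T, σ (y : T ⧸ center T) = ((ρ y : T) : T ⧸ center T))
    (a b : T) (haa : a * a = 1) (hbb : b * b = 1) (ha : a ∉ center T)
    (hb : ¬ InSpan σ (a : T ⧸ center T) (b : T ⧸ center T)) : Nonempty (M ≃* T) := by
  classical
  obtain ⟨w, hw0, hw1⟩ : ∃ w : F, w ≠ 0 ∧ w ≠ 1 := by
    by_contra h
    push Not at h
    have : Fintype.card F ≤ 2 := by
      refine le_trans (Fintype.card_le_of_injective (fun x : F => decide (x = 0)) fun x y e => ?_)
        (by simp)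
      simp only [decide_eq_decide] at e
      by_cases hx : x = 0
      · rw [hx, e.1 hx]
      · rw [h x hx, h y fun hy => hx (e.2 hy)]
    omega
  obtain ⟨hq, h2, -, -, -, hall⟩ := four_cases hF hw0 hw1
  obtain ⟨hA, hAadd, hA1, hAw⟩ := exists_klein_hom hF hw0 hw1 a (ρ a) haa (S.involution_orbit haa).1
    (S.comm_image a)
  obtain ⟨hB, hBadd, hB1, hBw⟩ := exists_klein_hom hF hw0 hw1 b (ρ b) hbb (S.involution_orbit hbb).1
    (S.comm_image b)
  obtain ⟨c, hc⟩ : ∃ c, c = ⁅a, b⁆ := ⟨_, rfl⟩
  have hcz : c ∈ center T := hc ▸ S.cm_mem _ _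
  have hcr : ρ (ρ c) ∈ center T := S.center_invariant (S.center_invariant hcz)
  obtain ⟨hZ, hZadd, hZ1, hZw⟩ := exists_klein_hom hF hw0 hw1 c (ρ (ρ c)) (S.center_exp hcz)
    (S.center_exp hcr) ((mem_center_iff.1 hcz _).symm)
  have hA0 : hA 0 = 1 := by have := hAadd 0 0; rwa [add_zero, left_eq_mul] at this
  have hB0 : hB 0 = 1 := by have := hBadd 0 0; rwa [add_zero, left_eq_mul] at this
  have hZ0 : hZ 0 = 1 := by have := hZadd 0 0; rwa [add_zero, left_eq_mul] at this
  have hAz : hA (1 + w) = a * ρ a := by rw [hAadd, hA1, hAw]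
  have hBz : hB (1 + w) = b * ρ b := by rw [hBadd, hB1, hBw]
  have hZz : hZ (1 + w) = c * ρ (ρ c) := by rw [hZadd, hZ1, hZw]
  have hcρ : c * ρ (ρ c) = ρ c := by
    rw [← S.center_orbit hcz, ← mul_assoc, S.center_exp hcz, one_mul]
  have hpair : ∀ x y, ⁅hA x, hB y⁆ = hZ (x * y) := by
    have h1 : ⁅a, ρ b⁆ = ρ (ρ c) := hc ▸ (S.pairing a b).1
    have h2' : ⁅ρ a, b⁆ = ρ (ρ c) := hc ▸ (S.pairing a b).2
    have h3 : ⁅ρ a, ρ b⁆ = ρ c := by rw [hc, cm_map]
    have hlin : ∀ y, ⁅a, hB y⁆ = hZ y ∧ ⁅ρ a, hB y⁆ = hZ (w * y) := by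
      intro y
      rcases hall y with eq_ | eq_ | eq_ | eq_ <;> subst y
      · rw [hB0, mul_zero, hZ0, commutatorElement_one_right, commutatorElement_one_right]
        exact ⟨rfl, rfl⟩
      · rw [hB1, mul_one, hZ1, hZw]; exact ⟨hc.symm, h2'⟩
      · rw [hBw, hq, hZz, hZw, hcρ]; exact ⟨h1, h3⟩
      · rw [hBz, S.cm_mul_right, S.cm_mul_right, ← hc, h1, h2', h3, hZz,
          show w * (1 + w) = 1 by linear_combination hq + w * h2, hZ1]
        refine ⟨rfl, ?_⟩
        rw [mem_center_iff.1 (S.center_invariant hcz) (ρ (ρ c))]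
        have : ρ c * ρ (ρ c) = c := by
          rw [← S.center_orbit hcz, ← mul_assoc, mem_center_iff.1 hcz (ρ c), mul_assoc,
            S.center_exp (S.center_invariant hcz), mul_one]
        exact this
    intro x y
    rcases hall x with eq_ | eq_ | eq_ | eq_ <;> subst x
    · rw [hA0, zero_mul, hZ0, commutatorElement_one_left]
    · rw [hA1, one_mul]; exact (hlin y).1
    · rw [hAw]; exact (hlin y).2
    · rw [hAz, S.cm_mul_left, (hlin y).1, (hlin y).2, add_mul, one_mul, hZadd]
  have hZc : ∀ x, hZ x ∈ center T := fun x => by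
    rcases hall x with eq_ | eq_ | eq_ | eq_ <;> subst x
    · rw [hZ0]; exact one_mem _
    · rw [hZ1]; exact hcz
    · rw [hZw]; exact hcr
    · rw [hZz]; exact mul_mem hcz hcr
  choose pa pb pc hp using hsur
  -- the coordinates are unique
  have hel_inj : ∀ a b c a' b' c', el a b c = el a' b' c' → a = a' ∧ b = b' ∧ c = c' := by
    haveI : Finite M := Nat.finite_of_card_ne_zero (by rw [hcM]; norm_num)
    haveI := Fintype.ofFinite M
    have hs : Function.Surjective fun p : F × F × F => el p.1 p.2.1 p.2.2 :=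
      fun m => ⟨(pa m, pb m, pc m), hp m⟩
    have hb := (Fintype.bijective_iff_surjective_and_card _).2 ⟨hs, by
      rw [Fintype.card_prod, Fintype.card_prod, hF, ← Nat.card_eq_fintype_card, hcM]⟩
    intro a b c a' b' c' e
    have := hb.1 (a₁ := (a, b, c)) (a₂ := (a', b', c')) e
    simpa using this
  let Ψ : M → T := fun m => hB (pb m) * hA (pa m) * hZ (pc m)
  have hval : ∀ x y z, Ψ (el x y z) = hB y * hA x * hZ z := fun x y z => by
    obtain ⟨e1, e2, e3⟩ := hel_inj _ _ _ _ _ _ (hp (el x y z))
    simp only [Ψ, e1, e2, e3]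
  let Φ : M →* T := MonoidHom.mk' Ψ fun m m' => by
    obtain ⟨x, y, z, rfl⟩ := (⟨pa m, pb m, pc m, hp m⟩ : ∃ x y z, el x y z = m)
    obtain ⟨x', y', z', rfl⟩ := (⟨pa m', pb m', pc m', hp m'⟩ : ∃ x y z, el x y z = m')
    rw [hel, hval, hval, hval, hBadd, hAadd, hZadd, hZadd, ← hpair x y']
    have c1 := mem_center_iff.1 (hZc z)
    have c2 := mem_center_iff.1 (S.cm_mem (hA x) (hB y'))
    calc hB y * hB y' * (hA x * hA x') * (hZ z * hZ z' * ⁅hA x, hB y'⁆)
        = hB y * (⁅hA x, hB y'⁆ * (hB y' * hA x)) * hA x' * (hZ z * hZ z') := by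
          rw [c2 (hZ z * hZ z'), ← mul_assoc _ ⁅hA x, hB y'⁆, c2 (hB y * hB y' * (hA x * hA x'))]
          rw [← mul_assoc (hB y) ⁅hA x, hB y'⁆, c2 (hB y)]
          group
      _ = hB y * (hA x * hB y') * hA x' * (hZ z * hZ z') := by
          rw [show ⁅hA x, hB y'⁆ * (hB y' * hA x) = hA x * hB y' by rw [cm_def]; group]
      _ = hB y * hA x * ((hB y' * hA x') * hZ z) * hZ z' := by group
      _ = hB y * hA x * (hZ z * (hB y' * hA x')) * hZ z' := by rw [c1]
      _ = hB y * hA x * hZ z * (hB y' * hA x' * hZ z') := by group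
  have hclass : ∀ (g : T) (f : F → T), f 0 = 1 → f 1 = g → f w = ρ g → f (1 + w) = g * ρ g →
      ∀ x, InSpan σ (g : T ⧸ center T) (f x : T ⧸ center T) := by
    intro g f f0 f1 fw fz x
    rcases hall x with eq_ | eq_ | eq_ | eq_ <;> subst x
    · exact Or.inl (by rw [f0]; rfl)
    · exact Or.inr (Or.inl (by rw [f1]))
    · exact Or.inr (Or.inr (Or.inl (by rw [fw, hσ])))
    · refine Or.inr (Or.inr (Or.inr ?_))
      rw [fz, hσ, hσ, S.rho2, QuotientGroup.mk_inv, S.quot_inv]
  have hspanσ : ∀ v, InSpan σ (a : T ⧸ center T) v → InSpan σ (a : T ⧸ center T) (σ v) := by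
    intro v hv
    rcases hv with eq_ | eq_ | eq_ | eq_ <;> subst v
    · exact Or.inl (map_one σ)
    · exact Or.inr (Or.inr (Or.inl rfl))
    · exact Or.inr (Or.inr (Or.inr rfl))
    · exact Or.inr (Or.inl (by rw [hσ, hσ, hσ, S.three]))
  have hinj : Function.Injective Φ := by
    rw [injective_iff_map_eq_one]
    intro m hm
    obtain ⟨x, y, z, rfl⟩ := (⟨pa m, pb m, pc m, hp m⟩ : ∃ x y z, el x y z = m)
    have hm' : hB y * hA x * hZ z = 1 := (hval x y z).symm.trans hm
    have hmod : ((hB y : T) : T ⧸ center T) = (hA x : T ⧸ center T) := by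
      have := congrArg (QuotientGroup.mk' (center T)) hm'
      simp only [map_mul, map_one, QuotientGroup.mk'_apply, (QuotientGroup.eq_one_iff _).2 (hZc z),
        mul_one] at this
      rw [← S.quot_inv (hA x : T ⧸ center T)]
      exact eq_inv_of_mul_eq_one_left this
    have hy : y = 0 := by
      by_contra hy
      have h1 : InSpan σ (a : T ⧸ center T) (hB y : T ⧸ center T) := hmod ▸ hclass a hA hA0 hA1 hAw hAz x
      rcases hall y with eq_ | eq_ | eq_ | eq_ <;> subst y
      · exact hy rfl
      · rw [hB1] at h1; exact hb h1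
      · rw [hBw, ← hσ] at h1
        have h4 := hspanσ _ (hspanσ _ h1)
        rw [hσ, hσ, hσ, S.three] at h4; exact hb h4
      · rw [hBz, ← S.quot_inv ((b * ρ b : T) : T ⧸ center T), ← QuotientGroup.mk_inv, ← S.rho2,
          ← hσ, ← hσ] at h1
        have h4 := hspanσ _ h1
        rw [hσ, hσ, hσ, S.three] at h4; exact hb h4
    subst hy
    rw [hB0, one_mul] at hm'
    rw [hB0, QuotientGroup.mk_one, eq_comm, QuotientGroup.eq_one_iff] at hmod
    have hx : x = 0 := by
      rcases hall x with eq_ | eq_ | eq_ | eq_ <;> subst x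
      · rfl
      · rw [hA1] at hmod; exact absurd hmod ha
      · rw [hAw] at hmod; exact absurd (S.center_invariant' hmod) ha
      · rw [hAz] at hmod
        refine absurd ?_ ha
        apply S.center_invariant'; apply S.center_invariant'
        rw [S.rho2]; exact inv_mem hmod
    subst hx
    rw [hA0, one_mul] at hm'
    have hc1 : c ≠ 1 := by
      intro hc1
      -- otherwise everything commutes
      obtain ⟨g, g', hgg⟩ := S.nab
      have hZ1' : ∀ x, hZ x = 1 := fun x => by
        rcases hall x with eq_ | eq_ | eq_ | eq_ <;> subst x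
        · exact hZ0
        · rw [hZ1, hc1]
        · rw [hZw, hc1, map_one, map_one]
        · rw [hZz, hc1, map_one, map_one, one_mul]
      let gens : Set T := {a, ρ a, b, ρ b}
      have hgen : ∀ u ∈ gens, ∀ v ∈ gens, u * v = v * u := by
        have k : ∀ x y, hA x * hB y = hB y * hA x := fun x y =>
          commutatorElement_eq_one_iff_mul_comm.1 ((hpair x y).trans (hZ1' _))
        intro u hu v hv
        rcases hu with eq_ | eq_ | eq_ | eq_ <;> subst u <;> rcases hv with eq_ | eq_ | eq_ | eq_ <;> subst v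
        · rfl
        · exact S.comm_image a
        · have := k 1 1; rwa [hA1, hB1] at this
        · have := k 1 w; rwa [hA1, hBw] at this
        · exact (S.comm_image a).symm
        · rfl
        · have := k w 1; rwa [hAw, hB1] at this
        · have := k w w; rwa [hAw, hBw] at this
        · have := k 1 1; rw [hA1, hB1] at this; exact this.symm
        · have := k w 1; rw [hAw, hB1] at this; exact this.symm
        · rfl
        · exact S.comm_image b
        · have := k 1 w; rw [hA1, hBw] at this; exact this.symm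
        · have := k w w; rw [hAw, hBw] at this; exact this.symm
        · exact (S.comm_image b).symm
        · rfl
      let K : Subgroup T := closure gens ⊔ center T
      have hKc : ∀ u ∈ gens, K ≤ centralizer ({u} : Set T) := fun u hu => sup_le
        ((closure_le _).2 fun v hv => mem_centralizer_singleton_iff.2 (hgen v hv u hu))
        (center_le_centralizer _)
      -- the quotient has order sixteen and is covered
      let p : F × F → T ⧸ center T := fun q => ((hB q.1 * hA q.2 : T) : T ⧸ center T)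
      have hadd' : ∀ x : F, x + x = 0 := fun x => by linear_combination x * h2
      have hpi : Function.Injective p := by
        rintro ⟨x, y⟩ ⟨x', y'⟩ e
        have e' : ((hB (x + x') : T) : T ⧸ center T) = ((hA (y + y') : T) : T ⧸ center T) := by
          have e0 : ((hB x : T) : T ⧸ center T) * (hA y : T ⧸ center T) =
              (hB x' : T ⧸ center T) * (hA y' : T ⧸ center T) := e
          rw [hBadd, hAadd, QuotientGroup.mk_mul, QuotientGroup.mk_mul]
          calc (hB x : T ⧸ center T) * (hB x' : T ⧸ center T)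
              = ((hB x : T ⧸ center T) * (hA y : T ⧸ center T)) * ((hA y : T ⧸ center T) * (hB x' : T ⧸ center T)) := by
                rw [mul_assoc, ← mul_assoc (hA y : T ⧸ center T), S.quot_sq, one_mul]
            _ = ((hB x' : T ⧸ center T) * (hA y' : T ⧸ center T)) * ((hA y : T ⧸ center T) * (hB x' : T ⧸ center T)) := by rw [e0]
            _ = _ := by
                rw [S.quot_comm (hA y : T ⧸ center T) (hA y' : T ⧸ center T),
                  S.quot_comm (hB x' : T ⧸ center T) (hA y' : T ⧸ center T),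
                  S.quot_comm (hA y : T ⧸ center T) (hB x' : T ⧸ center T), mul_assoc, ← mul_assoc
                  (hB x' : T ⧸ center T), S.quot_sq, one_mul]
        have h1 : InSpan σ (a : T ⧸ center T) (hB (x + x') : T ⧸ center T) :=
          e' ▸ hclass a hA hA0 hA1 hAw hAz _
        have hxx : x + x' = 0 := by
          by_contra hne
          rcases hall (x + x') with h | h | h | h <;> rw [h] at h1
          · exact hne h
          · rw [hB1] at h1; exact hb h1
          · rw [hBw, ← hσ] at h1
            have h4 := hspanσ _ (hspanσ _ h1)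
            rw [hσ, hσ, hσ, S.three] at h4; exact hb h4
          · rw [hBz, ← S.quot_inv ((b * ρ b : T) : T ⧸ center T), ← QuotientGroup.mk_inv, ← S.rho2,
              ← hσ, ← hσ] at h1
            have h4 := hspanσ _ h1
            rw [hσ, hσ, hσ, S.three] at h4; exact hb h4
        have hyy : y + y' = 0 := by
          rw [hxx, hB0, QuotientGroup.mk_one, eq_comm, QuotientGroup.eq_one_iff] at e'
          rcases hall (y + y') with h | h | h | h <;> rw [h] at e'
          · exact h
          · rw [hA1] at e'; exact absurd e' ha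
          · rw [hAw] at e'; exact absurd (S.center_invariant' e') ha
          · rw [hAz] at e'
            refine absurd ?_ ha
            apply S.center_invariant'; apply S.center_invariant'
            rw [S.rho2]; exact inv_mem e'
        exact Prod.ext (by linear_combination hxx - x' * h2) (by linear_combination hyy - y' * h2)
      haveI := Fintype.ofFinite (T ⧸ center T)
      have hq16 : Fintype.card (F × F) = Fintype.card (T ⧸ center T) := by
        have := card_eq_card_quotient_mul_card_subgroup (center T)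
        rw [S.card, S.card_center, Nat.card_eq_fintype_card] at this
        rw [Fintype.card_prod, hF]; omega
      have hp' := (Fintype.bijective_iff_injective_and_card p).2 ⟨hpi, hq16⟩
      have hKtop : ∀ t, t ∈ K := by
        intro t
        obtain ⟨⟨x, y⟩, e⟩ := hp'.2 (t : T ⧸ center T)
        have e2 := QuotientGroup.eq.1 e
        have hmemK : hB x * hA y ∈ K := by
          refine mem_sup_left (mul_mem ?_ ?_)
          · rcases hall x with eq_ | eq_ | eq_ | eq_ <;> subst x
            · rw [hB0]; exact one_mem _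
            · rw [hB1]; exact subset_closure (by simp [gens])
            · rw [hBw]; exact subset_closure (by simp [gens])
            · rw [hBz]; exact mul_mem (subset_closure (by simp [gens])) (subset_closure (by simp [gens]))
          · rcases hall y with eq_ | eq_ | eq_ | eq_ <;> subst y
            · rw [hA0]; exact one_mem _
            · rw [hA1]; exact subset_closure (by simp [gens])
            · rw [hAw]; exact subset_closure (by simp [gens])
            · rw [hAz]; exact mul_mem (subset_closure (by simp [gens])) (subset_closure (by simp [gens]))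
        have := K.mul_mem hmemK (mem_sup_right e2 : (hB x * hA y)⁻¹ * t ∈ K)
        rwa [mul_inv_cancel_left] at this
      have hcen : ∀ u ∈ gens, u ∈ center T := fun u hu => mem_center_iff.2 fun t =>
        mem_centralizer_singleton_iff.1 (hKc u hu (hKtop t))
      exact ha (hcen a (by simp [gens]))
    have hz : z = 0 := by
      rcases hall z with eq_ | eq_ | eq_ | eq_ <;> subst z
      · rfl
      · rw [hZ1] at hm'; exact absurd hm' hc1
      · rw [hZw, ← map_one ρ] at hm'
        have h5 := ρ.injective hm'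
        rw [← map_one ρ] at h5
        exact absurd (ρ.injective h5) hc1
      · rw [hZz, hcρ, ← map_one ρ] at hm'; exact absurd (ρ.injective hm') hc1
    subst hz
    have h000 := hel 0 0 0 0 0 0
    rw [add_zero, zero_mul, add_zero] at h000
    exact left_eq_mul.1 h000.symm |> fun e => e
  haveI := Fintype.ofFinite T
  haveI : Finite M := Nat.finite_of_card_ne_zero (by rw [hcM]; norm_num)
  haveI := Fintype.ofFinite M
  have hbij := (Fintype.bijective_iff_injective_and_card Φ).2 ⟨hinj, by
    rw [← Nat.card_eq_fintype_card, ← Nat.card_eq_fintype_card, hcM, S.card]⟩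
  exact ⟨MulEquiv.ofBijective Φ hbij⟩

/-- Fixed elements with independent images. -/
theorem exists_fixed_pair (x : MulAut T) (hx : ∀ y, x (x y) = y) (hxr : ∀ y, x (ρ y) = ρ (ρ (x y)))
    (σ : (T ⧸ center T) →* (T ⧸ center T))
    (hσ : ∀ y : T, σ (y : T ⧸ center T) = ((ρ y : T) : T ⧸ center T)) :
    ∃ z0 r s : T, z0 ∈ center T ∧ z0 ≠ 1 ∧ x z0 = z0 ∧ (∀ z ∈ center T, x z = z → z = 1 ∨ z = z0) ∧
      x r = r ∧ x s = s ∧ r ∉ center T ∧ ¬ InSpan σ (r : T ⧸ center T) (s : T ⧸ center T) ∧
      ∀ y : T, x y = y → (y : T ⧸ center T) = 1 ∨ (y : T ⧸ center T) = (r : T ⧸ center T) ∨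
        (y : T ⧸ center T) = (s : T ⧸ center T) ∨ (y : T ⧸ center T) = (r : T ⧸ center T) * (s : T ⧸ center T) := by
  classical
  have hcx : ∀ z ∈ center T, x z ∈ center T := fun z hz => mem_center_iff.2 fun y => by
    obtain ⟨y, rfl⟩ := x.surjective y
    rw [← map_mul, ← map_mul, mem_center_iff.1 hz y]
  haveI := Fintype.ofFinite ↥(center T)
  have hcard : Fintype.card ↥(center T) = 4 := by rw [← Nat.card_eq_fintype_card, S.card_center]
  obtain ⟨⟨z, hz⟩, hz1⟩ := Fintype.exists_ne_of_one_lt_card (by rw [hcard]; norm_num) (1 : ↥(center T))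
  replace hz1 : z ≠ 1 := fun e => hz1 (Subtype.ext e)
  -- the centre is one orbit
  have horb : ∀ y ∈ center T, y = 1 ∨ y = z ∨ y = ρ z ∨ y = ρ (ρ z) := by
    intro y hy
    let f : Fin 4 → ↥(center T) := ![1, ⟨z, hz⟩, ⟨ρ z, S.center_invariant hz⟩,
      ⟨ρ (ρ z), S.center_invariant (S.center_invariant hz)⟩]
    have h12 : z ≠ ρ z := fun e => hz1 (S.fpf z e.symm)
    have h13 : z ≠ ρ (ρ z) := fun e => hz1 (S.fpf z (by
      have := congrArg ρ e; rw [S.three] at this; exact this))
    have h23 : ρ z ≠ ρ (ρ z) := fun e => h12 (ρ.injective e)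
    have h01 : ρ z ≠ 1 := fun e => hz1 (ρ.injective (e.trans (map_one ρ).symm))
    have h02 : ρ (ρ z) ≠ 1 := fun e => h01 (ρ.injective (e.trans (map_one ρ).symm))
    have hf : Function.Injective f := by
      intro i j e
      have e' := congrArg Subtype.val e
      fin_cases i <;> fin_cases j <;> simp [f] at e' <;>
        first | rfl | exact absurd e' hz1 | exact absurd e'.symm hz1 | exact absurd e' h12 |
          exact absurd e'.symm h12 | exact absurd e' h13 | exact absurd e'.symm h13 |
          exact absurd e' h23 | exact absurd e'.symm h23 | exact absurd e' h01 | exact absurd e'.symm h01 |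
          exact absurd e' h02 | exact absurd e'.symm h02
    obtain ⟨i, hi⟩ := ((Fintype.bijective_iff_injective_and_card f).2
      ⟨hf, by rw [Fintype.card_fin, hcard]⟩).2 ⟨y, hy⟩
    have hi' := (congrArg Subtype.val hi).symm
    fin_cases i <;> simp [f] at hi'
    · exact Or.inl hi'
    · exact Or.inr (Or.inl hi')
    · exact Or.inr (Or.inr (Or.inl hi'))
    · exact Or.inr (Or.inr (Or.inr hi'))
  have hxz1 : x z ≠ 1 := fun e => hz1 (x.injective (e.trans (map_one x).symm))
  obtain ⟨z0, hz0, hz01, hxz0⟩ : ∃ z0 ∈ center T, z0 ≠ 1 ∧ x z0 = z0 := by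
    rcases horb _ (hcx z hz) with e | e | e | e
    · exact absurd e hxz1
    · exact ⟨z, hz, hz1, e⟩
    · refine ⟨ρ (ρ z), S.center_invariant (S.center_invariant hz), fun e' => hz1 ?_, ?_⟩
      · exact ρ.injective (ρ.injective (by rw [e', map_one, map_one]))
      · rw [hxr, hxr, S.three, e]
    · refine ⟨ρ z, S.center_invariant hz, fun e' => hz1 (ρ.injective (e'.trans (map_one ρ).symm)), ?_⟩
      rw [hxr, e]
      calc ρ (ρ (ρ (ρ z))) = ρ z := by rw [S.three (ρ z)]
        _ = ρ z := rfl
  have hρρz0 : x (ρ z0) = ρ (ρ z0) := by rw [hxr, hxz0]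
  have hρρρz0 : x (ρ (ρ z0)) = ρ z0 := by rw [hxr, hρρz0, S.three]
  have hfixz : ∀ w ∈ center T, x w = w → w = 1 ∨ w = z0 := by
    intro w hw hxw
    have h1 := (horb w hw)
    have h0 := (horb z0 hz0).resolve_left hz01
    have hρ0 : ∀ v, v = z ∨ v = ρ z ∨ v = ρ (ρ z) → v = z0 ∨ v = ρ z0 ∨ v = ρ (ρ z0) := by
      rintro v (rfl | rfl | rfl) <;> rcases h0 with rfl | rfl | rfl <;> simp [S.three]
    rcases h1 with h1 | h1
    · exact Or.inl h1
    · rcases hρ0 w h1 with rfl | rfl | rfl
      · exact Or.inr rfl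
      · exact absurd ((hρρz0.symm.trans hxw) : ρ (ρ z0) = ρ z0)
          (fun e => hz01 (S.fpf z0 (ρ.injective e)))
      · exact absurd ((hρρρz0.symm.trans hxw) : ρ z0 = ρ (ρ z0))
          (fun e => hz01 (S.fpf z0 (ρ.injective e.symm)))
  let τ : (T ⧸ center T) →* (T ⧸ center T) :=
    QuotientGroup.map (center T) (center T) x.toMonoidHom fun w hw => hcx w hw
  have hτ : ∀ y : T, τ (y : T ⧸ center T) = ((x y : T) : T ⧸ center T) := fun y => rfl
  have hττ : ∀ v, τ (τ v) = v := fun v => by
    obtain ⟨y, rfl⟩ := QuotientGroup.mk_surjective v; rw [hτ, hτ, hx]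
  have hτσ : ∀ v, τ (σ v) = σ (σ (τ v)) := fun v => by
    obtain ⟨y, rfl⟩ := QuotientGroup.mk_surjective v; rw [hσ, hτ, hτ, hσ, hσ, hxr]
  have hσσσ : ∀ v, σ (σ (σ v)) = v := fun v => by
    obtain ⟨y, rfl⟩ := QuotientGroup.mk_surjective v; rw [hσ, hσ, hσ, S.three]
  have hσσ : ∀ v, σ (σ v) = v * σ v := fun v => by
    obtain ⟨y, rfl⟩ := QuotientGroup.mk_surjective v
    rw [hσ, hσ, S.rho2, QuotientGroup.mk_inv, S.quot_inv, QuotientGroup.mk_mul]
  have hσne : ∀ v, v ≠ 1 → σ v ≠ v := fun v hv e => hv (by
    obtain ⟨y, rfl⟩ := QuotientGroup.mk_surjective v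
    rw [hσ] at e
    exact (QuotientGroup.eq_one_iff _).2 (S.fpf_quot (QuotientGroup.eq.1 e.symm)))
  -- a subgroup stable under `σ` containing all fixed points is everything
  have hall : ∀ W : T ⧸ center T → Prop, (∀ v w, W v → W w → W (v * w)) → (∀ v, W v → W (σ v)) →
      (∀ v, τ v = v → W v) → ∀ v, W v := by
    intro W hm hs hf v
    have h1 : ∀ u, W (u * τ u) := fun u => hf _ (by rw [map_mul, hττ, S.quot_comm])
    have e : (σ (v * τ v)) * (σ v * τ (σ v)) = τ v := by
      rw [hτσ, map_mul, hσσ (τ v), S.quot_comm (σ v) (σ (τ v))]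
      calc σ (τ v) * σ v * (σ v * (τ v * σ (τ v))) = σ (τ v) * (σ v * σ v) * (τ v * σ (τ v)) := by
            group
        _ = σ (τ v) * (τ v * σ (τ v)) := by rw [S.quot_sq, mul_one]
        _ = τ v := by
            rw [S.quot_comm (τ v) (σ (τ v)), ← mul_assoc, S.quot_sq, one_mul]
    have h2 : ∀ u, W (τ u) := fun u => by
      have := hm _ _ (hs _ (h1 u)) (h1 (σ u))
      have e' : (σ (u * τ u)) * (σ u * τ (σ u)) = τ u := by
        rw [hτσ, map_mul, hσσ (τ u), S.quot_comm (σ u) (σ (τ u))]
        calc σ (τ u) * σ u * (σ u * (τ u * σ (τ u))) = σ (τ u) * (σ u * σ u) * (τ u * σ (τ u)) := by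
              group
          _ = σ (τ u) * (τ u * σ (τ u)) := by rw [S.quot_sq, mul_one]
          _ = τ u := by rw [S.quot_comm (τ u) (σ (τ u)), ← mul_assoc, S.quot_sq, one_mul]
      rwa [e'] at this
    simpa [hττ] using h2 (τ v)
  haveI := Fintype.ofFinite (T ⧸ center T)
  have hV : Fintype.card (T ⧸ center T) = 16 := by
    have := card_eq_card_quotient_mul_card_subgroup (center T)
    rw [S.card, S.card_center, Nat.card_eq_fintype_card] at this
    omega
  obtain ⟨r, hr, hr1⟩ : ∃ r, τ r = r ∧ r ≠ 1 := by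
    by_contra hno
    push Not at hno
    have := hall (fun v => v = 1) (fun v w e e' => by rw [e, e', one_mul])
      (fun v e => by rw [e, map_one]) hno
    haveI : Subsingleton (T ⧸ center T) := ⟨fun v w => (this v).trans (this w).symm⟩
    have := Fintype.card_le_one_iff_subsingleton.2 this
    omega
  have hspanmul : ∀ v w, InSpan σ r v → InSpan σ r w → InSpan σ r (v * w) := by
    have q1 : r * σ r = σ (σ r) := (hσσ r).symm
    have q2 : r * σ (σ r) = σ r := by rw [hσσ, ← mul_assoc, S.quot_sq, one_mul]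
    have q3 : σ r * σ (σ r) = r := by
      rw [hσσ, S.quot_comm r (σ r), ← mul_assoc, S.quot_sq, one_mul]
    have q4 : σ r * r = σ (σ r) := by rw [S.quot_comm, q1]
    have q5 : σ (σ r) * r = σ r := by rw [S.quot_comm, q2]
    have q6 : σ (σ r) * σ r = r := by rw [S.quot_comm, q3]
    intro v w hv hw
    rcases hv with eq_ | eq_ | eq_ | eq_ <;> subst v <;> rcases hw with eq_ | eq_ | eq_ | eq_ <;> subst w <;>
      simp [InSpan, S.quot_sq, q1, q2, q3, q4, q5, q6]
  obtain ⟨s, hs, hsW⟩ : ∃ s, τ s = s ∧ ¬ InSpan σ r s := by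
    by_contra hno
    push Not at hno
    have := hall (InSpan σ r) hspanmul (fun v hv => by
      rcases hv with eq_ | eq_ | eq_ | eq_ <;> subst v
      · exact Or.inl (map_one σ)
      · exact Or.inr (Or.inr (Or.inl rfl))
      · exact Or.inr (Or.inr (Or.inr rfl))
      · exact Or.inr (Or.inl (hσσσ r))) hno
    have hle : Fintype.card (T ⧸ center T) ≤ ({1, r, σ r, σ (σ r)} : Finset (T ⧸ center T)).card := by
      rw [← Finset.card_univ]
      exact Finset.card_le_card fun v _ => by simpa [InSpan] using this v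
    have : ({1, r, σ r, σ (σ r)} : Finset (T ⧸ center T)).card ≤ 4 := Finset.card_le_four
    omega
  have hlift : ∀ v, τ v = v → ∃ y, x y = y ∧ (y : T ⧸ center T) = v := by
    intro v hv
    obtain ⟨y, rfl⟩ := QuotientGroup.mk_surjective v
    rw [hτ, eq_comm, QuotientGroup.eq] at hv
    obtain ⟨w, hw⟩ : ∃ w, w = y⁻¹ * x y := ⟨_, rfl⟩
    rw [← hw] at hv
    have hxy : x y = y * w := by rw [hw, mul_inv_cancel_left]
    have hxw : x w = w := by
      have e : x w = (x y)⁻¹ * y := by rw [hw, map_mul, map_inv, hx]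
      rw [e, hxy, _root_.mul_inv_rev, inv_mul_cancel_right, inv_eq_of_mul_eq_one_right (S.center_exp hv)]
    rcases hfixz w hv hxw with rfl | rfl
    · exact ⟨y, by rw [hxy, mul_one], rfl⟩
    · refine ⟨y * ρ w, ?_, ?_⟩
      · rw [map_mul, hxy, hρρz0, mul_assoc]
        congr 1
        rw [← S.center_orbit hz0, ← mul_assoc, S.center_exp hz0, one_mul]
      · rw [QuotientGroup.mk_mul, (QuotientGroup.eq_one_iff _).2 (S.center_invariant hv), mul_one]
  obtain ⟨r', hr'x, hr'⟩ := hlift r hr
  obtain ⟨s', hs'x, hs'⟩ := hlift s hs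
  refine ⟨z0, r', s', hz0, hz01, hxz0, hfixz, hr'x, hs'x, fun hc => hr1 ?_, ?_, fun y hy => ?_⟩
  · rw [← hr']; exact (QuotientGroup.eq_one_iff _).2 hc
  · rw [hr', hs']; exact hsW
  have hv : τ (y : T ⧸ center T) = (y : T ⧸ center T) := by rw [hτ, hy]
  -- every class is a product
  have hs1 : s ≠ 1 := fun e => hsW (Or.inl e)
  have hrsum : ∀ v, InSpan σ r v → τ v = v → v = 1 ∨ v = r := by
    intro v hv h
    rcases hv with eq_ | eq_ | eq_ | eq_ <;> subst v
    · exact Or.inl rfl
    · exact Or.inr rfl
    · rw [hτσ, hr] at h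
      exact absurd h (hσne _ (fun e => hr1 (by rw [← hσσσ r, e, map_one, map_one])))
    · rw [hτσ, hτσ, hr, hσσσ] at h
      exact absurd h.symm (hσne _ (fun e => hr1 (by rw [← hσσσ r, e, map_one, map_one])))
  have hssum : ∀ v, InSpan σ s v → τ v = v → v = 1 ∨ v = s := by
    intro v hv h
    rcases hv with eq_ | eq_ | eq_ | eq_ <;> subst v
    · exact Or.inl rfl
    · exact Or.inr rfl
    · rw [hτσ, hs] at h
      exact absurd h (hσne _ (fun e => hs1 (by rw [← hσσσ s, e, map_one, map_one])))
    · rw [hτσ, hτσ, hs, hσσσ] at h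
      exact absurd h.symm (hσne _ (fun e => hs1 (by rw [← hσσσ s, e, map_one, map_one])))
  let P : Finset (T ⧸ center T) := {1, r, σ r, σ (σ r)}
  let Q : Finset (T ⧸ center T) := {1, s, σ s, σ (σ s)}
  have hP : ∀ v, v ∈ P ↔ InSpan σ r v := fun v => by simp [P, InSpan]
  have hQ : ∀ v, v ∈ Q ↔ InSpan σ s v := fun v => by simp [Q, InSpan]
  have hσW : ∀ v, InSpan σ r v → InSpan σ r (σ v) := by
    intro v hv
    rcases hv with eq_ | eq_ | eq_ | eq_ <;> subst v
    · exact Or.inl (map_one σ)
    · exact Or.inr (Or.inr (Or.inl rfl))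
    · exact Or.inr (Or.inr (Or.inr rfl))
    · exact Or.inr (Or.inl (hσσσ r))
  have hinter : ∀ v, InSpan σ r v → InSpan σ s v → v = 1 := by
    intro v h1 h2
    rcases h2 with eq_ | eq_ | eq_ | eq_ <;> subst v
    · rfl
    · exact absurd h1 hsW
    · have := hσW _ (hσW _ h1); rw [hσσσ] at this; exact absurd this hsW
    · have := hσW _ h1; rw [hσσσ] at this; exact absurd this hsW
  have hcP : ∀ t : T ⧸ center T, t ≠ 1 → ({1, t, σ t, σ (σ t)} : Finset (T ⧸ center T)).card = 4 := by
    intro t ht
    have a1 : σ t ≠ 1 := fun e => ht (by rw [← hσσσ t, e, map_one, map_one])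
    have a2 : σ (σ t) ≠ 1 := fun e => a1 (by rw [← hσσσ (σ t), e, map_one, map_one])
    have a3 : σ t ≠ t := hσne _ ht
    have a4 : σ (σ t) ≠ σ t := hσne _ a1
    have a5 : σ (σ t) ≠ t := fun e => a3 (by conv_lhs => rw [← e, hσσσ])
    rw [Finset.card_insert_of_notMem (by simp [ht.symm, a1.symm, a2.symm]),
      Finset.card_insert_of_notMem (by simp [a3.symm, a5.symm]),
      Finset.card_insert_of_notMem (by simpa using a4.symm), Finset.card_singleton]
  have hcov : (P ×ˢ Q).image (fun p => p.1 * p.2) = Finset.univ := by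
    apply Finset.eq_univ_of_card
    rw [Finset.card_image_of_injOn, Finset.card_product, hcP r hr1, hcP s hs1, hV]
    rintro ⟨p, q⟩ hpq ⟨p', q'⟩ hpq' e
    simp only [Finset.mem_coe, Finset.mem_product, hP, hQ] at hpq hpq'
    have hQmul : InSpan σ s (q * q') := by
      have q1 : s * σ s = σ (σ s) := (hσσ s).symm
      have q2 : s * σ (σ s) = σ s := by rw [hσσ, ← mul_assoc, S.quot_sq, one_mul]
      have q3 : σ s * σ (σ s) = s := by
        rw [hσσ, S.quot_comm s (σ s), ← mul_assoc, S.quot_sq, one_mul]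
      have q4 : σ s * s = σ (σ s) := by rw [S.quot_comm, q1]
      have q5 : σ (σ s) * s = σ s := by rw [S.quot_comm, q2]
      have q6 : σ (σ s) * σ s = s := by rw [S.quot_comm, q3]
      rcases hpq.2 with eq_ | eq_ | eq_ | eq_ <;> subst q <;> rcases hpq'.2 with eq_ | eq_ | eq_ | eq_ <;> subst q' <;>
        simp [InSpan, S.quot_sq, q1, q2, q3, q4, q5, q6]
    have e' : p * p' = q * q' := by
      have e0 : p * q = p' * q' := e
      calc p * p' = (p * q) * (q * p') := by rw [mul_assoc, ← mul_assoc q, S.quot_sq, one_mul]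
        _ = (p' * q') * (q * p') := by rw [e0]
        _ = q * q' := by
            rw [S.quot_comm q p', S.quot_comm p' q', mul_assoc, ← mul_assoc p', S.quot_sq, one_mul,
              S.quot_comm]
    have h1 : p * p' = 1 := hinter _ (hspanmul _ _ hpq.1 hpq'.1) (e' ▸ hQmul)
    have h2 : q * q' = 1 := e' ▸ h1
    exact Prod.ext ((eq_inv_of_mul_eq_one_left h1).trans (S.quot_inv p'))
      ((eq_inv_of_mul_eq_one_left h2).trans (S.quot_inv q'))
  obtain ⟨⟨p, q⟩, hpq, hy'⟩ := Finset.mem_image.1 (hcov ▸ Finset.mem_univ (y : T ⧸ center T))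
  simp only [Finset.mem_product, hP, hQ] at hpq
  have hy'' : p * q = (y : T ⧸ center T) := hy'
  have hτP : InSpan σ r (τ p) := by
    rcases hpq.1 with eq_ | eq_ | eq_ | eq_ <;> subst p
    · exact Or.inl (map_one τ)
    · exact Or.inr (Or.inl hr)
    · exact Or.inr (Or.inr (Or.inr (by rw [hτσ, hr])))
    · exact Or.inr (Or.inr (Or.inl (by rw [hτσ, hτσ, hr, hσσσ])))
  have hτQ : InSpan σ s (τ q) := by
    rcases hpq.2 with eq_ | eq_ | eq_ | eq_ <;> subst q
    · exact Or.inl (map_one τ)
    · exact Or.inr (Or.inl hs)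
    · exact Or.inr (Or.inr (Or.inr (by rw [hτσ, hs])))
    · exact Or.inr (Or.inr (Or.inl (by rw [hτσ, hτσ, hs, hσσσ])))
  have hinj2 : τ p = p ∧ τ q = q := by
    have e : (fun p : (T ⧸ center T) × (T ⧸ center T) => p.1 * p.2) (τ p, τ q) =
        (fun p : (T ⧸ center T) × (T ⧸ center T) => p.1 * p.2) (p, q) := by
      show τ p * τ q = p * q
      rw [← map_mul, hy'', hv]
    have hinjOn : Set.InjOn (fun p : (T ⧸ center T) × (T ⧸ center T) => p.1 * p.2) ↑(P ×ˢ Q) := by
      apply Finset.injOn_of_card_image_eq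
      rw [hcov, Finset.card_univ, hV, Finset.card_product, hcP r hr1, hcP s hs1]
    have := hinjOn (by simp [hP, hQ, hτP, hτQ]) (by simp [hP, hQ, hpq]) e
    exact ⟨congrArg Prod.fst this, congrArg Prod.snd this⟩
  rw [← hy'', hr', hs']
  rcases hrsum p hpq.1 hinj2.1 with rfl | rfl <;> rcases hssum q hpq.2 hinj2.2 with rfl | rfl <;> simp

/-- The main result. -/
theorem classify (x : MulAut T) (hx : ∀ y, x (x y) = y) (hxr : ∀ y, x (ρ y) = ρ (ρ (x y)))
    (C : Subgroup T) (hC : ∀ y : T, y ∈ C ↔ x y = y)
    {F : Type*} [Field F] [Fintype F] (hF : Fintype.card F = 4)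
    {M : Type*} [Group M] (el : F → F → F → M)
    (hel : ∀ a b c a' b' c', el a b c * el a' b' c' = el (a + a') (b + b') (c + c' + a * b'))
    (hsur : ∀ m : M, ∃ a b c, el a b c = m) (hcM : Nat.card M = 64) :
    Nonempty (M ≃* T) ∧ (Nonempty (↥C ≃* DihedralGroup 4) ∨ Nonempty (↥C ≃* QuaternionGroup 2)) := by
  classical
  obtain ⟨σ, hσ, hσσσ, hσfix, hσσ⟩ := S.exists_quot_map
  obtain ⟨z0, r, s, hz0, hz01, hxz0, hfixz, hxrr, hxs, hrc, hsW, hfix⟩ :=
    S.exists_fixed_pair x hx hxr σ hσ
  have hsq : ∀ y, x y = y → y * y = 1 ∨ y * y = z0 := fun y hy =>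
    hfixz _ (S.sq_center y) (by rw [map_mul, hy])
  have hk : ⁅r, s⁆ = z0 := by
    refine (hfixz _ (S.cm_mem r s) (by rw [map_commutatorElement, hxrr, hxs])).resolve_left fun h1 => ?_
    obtain ⟨g, g', hgg⟩ := S.nab
    have hrs1 : r * s = s * r := commutatorElement_eq_one_iff_mul_comm.1 h1
    have h2 := S.pairing r s
    rw [h1, map_one, map_one] at h2
    have hrs2 : r * ρ s = ρ s * r := commutatorElement_eq_one_iff_mul_comm.1 h2.1
    have hrρr : r * ρ r = ρ r * r := S.comm_image r
    let K : Subgroup T := center T ⊔ zpowers r ⊔ zpowers (ρ r) ⊔ zpowers s ⊔ zpowers (ρ s)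
    have hle : K ≤ centralizer ({r} : Set T) :=
      sup_le (sup_le (sup_le (sup_le (center_le_centralizer _)
        (zpowers_le.2 (mem_centralizer_singleton_iff.2 rfl)))
        (zpowers_le.2 (mem_centralizer_singleton_iff.2 hrρr.symm)))
        (zpowers_le.2 (mem_centralizer_singleton_iff.2 hrs1.symm)))
        (zpowers_le.2 (mem_centralizer_singleton_iff.2 hrs2.symm))
    let π := QuotientGroup.mk' (center T)
    let L : Subgroup (T ⧸ center T) := K.map π
    have hsL : ∀ v, InSpan σ (r : T ⧸ center T) v ∨ InSpan σ (s : T ⧸ center T) v → v ∈ L := by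
      have key : ∀ g, g ∈ K → ρ g ∈ K → ∀ v, InSpan σ (g : T ⧸ center T) v → v ∈ L := by
        intro g hg hg' v hv
        rcases hv with eq_ | eq_ | eq_ | eq_ <;> subst v
        · exact one_mem _
        · exact ⟨g, hg, rfl⟩
        · exact ⟨ρ g, hg', (hσ g).symm⟩
        · rw [hσσ, hσ]; exact mul_mem ⟨g, hg, rfl⟩ ⟨ρ g, hg', rfl⟩
      rintro v (h | h)
      · exact key r (mem_sup_left (mem_sup_left (mem_sup_left (mem_sup_right (mem_zpowers r)))))
          (mem_sup_left (mem_sup_left (mem_sup_right (mem_zpowers _)))) v h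
      · exact key s (mem_sup_left (mem_sup_right (mem_zpowers s)))
          (mem_sup_right (mem_zpowers _)) v h
    haveI := Fintype.ofFinite ↥L
    have hc8 : 8 ≤ Nat.card ↥L := by
      rw [Nat.card_eq_fintype_card]
      have hr1 : (r : T ⧸ center T) ≠ 1 := fun e => hrc ((QuotientGroup.eq_one_iff _).1 e)
      let r0 : T ⧸ center T := r
      let s0 : T ⧸ center T := s
      have hr0 : r0 ∈ L := hsL _ (Or.inl (Or.inr (Or.inl rfl)))
      have hr0' : σ r0 ∈ L := hsL _ (Or.inl (Or.inr (Or.inr (Or.inl rfl))))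
      have hs0 : s0 ∈ L := hsL _ (Or.inr (Or.inr (Or.inl rfl)))
      let f : Bool × Bool × Bool → ↥L := fun b => ⟨(if b.1 then r0 else 1) * (if b.2.1 then σ r0 else 1) *
        (if b.2.2 then s0 else 1), by
          refine mul_mem (mul_mem ?_ ?_) ?_ <;> split_ifs <;> first | exact one_mem _ | assumption⟩
      have hne1 : σ r0 ≠ 1 := fun e => hr1 (by rw [show (r : T ⧸ center T) = σ (σ (σ r0)) from (hσσσ _).symm, e, map_one, map_one])
      have hne2 : σ r0 ≠ r0 := fun e => hr1 (hσfix _ e)
      have hne3 : σ (σ r0) ≠ 1 := fun e => hne1 (by rw [← hσσσ (σ r0), e, map_one, map_one])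
      have hspan : ∀ p q : Bool, InSpan σ r0 ((if p then r0 else 1) * (if q then σ r0 else 1)) := by
        intro p q
        cases p <;> cases q <;> simp [InSpan, hσσ]
      have hf : Function.Injective f := by
        rintro ⟨p, q, o⟩ ⟨p', q', o'⟩ e
        have e' := congrArg Subtype.val e
        simp only [f] at e'
        obtain rfl : o = o' := by
          by_contra ho
          apply hsW
          have hmul : ∀ v w, InSpan σ r0 v → InSpan σ r0 w → InSpan σ r0 (v * w) := by
            have q1 : r0 * σ r0 = σ (σ r0) := (hσσ r0).symm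
            have q2 : r0 * σ (σ r0) = σ r0 := by rw [hσσ, ← mul_assoc, S.quot_sq, one_mul]
            have q3 : σ r0 * σ (σ r0) = r0 := by
              rw [hσσ, S.quot_comm r0 (σ r0), ← mul_assoc, S.quot_sq, one_mul]
            have q4 : σ r0 * r0 = σ (σ r0) := by rw [S.quot_comm, q1]
            have q5 : σ (σ r0) * r0 = σ r0 := by rw [S.quot_comm, q2]
            have q6 : σ (σ r0) * σ r0 = r0 := by rw [S.quot_comm, q3]
            intro v w hv hw
            rcases hv with eq_ | eq_ | eq_ | eq_ <;> subst v <;> rcases hw with eq_ | eq_ | eq_ | eq_ <;> subst w <;>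
              simp [InSpan, S.quot_sq, q1, q2, q3, q4, q5, q6]
          show InSpan σ r0 s0
          cases o <;> cases o' <;> (try exact absurd rfl ho) <;>
            simp only [Bool.false_eq_true, if_false, if_true, mul_one] at e'
          · have := hmul _ _ (hspan p q) (hspan p' q')
            rw [e'] at this
            rwa [S.quot_comm, ← mul_assoc, S.quot_sq, one_mul] at this
          · have := hmul _ _ (hspan p q) (hspan p' q')
            rw [← e', ← mul_assoc, S.quot_sq, one_mul] at this
            exact this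
        have e2 := mul_right_cancel e'
        cases p <;> cases q <;> cases p' <;> cases q' <;> simp at e2 ⊢ <;>
          first | exact hne3 ((hσσ r0).trans e2) | exact hne3 ((hσσ r0).trans e2.symm) | exact hr1 e2 | exact hr1 e2.symm | exact hne1 e2 | exact hne1 e2.symm | exact hne2 e2 | exact hne2 e2.symm
      simpa using Fintype.card_le_of_injective f hf
    have hLtop : L = ⊤ := by
      apply eq_top_of_card_eq
      have hst : ∀ v ∈ L, σ v ∈ L := by
        rintro _ ⟨g, hg, rfl⟩
        refine ⟨ρ g, ?_, (hσ g).symm⟩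
        revert g
        show K ≤ K.comap ρ.toMonoidHom
        refine sup_le (sup_le (sup_le (sup_le (fun z hz =>
          mem_sup_left (mem_sup_left (mem_sup_left (mem_sup_left (S.center_invariant hz))))) ?_) ?_) ?_) ?_
        · exact zpowers_le.2 (mem_sup_left (mem_sup_left (mem_sup_right (mem_zpowers _))) : ρ r ∈ K)
        · refine zpowers_le.2 (show ρ (ρ r) ∈ K from ?_)
          rw [S.rho2]
          exact inv_mem (mul_mem (mem_sup_left (mem_sup_left (mem_sup_left (mem_sup_right (mem_zpowers r)))))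
            (mem_sup_left (mem_sup_left (mem_sup_right (mem_zpowers _)))))
        · exact zpowers_le.2 (mem_sup_right (mem_zpowers _) : ρ s ∈ K)
        · refine zpowers_le.2 (show ρ (ρ s) ∈ K from ?_)
          rw [S.rho2]
          exact inv_mem (mul_mem (mem_sup_left (mem_sup_right (mem_zpowers s))) (mem_sup_right (mem_zpowers _)))
      haveI : Fact (Nat.Prime 3) := ⟨Nat.prime_three⟩
      let ν : Function.End ↥L := fun v => ⟨σ v, hst v v.2⟩
      have hν : ν ^ 3 ^ 1 = 1 := funext fun v => Subtype.ext (hσσσ v)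
      have h1 := Equiv.Perm.card_fixedPoints_modEq hν
      have hfix1 : Fintype.card (Function.fixedPoints ν) = 1 :=
        Fintype.card_eq_one_iff.2 ⟨⟨1, Subtype.ext (map_one σ)⟩, fun v => Subtype.ext (Subtype.ext
          (hσfix _ (congrArg Subtype.val v.2)))⟩
      rw [hfix1, ← Nat.card_eq_fintype_card] at h1
      have hd := card_subgroup_dvd_card L
      have hq := card_eq_card_quotient_mul_card_subgroup (center T)
      rw [S.card, S.card_center] at hq
      have hq16 : Nat.card (T ⧸ center T) = 2 ^ 4 := by omega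
      rw [hq16] at hd ⊢
      obtain ⟨k, hk, hk'⟩ := (Nat.dvd_prime_pow Nat.prime_two).1 hd
      rw [hk'] at h1 hc8 ⊢
      unfold Nat.ModEq at h1
      interval_cases k <;> first | omega | rfl
    have : ∀ t, t ∈ K := fun t => by
      obtain ⟨k, hk, e⟩ := (hLtop ▸ mem_top (π t) : π t ∈ L)
      have e2 := QuotientGroup.eq.1 e
      have := K.mul_mem hk (mem_sup_left (mem_sup_left (mem_sup_left (mem_sup_left e2))) : k⁻¹ * t ∈ K)
      rwa [mul_inv_cancel_left] at this
    exact hrc (mem_center_iff.2 fun t => mem_centralizer_singleton_iff.1 (hle (this t)))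
  have hzc := mem_center_iff.1 hz0
  have hrs : s * r = r * s * z0 := by
    have e : s * r * z0 = r * s := by
      rw [hzc (s * r), ← hk, cm_def]; group
    calc s * r = s * r * (z0 * z0) := by rw [S.center_exp hz0, mul_one]
      _ = r * s * z0 := by rw [← mul_assoc, e]
  refine ⟨?_, ?_⟩
  · -- two independent involutions
    have hmix : ∀ g h : T, g * g = z0 → h * h = z0 → ⁅g, h⁆ = z0 →
        (g * ρ h) * (g * ρ h) = 1 ∧ (g * ρ (ρ h)) * (g * ρ (ρ h)) = 1 := by
      intro g h hg hh hgh
      have e : z0 * ρ z0 * ρ (ρ z0) = 1 := S.prod_orbit z0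
      have e2 : ⁅g, ρ (ρ h)⁆ = ρ z0 := by
        rw [(S.pairing g (ρ h)).1, (S.pairing g h).1, hgh, S.three]
      refine ⟨?_, ?_⟩
      · rw [S.mul_sq, ← map_mul, hg, hh, (S.pairing g h).1, hgh, e]
      · rw [S.mul_sq, e2, ← map_mul, ← map_mul, hg, hh, mul_assoc,
          ← mem_center_iff.1 (S.center_invariant hz0) (ρ (ρ z0)) |>.symm, ← mul_assoc, e]
    have hrs2 : r * s * (r * s) = r * r * (s * s) * z0 := by rw [S.mul_sq, hk]
    obtain ⟨a, b, haa, hbb, hac, hbW⟩ : ∃ a b : T, a * a = 1 ∧ b * b = 1 ∧ a ∉ center T ∧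
        ¬ InSpan σ (a : T ⧸ center T) (b : T ⧸ center T) := by
      have hs_nc : s ∉ center T := fun h => hsW (Or.inl ((QuotientGroup.eq_one_iff _).2 h))
      have hspanσ : ∀ (u v : T ⧸ center T), InSpan σ u v → InSpan σ u (σ v) := by
        intro u v hv
        rcases hv with eq_ | eq_ | eq_ | eq_ <;> subst v
        · exact Or.inl (map_one σ)
        · exact Or.inr (Or.inr (Or.inl rfl))
        · exact Or.inr (Or.inr (Or.inr rfl))
        · exact Or.inr (Or.inl (hσσσ _))
      have hR1 : (r : T ⧸ center T) ≠ 1 := fun e => hrc ((QuotientGroup.eq_one_iff _).1 e)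
      rcases hsq r hxrr with hr2 | hr2 <;> rcases hsq s hxs with hs2 | hs2
      · exact ⟨r, s, hr2, hs2, hrc, hsW⟩
      · refine ⟨r, r * s, hr2, by rw [hrs2, hr2, hs2, one_mul, S.center_exp hz0], hrc, ?_⟩
        intro h
        apply hsW
        rw [QuotientGroup.mk_mul] at h
        rcases h with e | e | e | e
        · exact Or.inr (Or.inl (by rw [← inv_eq_of_mul_eq_one_right e, S.quot_inv]))
        · exact Or.inl (mul_eq_left.1 e)
        · refine Or.inr (Or.inr (Or.inr ?_))
          rw [hσσ, ← e, ← mul_assoc, S.quot_sq, one_mul]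
        · refine Or.inr (Or.inr (Or.inl ?_))
          rw [hσσ] at e; exact mul_left_cancel e
      · refine ⟨s, r * s, hs2, by rw [hrs2, hr2, hs2, mul_one, S.center_exp hz0], hs_nc, ?_⟩
        intro h
        apply hsW
        rw [QuotientGroup.mk_mul] at h
        rcases h with e | e | e | e
        · exact Or.inr (Or.inl (by rw [← inv_eq_of_mul_eq_one_right e, S.quot_inv]))
        · exact absurd (mul_eq_right.1 e) hR1
        · -- `r = σ² s`
          refine Or.inr (Or.inr (Or.inl ?_))
          have : (r : T ⧸ center T) = σ (σ (s : T ⧸ center T)) := by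
            rw [hσσ, ← e, S.quot_comm (r : T ⧸ center T), ← mul_assoc, S.quot_sq, one_mul]
          rw [this, hσσσ]
        · refine Or.inr (Or.inr (Or.inr ?_))
          have : (r : T ⧸ center T) = σ (s : T ⧸ center T) := by
            rw [hσσ, S.quot_comm (r : T ⧸ center T)] at e; exact mul_left_cancel e
          rw [this, hσσσ]
      · obtain ⟨e1, e2⟩ := hmix r s hr2 hs2 hk
        refine ⟨r * ρ s, r * ρ (ρ s), e1, e2, fun hc => hsW ?_, fun h => hsW ?_⟩
        · have e := (QuotientGroup.eq_one_iff _).2 hc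
          rw [QuotientGroup.mk_mul, ← hσ] at e
          refine Or.inr (Or.inr (Or.inr ?_))
          have : (r : T ⧸ center T) = σ (s : T ⧸ center T) := by
            rw [eq_inv_of_mul_eq_one_left e, S.quot_inv]
          rw [this, hσσσ]
        · rw [QuotientGroup.mk_mul, QuotientGroup.mk_mul, ← hσ, ← hσ, ← hσ] at h
          obtain ⟨R, hR⟩ : ∃ R, R = (r : T ⧸ center T) := ⟨_, rfl⟩
          obtain ⟨W, hW⟩ : ∃ W, W = (s : T ⧸ center T) := ⟨_, rfl⟩
          rw [← hR, ← hW] at h ⊢
          rw [← hR] at hR1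
          rcases h with e | e | e | e
          · refine Or.inr (Or.inr (Or.inl ?_))
            rw [eq_inv_of_mul_eq_one_left e, S.quot_inv, hσσσ]
          · exact Or.inl (hσfix _ (Function.LeftInverse.injective (g := fun v => σ (σ v)) hσσσ (mul_left_cancel e)))
          · rw [map_mul] at e
            exact absurd (hσfix _ (mul_right_cancel e).symm) hR1
          · rw [map_mul, map_mul, hσσσ] at e
            refine Or.inr (Or.inl ?_)
            have e3 : σ R = σ W := by
              have h5 : R * σ (σ R) = σ (σ W) * W := by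
                calc R * σ (σ R) = (R * σ (σ W)) * (σ (σ W) * σ (σ R)) := by
                      rw [mul_assoc, ← mul_assoc (σ (σ W)), S.quot_sq, one_mul]
                  _ = (σ (σ R) * W) * (σ (σ W) * σ (σ R)) := by rw [e]
                  _ = σ (σ W) * W := by
                      rw [S.quot_comm (σ (σ R)) W, S.quot_comm (σ (σ W)) (σ (σ R)), mul_assoc,
                        ← mul_assoc (σ (σ R)), S.quot_sq, one_mul, S.quot_comm]
              rwa [hσσ, hσσ, ← mul_assoc, S.quot_sq, one_mul, S.quot_comm W (σ W), mul_assoc,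
                S.quot_sq, mul_one] at h5
            calc W = σ (σ (σ W)) := (hσσσ W).symm
              _ = σ (σ (σ R)) := by rw [e3]
              _ = R := hσσσ R
    exact S.exists_equiv hF el hel hsur hcM σ hσ a b haa hbb hac hbW
  · -- the fixed subgroup
    have hrC : r ∈ C := (hC r).2 hxrr
    have hsC : s ∈ C := (hC s).2 hxs
    have hne : r * s ≠ s * r := fun e => hz01 (by
      rw [hrs] at e; exact left_eq_mul.1 e)
    have hform : ∀ u v : T, (∀ i j : Bool, ∃ n : ℕ, (if i then r else 1) * (if j then s else 1) = u ^ n ∨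
        (if i then r else 1) * (if j then s else 1) = v * u ^ n) → u * u = z0 →
        ∀ y ∈ C, ∃ n : ℕ, y = u ^ n ∨ y = v * u ^ n := by
      intro u v hcases huu y hy
      obtain ⟨e, hein, hez⟩ : ∃ e, (∃ n : ℕ, e = u ^ n ∨ e = v * u ^ n) ∧ x e = e ∧
          (e : T ⧸ center T) = (y : T ⧸ center T) := by
        rcases hfix y ((hC y).1 hy) with h | h | h | h
        · exact ⟨1, ⟨0, Or.inl (pow_zero u).symm⟩, map_one x, h.symm⟩
        · refine ⟨r, ?_, hxrr, h.symm⟩
          simpa using hcases true false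
        · refine ⟨s, ?_, hxs, h.symm⟩
          simpa using hcases false true
        · refine ⟨r * s, ?_, by rw [map_mul, hxrr, hxs], by rw [QuotientGroup.mk_mul, h]⟩
          simpa using hcases true true
      have hd : e⁻¹ * y ∈ center T := QuotientGroup.eq.1 hez.2
      obtain ⟨n, hn⟩ := hein
      rcases hfixz _ hd (by rw [map_mul, map_inv, hez.1, (hC y).1 hy]) with h | h
      · exact ⟨n, by rw [show y = e from (inv_mul_eq_one.1 h).symm]; exact hn⟩
      · have hye : y = e * z0 := inv_mul_eq_iff_eq_mul.1 h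
        refine ⟨n + 2, ?_⟩
        rw [hye, pow_add, pow_two, huu]
        rcases hn with rfl | rfl
        · exact Or.inl rfl
        · exact Or.inr (mul_assoc _ _ _)
    have hzz := S.center_exp hz0
    have hrsrs : r * s * (r * s) = r * r * (s * s) * z0 := by rw [S.mul_sq, hk]
    rcases hsq r hxrr with hr2 | hr2
    · rcases hsq s hxs with hs2 | hs2
      · -- `u = r s`
        have hu2 : r * s * (r * s) = z0 := by rw [hrsrs, hr2, hs2, one_mul, one_mul]
        refine eight_cases C (r * s) r z0 hu2 hz01 hzz ?_ ?_ (mul_mem hrC hsC) hrC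
          (hform _ _ ?_ hu2) (Or.inl hr2)
        · rw [← hrs, ← mul_assoc, hr2, one_mul, mul_assoc, hr2, mul_one]
        · intro e
          rw [← mul_assoc r r s, hr2, one_mul, mul_assoc, hrs, ← mul_assoc, ← mul_assoc, hr2,
            one_mul] at e
          exact hz01 (mul_eq_left.1 e)
        · intro i j
          cases i <;> cases j
          · exact ⟨0, Or.inl (by simp)⟩
          · exact ⟨1, Or.inr (by simp [← mul_assoc, hr2])⟩
          · exact ⟨0, Or.inr (by simp)⟩
          · exact ⟨1, Or.inl (by simp)⟩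
      · refine eight_cases C s r z0 hs2 hz01 hzz ?_ hne.symm hsC hrC (hform _ _ ?_ hs2) (Or.inl hr2)
        · rw [mul_assoc s z0 r, ← hzc r, ← mul_assoc, hrs, mul_assoc (r * s), hzz, mul_one]
        · intro i j
          cases i <;> cases j
          · exact ⟨0, Or.inl (by simp)⟩
          · exact ⟨1, Or.inl (by simp)⟩
          · exact ⟨0, Or.inr (by simp)⟩
          · exact ⟨1, Or.inr (by simp)⟩
    · refine eight_cases C r s z0 hr2 hz01 hzz ?_ hne hrC hsC (hform _ _ ?_ hr2) (hsq s hxs)
      · rw [hrs, mul_assoc, mul_assoc, ← hzc s]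
      · intro i j
        cases i <;> cases j
        · exact ⟨0, Or.inl (by simp)⟩
        · exact ⟨0, Or.inr (by simp)⟩
        · exact ⟨1, Or.inl (by simp)⟩
        · refine ⟨3, Or.inr ?_⟩
          simp only [if_true]
          calc r * s = r * s * (z0 * z0) := by rw [hzz, mul_one]
            _ = s * r * z0 := by rw [← mul_assoc, hrs]
            _ = s * (r * (r * r)) := by rw [hr2]; group
            _ = s * r ^ 3 := by rw [pow_succ', pow_two]

end Setup

end CfsgLib.InvChar.FpfThree
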