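import Mathlib.GroupTheory.Sylow
import Mathlib.GroupTheory.SpecificGroups.Cyclic
import Mathlib.Tactic
import Cfsg.Agent.Lib.Transfer.Frobenius

/-!
Elements of odd order acting on 2-groups: stabilising a series with steps of order two forces
trivial action; cyclic 2-groups are centralised; conjugation into a Sylow subgroup inside a
normalised subgroup.
-/

namespace CfsgLib.InvChar

variable {G : Type*} [Group G]

/-- If `g` has order prime to `p`, fixes the `p`-element `e`, and `g x g⁻¹ = x e`, then `g` fixes `x`. -/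
theorem fix_of_conj_eq_mul {p k : ℕ} {g x e : G} (hg : (orderOf g).Coprime p) (he : e ^ p ^ k = 1)
    (hge : g * e * g⁻¹ = e) (hx : g * x * g⁻¹ = x * e) : g * x * g⁻¹ = x := by
  have hpow : ∀ i : ℕ, g ^ i * x * (g ^ i)⁻¹ = x * e ^ i := by
    intro i
    induction i with
    | zero => simp
    | succ i ih =>
      have hc : Commute g (e ^ i) := (Commute.pow_right (mul_inv_eq_iff_eq_mul.1 hge) i)
      calc g ^ (i + 1) * x * (g ^ (i + 1))⁻¹ = g * (g ^ i * x * (g ^ i)⁻¹) * g⁻¹ := by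
            rw [pow_succ']; group
        _ = g * x * g⁻¹ * (g * e ^ i * g⁻¹) := by rw [ih]; group
        _ = x * e ^ (i + 1) := by rw [hx, hc.eq, mul_inv_cancel_right, pow_succ', mul_assoc]
  have h1 : e ^ orderOf g = 1 := by
    have h := hpow (orderOf g)
    rw [pow_orderOf_eq_one, inv_one, one_mul, mul_one] at h
    exact left_eq_mul.1 h
  have h2 : orderOf e ∣ 1 := by
    rw [← (hg.pow_right k : Nat.gcd (orderOf g) (p ^ k) = 1)]
    exact Nat.dvd_gcd (orderOf_dvd_of_pow_eq_one h1) (orderOf_dvd_of_pow_eq_one he)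
  rw [hx, orderOf_eq_one_iff.1 (Nat.dvd_one.1 h2), mul_one]

/-- An element of odd order normalising a cyclic 2-subgroup centralises it. -/
theorem fix_of_cyclic {g : G} (hg : (orderOf g).Coprime 2) :
    ∀ (k : ℕ) (x : G), x ^ 2 ^ k = 1 → g * x * g⁻¹ ∈ Subgroup.zpowers x → g * x * g⁻¹ = x := by
  intro k
  induction k with
  | zero => intro x hx _; rw [pow_zero, pow_one] at hx; simp [hx]
  | succ k ih =>
    intro x hx hmem
    obtain ⟨i, hi⟩ := Subgroup.mem_zpowers_iff.1 hmem
    have h2 : g * x ^ 2 * g⁻¹ = x ^ 2 := by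
      refine ih _ (by rw [← pow_mul, ← pow_succ']; exact hx) ⟨i, ?_⟩
      show (x ^ 2) ^ i = g * x ^ 2 * g⁻¹
      rw [← conj_pow, ← hi, ← zpow_natCast x 2, ← zpow_natCast (x ^ i) 2, ← zpow_mul, ← zpow_mul,
        mul_comm]
    have hc : ∀ j : ℤ, g * x ^ (2 * j) * g⁻¹ = x ^ (2 * j) := fun j => by
      rw [zpow_mul, zpow_ofNat, ← conj_zpow, h2]
    rcases Int.even_or_odd' i with ⟨j, rfl | rfl⟩
    · have h3 := hc j
      rw [hi] at h3
      exact mul_left_cancel (mul_right_cancel h3)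
    · refine fix_of_conj_eq_mul hg (k := k) (e := x ^ (2 * j)) ?_ (hc j) ?_
      · rw [← zpow_natCast, ← zpow_mul, mul_comm (2 * j), mul_comm 2 j, mul_left_comm, zpow_mul']
        rw [show ((2 ^ k : ℕ) : ℤ) * 2 = ((2 ^ (k + 1) : ℕ) : ℤ) by push_cast; ring, zpow_natCast, hx,
          one_zpow]
      · rw [← hi, add_comm, zpow_one_add]

/-- An element of odd order fixing `E`, normalising `F`, with `E ≤ F` of index two in a 2-group,
centralises `F`. -/
theorem fix_of_index_two {g : G} (hg : (orderOf g).Coprime 2) {E F : Subgroup G} (hEF : E ≤ F)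
    (hi : E.relIndex F = 2) (hE : IsPGroup 2 E) (hfix : ∀ e ∈ E, g * e * g⁻¹ = e)
    (hF : g ∈ Subgroup.normalizer (F : Set G)) : ∀ x ∈ F, g * x * g⁻¹ = x := by
  intro x hx
  by_cases hxE : x ∈ E
  · exact hfix x hxE
  have hy : g * x * g⁻¹ ∈ F := (Subgroup.mem_normalizer_iff.1 hF x).1 hx
  have hyE : g * x * g⁻¹ ∉ E := fun h => by
    have h2 := hfix _ h
    have : g * x * g⁻¹ = x := mul_left_cancel (mul_right_cancel h2)
    exact hxE (this ▸ h)
  have he : x⁻¹ * (g * x * g⁻¹) ∈ E := by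
    have := (Subgroup.mul_mem_iff_of_index_two (H := E.subgroupOf F) hi
      (a := (⟨x, hx⟩ : F)⁻¹) (b := ⟨_, hy⟩)).2 (by
        simp only [inv_mem_iff, Subgroup.mem_subgroupOf, hxE, hyE])
    exact this
  obtain ⟨k, hk⟩ := hE ⟨_, he⟩
  exact fix_of_conj_eq_mul hg (congrArg Subtype.val hk) (hfix _ he) (mul_inv_cancel_left _ _).symm

/-- A `p`-element of a subgroup `C` normalised by the Sylow subgroup `S` is conjugate, by an element
of `C`, into `S`. -/
theorem exists_conj_mem_of_normalizes {p k : ℕ} [Fact p.Prime] [Finite G] (S : Sylow p G)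
    {C : Subgroup G} (hC : (S : Subgroup G) ≤ Subgroup.normalizer (C : Set G)) {t : G} (ht : t ∈ C)
    (htk : t ^ p ^ k = 1) : ∃ c ∈ C, c * t * c⁻¹ ∈ (S : Subgroup G) := by
  let H := Subgroup.normalizer (C : Set G)
  let C' := C.subgroupOf H
  have : C'.Normal := Subgroup.normal_in_normalizer
  obtain ⟨T, hT⟩ := CfsgLib.Transfer.exists_sylow_eq_subgroupOf (S.subtype hC) C'
  let t' : C' := ⟨⟨t, Subgroup.le_normalizer ht⟩, ht⟩
  have hp : IsPGroup p (Subgroup.zpowers t') := by
    obtain ⟨m, -, hm⟩ := (Nat.dvd_prime_pow Fact.out).1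
      (orderOf_dvd_of_pow_eq_one (x := t') (n := p ^ k) (Subtype.ext (Subtype.ext htk)))
    exact IsPGroup.of_card (n := m) (by rw [Nat.card_zpowers, hm])
  obtain ⟨R, hR⟩ := hp.exists_le_sylow
  obtain ⟨c, hc⟩ := MulAction.exists_smul_eq C' R T
  refine ⟨((c : H) : G), c.2, ?_⟩
  have h : c * t' * c⁻¹ ∈ (T : Subgroup C') := by
    rw [← hc, Sylow.coe_subgroup_smul]
    exact ⟨t', hR (Subgroup.mem_zpowers _), rfl⟩
  rw [hT] at h
  exact h

end CfsgLib.InvChar
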