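import Cfsg.Agent.Lib.InvChar.CosetGroup

/-!
# Groups presented by words in the letters below a bound
-/

set_option autoImplicit false

namespace CfsgLib.InvChar.Coset

/-- The data of a presentation by words in letters below `g`, each letter an involution. -/
structure WordPres where
  /-- number of letters -/
  g : ℕ
  /-- relators -/
  rels : List (List ℕ)
  pos : 0 < g
  lt : ∀ L ∈ rels, ∀ x ∈ L, x < g
  sq : ∀ x < g, [x, x] ∈ rels

namespace WordPres

variable (W : WordPres)

/-- A word as a free group element. -/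
def fword (L : List ℕ) : FreeGroup (Fin W.g) :=
  (L.map fun x => FreeGroup.of (if h : x < W.g then ⟨x, h⟩ else ⟨0, W.pos⟩)).prod

/-- The relator set. -/
def relSet : Set (FreeGroup (Fin W.g)) := W.fword '' {L | L ∈ W.rels}

/-- The presented group. -/
abbrev Grp : Type := PresentedGroup W.relSet

/-- The generators. -/
noncomputable def gen (x : ℕ) : W.Grp := if h : x < W.g then PresentedGroup.of ⟨x, h⟩ else 1

theorem lift_fword {K : Type*} [Group K] (f : ℕ → K) (L : List ℕ) (hL : ∀ x ∈ L, x < W.g) :
    FreeGroup.lift (fun i : Fin W.g => f i) (W.fword L) = wprod f L := by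
  rw [fword, map_list_prod, List.map_map, wprod]
  refine congrArg List.prod (List.map_congr_left fun x hx => ?_)
  simp [hL x hx]

theorem mk_fword (L : List ℕ) (hL : ∀ x ∈ L, x < W.g) :
    PresentedGroup.mk W.relSet (W.fword L) = wprod W.gen L := by
  rw [← W.lift_fword W.gen L hL]
  refine DFunLike.congr_fun (?_ : PresentedGroup.mk _ = _) _
  ext i
  rw [FreeGroup.lift_apply_of]
  simp [gen, i.2, PresentedGroup.of]

theorem gen_rel : ∀ r ∈ W.rels, wprod W.gen r = 1 := fun r hr => by
  rw [← W.mk_fword r (W.lt r hr)]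
  exact PresentedGroup.one_of_mem ⟨r, hr, rfl⟩

theorem gen_mul_self (x : ℕ) : W.gen x * W.gen x = 1 := by
  by_cases h : x < W.g
  · simpa [wprod] using W.gen_rel [x, x] (W.sq x h)
  · simp [gen, h]

theorem closure_gen : Subgroup.closure (W.gen '' Set.Iio W.g) = ⊤ := by
  refine top_le_iff.1 ?_
  rw [← PresentedGroup.closure_range_of, Subgroup.closure_le]
  rintro _ ⟨i, rfl⟩
  exact Subgroup.subset_closure ⟨i, i.2, by simp [gen, i.2]⟩

theorem exists_hom {K : Type*} [Group K] (f : ℕ → K) (hf : ∀ r ∈ W.rels, wprod f r = 1) :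
    ∃ φ : W.Grp →* K, ∀ x < W.g, φ (W.gen x) = f x := by
  have h : ∀ r ∈ W.relSet, FreeGroup.lift (fun i : Fin W.g => f i) r = 1 := by
    rintro _ ⟨L, hL, rfl⟩
    rw [W.lift_fword f L (W.lt L hL)]
    exact hf L hL
  exact ⟨PresentedGroup.toGroup h, fun x hx => by
    rw [gen, dif_pos hx]
    exact PresentedGroup.toGroup.of h⟩

theorem rels_subGen (emb : List ℕ) (R : List (List ℕ))
    (h : ∀ r ∈ R, (∀ x ∈ r, x < emb.length) ∧ r.map (fun x => emb.getD x 0) ∈ W.rels) :
    ∀ r ∈ R, wprod (subGen W.gen emb) r = 1 := by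
  intro r hr
  obtain ⟨h1, h2⟩ := h r hr
  rw [wprod_subGen W.gen emb r h1]
  exact W.gen_rel _ h2

theorem lettersClosure_range : lettersClosure W.gen (List.range W.g) = ⊤ := by
  refine top_le_iff.1 ?_
  rw [← W.closure_gen, Subgroup.closure_le]
  rintro _ ⟨x, hx, rfl⟩
  have := mem_lettersClosure W.gen (List.range W.g) (r := [x])
    (List.mem_map.2 ⟨x, List.mem_range.2 hx, rfl⟩)
  simpa [wprod] using this

/-- An upper bound on the group from one on the subgroup generated by all letters. -/
theorem card_le_of_lettersClosure {emb : List ℕ} (he : emb = List.range W.g) {N : ℕ}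
    (h : Finite (lettersClosure W.gen emb) ∧ Nat.card (lettersClosure W.gen emb) ≤ N) :
    Finite W.Grp ∧ Nat.card W.Grp ≤ N := by
  subst he
  rw [W.lettersClosure_range] at h
  have := h.1
  exact ⟨Finite.of_equiv _ Subgroup.topEquiv.toEquiv,
    (Nat.card_congr Subgroup.topEquiv.toEquiv).symm.le.trans h.2⟩

end WordPres

end CfsgLib.InvChar.Coset
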