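import Cfsg.Agent.Lib.InvChar.SmallCentralizerSylow
import Cfsg.Agent.Lib.BlockA.KleinOrder
import Cfsg.Agent.Lib.BlockB.PModular
import Cfsg.Agent.Lib.Geom.SimpleSixty
import Cfsg.Agent.Lib.Transfer.ExcSimple

/-!
Simple groups with a normal Klein four Sylow subgroup of an involution centraliser.
-/

set_option autoImplicit false

namespace CfsgLib.InvChar

universe u

variable {G : Type u} [Group G] [Finite G]

/-- The degree equation of the principal 2-block forces the degrees three, three, five. -/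
theorem klein_degree_arith {a b c : ℕ} {N o : ℤ} {e₁ e₂ e₃ : ℤ}
    (he : (e₁ = 1 ∨ e₁ = -1) ∧ (e₂ = 1 ∨ e₂ = -1) ∧ (e₃ = 1 ∨ e₃ = -1))
    (ha : 3 ≤ a) (hb : 3 ≤ b) (hc : 3 ≤ c) (hrel : 1 + e₁ * a + e₂ * b + e₃ * c = 0)
    (ho : 0 < o) (hN : 15 * o ≤ N)
    (hord : N * (((a : ℤ) + e₁) * (b + e₂) * (c + e₃)) = 8 * o * (a * b * c)) : N = 15 * o := by
  have key : ∀ p q : ℤ, 3 ≤ p → 3 ≤ q →
      N * ((p + q) * (p - 1) * (q - 1)) = 8 * o * ((p + q - 1) * p * q) → N = 15 * o := by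
    intro p q hp hq h
    obtain ⟨u, hu, rfl⟩ : ∃ u : ℤ, 0 ≤ u ∧ p = u + 3 := ⟨p - 3, by omega, by ring⟩
    obtain ⟨v, hv, rfl⟩ : ∃ v : ℤ, 0 ≤ v ∧ q = v + 3 := ⟨q - 3, by omega, by ring⟩
    have hpos : 0 < (u + 3 + (v + 3)) * (u + 3 - 1) * (v + 3 - 1) :=
      mul_pos (mul_pos (by omega) (by omega)) (by omega)
    by_contra hne
    have hlt : 15 * o < N := lt_of_le_of_ne hN (Ne.symm hne)
    have h1 : 15 * o * ((u + 3 + (v + 3)) * (u + 3 - 1) * (v + 3 - 1)) <
        8 * o * ((u + 3 + (v + 3) - 1) * (u + 3) * (v + 3)) :=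
      h ▸ mul_lt_mul_of_pos_right hlt hpos
    nlinarith [mul_nonneg hu hv, mul_nonneg ho.le hu, mul_nonneg ho.le hv,
      mul_nonneg (mul_nonneg ho.le hu) hv, mul_nonneg (mul_nonneg ho.le hu) hu,
      mul_nonneg (mul_nonneg ho.le hv) hv, mul_nonneg (mul_nonneg (mul_nonneg ho.le hu) hv) hu,
      mul_nonneg (mul_nonneg (mul_nonneg ho.le hu) hv) hv]
  have key2 : ∀ p q : ℤ, 3 ≤ p → 3 ≤ q →
      N * ((p + 1) * (q + 1) * (p + q)) = 8 * o * (p * q * (p + q + 1)) → False := by
    intro p q hp hq h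
    obtain ⟨u, hu, rfl⟩ : ∃ u : ℤ, 0 ≤ u ∧ p = u + 3 := ⟨p - 3, by omega, by ring⟩
    obtain ⟨v, hv, rfl⟩ : ∃ v : ℤ, 0 ≤ v ∧ q = v + 3 := ⟨q - 3, by omega, by ring⟩
    have hpos : 0 ≤ (u + 3 + 1) * (v + 3 + 1) * (u + 3 + (v + 3)) := by positivity
    have h1 : 15 * o * ((u + 3 + 1) * (v + 3 + 1) * (u + 3 + (v + 3))) ≤
        8 * o * ((u + 3) * (v + 3) * (u + 3 + (v + 3) + 1)) := h ▸ mul_le_mul_of_nonneg_right hN hpos
    nlinarith [mul_nonneg hu hv, mul_nonneg ho.le hu, mul_nonneg ho.le hv,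
      mul_nonneg (mul_nonneg ho.le hu) hv, mul_nonneg (mul_nonneg ho.le hu) hu,
      mul_nonneg (mul_nonneg ho.le hv) hv, mul_nonneg (mul_nonneg (mul_nonneg ho.le hu) hv) hu,
      mul_nonneg (mul_nonneg (mul_nonneg ho.le hu) hv) hv]
  obtain ⟨h1, h2, h3⟩ := he
  rcases h1 with rfl | rfl <;> rcases h2 with rfl | rfl <;> rcases h3 with rfl | rfl
  · omega
  · refine (key2 a b (by omega) (by omega) ?_).elim
    rw [show (c : ℤ) = a + b + 1 by linarith] at hord
    linear_combination hord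
  · refine (key2 a c (by omega) (by omega) ?_).elim
    rw [show (b : ℤ) = a + c + 1 by linarith] at hord
    linear_combination hord
  · refine key b c (by omega) (by omega) ?_
    rw [show (a : ℤ) = b + c - 1 by linarith] at hord
    linear_combination hord
  · refine (key2 b c (by omega) (by omega) ?_).elim
    rw [show (a : ℤ) = b + c + 1 by linarith] at hord
    linear_combination hord
  · refine key a c (by omega) (by omega) ?_
    rw [show (b : ℤ) = a + c - 1 by linarith] at hord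
    linear_combination hord
  · refine key a b (by omega) (by omega) ?_
    rw [show (c : ℤ) = a + b - 1 by linarith] at hord
    linear_combination hord
  · omega

theorem klein_centralizer_altFive [IsSimpleGroup G] (x : G) (hx : orderOf x = 2)
    (S₀ : Subgroup G) (hle : S₀ ≤ Subgroup.centralizer ({x} : Set G)) (hK : IsKleinFour ↥S₀)
    (hodd : ¬ 2 ∣ S₀.relIndex (Subgroup.centralizer ({x} : Set G)))
    (hn : (S₀.subgroupOf (Subgroup.centralizer ({x} : Set G))).Normal) :
    Nonempty (G ≃* ↥(alternatingGroup (Fin 5))) := by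
  classical
  have : Fact (Nat.Prime 2) := ⟨Nat.prime_two⟩
  set C := Subgroup.centralizer ({x} : Set G) with hC
  have h4 : Nat.card S₀ = 4 := hK.card_four
  have hS₀C : Nat.card (S₀.subgroupOf C) = 4 := by
    rw [Nat.card_congr (Subgroup.subgroupOfEquivOfLe hle).toEquiv, h4]
  have hCc : Nat.card C = 4 * S₀.relIndex C := by
    rw [← (S₀.subgroupOf C).card_mul_index, hS₀C, Subgroup.relIndex]
  have h8 : ¬ 8 ∣ Nat.card C := by
    rw [hCc]
    intro h
    exact hodd (Nat.dvd_of_mul_dvd_mul_left (by norm_num : 0 < 4) h)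
  have hnab : ¬ IsMulCommutative G := by
    intro hab
    let _ : CommGroup G := { ‹Group G› with mul_comm := hab.is_comm.comm }
    have hp := IsSimpleGroup.prime_card (α := G)
    have hd := Subgroup.card_subgroup_dvd_card S₀
    rw [h4] at hd
    have := (Nat.prime_dvd_prime_iff_eq Nat.prime_two hp).1 (dvd_trans (by norm_num) hd)
    rw [← this] at hd
    norm_num at hd
  have hnot2 : ¬ ∃ M : Subgroup G, M.Normal ∧ M.index = 2 := by
    rintro ⟨M, hM, hi⟩
    rcases hM.eq_bot_or_eq_top with e | e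
    · rw [e, Subgroup.index_bot] at hi
      have hd := Subgroup.card_subgroup_dvd_card S₀
      rw [h4, hi] at hd
      norm_num at hd
    · rw [e, Subgroup.index_top] at hi
      omega
  -- the involution lies in `S₀`
  have hxC : x ∈ C := Subgroup.mem_centralizer_singleton_iff.2 rfl
  have hx0 : x ∈ S₀ := by
    have h1 : (QuotientGroup.mk' (S₀.subgroupOf C)) ⟨x, hxC⟩ = 1 := by
      refine orderOf_eq_one_iff.1 (Nat.dvd_one.1 ?_)
      have h2 : orderOf ((QuotientGroup.mk' (S₀.subgroupOf C)) ⟨x, hxC⟩) ∣ 2 :=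
        (orderOf_map_dvd _ _).trans (by rw [Subgroup.orderOf_mk, hx])
      rcases (Nat.dvd_prime Nat.prime_two).1 h2 with e | e
      · rw [e]
      · exact absurd ((e ▸ orderOf_dvd_natCard _ : (2 : ℕ) ∣ Nat.card (C ⧸ S₀.subgroupOf C))) hodd
    exact Subgroup.mem_subgroupOf.1 ((QuotientGroup.eq_one_iff _).1 h1)
  -- `S₀` is a Sylow subgroup
  have hp2 : IsPGroup 2 S₀ := IsPGroup.of_card (n := 2) (by rw [h4]; norm_num)
  obtain ⟨P, hP0⟩ := hp2.exists_le_sylow
  have hPc := sylow_four_of_small_centralizer hnot2 P hx (hP0 hx0) h8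
  have hPS : (P : Subgroup G) = S₀ :=
    (Subgroup.eq_of_le_of_card_ge hP0 (by rw [h4]; exact hPc)).symm
  have hKP : IsKleinFour (P : Subgroup G) := by rw [hPS]; exact hK
  have hG4 : ∃ g₀ : ℕ, Odd g₀ ∧ Nat.card G = 4 * g₀ := by
    refine ⟨(P : Subgroup G).index, Nat.not_even_iff_odd.1
      (fun h => P.not_dvd_index (even_iff_two_dvd.1 h)), ?_⟩
    rw [← (P : Subgroup G).card_mul_index, hPS, h4]
  obtain ⟨g₀, hg₀, hG⟩ := hG4
  have hnc : ¬ ∃ N : Subgroup G, N.Normal ∧ Nat.card N = g₀ := by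
    rintro ⟨N, hN, hc⟩
    rcases hN.eq_bot_or_eq_top with e | e
    · rw [e, Subgroup.card_bot] at hc
      subst hc
      have hcomm := IsPGroup.commutative_of_card_eq_prime_sq (G := G) (p := 2) (by rw [hG]; norm_num)
      exact hnab ⟨⟨hcomm⟩⟩
    · rw [e, Subgroup.card_top, hG] at hc
      have := hg₀.pos
      omega
  obtain ⟨-, hone⟩ := CfsgLib.BlockA.klein_setup hg₀ hG hnc P
  -- the centralizer of `x` centralizes `S₀`
  have hcomm0 : ∀ a ∈ S₀, ∀ b ∈ S₀, a * b = b * a := fun a ha b hb =>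
    congrArg Subtype.val (hK.isMulCommutative.is_comm.comm ⟨a, ha⟩ ⟨b, hb⟩)
  have hCV : C = Subgroup.centralizer ((P : Subgroup G) : Set G) := by
    refine le_antisymm (fun c hc => Subgroup.mem_centralizer_iff.2 fun w hw => ?_)
      (Subgroup.centralizer_le (Set.singleton_subset_iff.2 (hP0 hx0)))
    rw [hPS] at hw
    by_cases hw1 : w = 1
    · simp [hw1]
    by_cases hwx : w = x
    · subst hwx
      exact (Subgroup.mem_centralizer_singleton_iff.1 hc).symm
    have hcw : c * w * c⁻¹ ∈ S₀ :=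
      Subgroup.mem_subgroupOf.1 (hn.conj_mem ⟨w, hle hw⟩ (Subgroup.mem_subgroupOf.2 hw) ⟨c, hc⟩)
    rcases CfsgLib.BlockA.klein_cases hK hx0 hw (CfsgLib.Invol.invol_ne_one hx) hw1 hwx hcw with
      e | e | e | e
    · exact absurd (conj_eq_one_iff.1 e) hw1
    · exfalso
      refine hwx ?_
      have h1 : c * w * c⁻¹ = c * x * c⁻¹ := by
        rw [e, Subgroup.mem_centralizer_singleton_iff.1 hc, mul_inv_cancel_right]
      exact mul_left_cancel (mul_right_cancel h1)
    · exact (mul_inv_eq_iff_eq_mul.1 e).symm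
    · exact absurd e (CfsgLib.BlockA.klein_not_conj P hKP (hP0 hx0) (CfsgLib.Invol.invol_ne_one hx)
        (hP0 hw) (Subgroup.mem_centralizer_singleton_iff.1 hc))
  -- the normaliser has three times the order of the centraliser
  have hab : IsMulCommutative (P : Subgroup G) := hKP.isMulCommutative
  set N := Subgroup.normalizer ((P : Subgroup G) : Set G) with hN
  have hN3 : 3 * Nat.card C ≤ Nat.card N := by
    let f : {w : (P : Subgroup G) // w ≠ 1} → G := fun w => w.1
    have hex : ∀ w : {w : (P : Subgroup G) // w ≠ 1}, ∃ n ∈ N, n * x * n⁻¹ = (w.1 : G) := by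
      intro w
      obtain ⟨g, hg⟩ := isConj_iff.1 (hone x _ hx (CfsgLib.Invol.klein_orderOf hKP w.1.2
        fun e => w.2 (Subtype.ext e)))
      obtain ⟨n, hn', he⟩ := P.conj_eq_normalizer_conj_of_mem x g⁻¹ (hP0 hx0)
        (by rw [inv_inv, hg]; exact w.1.2)
      rw [inv_inv, hg] at he
      exact ⟨n⁻¹, inv_mem hn', by rw [inv_inv]; exact he.symm⟩
    choose n hn' hne using hex
    have hCN : C ≤ N := by
      rw [hCV]
      exact Subgroup.centralizer_le_normalizer _
    let φ : {w : (P : Subgroup G) // w ≠ 1} × C → N := fun p =>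
      ⟨n p.1 * p.2, mul_mem (hn' p.1) (hCN p.2.2)⟩
    have hinj : Function.Injective φ := by
      rintro ⟨w, c⟩ ⟨w', c'⟩ h
      have h' : n w * (c : G) = n w' * c' := congrArg Subtype.val h
      have hfix : ∀ c : C, (c : G) * x * (c : G)⁻¹ = x := fun c => by
        rw [Subgroup.mem_centralizer_singleton_iff.1 c.2, mul_inv_cancel_right]
      have hw : w = w' := by
        refine Subtype.ext (Subtype.ext ?_)
        rw [← hne w, ← hne w']
        calc n w * x * (n w)⁻¹ = (n w * c) * x * (n w * c)⁻¹ := by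
              conv_lhs => rw [← hfix c]
              group
          _ = (n w' * c') * x * (n w' * c')⁻¹ := by rw [h']
          _ = _ := by
              conv_rhs => rw [← hfix c']
              group
      subst hw
      exact Prod.ext rfl (Subtype.ext (mul_left_cancel h'))
    have := Nat.card_le_card_of_injective φ hinj
    rw [Nat.card_prod] at this
    have h3 : Nat.card {w : (P : Subgroup G) // w ≠ 1} = 3 := by
      have := Fintype.ofFinite (P : Subgroup G)
      rw [Nat.card_eq_fintype_card, Fintype.card_subtype_compl, Fintype.card_subtype_eq,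
        ← Nat.card_eq_fintype_card, hPS, h4]
    rwa [h3] at this
  have hidx5 : 5 ≤ N.index := by
    by_contra hlt
    have hNt : N ≠ ⊤ := by
      intro e
      have hPn : (P : Subgroup G).Normal := Subgroup.normalizer_eq_top_iff.1 e
      rcases hPn.eq_bot_or_eq_top with e' | e'
      · rw [hPS] at e'
        rw [e', Subgroup.card_bot] at h4
        omega
      · rw [e'] at hab
        exact hnab ⟨⟨fun a b => congrArg Subtype.val
          (hab.is_comm.comm ⟨a, Subgroup.mem_top a⟩ ⟨b, Subgroup.mem_top b⟩)⟩⟩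
    have hd : Nat.card G ∣ N.index.factorial := by
      have h0 : N.normalCore = ⊥ := (N.normalCore_normal.eq_bot_or_eq_top).resolve_right
        fun e => hNt (top_le_iff.1 (e ▸ N.normalCore_le))
      have hk : (MulAction.toPermHom G (G ⧸ N)).ker = ⊥ := by rw [← Subgroup.normalCore_eq_ker, h0]
      have hd := Subgroup.card_dvd_of_injective _ ((MonoidHom.ker_eq_bot_iff _).1 hk)
      rwa [Nat.card_perm, ← Subgroup.index_eq_card] at hd
    have hi0 : N.index ≠ 0 := Subgroup.index_ne_zero_of_finite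
    have hodd' : Odd N.index :=
      Nat.not_even_iff_odd.1 fun h => P.not_dvd_index ((even_iff_two_dvd.1 h).trans
        (Subgroup.index_dvd_of_le (Subgroup.le_normalizer)))
    obtain ⟨k, hk⟩ := hodd'
    have hk1 : k ≤ 1 := by omega
    have h4G : 4 ∣ Nat.card G := hG ▸ dvd_mul_right 4 g₀
    have := h4G.trans hd
    interval_cases k <;> rw [hk] at this <;> norm_num [Nat.factorial] at this
  -- the principal block
  obtain ⟨M, hM⟩ := CfsgLib.BlockB.exists_isPModular Nat.prime_two (p := 2)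
  have := hM.2.1.isPrime
  have hx1 := CfsgLib.Invol.invol_ne_one hx
  have hxP := hP0 hx0
  obtain ⟨hcard4, hvals⟩ := CfsgLib.BlockA.klein_principal_card hM P hKP hone hxP hx1
  set B := Cfsg.principalBlock M G with hB
  have htriv : CfsgLib.Block.trivIrr ∈ B := CfsgLib.Block.one_mem_principalBlock
  have h3 : (B \ {CfsgLib.Block.trivIrr}).ncard = 3 := by
    rw [Set.ncard_sdiff_singleton_of_mem htriv, ← Nat.card_coe_set_eq, hcard4]
  obtain ⟨χ₁, χ₂, χ₃, h12, h13, h23, he⟩ := Set.ncard_eq_three.1 h3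
  have hmem : ∀ χ, χ = χ₁ ∨ χ = χ₂ ∨ χ = χ₃ → χ ∈ B ∧ χ ≠ CfsgLib.Block.trivIrr := by
    intro χ hχ
    have : χ ∈ B \ {CfsgLib.Block.trivIrr} := by rw [he]; simpa using hχ
    simpa using this
  have hBset : Cfsg.principalBlock M G = {χ : Cfsg.IrrCharacter G |
      (χ : G → ℂ) = (fun _ => 1) ∨ χ = χ₁ ∨ χ = χ₂ ∨ χ = χ₃} := by
    ext χ
    constructor
    · intro hχ
      by_cases h : χ = CfsgLib.Block.trivIrr
      · exact Or.inl (by rw [h]; rfl)
      · exact Or.inr (by
          have : χ ∈ B \ {CfsgLib.Block.trivIrr} := ⟨hχ, h⟩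
          rw [he] at this
          simpa using this)
    · rintro (h | h)
      · rw [show χ = CfsgLib.Block.trivIrr from Subtype.ext h]; exact htriv
      · exact (hmem χ h).1
  obtain ⟨m1, n1⟩ := hmem χ₁ (Or.inl rfl)
  obtain ⟨m2, n2⟩ := hmem χ₂ (Or.inr (Or.inl rfl))
  obtain ⟨m3, n3⟩ := hmem χ₃ (Or.inr (Or.inr rfl))
  have hdist : (χ₁ : G → ℂ) ≠ (fun _ => 1) ∧ (χ₂ : G → ℂ) ≠ (fun _ => 1) ∧
      (χ₃ : G → ℂ) ≠ (fun _ => 1) ∧ χ₁ ≠ χ₂ ∧ χ₁ ≠ χ₃ ∧ χ₂ ≠ χ₃ :=
    ⟨fun e => n1 (Subtype.ext e), fun e => n2 (Subtype.ext e), fun e => n3 (Subtype.ext e),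
      h12, h13, h23⟩
  have hsgn : ∀ χ : Cfsg.IrrCharacter G, χ ∈ B →
      ∃ e : ℤ, (e = 1 ∨ e = -1) ∧ (χ : G → ℂ) x = e := fun χ hχ => by
    rcases hvals χ hχ with h | h
    · exact ⟨1, Or.inl rfl, by simpa using h⟩
    · exact ⟨-1, Or.inr rfl, by simpa using h⟩
  obtain ⟨e₁, he₁, v₁⟩ := hsgn χ₁ m1
  obtain ⟨e₂, he₂, v₂⟩ := hsgn χ₂ m2
  obtain ⟨e₃, he₃, v₃⟩ := hsgn χ₃ m3
  have hdeg : ∀ χ : Cfsg.IrrCharacter G, χ ∈ B → χ ≠ CfsgLib.Block.trivIrr →
      3 ≤ Cfsg.charDegree (χ : G → ℂ) := by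
    intro χ hχ hne
    obtain ⟨k, hk⟩ := CfsgLib.BlockA.odd_degree_of_invol (CfsgLib.Char.irr_isCharacter χ.2)
      (CfsgLib.Invol.invol_mul_self hx) (hvals χ hχ)
    by_contra hlt
    refine CfsgLib.Transfer.irr_apply_one_ne_one hnab χ (fun e => hne (Subtype.ext e)) ?_
    rw [← CfsgLib.BlockB.irr_degree_cast χ, show Cfsg.charDegree (χ : G → ℂ) = 1 by omega,
      Nat.cast_one]
  have hrel := CfsgLib.BlockA.klein_degree_relation hM hKP hone hxP hx1 hBset hdist ⟨v₁, v₂, v₃⟩
  have hord := CfsgLib.BlockA.klein_order_formula hM hKP hone hxP hx1 hBset hdist ⟨v₁, v₂, v₃⟩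
    ⟨he₁, he₂, he₃⟩
  rw [← hCV] at hord
  have hc0 : (Nat.card C : ℤ) ^ 2 ≠ 0 := pow_ne_zero _ (Nat.cast_ne_zero.2 Nat.card_pos.ne')
  have hmain : (Nat.card G : ℤ) = 15 * Nat.card C := by
    refine klein_degree_arith ⟨he₁, he₂, he₃⟩ (hdeg χ₁ m1 n1) (hdeg χ₂ m2 n2) (hdeg χ₃ m3 n3) hrel
      (by exact_mod_cast Nat.card_pos) ?_ (mul_right_cancel₀ hc0 ?_)
    · have h1 : 15 * Nat.card C ≤ Nat.card G := by
        rw [← N.card_mul_index]
        calc 15 * Nat.card C = 3 * Nat.card C * 5 := by ring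
          _ ≤ _ := Nat.mul_le_mul hN3 hidx5
      exact_mod_cast h1
    · rw [hord]; ring
  have hG15 : Nat.card G = 15 * Nat.card C := by exact_mod_cast hmain
  have hN5 : N.index = 5 := by
    have h := N.card_mul_index
    by_contra hne
    have h6 := Nat.mul_le_mul hN3 (show 6 ≤ N.index by omega)
    have hc1 : 0 < Nat.card C := Nat.card_pos
    rw [h, hG15] at h6
    omega
  -- embedding into the symmetric group of degree five
  have hcore : N.normalCore = ⊥ := by
    rcases N.normalCore_normal.eq_bot_or_eq_top with e | e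
    · exact e
    · exfalso
      have : N = ⊤ := top_le_iff.1 (e ▸ N.normalCore_le)
      rw [this, Subgroup.index_top] at hN5
      omega
  have hk : (MulAction.toPermHom G (G ⧸ N)).ker = ⊥ := by rw [← Subgroup.normalCore_eq_ker, hcore]
  have hd := Subgroup.card_dvd_of_injective _ ((MonoidHom.ker_eq_bot_iff _).1 hk)
  rw [Nat.card_perm, ← Subgroup.index_eq_card, hN5, hG15, hCc] at hd
  have hr : S₀.relIndex C = 1 := by
    have h1 := Nat.le_of_dvd (by norm_num [Nat.factorial]) hd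
    norm_num [Nat.factorial] at h1
    have h2 : S₀.relIndex C ≠ 0 := fun e => hodd (e ▸ dvd_zero 2)
    by_contra hne
    have : S₀.relIndex C = 2 := by omega
    exact hodd (this ▸ dvd_rfl)
  exact CfsgLib.Geom.equiv_altFive_of_simple_sixty (by rw [hG15, hCc, hr])

end CfsgLib.InvChar
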