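import Cfsg.Agent.Lib.Transfer.Thompson
import Cfsg.Agent.Lib.Invol.Basic
import Cfsg.Agent.Lib.Transfer.ClassTwo

/-!
An involution with centraliser 2-part four forces Sylow order four in a group without index two.
-/

set_option autoImplicit false

namespace CfsgLib.InvChar

variable {G : Type*} [Group G] [Finite G]

/-- A nontrivial finite 2-group generated by one element and its commutator subgroup is abelian. -/
theorem commutative_of_sup_commutator {S : Type*} [Group S] [Finite S] (hS : IsPGroup 2 S) (g : S)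
    (h : Subgroup.zpowers g ⊔ commutator S = ⊤) : ∀ a b : S, a * b = b * a := by
  have : Fact (Nat.Prime 2) := ⟨Nat.prime_two⟩
  have := hS.isNilpotent
  have htop : Subgroup.zpowers g = ⊤ := by
    by_contra hne
    obtain ⟨M, hM, hle⟩ := (eq_top_or_exists_le_coatom (Subgroup.zpowers g)).resolve_left hne
    obtain ⟨hMn, hidx⟩ := CfsgLib.Transfer.coatom_index_eq_prime hS hM
    have : IsCyclic (S ⧸ M) := isCyclic_of_prime_card (p := 2) (by rw [← Subgroup.index_eq_card, hidx])
    have hcomm : commutator S ≤ M := by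
      rw [commutator_def, Subgroup.commutator_le]
      intro a _ b _
      rw [← QuotientGroup.eq_one_iff]
      let _ : CommGroup (S ⧸ M) := IsCyclic.commGroup
      rw [commutatorElement_def, QuotientGroup.mk_mul, QuotientGroup.mk_mul, QuotientGroup.mk_mul,
        QuotientGroup.mk_inv, QuotientGroup.mk_inv, mul_right_comm (a : S ⧸ M), mul_inv_cancel, one_mul,
        mul_inv_cancel]
    exact hM.1 (top_le_iff.1 (h ▸ sup_le hle hcomm))
  intro a b
  obtain ⟨i, rfl⟩ := Subgroup.mem_zpowers_iff.1 (htop ▸ Subgroup.mem_top a : a ∈ Subgroup.zpowers g)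
  obtain ⟨j, rfl⟩ := Subgroup.mem_zpowers_iff.1 (htop ▸ Subgroup.mem_top b : b ∈ Subgroup.zpowers g)
  exact (Commute.zpow_zpow_self g i j).eq

theorem sylow_four_of_small_centralizer (hG : ¬ ∃ M : Subgroup G, M.Normal ∧ M.index = 2)
    (S : Sylow 2 G) {x : G} (hx : orderOf x = 2) (hxS : x ∈ (S : Subgroup G))
    (hC : ¬ 8 ∣ Nat.card (Subgroup.centralizer ({x} : Set G))) :
    Nat.card (S : Subgroup G) ≤ 4 := by
  classical
  have : Fact (Nat.Prime 2) := ⟨Nat.prime_two⟩
  by_contra hlt
  push Not at hlt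
  set T := (S : Subgroup G) with hT
  set D := commutator T with hD
  obtain ⟨n, hn⟩ := S.2.exists_card_eq
  have hn3 : 3 ≤ n := by
    by_contra h
    have : 2 ^ n ≤ 2 ^ 2 := Nat.pow_le_pow_right (by norm_num) (by omega)
    change Nat.card T = 2 ^ n at hn
    omega
  -- facts about the conjugates of `x` in `T`
  let IsX : T → Prop := fun u => IsConj x (u : G)
  have horb : ∀ u : T, IsX u →
      Nat.card T ≤ 4 * Nat.card D ∧ (Nat.card T = 4 * Nat.card D → ∀ d ∈ D, IsX (d * u)) := by
    intro u hu
    have hcu : Nat.card (Subgroup.centralizer ({u} : Set T)) ∣ 4 := by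
      obtain ⟨k, hk⟩ := (S.2.to_subgroup (Subgroup.centralizer ({u} : Set T))).exists_card_eq
      obtain ⟨g, hg⟩ := isConj_iff.1 hu
      have hle : (Subgroup.centralizer ({u} : Set T)).map T.subtype ≤
          (Subgroup.centralizer ({x} : Set G)).map (MulAut.conj g).toMonoidHom := by
        rintro _ ⟨c, hc, rfl⟩
        refine ⟨g⁻¹ * (c : G) * g, ?_, by simp [mul_assoc]⟩
        have h1 : (c : G) * (u : G) = (u : G) * c :=
          congrArg Subtype.val (Subgroup.mem_centralizer_singleton_iff.1 hc)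
        rw [SetLike.mem_coe, Subgroup.mem_centralizer_singleton_iff]
        rw [← hg] at h1
        calc g⁻¹ * ↑c * g * x = g⁻¹ * (↑c * (g * x * g⁻¹)) * g := by group
          _ = g⁻¹ * (g * x * g⁻¹ * ↑c) * g := by rw [h1]
          _ = _ := by group
      have hd := Subgroup.card_dvd_of_le hle
      rw [Subgroup.card_map_of_injective T.subtype_injective,
        Subgroup.card_map_of_injective (MulEquiv.injective _), hk] at hd
      rw [hk]
      rcases le_or_gt k 2 with h | h
      · exact (show (4 : ℕ) = 2 ^ 2 by norm_num) ▸ pow_dvd_pow 2 h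
      · exact absurd ((show (8 : ℕ) = 2 ^ 3 by norm_num) ▸ (pow_dvd_pow 2 h).trans hd) hC
    set O := MulAction.orbit (ConjAct T) u with hO
    have hOD : O ⊆ (fun d => d * u) '' (D : Set T) := by
      rintro _ ⟨g, rfl⟩
      refine ⟨ConjAct.ofConjAct g * u * (ConjAct.ofConjAct g)⁻¹ * u⁻¹, ?_, ?_⟩
      · exact Subgroup.commutator_mem_commutator (Subgroup.mem_top _) (Subgroup.mem_top _)
      · simp [ConjAct.smul_def]
    have hOc : O.ncard * Nat.card (Subgroup.centralizer ({u} : Set T)) = Nat.card T := by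
      have h := (MulAction.stabilizer (ConjAct T) u).index_mul_card
      rw [MulAction.index_stabilizer, ← Subgroup.nat_card_centralizer_nat_card_stabilizer] at h
      exact h
    have himg : ((fun d => d * u) '' (D : Set T)).ncard = Nat.card D := by
      rw [Set.ncard_image_of_injective _ (mul_left_injective u), ← Nat.card_coe_set_eq]
      rfl
    have hOle := Set.ncard_le_ncard hOD
    rw [himg] at hOle
    have hc4 : Nat.card (Subgroup.centralizer ({u} : Set T)) ≤ 4 := Nat.le_of_dvd (by norm_num) hcu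
    refine ⟨?_, fun heq d hd => ?_⟩
    · rw [← hOc]
      calc _ ≤ Nat.card D * 4 := Nat.mul_le_mul hOle hc4
        _ = _ := mul_comm _ _
    · have hge : Nat.card D ≤ O.ncard := by
        have : 4 * Nat.card D ≤ 4 * O.ncard := by
          rw [← heq, ← hOc, mul_comm 4 O.ncard]
          exact Nat.mul_le_mul_left _ hc4
        omega
      have hEq := Set.eq_of_subset_of_ncard_le hOD (by rw [himg]; exact hge)
      have hm : d * u ∈ O := hEq ▸ ⟨d, hd, rfl⟩
      obtain ⟨g, hg⟩ := hm
      rw [← hg]
      refine hu.trans (isConj_iff.2 ⟨((ConjAct.ofConjAct g : T) : G), ?_⟩)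
      simp [ConjAct.smul_def]
  set u₀ : T := ⟨x, hxS⟩
  obtain ⟨hb, hcos⟩ := horb u₀ (IsConj.refl x)
  have hnab : ¬ ∀ a b : T, a * b = b * a := by
    intro h
    have : D = ⊥ := by
      rw [hD, commutator_def, Subgroup.commutator_eq_bot_iff_le_centralizer]
      exact fun a _ => Subgroup.mem_centralizer_iff.2 fun b _ => h b a
    rw [this, Subgroup.card_bot] at hb
    omega
  have hDidx : D.index ∣ 2 ^ n := hn ▸ Subgroup.index_dvd_card D
  have hD4 : Nat.card D * D.index = Nat.card T := D.card_mul_index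
  have hD0 : 0 < Nat.card D := Nat.card_pos
  have hidx : D.index = 4 := by
    have hle4 : D.index ≤ 4 := by
      by_contra h
      have h5 := Nat.mul_le_mul_left (Nat.card D) (show 5 ≤ D.index by omega)
      rw [hD4] at h5
      omega
    have hne1 : D.index ≠ 1 := by
      intro h
      have hb' : Nontrivial T := Finite.one_lt_card_iff_nontrivial.1 (by omega)
      have := S.2.isNilpotent
      exact (Group.IsSolvable.commutator_lt_top_of_nontrivial T).ne (Subgroup.index_eq_one.1 h)
    have hne2 : D.index ≠ 2 := by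
      intro h
      have : ∃ g : T, g ∉ D := by
        by_contra! hall
        exact hne1 (Subgroup.index_eq_one.2 (eq_top_iff.2 fun g _ => hall g))
      obtain ⟨g, hg⟩ := this
      refine hnab (commutative_of_sup_commutator S.2 g (eq_top_iff.2 fun a _ => ?_))
      by_cases ha : a ∈ D
      · exact (le_sup_right : D ≤ _) ha
      · have hga : g⁻¹ * a ∈ D := by
          rw [Subgroup.mul_mem_iff_of_index_two h]
          exact iff_of_false (fun e => hg (inv_mem_iff.1 e)) ha
        rw [show a = g * (g⁻¹ * a) by group]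
        exact mul_mem ((le_sup_left : _ ≤ Subgroup.zpowers g ⊔ D) (Subgroup.mem_zpowers g))
          ((le_sup_right : D ≤ _) hga)
    obtain ⟨i, -, hi⟩ := (Nat.dvd_prime_pow Nat.prime_two).1 hDidx
    rcases i with _ | _ | _ | i
    · exact absurd hi (by simpa using hne1)
    · exact absurd hi (by simpa using hne2)
    · simpa using hi
    · rw [hi] at hle4
      exfalso
      have : 2 ^ 3 ≤ 2 ^ (i + 1 + 1 + 1) := Nat.pow_le_pow_right (by norm_num) (by omega)
      omega
  have heq : Nat.card T = 4 * Nat.card D := by rw [← hD4, hidx, mul_comm]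
  have hnot : ∀ u : T, IsX u → u ∉ D := by
    intro u hu hmem
    have h1 := (horb u hu).2 heq u⁻¹ (inv_mem hmem)
    have : IsConj x 1 := by simpa [IsX] using h1
    exact CfsgLib.Invol.invol_ne_one hx (isConj_one_left.1 this)
  have hsqX : ∀ u : T, IsX u → u * u = 1 := fun u hu =>
    Subtype.ext (CfsgLib.Invol.invol_mul_self ((CfsgLib.Invol.orderOf_eq_of_isConj hu).trans hx))
  let π := QuotientGroup.mk' D
  have hQ : Nat.card (T ⧸ D) = 4 := by rw [← Subgroup.index_eq_card, hidx]
  have hx1 : π u₀ ≠ 1 := fun h => hnot u₀ (IsConj.refl x) ((QuotientGroup.eq_one_iff _).1 h)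
  -- every other coset contains a conjugate of `x`
  have hcov : ∀ a : T ⧸ D, a ≠ 1 → ∃ u : T, IsX u ∧ π u = a := by
    intro a ha
    by_cases hax : a = π u₀
    · exact ⟨u₀, IsConj.refl x, hax.symm⟩
    have ha2 : a * a = 1 := by
      by_contra hne
      obtain ⟨g, rfl⟩ := QuotientGroup.mk'_surjective D a
      refine hnab (commutative_of_sup_commutator S.2 g ?_)
      have hord : orderOf (π g) = 4 := by
        have h4 : orderOf (π g) ∣ 2 ^ 2 := by
          rw [show (2 : ℕ) ^ 2 = 4 by norm_num, ← hQ]; exact orderOf_dvd_natCard _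
        obtain ⟨i, hi, hi'⟩ := (Nat.dvd_prime_pow Nat.prime_two).1 h4
        rcases i with _ | _ | i
        · rw [pow_zero, orderOf_eq_one_iff] at hi'
          exact absurd hi' ha
        · exfalso
          refine hne ?_
          rw [← pow_two, ← orderOf_dvd_iff_pow_eq_one, hi']
          norm_num
        · rw [hi', show i = 0 by omega]; norm_num
      have htop : Subgroup.zpowers (π g) = ⊤ :=
        Subgroup.eq_top_of_card_eq _ (by rw [Nat.card_zpowers, hord, hQ])
      have h := congrArg (Subgroup.comap π) htop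
      rw [← MonoidHom.map_zpowers, Subgroup.comap_map_eq, QuotientGroup.ker_mk',
        Subgroup.comap_top] at h
      exact h
    set M : Subgroup T := (Subgroup.zpowers a).comap π
    have hMi : M.index = 2 := by
      rw [Subgroup.index_comap_of_surjective _ (QuotientGroup.mk'_surjective D)]
      have h := (Subgroup.zpowers a).card_mul_index
      rw [Nat.card_zpowers, orderOf_eq_prime (by rw [pow_two]; exact ha2) ha, hQ] at h
      omega
    have hxM : u₀ ∉ M := by
      intro h
      obtain ⟨i, hi⟩ := Subgroup.mem_zpowers_iff.1 (Subgroup.mem_comap.1 h)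
      rcases Int.even_or_odd i with ⟨m, rfl⟩ | ⟨m, rfl⟩
      · rw [← two_mul, zpow_mul, zpow_two, ha2, one_zpow] at hi
        exact hx1 hi.symm
      · rw [zpow_add, zpow_mul, zpow_two, ha2, one_zpow, one_mul, zpow_one] at hi
        exact hax hi
    have hrel : (M.map T.subtype).relIndex (S : Subgroup G) = 2 := by
      rw [Subgroup.relIndex, ← hT, Subgroup.subgroupOf,
        Subgroup.comap_map_eq_self_of_injective T.subtype_injective, hMi]
    rcases CfsgLib.Transfer.thompson_transfer_involution S (Subgroup.map_subtype_le M) hrel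
      (u := x) (by rw [pow_two]; exact CfsgLib.Invol.invol_mul_self hx) hxS with ⟨N, hN, hN2, -⟩ | ⟨g, hg⟩
    · exact absurd ⟨N, hN, hN2⟩ hG
    obtain ⟨u, hu, hue⟩ := hg
    have huX : IsX u := isConj_iff.2 ⟨g, hue.symm⟩
    refine ⟨u, huX, ?_⟩
    obtain ⟨i, hi⟩ := Subgroup.mem_zpowers_iff.1 (Subgroup.mem_comap.1 hu)
    rcases Int.even_or_odd i with ⟨m, rfl⟩ | ⟨m, rfl⟩
    · rw [← two_mul, zpow_mul, zpow_two, ha2, one_zpow] at hi
      exact absurd ((QuotientGroup.eq_one_iff _).1 hi.symm) (hnot u huX)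
    · rw [zpow_add, zpow_mul, zpow_two, ha2, one_zpow, one_mul, zpow_one] at hi
      exact hi.symm
  have hinv : ∀ g : T, g ∉ D → g * g = 1 := by
    intro g hg
    obtain ⟨u, hu, he⟩ := hcov (π g) (fun h => hg ((QuotientGroup.eq_one_iff _).1 h))
    have hd : g * u⁻¹ ∈ D := by
      rw [← QuotientGroup.eq_one_iff]
      change π (g * u⁻¹) = 1
      rw [map_mul, map_inv, he, mul_inv_cancel]
    refine hsqX g ?_
    have := (horb u hu).2 heq _ hd
    rwa [inv_mul_cancel_right] at this
  obtain ⟨g, hgD, hgx⟩ : ∃ g : T, g ∉ D ∧ g * u₀⁻¹ ∉ D := by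
    by_contra! hall
    have hsub : ∀ a : T ⧸ D, a = 1 ∨ a = π u₀ := by
      intro a
      obtain ⟨g, rfl⟩ := QuotientGroup.mk'_surjective D a
      by_cases hg : g ∈ D
      · exact Or.inl ((QuotientGroup.eq_one_iff _).2 hg)
      · refine Or.inr (mul_inv_eq_one.1 ?_)
        rw [← map_inv, ← map_mul]
        exact (QuotientGroup.eq_one_iff _).2 (hall g hg)
    have h2 : Nat.card (T ⧸ D) ≤ 2 := by
      rw [← Set.ncard_univ]
      refine (Set.ncard_le_ncard (t := {1, π u₀}) fun a _ => ?_).trans ?_
      · simpa using hsub a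
      · exact (Set.ncard_insert_le _ _).trans (by simp)
    omega
  have hu0 : u₀ ∉ D := hnot u₀ (IsConj.refl x)
  have hgi : ∀ g : T, g ∉ D → ∀ d ∈ D, g * d * g⁻¹ = d⁻¹ := by
    intro g hg d hd
    have h1 : (g * d) * (g * d) = 1 :=
      hinv _ (fun h => hg (by simpa using mul_mem h (inv_mem hd)))
    have h2 : g⁻¹ = g := inv_eq_of_mul_eq_one_right (hinv g hg)
    rw [h2]
    exact eq_inv_of_mul_eq_one_left (by simpa only [mul_assoc] using h1)
  have hdsq : ∀ d ∈ D, d * d = 1 := by
    intro d hd
    have h1 := hgi (g * u₀⁻¹) hgx d hd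
    have h2 : (g * u₀⁻¹) * d * (g * u₀⁻¹)⁻¹ = d := by
      have e1 : u₀⁻¹ = u₀ := inv_eq_of_mul_eq_one_right (hinv u₀ hu0)
      calc (g * u₀⁻¹) * d * (g * u₀⁻¹)⁻¹ = g * (u₀⁻¹ * d * u₀⁻¹⁻¹) * g⁻¹ := by group
        _ = g * d⁻¹ * g⁻¹ := by rw [inv_inv]; nth_rw 1 [e1]; rw [← hgi u₀ hu0 d hd]; rw [e1]
        _ = (g * d * g⁻¹)⁻¹ := by group
        _ = d := by rw [hgi g hgD d hd, inv_inv]
    rw [h2] at h1
    exact mul_eq_one_iff_eq_inv.2 h1
  apply hnab
  intro a b
  have hall : ∀ c : T, c⁻¹ = c := fun c => inv_eq_of_mul_eq_one_right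
    (if h : c ∈ D then hdsq c h else hinv c h)
  rw [← hall (a * b), mul_inv_rev, hall, hall]

end CfsgLib.InvChar
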