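import Cfsg.Agent.Lib.InvChar.CosetGroup
import Cfsg.Agent.Lib.InvChar.SporData.FiC.Main
import Cfsg.Agent.Lib.InvChar.SporData.FiD.Main
import Cfsg.Agent.Lib.InvChar.SporData.FiE.Main
import Cfsg.Agent.Lib.InvChar.SporData.FiF.Main

/-!
# The subgroup on eight generators of the presented Fi22, as an abstract presented group
-/

set_option autoImplicit false
set_option maxRecDepth 100000

namespace CfsgLib.InvChar.SporO7

open CfsgLib.InvChar.Coset

/-- A word as a free group element. -/
def fword (L : List ℕ) : FreeGroup (Fin 8) := (L.map fun x => FreeGroup.of (Fin.ofNat 8 x)).prod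

/-- The relators. -/
def preRels : Set (FreeGroup (Fin 8)) := fword '' {L | L ∈ FiC.rels}

/-- The presented group on six generators. -/
abbrev Pre : Type := PresentedGroup preRels

theorem rels_lt : ∀ L ∈ FiC.rels, ∀ x ∈ L, x < 8 := by decide +kernel

/-- The generators of the presented group. -/
noncomputable def gen (x : ℕ) : Pre := if h : x < 8 then PresentedGroup.of ⟨x, h⟩ else 1

theorem lift_fword {K : Type*} [Group K] (f : ℕ → K) (L : List ℕ) (hL : ∀ x ∈ L, x < 8) :
    FreeGroup.lift (fun i : Fin 8 => f i) (fword L) = wprod f L := by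
  rw [fword, map_list_prod, List.map_map, wprod]
  refine congrArg List.prod (List.map_congr_left fun x hx => ?_)
  simp [Nat.mod_eq_of_lt (hL x hx)]

theorem mk_fword (L : List ℕ) (hL : ∀ x ∈ L, x < 8) : PresentedGroup.mk preRels (fword L) = wprod gen L := by
  rw [← lift_fword gen L hL]
  refine DFunLike.congr_fun (?_ : PresentedGroup.mk _ = _) _
  ext i
  rw [FreeGroup.lift_apply_of]
  simp [gen, i.2, PresentedGroup.of]

theorem gen_rel : ∀ r ∈ FiC.rels, wprod gen r = 1 := fun r hr => by
  rw [← mk_fword r (rels_lt r hr)]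
  exact PresentedGroup.one_of_mem ⟨r, hr, rfl⟩

theorem gen_mul_self (x : ℕ) : gen x * gen x = 1 := by
  by_cases h : x < 8
  · have := gen_rel [x, x] ((by decide +kernel : ∀ x < 8, [x, x] ∈ FiC.rels) x h)
    simpa [wprod] using this
  · simp [gen, h]

theorem closure_gen : Subgroup.closure (gen '' Set.Iio 8) = ⊤ := by
  refine top_le_iff.1 ?_
  rw [← PresentedGroup.closure_range_of, Subgroup.closure_le]
  rintro _ ⟨i, rfl⟩
  exact Subgroup.subset_closure ⟨i, i.2, by simp [gen, i.2]⟩

theorem exists_hom {K : Type*} [Group K] (f : ℕ → K) (hf : ∀ r ∈ FiC.rels, wprod f r = 1) :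
    ∃ φ : Pre →* K, ∀ x < 8, φ (gen x) = f x := by
  have h : ∀ r ∈ preRels, FreeGroup.lift (fun i : Fin 8 => f i) r = 1 := by
    rintro _ ⟨L, hL, rfl⟩
    rw [lift_fword f L (rels_lt L hL)]
    exact hf L hL
  exact ⟨PresentedGroup.toGroup h, fun x hx => by
    rw [gen, dif_pos hx]
    exact PresentedGroup.toGroup.of h⟩

theorem lettersClosure_top : lettersClosure gen [0, 1, 2, 3, 4, 5, 6, 7] = ⊤ := by
  rw [← closure_gen, lettersClosure]
  congr 1
  ext y
  constructor <;> rintro ⟨i, hi, rfl⟩ <;>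
    refine ⟨i, hi, ?_⟩ <;> (have : i < 8 := hi; interval_cases i <;> rfl)

theorem rels_subGen (emb : List ℕ) (R : List (List ℕ))
    (h : ∀ r ∈ R, (∀ x ∈ r, x < emb.length) ∧ r.map (fun x => emb.getD x 0) ∈ FiC.rels) :
    ∀ r ∈ R, wprod (subGen gen emb) r = 1 := by
  intro r hr
  obtain ⟨h1, h2⟩ := h r hr
  rw [wprod_subGen gen emb r h1]
  exact gen_rel _ h2

theorem card_le : Finite Pre ∧ Nat.card Pre ≤ 4585351680 := by
  have h0 := card_lettersClosure_nil gen
  have h1 := FiF.covered.chain_step gen gen_mul_self (FiF.emb.map (· - 1)) [] rfl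
    (rels_subGen _ _ (by decide +kernel)) (by decide) (by decide +kernel) h0.1 h0.2
  have h2 := FiE.covered.chain_step gen gen_mul_self (FiE.emb.map (· - 1)) (FiF.emb.map (· - 1)) rfl
    (rels_subGen _ _ (by decide +kernel)) (by decide) (by decide +kernel) h1.1 h1.2
  have h3 := FiD.covered.chain_step gen gen_mul_self (FiD.emb.map (· - 1)) (FiE.emb.map (· - 1)) rfl
    (rels_subGen _ _ (by decide +kernel)) (by decide) (by decide +kernel) h2.1 h2.2
  have h4 := FiC.covered.chain_step gen gen_mul_self [0, 1, 2, 3, 4, 5, 6, 7] (FiD.emb.map (· - 1)) rfl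
    (rels_subGen _ _ (by decide +kernel)) (by decide) (by decide +kernel) h3.1 h3.2
  rw [lettersClosure_top] at h4
  have := h4.1
  exact ⟨Finite.of_equiv _ Subgroup.topEquiv.toEquiv,
    (Nat.card_congr Subgroup.topEquiv.toEquiv).symm.le.trans (h4.2.trans (le_of_eq rfl))⟩

end CfsgLib.InvChar.SporO7
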