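import Cfsg.Agent.Lib.Classical.OrthOmega
import Cfsg.Agent.Lib.InvChar.SporO7
import Cfsg.Agent.Lib.InvChar.SporData.O7.Chain

/-!
# The presented group on eight generators is the simple orthogonal group in dimension 7 over ZMod 3

The generators go to minus reflections; a table of their action on the 2187 vectors gives the
relations, the isometry property and, by a stabiliser chain, surjectivity.
-/

set_option autoImplicit false
set_option maxRecDepth 100000

namespace CfsgLib.InvChar.SporO7

open CfsgLib.InvChar.Coset Matrix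

local notation "𝔽" => ZMod 3

/-- The coordinates. -/
abbrev I7 := Unit ⊕ (Fin 3 ⊕ Fin 3)

/-- Position of a coordinate. -/
def pos : I7 → ℕ
  | .inl _ => 0
  | .inr (.inl i) => 1 + i.val
  | .inr (.inr i) => 4 + i.val

/-- The vector with a given number. -/
def decV (i : ℕ) : I7 → 𝔽 := fun k => ((i / 3 ^ pos k : ℕ) : 𝔽)

theorem decV_injective : Function.Injective fun i : Fin 2187 => decV i := by
  have key : ∀ i : Fin 2187, (i : ℕ) = (decV i (.inl ())).val + 3 * (decV i (.inr (.inl 0))).val +
      9 * (decV i (.inr (.inl 1))).val + 27 * (decV i (.inr (.inl 2))).val + 81 * (decV i (.inr (.inr 0))).val +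
      243 * (decV i (.inr (.inr 1))).val + 729 * (decV i (.inr (.inr 2))).val := by decide +kernel
  intro i j h
  refine Fin.ext ((key i).trans (Eq.trans ?_ (key j).symm))
  dsimp only at h
  rw [h]

/-- The vectors, numbered. -/
noncomputable def vecEquiv : Fin 2187 ≃ (I7 → 𝔽) :=
  Equiv.ofBijective _ ((Fintype.bijective_iff_injective_and_card _).2 ⟨decV_injective, by simp⟩)

theorem vecEquiv_apply (i : Fin 2187) : vecEquiv i = decV i := rfl

/-- Invertible matrices act on the numbered vectors. -/
noncomputable def actHom : GL I7 𝔽 →* Equiv.Perm (Fin 2187) :=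
  MonoidHom.mk' (fun A =>
    { toFun := fun i => vecEquiv.symm ((A : Matrix I7 I7 𝔽).mulVec (vecEquiv i))
      invFun := fun i => vecEquiv.symm (((A⁻¹ : GL I7 𝔽) : Matrix I7 I7 𝔽).mulVec (vecEquiv i))
      left_inv := fun i => by simp [Matrix.mulVec_mulVec]
      right_inv := fun i => by simp [Matrix.mulVec_mulVec] })
    fun A B => Equiv.ext fun i => by simp [Matrix.mulVec_mulVec]

theorem actHom_injective : Function.Injective actHom := by
  intro A B h
  refine Units.ext (Matrix.ext_of_mulVec_single fun k => ?_)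
  have := congrArg (fun σ : Equiv.Perm (Fin 2187) => vecEquiv (σ (vecEquiv.symm (Pi.single k 1)))) h
  simpa [actHom] using this

/-- The generating matrices. -/
def mat (x : ℕ) : Matrix I7 I7 𝔽 :=
  Matrix.of fun r s =>
    (((((O7Three.mats.getD x []).getD (pos r) []).getD (pos s) (if pos r = pos s then 1 else 0)) : ℕ) : 𝔽)

theorem mat_sq_small : ∀ x < 8, mat x * mat x = 1 := by decide +kernel

theorem mat_sq (x : ℕ) : mat x * mat x = 1 := by
  rcases Nat.lt_or_ge x 8 with h | h
  · exact mat_sq_small x h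
  · have e : mat x = 1 := by
      have hx : O7Three.mats.getD x [] = [] := List.getD_eq_default _ _ h
      ext r s
      have hp : pos r = pos s ↔ r = s :=
        ⟨fun e => (by decide : ∀ r s : I7, pos r = pos s → r = s) r s e, fun e => e ▸ rfl⟩
      simp only [mat, Matrix.of_apply, hx, List.getD_nil, Matrix.one_apply, hp]
      split_ifs <;> simp
    rw [e, one_mul]

/-- The generators as invertible matrices. -/
def gl (x : ℕ) : GL I7 𝔽 := ⟨mat x, mat x, mat_sq x, mat_sq x⟩

/-- A bounded check. -/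
def below (q : ℕ → Bool) : ℕ → Bool
  | 0 => true
  | n + 1 => q n && below q n

theorem below_get {q : ℕ → Bool} : ∀ n, below q n = true → ∀ i < n, q i = true := by
  intro n
  induction n with
  | zero => intro _ i hi; omega
  | succ n ih =>
    intro h i hi
    rw [below, Bool.and_eq_true] at h
    rcases Nat.lt_succ_iff_lt_or_eq.1 hi with hi | rfl
    · exact ih h.2 i hi
    · exact h.1

/-- A row applied to the digits of a number. -/
def dot : List ℕ → ℕ → ℕ
  | [], _ => 0
  | a :: L, i => a * (i % 3) + dot L (i / 3)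

/-- The rows of a generator applied to the digits of one number give those of another. -/
noncomputable def rowsChk : List (List ℕ) → ℕ → ℕ → Bool
  | [], _, _ => true
  | L :: M, i, j => force j fun j => Nat.beq (j % 3) (dot L i % 3) && rowsChk M i (j / 3)

theorem rowsChk_get : ∀ (M : List (List ℕ)) (i j r : ℕ), rowsChk M i j = true → r < M.length →
    j / 3 ^ r % 3 = dot (M.getD r []) i % 3 := by
  intro M
  induction M with
  | nil => intro i j r _ hr; simp at hr
  | cons L M ih =>
    intro i j r h hr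
    rw [rowsChk, force_eq, Bool.and_eq_true, Nat.beq_eq] at h
    rcases r with _ | r
    · simpa using h.1
    · rw [pow_succ', ← Nat.div_div_eq_div_mul, List.getD_cons_succ]
      exact ih i (j / 3) r h.2 (by simpa using hr)

/-- The table entries of one letter. -/
noncomputable def matChk (x : ℕ) : Bool :=
  below (fun i => force (O7Three.tab0.app i x) fun j =>
    Nat.blt j 2187 && rowsChk (O7Three.mats.getD x []) i j) 2187

theorem chk0 : matChk 0 = true := by decide +kernel
theorem chk1 : matChk 1 = true := by decide +kernel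
theorem chk2 : matChk 2 = true := by decide +kernel
theorem chk3 : matChk 3 = true := by decide +kernel
theorem chk4 : matChk 4 = true := by decide +kernel
theorem chk5 : matChk 5 = true := by decide +kernel
theorem chk6 : matChk 6 = true := by decide +kernel
theorem chk7 : matChk 7 = true := by decide +kernel

theorem mats_shape : ∀ x < 8, (O7Three.mats.getD x []).length = 7 ∧
    ∀ r < 7, ((O7Three.mats.getD x []).getD r []).length = 7 := by decide +kernel

theorem decV_eq (i : ℕ) (k : I7) : decV i k = ((i / 3 ^ pos k % 3 : ℕ) : 𝔽) :=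
  (ZMod.natCast_mod _ 3).symm

theorem dot_cast (L : List ℕ) (hL : L.length = 7) (i : ℕ) (d : I7 → ℕ) :
    ∑ k : I7, ((L.getD (pos k) (d k) : ℕ) : 𝔽) * decV i k = ((dot L i % 3 : ℕ) : 𝔽) := by
  match L, hL with
  | [a, b, c, e, f, g, h], _ =>
    rw [ZMod.natCast_mod]
    simp [Fintype.sum_sum_type, Fin.sum_univ_three, pos, decV, dot, ZMod.natCast_mod,
      Nat.div_div_eq_div_mul]
    ring

theorem table_mat : ∀ x < 8, ∀ i < 2187, O7Three.tab0.app i x < 2187 ∧
    decV (O7Three.tab0.app i x) = (mat x).mulVec (decV i) := by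
  intro x hx i hi
  have hc : matChk x = true := by
    interval_cases x
    exacts [chk0, chk1, chk2, chk3, chk4, chk5, chk6, chk7]
  have h := below_get _ hc i hi
  simp only [force_eq, Bool.and_eq_true, Nat.blt_eq] at h
  obtain ⟨hlen, hrow⟩ := mats_shape x hx
  refine ⟨h.1, funext fun r => ?_⟩
  have hr : pos r < 7 := (by decide : ∀ r : I7, pos r < 7) r
  rw [decV_eq, rowsChk_get _ _ _ _ h.2 (hlen.symm ▸ hr), ← dot_cast _ (hrow _ hr) i
    (fun k => if pos r = pos k then 1 else 0)]
  rfl

/-- The form on the digits of a number. -/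
def qn (i : ℕ) : ℕ :=
  ((i % 3) * (i % 3) + (i / 3 % 3) * (i / 81 % 3) + (i / 9 % 3) * (i / 243 % 3) +
    (i / 27 % 3) * (i / 729 % 3)) % 3

/-- The form is preserved by one letter. -/
noncomputable def formChk (x : ℕ) : Bool := below (fun i => Nat.beq (qn (O7Three.tab0.app i x)) (qn i)) 2187

theorem fchk0 : formChk 0 = true := by decide +kernel
theorem fchk1 : formChk 1 = true := by decide +kernel
theorem fchk2 : formChk 2 = true := by decide +kernel
theorem fchk3 : formChk 3 = true := by decide +kernel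
theorem fchk4 : formChk 4 = true := by decide +kernel
theorem fchk5 : formChk 5 = true := by decide +kernel
theorem fchk6 : formChk 6 = true := by decide +kernel
theorem fchk7 : formChk 7 = true := by decide +kernel

theorem quad_decV (i : ℕ) : Cfsg.quadFormOdd 3 𝔽 (decV i) = (qn i : 𝔽) := by
  simp [Cfsg.quadFormOdd, Fin.sum_univ_three, decV, pos, qn, ZMod.natCast_mod]
  ring

theorem table_form : ∀ x < 8, ∀ i < 2187,
    Cfsg.quadFormOdd 3 𝔽 (decV (O7Three.tab0.app i x)) = Cfsg.quadFormOdd 3 𝔽 (decV i) := by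
  intro x hx i hi
  have hc : formChk x = true := by
    interval_cases x
    exacts [fchk0, fchk1, fchk2, fchk3, fchk4, fchk5, fchk6, fchk7]
  rw [quad_decV, quad_decV, Nat.eq_of_beq_eq_true (below_get _ hc i hi)]

theorem actHom_gl {x : ℕ} (hx : x < 8) (i : Fin 2187) : (actHom (gl x) i : ℕ) = O7Three.tab0.app i x := by
  obtain ⟨h1, h2⟩ := table_mat x hx i i.2
  have e : actHom (gl x) i = ⟨O7Three.tab0.app i x, h1⟩ := by
    apply vecEquiv.injective
    show vecEquiv (vecEquiv.symm _) = _
    rw [Equiv.apply_symm_apply]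
    exact h2.symm
  rw [e]

theorem follow_wprod : ∀ L : List ℕ, (∀ x ∈ L, x < 8) → ∀ i : Fin 2187,
    O7Three.tab0.follow L i = ((actHom (wprod gl L.reverse)) i : ℕ) := by
  intro L
  induction L with
  | nil => intro _ i; simp [wprod]; rfl
  | cons a L ih =>
    intro hL i
    obtain ⟨ha, hL⟩ := List.forall_mem_cons.1 hL
    show force (O7Three.tab0.app i a) (O7Three.tab0.follow L) = _
    rw [force_eq, ← actHom_gl ha i, ih hL, List.reverse_cons, wprod_append, map_mul, Equiv.Perm.mul_apply]
    simp [wprod]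

theorem rels_reverse : ∀ r ∈ FiC.rels, ∀ k < 7, O7Three.tab0.follow r.reverse (3 ^ k) = 3 ^ k := by
  decide +kernel

theorem decV_single : ∀ k : I7, decV (3 ^ pos k) = Pi.single k 1 := by decide +kernel

theorem gl_rel : ∀ r ∈ FiC.rels, wprod gl r = 1 := by
  intro r hr
  refine Units.ext (Matrix.ext_of_mulVec_single fun k => ?_)
  have hk : pos k < 7 := (by decide : ∀ r : I7, pos r < 7) k
  have hlt : 3 ^ pos k < 2187 := calc
    _ ≤ 3 ^ 6 := Nat.pow_le_pow_right (by norm_num) (by omega)
    _ < 2187 := by norm_num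
  have h := follow_wprod r.reverse (fun x hx => rels_lt r hr x (List.mem_reverse.1 hx)) ⟨_, hlt⟩
  rw [List.reverse_reverse, show ((⟨3 ^ pos k, hlt⟩ : Fin 2187) : ℕ) = 3 ^ pos k from rfl,
    rels_reverse r hr _ hk] at h
  have e : actHom (wprod gl r) ⟨_, hlt⟩ = ⟨_, hlt⟩ := Fin.ext h.symm
  have e' := congrArg vecEquiv e
  simp only [actHom, MonoidHom.mk'_apply, Equiv.coe_fn_mk, Equiv.apply_symm_apply, vecEquiv_apply,
    decV_single k] at e'
  rw [e', Units.val_one, Matrix.one_mulVec]

theorem gl_mem (x : ℕ) : gl x ∈ Cfsg.isometryGroup 𝔽 (Cfsg.quadFormOdd 3 𝔽) := by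
  intro u _
  show Cfsg.quadFormOdd 3 𝔽 ((mat x).mulVec u) = Cfsg.quadFormOdd 3 𝔽 u
  rcases Nat.lt_or_ge x 8 with h | h
  · obtain ⟨i, rfl⟩ := vecEquiv.surjective u
    rw [vecEquiv_apply, ← (table_mat x h i i.2).2, table_form x h i i.2]
  · have e : mat x = 1 := by
      have := mat_sq x
      have hx : O7Three.mats.getD x [] = [] := List.getD_eq_default _ _ h
      ext r s
      have hp : pos r = pos s ↔ r = s :=
        ⟨fun e => (by decide : ∀ r s : I7, pos r = pos s → r = s) r s e, fun e => e ▸ rfl⟩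
      simp only [mat, Matrix.of_apply, hx, List.getD_nil, Matrix.one_apply, hp]
      split_ifs <;> simp
    rw [e, Matrix.one_mulVec]

/-- The orthogonal group. -/
abbrev O7 := Cfsg.isometryGroup 𝔽 (Cfsg.quadFormOdd 3 𝔽)

/-- The generators as isometries. -/
noncomputable def iso (x : ℕ) : O7 := ⟨gl x, gl_mem x⟩

theorem coe_wprod_iso : ∀ L : List ℕ, ((wprod iso L : O7) : GL I7 𝔽) = wprod gl L := by
  intro L
  induction L with
  | nil => rfl
  | cons a L ih =>
    have e : wprod iso (a :: L) = iso a * wprod iso L := by simp [wprod]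
    have e' : wprod gl (a :: L) = gl a * wprod gl L := by simp [wprod]
    rw [e, e', Subgroup.coe_mul, ih]
    rfl

theorem iso_rel : ∀ r ∈ FiC.rels, wprod iso r = 1 := fun r hr =>
  Subtype.ext ((coe_wprod_iso r).trans (gl_rel r hr))

theorem exists_hom_omega : ∃ φ : Pre →* ↥(Cfsg.Omega 𝔽 (Cfsg.quadFormOdd 3 𝔽)),
    ∀ x < 8, ((φ (gen x) : O7) : GL I7 𝔽) = gl x := by
  obtain ⟨φ, hφ⟩ := exists_hom iso iso_rel
  have hperfect : ∀ x < 8, Abelianization.of (gen x) = (1 : Abelianization Pre) := by
    let f : ℕ → Abelianization Pre := fun x => Abelianization.of (gen x)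
    have hf : ∀ r ∈ FiC.rels, (r.map f).prod = 1 := fun r hr => by
      rw [← map_one (Abelianization.of (G := Pre)), ← gen_rel r hr, wprod, map_list_prod, List.map_map]
      rfl
    have hsq : ∀ x, f x * f x = 1 := fun x => by
      show Abelianization.of _ * Abelianization.of _ = 1
      rw [← map_mul, gen_mul_self, map_one]
    have hedge : ∀ x y, [x, y, x, y, x, y] ∈ FiC.rels → f x = f y := fun x y h => by
      have h1 : f x * (f y * (f x * (f y * (f x * f y)))) = 1 := by simpa using hf _ h
      have h2 : (f x * f x) * (f y * f y) * (f x * f y) = 1 := by rw [← h1]; ac_rfl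
      rw [hsq, hsq, one_mul, one_mul] at h2
      rw [← mul_one (f x), ← hsq y, ← mul_assoc, h2, one_mul]
    have hall : ∀ x < 8, f x = f 0 := by
      have h01 := hedge 0 1 (by decide +kernel)
      have h12 := hedge 1 2 (by decide +kernel)
      have h23 := hedge 2 3 (by decide +kernel)
      have h34 := hedge 3 4 (by decide +kernel)
      have h45 := hedge 4 5 (by decide +kernel)
      have h26 := hedge 2 6 (by decide +kernel)
      have h67 := hedge 6 7 (by decide +kernel)
      intro x hx
      interval_cases x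
      · rfl
      · exact h01.symm
      · rw [← h12, ← h01]
      · rw [← h23, ← h12, ← h01]
      · rw [← h34, ← h23, ← h12, ← h01]
      · rw [← h45, ← h34, ← h23, ← h12, ← h01]
      · rw [← h26, ← h12, ← h01]
      · rw [← h67, ← h26, ← h12, ← h01]
    obtain ⟨r, hr, hodd⟩ := (by decide +kernel : ∃ r ∈ FiC.rels, r.length % 2 = 1)
    have h0 : f 0 = 1 := by
      have h := hf r hr
      rw [List.map_congr_left (g := fun _ => f 0) fun x hx => hall x (rels_lt r hr x hx), List.map_const',
        List.prod_replicate, ← Nat.div_add_mod r.length 2, hodd, pow_succ, pow_mul, sq, hsq, one_pow, one_mul] at h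
      exact h
    exact fun x hx => (hall x hx).trans h0
  have hall : ∀ g : Pre, g ∈ commutator Pre := by
    intro g
    rw [← Abelianization.ker_of, MonoidHom.mem_ker]
    have : Subgroup.closure (gen '' Set.Iio 8) ≤ (Abelianization.of (G := Pre)).ker := by
      rw [Subgroup.closure_le]
      rintro _ ⟨x, hx, rfl⟩
      exact hperfect x hx
    exact this (closure_gen ▸ Subgroup.mem_top g)
  have hmem : ∀ g, φ g ∈ commutator O7 := fun g => by
    have h := Subgroup.mem_map_of_mem φ (hall g)
    rw [commutator_def, Subgroup.map_commutator] at h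
    exact Subgroup.commutator_mono le_top le_top h
  exact ⟨φ.codRestrict _ hmem, fun x hx => congrArg Subtype.val (hφ x hx)⟩

theorem card_omega : Nat.card ↥(Cfsg.Omega 𝔽 (Cfsg.quadFormOdd 3 𝔽)) = 4585351680 ∧
    Subgroup.center ↥(Cfsg.Omega 𝔽 (Cfsg.quadFormOdd 3 𝔽)) = ⊥ := by
  have hodd : Odd (Fintype.card 𝔽) := by rw [ZMod.card]; decide
  have h2 : (2 : 𝔽) ≠ 0 := by decide
  have hQ := CfsgLib.Classical.qfOdd_sep (F := 𝔽) h2 3
  have h5 : 5 ≤ Fintype.card I7 := by simp
  have hc := CfsgLib.Classical.card_center_omega_one (CfsgLib.Classical.qfOdd 3 𝔽) hQ h5 (Or.inr (by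
    rintro ⟨g, hg, hgm⟩
    have hd : Matrix.GeneralLinearGroup.det (g : Matrix.GeneralLinearGroup I7 𝔽) = 1 :=
      CfsgLib.Geom.omega_le_special (CfsgLib.Classical.qfOdd 3 𝔽) hg
    have hd' := congrArg Units.val hd
    rw [Matrix.GeneralLinearGroup.val_det_apply, hgm, Matrix.det_neg, Matrix.det_one, mul_one,
      Units.val_one] at hd'
    exact absurd hd' (by simp only [Fintype.card_sum, Fintype.card_unit, Fintype.card_fin]; decide)))
  rw [CfsgLib.Classical.qfOdd_coe] at hc
  have hb : Subgroup.center ↥(Cfsg.Omega 𝔽 (Cfsg.quadFormOdd 3 𝔽)) = ⊥ := Subgroup.card_eq_one.1 hc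
  refine ⟨?_, hb⟩
  have h := CfsgLib.Classical.card_pOmega_odd (F := 𝔽) (ZMod.card 3) (by decide) 3 (by norm_num)
  rw [Subgroup.card_eq_card_quotient_mul_card_subgroup
    (Subgroup.center ↥(Cfsg.Omega 𝔽 (Cfsg.quadFormOdd 3 𝔽))), hc, mul_one]
  have e : 3 ^ (3 ^ 2) * ∏ i ∈ Finset.range 3, (3 ^ (2 * (i + 1)) - 1) = 2 * 4585351680 := by
    simp [Finset.prod_range_succ]
  rw [e] at h
  have h' : 2 * Nat.card (↥(Cfsg.Omega 𝔽 (Cfsg.quadFormOdd 3 𝔽)) ⧸
      Subgroup.center ↥(Cfsg.Omega 𝔽 (Cfsg.quadFormOdd 3 𝔽))) = 2 * 4585351680 := h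
  omega

/-- **The identification.** -/
theorem exists_iso : Nonempty (Pre ≃* Cfsg.POmega 𝔽 (Cfsg.quadFormOdd 3 𝔽)) ∧ Nat.card Pre = 4585351680 := by
  haveI : Finite Pre := card_le.1
  obtain ⟨φ, hφ⟩ := exists_hom_omega
  let ρ : Pre →* Equiv.Perm (Fin 2187) := actHom.comp (O7.subtype.comp ((Cfsg.Omega _ _).subtype.comp φ))
  have r0 : O7Three.tab0.Realises ρ.range := by
    intro x hx
    have hx : x < 8 := hx
    refine ⟨ρ (gen x), ⟨_, rfl⟩, fun i => ?_⟩
    show _ = ((actHom ((φ (gen x) : O7) : GL I7 𝔽)) i : ℕ)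
    rw [hφ x hx, actHom_gl hx]
  have hge := O7Three.card_ge r0
  obtain ⟨hc, hinj⟩ := card_eq_and_injective ρ (by norm_num) card_le hge
  have hφinj : Function.Injective φ := fun a b h => hinj (by simp only [ρ, MonoidHom.comp_apply, h])
  obtain ⟨hom, hcen⟩ := card_omega
  have : Finite ↥(Cfsg.Omega 𝔽 (Cfsg.quadFormOdd 3 𝔽)) := Nat.finite_of_card_ne_zero (by rw [hom]; norm_num)
  have hbij : Function.Bijective φ := hφinj.bijective_of_nat_card_le (by rw [hom, hc])
  exact ⟨⟨((MulEquiv.ofBijective φ hbij).trans QuotientGroup.quotientBot.symm).trans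
    (QuotientGroup.quotientMulEquivOfEq hcen.symm)⟩, hc⟩

end CfsgLib.InvChar.SporO7
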