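import Cfsg.Prelude.Def_Classical
import Cfsg.Agent.Lib.Classical.OrthOrder
import Cfsg.Agent.Lib.Classical.OrthOmega
import Cfsg.Agent.Lib.Geom.OrthMatrix
import Mathlib.GroupTheory.SpecificGroups.Alternating.Centralizer

/-!
`Omega^-(4, 2)` is the alternating group on the five singular points.
-/

set_option autoImplicit false

namespace CfsgLib.InvChar.OmegaMinus

open Matrix

local notation "V4" => (Fin 1 ⊕ Fin 1) ⊕ Fin 2 → ZMod 2
local notation "q4" => Cfsg.quadFormMinus 1 (ZMod 2) 1 1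

theorem card_isometries : Nat.card ↥(Cfsg.isometryGroup (ZMod 2) q4) = 120 := by
  have hab : ∀ z₁ z₂ : ZMod 2, z₁ ^ 2 + 1 * z₁ * z₂ + 1 * z₂ ^ 2 = 0 → z₁ = 0 ∧ z₂ = 0 := by decide
  have h := CfsgLib.Classical.card_qfMinus_isoms hab 1
  rw [Nat.card_congr (CfsgLib.Geom.orEquiv _).toEquiv, CfsgLib.Classical.qfMinus_coe] at h
  rw [h]
  simp [ZMod.card]

/-- The nonzero singular vectors. -/
def Sing : Type := {v : V4 // v ≠ 0 ∧ q4 v = 0}

instance : Fintype Sing := inferInstanceAs (Fintype {v : V4 // v ≠ 0 ∧ q4 v = 0})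
instance : DecidableEq Sing := inferInstanceAs (DecidableEq {v : V4 // v ≠ 0 ∧ q4 v = 0})

theorem card_sing : Fintype.card Sing = 5 := by decide

theorem mulVec_mem (g : ↥(Cfsg.isometryGroup (ZMod 2) q4)) (v : Sing) :
    g.1.val *ᵥ v.1 ≠ 0 ∧ q4 (g.1.val *ᵥ v.1) = 0 := by
  refine ⟨fun h => v.2.1 ?_, (g.2 v.1 v.1).trans v.2.2⟩
  have := congrArg (fun w => (g.1⁻¹).val *ᵥ w) h
  simpa [Matrix.mulVec_mulVec] using this

/-- The action on the singular points. -/
noncomputable def singHom : ↥(Cfsg.isometryGroup (ZMod 2) q4) →* Equiv.Perm Sing :=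
  MonoidHom.mk'
    (fun g =>
      { toFun := fun v => ⟨g.1.val *ᵥ v.1, mulVec_mem g v⟩
        invFun := fun v => ⟨(g⁻¹).1.val *ᵥ v.1, mulVec_mem g⁻¹ v⟩
        left_inv := fun v => Subtype.ext (by simp [Matrix.mulVec_mulVec])
        right_inv := fun v => Subtype.ext (by simp [Matrix.mulVec_mulVec]) })
    fun g h => Equiv.ext fun v => Subtype.ext (by
      show _ = g.1.val *ᵥ (h.1.val *ᵥ v.1)
      rw [Matrix.mulVec_mulVec]
      rfl)

theorem singHom_injective : Function.Injective singHom := by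
  rw [injective_iff_map_eq_one]
  intro g hg
  have hfix : ∀ v : V4, v ≠ 0 ∧ q4 v = 0 → g.1.val *ᵥ v = v := fun v hv =>
    congrArg Subtype.val (DFunLike.congr_fun hg (⟨v, hv⟩ : Sing))
  have hspan : ∀ w : V4, ∃ a b c d : V4, (a = 0 ∨ (a ≠ 0 ∧ q4 a = 0)) ∧ (b = 0 ∨ (b ≠ 0 ∧ q4 b = 0)) ∧
      (c = 0 ∨ (c ≠ 0 ∧ q4 c = 0)) ∧ (d = 0 ∨ (d ≠ 0 ∧ q4 d = 0)) ∧ w = a + b + c + d := by
    intro w
    let e : ZMod 2 → V4 → V4 := fun t v => if t = 0 then 0 else v
    refine ⟨e (w (.inl (.inl 0)) + w (.inr 0) + w (.inr 1)) (Sum.elim (Sum.elim ![1] ![0]) ![0, 0]),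
      e (w (.inl (.inr 0)) + w (.inr 0) + w (.inr 1)) (Sum.elim (Sum.elim ![0] ![1]) ![0, 0]),
      e (w (.inr 0)) (Sum.elim (Sum.elim ![1] ![1]) ![1, 0]),
      e (w (.inr 1)) (Sum.elim (Sum.elim ![1] ![1]) ![0, 1]), ?_⟩
    revert w
    decide
  apply Subtype.ext
  apply Units.ext
  refine Matrix.ext_iff_mulVec.2 fun w => ?_
  rw [OneMemClass.coe_one, Units.val_one, Matrix.one_mulVec]
  obtain ⟨a, b, c, d, ha, hb, hc, hd, rfl⟩ := hspan w
  have h0 : ∀ v : V4, (v = 0 ∨ (v ≠ 0 ∧ q4 v = 0)) → g.1.val *ᵥ v = v := by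
    rintro v (rfl | hv)
    · exact Matrix.mulVec_zero _
    · exact hfix v hv
  simp only [Matrix.mulVec_add, h0 a ha, h0 b hb, h0 c hc, h0 d hd]

/-- `Omega^-(4, 2)` is isomorphic to `A5`. -/
theorem omega_minus_four_two :
    Nonempty (↥(Cfsg.Omega (ZMod 2) q4) ≃* alternatingGroup (Fin 5)) := by
  classical
  let e5 : Sing ≃ Fin 5 := Fintype.equivFinOfCardEq card_sing
  have hbij : Function.Bijective singHom :=
    singHom_injective.bijective_of_nat_card_le (by
      rw [card_isometries, Nat.card_eq_fintype_card, Fintype.card_perm, card_sing]; decide)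
  let e : ↥(Cfsg.isometryGroup (ZMod 2) q4) ≃* Equiv.Perm (Fin 5) :=
    (MulEquiv.ofBijective singHom hbij).trans e5.permCongrHom
  refine ⟨(e.subgroupMap _).trans (MulEquiv.subgroupCongr ?_)⟩
  rw [← alternatingGroup.commutator_perm_eq (by rw [Nat.card_fin])]
  show (commutator _).map e.toMonoidHom = _
  rw [commutator_def, Subgroup.map_commutator, Subgroup.map_top_of_surjective e.toMonoidHom e.surjective,
    ← commutator_def]

end CfsgLib.InvChar.OmegaMinus
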