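import Cfsg.Agent.Lib.InvChar.HallJankoQ
import Cfsg.Agent.Lib.InvChar.OmegaMinusFourTwo
import Cfsg.Agent.Lib.Comp.FStar

/-!
The hypotheses of a group of Hall-Janko type in the form `Data`.
-/

set_option autoImplicit false

namespace CfsgLib.InvChar.HJType

open CfsgLib.Invol Subgroup

universe u

/-- Being extraspecial passes along isomorphisms. -/
theorem extraspecial_of_equiv {p : ℕ} {A B : Type*} [Group A] [Group B] (e : A ≃* B)
    (h : Cfsg.IsExtraspecial p A) : Cfsg.IsExtraspecial p B := by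
  have hc : (Subgroup.center A).map e.toMonoidHom = Subgroup.center B := by
    ext b
    constructor
    · rintro ⟨a, ha, rfl⟩
      refine Subgroup.mem_center_iff.mpr fun y => ?_
      obtain ⟨y, rfl⟩ := e.surjective y
      simp only [MulEquiv.coe_toMonoidHom, ← map_mul, Subgroup.mem_center_iff.mp ha y]
    · intro hb
      refine ⟨e.symm b, Subgroup.mem_center_iff.mpr fun y => e.injective ?_, by simp⟩
      simp [Subgroup.mem_center_iff.mp hb (e y)]
  have hf : (frattini A).map e.toMonoidHom = frattini B := by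
    refine le_antisymm (Subgroup.map_le_iff_le_comap.mpr
      (frattini_le_comap_frattini_of_surjective (φ := e.toMonoidHom) e.surjective)) fun b hb => ?_
    exact ⟨e.symm b, frattini_le_comap_frattini_of_surjective (φ := e.symm.toMonoidHom)
      e.symm.surjective hb, by simp⟩
  refine ⟨⟨h.1.1.of_equiv e, ?_, ?_⟩, ?_⟩
  · rw [← hf, h.1.2.1, hc]
  · rw [← hc, ← h.1.2.2, commutator_def, commutator_def, Subgroup.map_commutator,
      Subgroup.map_top_of_surjective e.toMonoidHom e.surjective]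
  · rw [← hc, Subgroup.card_map_of_injective e.injective, h.2]

variable {G : Type u} [Group G] [Finite G]

theorem data_of_type (z : G) (hz : orderOf z = 2)
    (Q : Subgroup (Subgroup.centralizer ({z} : Set G))) [Q.Normal]
    (hF : Cfsg.generalizedFittingSubgroup (Subgroup.centralizer ({z} : Set G)) = Q)
    (hQ : Cfsg.IsExtraspecial 2 Q) (hcard : Nat.card Q = 2 ^ 5)
    (e : (Subgroup.centralizer ({z} : Set G)) ⧸ Q ≃*
      Cfsg.Omega (ZMod 2) (Cfsg.quadFormMinus 1 (ZMod 2) 1 1))
    (hnwc : ∃ g : G, (∃ hq : g * z * g⁻¹ ∈ Subgroup.centralizer ({z} : Set G),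
      (⟨g * z * g⁻¹, hq⟩ : Subgroup.centralizer ({z} : Set G)) ∈ Q) ∧ g * z * g⁻¹ ≠ z)
    (hcl : ∃ x y : G, orderOf x = 2 ∧ orderOf y = 2 ∧ ¬ IsConj x y) :
    Data z (Q.map (centralizer ({z} : Set G)).subtype) := by
  have hCQ : centralizer (Q : Set ↥(centralizer ({z} : Set G))) ≤ Q := by
    have h := CfsgLib.Comp.centralizer_generalizedFitting_le ↥(centralizer ({z} : Set G))
    rwa [hF] at h
  have hzH : z ∈ (centralizer ({z} : Set G)) := mem_centralizer_singleton_iff.2 rfl
  have hzQ : (⟨z, hzH⟩ : ↥(centralizer ({z} : Set G))) ∈ Q := hCQ (mem_centralizer_iff.2 fun q _ =>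
    Subtype.ext (mem_centralizer_singleton_iff.1 q.2))
  let eQ : ↥Q ≃* ↥(Q.map (centralizer ({z} : Set G)).subtype) := Q.equivMapOfInjective (centralizer ({z} : Set G)).subtype (centralizer ({z} : Set G)).subtype_injective
  refine
    { hz := hz
      hQH := map_subtype_le _
      hnorm := ?_
      hzQ := ⟨_, hzQ, rfl⟩
      hes := ?_
      hQc := ?_
      hC := ?_
      hquot := ?_
      hfus := ?_
      hcl := hcl }
  · rintro h hh _ ⟨q, hq, rfl⟩
    exact ⟨⟨h, hh⟩ * q * ⟨h, hh⟩⁻¹, Normal.conj_mem inferInstance q hq _, rfl⟩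
  · exact extraspecial_of_equiv eQ hQ
  · rw [← Nat.card_congr eQ.toEquiv, hcard]; norm_num
  · intro c hc
    have hcH : c ∈ (centralizer ({z} : Set G)) := mem_centralizer_singleton_iff.2
      (mem_centralizer_iff.1 hc z ⟨_, hzQ, rfl⟩).symm
    exact ⟨⟨c, hcH⟩, hCQ (mem_centralizer_iff.2 fun q hq =>
      Subtype.ext (mem_centralizer_iff.1 hc _ ⟨q, hq, rfl⟩)), rfl⟩
  · obtain ⟨f⟩ := OmegaMinus.omega_minus_four_two
    refine ⟨(e.trans f).toMonoidHom.comp (QuotientGroup.mk' Q),
      (e.trans f).surjective.comp (QuotientGroup.mk'_surjective Q), ?_⟩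
    ext h
    rw [mem_subgroupOf, MonoidHom.mem_ker]
    show (e.trans f) (QuotientGroup.mk' Q h) = 1 ↔ _
    rw [map_eq_one_iff _ (e.trans f).injective, QuotientGroup.mk'_apply, QuotientGroup.eq_one_iff]
    exact (mem_map_iff_mem (centralizer ({z} : Set G)).subtype_injective).symm
  · obtain ⟨g, ⟨hq, hgQ⟩, hne⟩ := hnwc
    exact ⟨g, ⟨_, hgQ, rfl⟩, hne⟩

end CfsgLib.InvChar.HJType
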