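import Mathlib.Data.Matrix.Mul
import Mathlib.Data.Nat.Bitwise
import Mathlib.Algebra.Field.Basic
import Mathlib.Algebra.BigOperators.Fin
import Mathlib.Tactic

/-!
# A field with four elements and bit-sliced matrices over it

A row is a pair of naturals (high bits, low bits); products of rows and matrices use `xor` only, so
the kernel can evaluate words in matrices quickly.
-/

set_option autoImplicit false

namespace CfsgLib.InvChar

/-- A field with four elements; `v = 2` is a primitive cube root of unity. -/
structure FQ4 where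
  /-- the code of the element -/
  v : Fin 4
deriving DecidableEq

namespace FQ4

/-- The element with bits `h` and `l`. -/
def ofBits (h l : Bool) : FQ4 := ⟨⟨(if h then 2 else 0) + (if l then 1 else 0), by cases h <;> cases l <;> decide⟩⟩

/-- High bit. -/
def hi (x : FQ4) : Bool := decide (2 ≤ x.v.val)
/-- Low bit. -/
def lo (x : FQ4) : Bool := decide (x.v.val % 2 = 1)

instance : Fintype FQ4 := Fintype.ofEquiv (Fin 4) ⟨fun v => ⟨v⟩, fun x => x.v, fun _ => rfl, fun _ => rfl⟩

instance : Zero FQ4 := ⟨⟨0⟩⟩
instance : One FQ4 := ⟨⟨1⟩⟩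
instance : Add FQ4 := ⟨fun a b => ofBits (xor a.hi b.hi) (xor a.lo b.lo)⟩
instance : Neg FQ4 := ⟨fun a => a⟩
instance : Mul FQ4 := ⟨fun a b =>
  ⟨(![![0, 0, 0, 0], ![0, 1, 2, 3], ![0, 2, 3, 1], ![0, 3, 1, 2]] : Fin 4 → Fin 4 → Fin 4) a.v b.v⟩⟩
instance : Inv FQ4 := ⟨fun a => ⟨(![0, 1, 3, 2] : Fin 4 → Fin 4) a.v⟩⟩

instance instField : Field FQ4 where
  add_assoc := by decide
  zero_add := by decide
  add_zero := by decide
  add_comm := by decide
  neg_add_cancel := by decide
  nsmul := nsmulRec
  zsmul := zsmulRec
  mul_assoc := by decide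
  one_mul := by decide
  mul_one := by decide
  zero_mul := by decide
  mul_zero := by decide
  left_distrib := by decide
  right_distrib := by decide
  mul_comm := by decide
  exists_pair_ne := ⟨0, 1, by decide⟩
  mul_inv_cancel := by decide
  inv_zero := by decide
  nnqsmul := _
  qsmul := _

theorem card_eq : Fintype.card FQ4 = 4 := by decide

end FQ4

/-- A packed matrix: rows of (high bits, low bits). -/
abbrev PMat := List (ℕ × ℕ)

namespace PMat

/-- The entry read from a packed row. -/
def rowEntry (r : ℕ × ℕ) (j : ℕ) : FQ4 := FQ4.ofBits (r.1.testBit j) (r.2.testBit j)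

/-- The matrix described. -/
def interp {m : ℕ} (A : PMat) : Matrix (Fin m) (Fin m) FQ4 :=
  Matrix.of fun i j => rowEntry (A.getD i (0, 0)) j

/-- Add the `(h, l)`-multiple of a row to an accumulator. -/
def addMul (h l : Bool) (r acc : ℕ × ℕ) : ℕ × ℕ :=
  match h, l with
  | false, false => acc
  | false, true => (acc.1 ^^^ r.1, acc.2 ^^^ r.2)
  | true, false => (acc.1 ^^^ (r.1 ^^^ r.2), acc.2 ^^^ r.1)
  | true, true => (acc.1 ^^^ r.2, acc.2 ^^^ (r.1 ^^^ r.2))

/-- The product of a row with a matrix. -/
def rowMul : ℕ → ℕ → PMat → ℕ × ℕ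
  | _, _, [] => (0, 0)
  | h, l, r :: B => addMul (h.testBit 0) (l.testBit 0) r (rowMul (h / 2) (l / 2) B)

/-- The product of packed matrices. -/
def mul (A B : PMat) : PMat := A.map fun r => rowMul r.1 r.2 B

/-- Multiply the matrices named by a word. -/
def wordMul (gens : List PMat) (one : PMat) : List ℕ → PMat
  | [] => one
  | x :: L => mul (gens.getD x one) (wordMul gens one L)

theorem rowEntry_addMul (h l : Bool) (r acc : ℕ × ℕ) (j : ℕ) :
    rowEntry (addMul h l r acc) j = rowEntry acc j + FQ4.ofBits h l * rowEntry r j := by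
  cases h <;> cases l <;> simp only [addMul, rowEntry, Nat.testBit_xor] <;>
    generalize r.1.testBit j = a <;> generalize r.2.testBit j = b <;>
    generalize acc.1.testBit j = c <;> generalize acc.2.testBit j = d <;>
    cases a <;> cases b <;> cases c <;> cases d <;> decide

theorem rowEntry_rowMul (j : ℕ) : ∀ (B : PMat) (h l : ℕ),
    rowEntry (rowMul h l B) j = ∑ k ∈ Finset.range B.length, rowEntry (h, l) k * rowEntry (B.getD k (0, 0)) j := by
  intro B
  induction B with
  | nil => intro h l; simp [rowMul, rowEntry]; rfl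
  | cons r B ih =>
    intro h l
    rw [rowMul, rowEntry_addMul, ih, List.length_cons, Finset.sum_range_succ']
    congr 1
    refine Finset.sum_congr rfl fun k _ => ?_
    simp [rowEntry, Nat.testBit_succ]

theorem interp_mul {m : ℕ} (A B : PMat) (hA : A.length = m) (hB : B.length = m) :
    (interp (mul A B) : Matrix (Fin m) (Fin m) FQ4) = interp A * interp B := by
  ext i j
  have hi : (i : ℕ) < A.length := hA ▸ i.2
  have e : (mul A B).getD i (0, 0) = rowMul (A.getD i (0, 0)).1 (A.getD i (0, 0)).2 B := by
    simp [mul, List.getD_eq_getElem?_getD, hi]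
  rw [interp, Matrix.of_apply, e, rowEntry_rowMul, hB, Finset.sum_range, Matrix.mul_apply]
  rfl

theorem length_mul (A B : PMat) : (mul A B).length = A.length := by simp [mul]

/-- Words in matrices, evaluated packed. -/
theorem interp_wordMul {m : ℕ} (gens : List PMat) (one : PMat)
    (hone : (interp one : Matrix (Fin m) (Fin m) FQ4) = 1) (hlen1 : one.length = m)
    (hlen : ∀ A ∈ gens, A.length = m) :
    ∀ L : List ℕ, (wordMul gens one L).length = m ∧
      (interp (wordMul gens one L) : Matrix (Fin m) (Fin m) FQ4) =
        (L.map fun x => interp (gens.getD x one)).prod := by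
  intro L
  induction L with
  | nil => exact ⟨hlen1, by simp [wordMul, hone]⟩
  | cons x L ih =>
    have hx : (gens.getD x one).length = m := by
      rcases lt_or_ge x gens.length with h | h
      · rw [List.getD_eq_getElem _ _ h]; exact hlen _ (List.getElem_mem h)
      · rw [List.getD_eq_default _ _ h]; exact hlen1
    exact ⟨by rw [wordMul, length_mul, hx],
      by rw [wordMul, interp_mul _ _ hx ih.1, ih.2, List.map_cons, List.prod_cons]⟩

end PMat

end CfsgLib.InvChar
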