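import Cfsg.Agent.S1249
import Cfsg.Agent.S1250
import Cfsg.Agent.S1251
import Cfsg.Agent.Lib.Invol.Isolated
import Cfsg.Agent.Lib.Invol.BrauerSuzuki
import Cfsg.Agent.Lib.Transfer.Basic
import Cfsg.Agent.Lib.Solvable.MinNormal
import Cfsg.Agent.Lib.Comp.PComponent
import Mathlib.GroupTheory.SchurZassenhaus

/-!
Goldschmidt's commutation theorem for a pair of strongly closed 2-subgroups that commute and meet
trivially: reduction to simple groups.
-/

set_option autoImplicit false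
set_option linter.style.haveILetI false
set_option linter.unusedSectionVars false

namespace CfsgLib.InvChar.ComClosed

open Subgroup
open scoped Pointwise commutatorElement

universe u

local instance : Fact (Nat.Prime 2) := ⟨Nat.prime_two⟩

variable {G : Type u} [Group G] [Finite G]

/-- Two strongly closed subgroups of a Sylow 2-subgroup that commute and meet trivially. -/
structure CPair (S : Sylow 2 G) (S₁ S₂ : Subgroup G) : Prop where
  cl₁ : Cfsg.IsStronglyClosed S₁ (S : Subgroup G)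
  cl₂ : Cfsg.IsStronglyClosed S₂ (S : Subgroup G)
  comm : ∀ a ∈ S₁, ∀ b ∈ S₂, a * b = b * a
  disj : S₁ ⊓ S₂ = ⊥

/-- The normal closures of every such pair commute modulo the core. -/
def Commutes (G : Type u) [Group G] : Prop :=
  ∀ (S : Sylow 2 G) (S₁ S₂ : Subgroup G), CPair S S₁ S₂ →
    ⁅normalClosure (S₁ : Set G), normalClosure (S₂ : Set G)⁆ ≤ Cfsg.oddCore G

variable {S : Sylow 2 G} {S₁ S₂ : Subgroup G}

theorem mem_smul_sylow {g x : G} :
    x ∈ (g • S : Sylow 2 G) ↔ g⁻¹ * x * g ∈ S := by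
  show x ∈ MulAut.conj g • (S : Subgroup G) ↔ _
  rw [mem_pointwise_smul_iff_inv_smul_mem, ← map_inv, MulAut.smul_def, MulAut.conj_apply, inv_inv]
  rfl

theorem CPair.symm (h : CPair S S₁ S₂) : CPair S S₂ S₁ :=
  ⟨h.cl₂, h.cl₁, fun a ha b hb => (h.comm b hb a ha).symm, by rw [inf_comm]; exact h.disj⟩

theorem CPair.conj (h : CPair S S₁ S₂) (g : G) :
    CPair (g • S) (S₁.map (MulAut.conj g).toMonoidHom) (S₂.map (MulAut.conj g).toMonoidHom) := by
  have key : ∀ A : Subgroup G, Cfsg.IsStronglyClosed A (S : Subgroup G) →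
      Cfsg.IsStronglyClosed (A.map (MulAut.conj g).toMonoidHom) ((g • S : Sylow 2 G) : Subgroup G) := by
    intro A hA
    refine ⟨?_, ?_⟩
    · rintro _ ⟨x, hx, rfl⟩
      refine mem_smul_sylow.2 ?_
      have := hA.1 hx
      simp [mul_assoc]
      exact this
    · rintro _ ⟨x, hx, rfl⟩ k hk
      have hk' := mem_smul_sylow.1 hk
      have e : g⁻¹ * (k * (g * x * g⁻¹) * k⁻¹) * g = g⁻¹ * k * g * x * (g⁻¹ * k * g)⁻¹ := by group
      simp only [MulEquiv.coe_toMonoidHom, MulAut.conj_apply] at hk' ⊢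
      rw [e] at hk'
      exact ⟨_, hA.2 x hx _ hk', by simp [mul_assoc]⟩
  refine ⟨key _ h.cl₁, key _ h.cl₂, ?_, ?_⟩
  · rintro _ ⟨a, ha, rfl⟩ _ ⟨b, hb, rfl⟩
    rw [← map_mul, ← map_mul, h.comm a ha b hb]
  · rw [← map_inf _ _ _ (MulEquiv.injective _), h.disj, Subgroup.map_bot]

theorem CPair.restrict (h : CPair S S₁ S₂) (H : Subgroup G) (R : Sylow 2 H)
    (hR : (R : Subgroup H).map H.subtype ≤ S) :
    CPair R (S₁.subgroupOf H ⊓ R) (S₂.subgroupOf H ⊓ R) := by
  refine ⟨⟨inf_le_right, fun x hx g hg => mem_inf.2 ⟨?_, hg⟩⟩,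
    ⟨inf_le_right, fun x hx g hg => mem_inf.2 ⟨?_, hg⟩⟩,
    fun a ha b hb => Subtype.ext (h.comm _ (mem_inf.1 ha).1 _ (mem_inf.1 hb).1), ?_⟩
  · exact h.cl₁.2 _ (mem_inf.1 hx).1 _ (hR ⟨_, hg, rfl⟩)
  · exact h.cl₂.2 _ (mem_inf.1 hx).1 _ (hR ⟨_, hg, rfl⟩)
  · refine (eq_bot_iff_forall _).2 fun x hx => Subtype.ext ?_
    obtain ⟨⟨h1, -⟩, h2, -⟩ := hx
    exact mem_bot.1 (h.disj ▸ mem_inf.2 ⟨h1, h2⟩ : (x : G) ∈ (⊥ : Subgroup G))

/-- A normal subgroup of odd order or a `2`-group on either side: images of disjoint subgroups. -/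
theorem CPair.quotient (h : CPair S S₁ S₂) (N : Subgroup G) [N.Normal]
    (hd : ∀ a ∈ S₁, ∀ b ∈ S₂, a⁻¹ * b ∈ N → a ∈ N) :
    CPair (S.mapSurjective (QuotientGroup.mk'_surjective N))
      (S₁.map (QuotientGroup.mk' N)) (S₂.map (QuotientGroup.mk' N)) := by
  refine ⟨?_, ?_, ?_, ?_⟩
  · exact Cfsg.Agent.S1250.result S S₁ h.cl₁ N
  · exact Cfsg.Agent.S1250.result S S₂ h.cl₂ N
  · rintro _ ⟨a, ha, rfl⟩ _ ⟨b, hb, rfl⟩
    rw [← map_mul, ← map_mul, h.comm a ha b hb]
  · refine (eq_bot_iff_forall _).2 ?_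
    rintro x ⟨⟨a, ha, rfl⟩, b, hb, hab⟩
    exact (QuotientGroup.eq_one_iff a).2 (hd a ha b hb (QuotientGroup.eq.1 hab.symm))

theorem map_closures (N : Subgroup G) [N.Normal] :
    (⁅normalClosure (S₁ : Set G), normalClosure (S₂ : Set G)⁆).map (QuotientGroup.mk' N) =
      ⁅normalClosure ((S₁.map (QuotientGroup.mk' N) : Subgroup (G ⧸ N)) : Set (G ⧸ N)),
        normalClosure ((S₂.map (QuotientGroup.mk' N) : Subgroup (G ⧸ N)) : Set (G ⧸ N))⁆ := by
  rw [map_commutator, map_normalClosure _ _ (QuotientGroup.mk'_surjective N),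
    map_normalClosure _ _ (QuotientGroup.mk'_surjective N)]
  rfl

/-- A normal subgroup of a group with trivial core has trivial core. -/
theorem oddCore_normal (hO : Cfsg.oddCore G = ⊥) (N : Subgroup G) [hN : N.Normal] :
    Cfsg.oddCore ↥N = ⊥ := by
  have h := Comp.pPrimeCore_map_subtype (p := 2) hN.isSubnormal
  rw [show Cfsg.pPrimeCore 2 G = ⊥ from hO, bot_inf_eq, Subgroup.map_eq_bot_iff, ker_subtype] at h
  exact le_bot_iff.1 h

/-- A normal `2`-subgroup lies in every Sylow 2-subgroup. -/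
theorem le_sylow_of_normal {N : Subgroup G} [N.Normal] (hN : IsPGroup 2 N) (S : Sylow 2 G) :
    N ≤ S := by
  rw [← S.3 (hN.to_sup_of_normal_left S.2) le_sup_right]
  exact le_sup_left

/-- If the commutator of the closures lies in a normal `2`-subgroup it is trivial. -/
theorem CPair.bot_of_le (h : CPair S S₁ S₂) {N : Subgroup G} [hNn : N.Normal] (hN : IsPGroup 2 N)
    (hD : ⁅normalClosure (S₁ : Set G), normalClosure (S₂ : Set G)⁆ ≤ N) :
    ⁅normalClosure (S₁ : Set G), normalClosure (S₂ : Set G)⁆ = ⊥ := by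
  have key : ∀ s ∈ S₁, ∀ b ∈ S₂, ∀ g : G, Commute s (g * b * g⁻¹) := by
    intro s hs b hb g
    set c := g * b * g⁻¹
    have hcp : IsPGroup 2 (zpowers c) := by
      have h1 := (S.2.to_le (zpowers_le.2 (h.cl₂.1 hb))).map (MulAut.conj g).toMonoidHom
      rwa [MonoidHom.map_zpowers, MulEquiv.coe_toMonoidHom, MulAut.conj_apply] at h1
    set Q := zpowers c ⊔ N
    have hQ : IsPGroup 2 Q := hcp.to_sup_of_normal_right hN
    have hc : c ∈ Q := mem_sup_left (mem_zpowers c)
    have hmem : ⁅s, c⁆ ∈ N := hD (commutator_mem_commutator (subset_normalClosure hs)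
      (normalClosure_normal.conj_mem b (subset_normalClosure hb) g))
    have hsQ : s ∈ normalizer (Q : Set G) := by
      rw [← Comp.map_conj_eq_iff]
      refine Subgroup.eq_of_le_of_card_ge ?_ (card_map_of_injective (MulEquiv.injective _)).ge
      rw [Subgroup.map_sup, MonoidHom.map_zpowers]
      refine sup_le (zpowers_le.2 ?_) ?_
      · have e : s * c * s⁻¹ = ⁅s, c⁆ * c := by rw [commutatorElement_def]; group
        simp only [MulEquiv.coe_toMonoidHom, MulAut.conj_apply]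
        rw [e]
        exact mul_mem (mem_sup_right hmem) hc
      · rintro _ ⟨n, hn, rfl⟩
        exact mem_sup_right (hNn.conj_mem n hn s)
    obtain ⟨T, hT⟩ := ((S.2.to_le (zpowers_le.2 (h.cl₁.1 hs))).to_sup_of_normal_right' hQ
      (zpowers_le.2 hsQ)).exists_le_sylow
    obtain ⟨k, rfl⟩ := MulAction.exists_smul_eq G S T
    have hs' := mem_smul_sylow.1 (hT (mem_sup_left (mem_zpowers s)))
    have hc' := mem_smul_sylow.1 (hT (mem_sup_right hc))
    have h1 : k⁻¹ * s * k ∈ S₁ := by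
      have := h.cl₁.2 s hs k⁻¹ (by rwa [inv_inv])
      rwa [inv_inv] at this
    have h2 : k⁻¹ * c * k ∈ S₂ := by
      have e : k⁻¹ * c * k = k⁻¹ * g * b * (k⁻¹ * g)⁻¹ := by simp [c, mul_assoc]
      rw [e] at hc' ⊢
      exact h.cl₂.2 b hb _ hc'
    have h3 : Commute (k⁻¹ * s * k) (k⁻¹ * c * k) := h.comm _ h1 _ h2
    simpa [mul_assoc] using h3.map (MulAut.conj k).toMonoidHom
  rw [commutator_eq_bot_iff_le_centralizer]
  refine normalClosure_le_normal fun s hs => ?_
  refine mem_centralizer_iff.2 fun x hx => ?_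
  have hle : normalClosure (S₂ : Set G) ≤ centralizer ({s} : Set G) := by
    refine (closure_le _).2 fun y hy => ?_
    obtain ⟨b, hb, hyb⟩ := Group.mem_conjugatesOfSet_iff.1 hy
    obtain ⟨g, rfl⟩ := isConj_iff.1 hyb
    exact mem_centralizer_singleton_iff.2 (key s hs b hb g).eq.symm
  exact mem_centralizer_singleton_iff.1 (hle hx)

/-- The closure of a strongly closed subgroup inside a normal subgroup is normal. -/
theorem closure_map_normal {A : Subgroup G} (hA : Cfsg.IsStronglyClosed A (S : Subgroup G))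
    (H : Subgroup G) [hH : H.Normal] :
    ((normalClosure ((A.subgroupOf H : Subgroup H) : Set H)).map H.subtype).Normal := by
  set M := (normalClosure ((A.subgroupOf H : Subgroup H) : Set H)).map H.subtype with hM
  obtain ⟨R, hR⟩ := Transfer.exists_sylow_eq_subgroupOf S H
  have hHM : H ≤ normalizer (M : Set G) := by
    intro g hg
    rw [← Comp.map_conj_eq_iff]
    refine Subgroup.eq_of_le_of_card_ge ?_ (card_map_of_injective (MulEquiv.injective _)).ge
    rintro _ ⟨_, ⟨m, hm, rfl⟩, rfl⟩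
    exact ⟨⟨g, hg⟩ * m * ⟨g, hg⟩⁻¹, normalClosure_normal.conj_mem m hm _, by simp⟩
  have hRM : normalizer (((R : Subgroup H).map H.subtype : Subgroup G) : Set G) ≤
      normalizer (M : Set G) := by
    intro g hg
    rw [← Comp.map_conj_eq_iff]
    refine Subgroup.eq_of_le_of_card_ge ?_ (card_map_of_injective (MulEquiv.injective _)).ge
    rw [map_le_iff_le_comap, hM, map_le_iff_le_comap]
    have hn : ((M.comap (MulAut.conj g).toMonoidHom).comap H.subtype).Normal := ⟨fun w hw k => by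
      have hk : g * k * g⁻¹ ∈ H := hH.conj_mem k k.2 g
      have h1 := (mem_normalizer_iff.1 (hHM hk) _).1 hw
      show g * (k * w * k⁻¹ : H) * g⁻¹ ∈ M
      simp [mul_assoc] at h1 ⊢
      exact h1⟩
    refine normalClosure_le_normal fun x hx => ?_
    have hxA : (x : G) ∈ A := hx
    have hxR : (x : G) ∈ (R : Subgroup H).map H.subtype := by
      rw [hR, subgroupOf_map_subtype]
      exact ⟨hA.1 hxA, x.2⟩
    have h2 := (mem_normalizer_iff.1 hg _).1 hxR
    rw [hR, subgroupOf_map_subtype] at h2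
    exact ⟨⟨g * x * g⁻¹, h2.2⟩, subset_normalClosure (hA.2 x hxA g h2.1), rfl⟩
  refine normalizer_eq_top_iff.1 (top_le_iff.1 ?_)
  rw [← Sylow.normalizer_sup_eq_top R]
  exact sup_le hRM hHM

theorem closure_map_le {A : Subgroup G} (H : Subgroup G) :
    (normalClosure ((A.subgroupOf H : Subgroup H) : Set H)).map H.subtype ≤
      normalClosure (A : Set G) := by
  rw [map_le_iff_le_comap]
  have : ((normalClosure (A : Set G)).comap H.subtype).Normal :=
    Normal.comap normalClosure_normal _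
  exact normalClosure_le_normal fun x hx => subset_normalClosure hx

theorem closure_map_eq {A : Subgroup G} (hA : Cfsg.IsStronglyClosed A (S : Subgroup G))
    (H : Subgroup G) [H.Normal] (hAH : A ≤ H) :
    (normalClosure ((A.subgroupOf H : Subgroup H) : Set H)).map H.subtype =
      normalClosure (A : Set G) := by
  haveI := closure_map_normal hA H
  exact le_antisymm (closure_map_le H) (normalClosure_le_normal fun x hx =>
    ⟨⟨x, hAH hx⟩, subset_normalClosure hx, rfl⟩)

/-- The induction step inside a normal subgroup. -/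
theorem CPair.commutator_inside (h : CPair S S₁ S₂) (hO : Cfsg.oddCore G = ⊥) (H : Subgroup G)
    [hH : H.Normal] (hrec : Commutes ↥H) :
    ⁅(normalClosure ((S₁.subgroupOf H : Subgroup H) : Set H)).map H.subtype,
      (normalClosure ((S₂.subgroupOf H : Subgroup H) : Set H)).map H.subtype⁆ = ⊥ := by
  obtain ⟨R, hR⟩ := Transfer.exists_sylow_eq_subgroupOf S H
  have hRS : (R : Subgroup H).map H.subtype ≤ S := by
    rw [hR, map_le_iff_le_comap]; exact le_rfl
  have e : ∀ A : Subgroup G, A ≤ S → A.subgroupOf H ⊓ (R : Subgroup H) = A.subgroupOf H := by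
    intro A hA
    rw [inf_eq_left, hR]
    exact fun x hx => hA hx
  have h1 := hrec R _ _ (h.restrict H R hRS)
  rw [e _ h.cl₁.1, e _ h.cl₂.1, oddCore_normal hO H] at h1
  rw [← map_commutator, le_bot_iff.1 h1, Subgroup.map_bot]

/-- The quotient step. -/
theorem CPair.bot_of_quotient (h : CPair S S₁ S₂) (hO : Cfsg.oddCore G = ⊥) {N : Subgroup G}
    [hNn : N.Normal] (hN : IsPGroup 2 N) (hd : ∀ a ∈ S₁, ∀ b ∈ S₂, a⁻¹ * b ∈ N → a ∈ N)
    (hcen : ⁅normalClosure (S₁ : Set G), normalClosure (S₂ : Set G)⁆ ≤ centralizer (N : Set G))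
    (hrec : Commutes (G ⧸ N)) :
    ⁅normalClosure (S₁ : Set G), normalClosure (S₂ : Set G)⁆ = ⊥ := by
  refine h.bot_of_le hN ?_
  have h1 := hrec _ _ _ (h.quotient N hd)
  rw [← map_closures, map_le_iff_le_comap] at h1
  set M := (Cfsg.oddCore (G ⧸ N)).comap (QuotientGroup.mk' N)
  haveI : (centralizer (N : Set G)).Normal := Subgroup.normal_centralizer
  haveI : M.Normal := Normal.comap (Cfsg.pPrimeCore_normal 2 _) _
  haveI : (M ⊓ centralizer (N : Set G)).Normal := Subgroup.normal_inf_normal _ _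
  set Q := M ⊓ centralizer (N : Set G) with hQ
  suffices hQN : Q ≤ N from (le_inf h1 hcen).trans hQN
  have hOQ := oddCore_normal hO Q
  set Z := N.subgroupOf Q
  have hNM : ∀ x ∈ N, x ∈ M := fun x hx => by
    show QuotientGroup.mk' N x ∈ Cfsg.oddCore (G ⧸ N)
    rw [show QuotientGroup.mk' N x = 1 from (QuotientGroup.eq_one_iff x).2 hx]
    exact one_mem _
  have hZp : IsPGroup 2 Z := hN.comap_subtype
  have hidx : N.relIndex Q ∣ Nat.card (Cfsg.oddCore (G ⧸ N)) := by
    have e := relIndex_ker Q (f := QuotientGroup.mk' N)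
    rw [QuotientGroup.ker_mk'] at e
    rw [e]
    exact card_dvd_of_le (by rintro _ ⟨q, hq, rfl⟩; exact (mem_inf.1 hq).1)
  have hcop : (Nat.card Z).Coprime Z.index := by
    obtain ⟨k, hk⟩ := IsPGroup.iff_card.1 hZp
    rw [hk]
    refine Nat.Coprime.pow_left k (Nat.coprime_two_left.2 ?_)
    refine (Invol.odd_card_oddCore (G ⧸ N)).of_dvd_nat ?_
    show N.relIndex Q ∣ _
    exact hidx
  obtain ⟨K, hK⟩ := exists_left_complement'_of_coprime hcop
  have hZc : ∀ z ∈ Z, ∀ q : Q, q * z = z * q := fun z hz q =>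
    Subtype.ext (mem_centralizer_iff.1 (mem_inf.1 q.2).2 _ hz).symm
  haveI hKn : K.Normal := ⟨fun k hk g => by
    obtain ⟨⟨k', z⟩, rfl⟩ := hK.2 g
    have e : (k' : Q) * z * k * ((k' : Q) * z)⁻¹ = k' * k * (k' : Q)⁻¹ := by
      rw [mul_inv_rev, show (k' : Q) * z * k = k' * k * z by
        rw [mul_assoc, ← hZc z z.2 k, ← mul_assoc]]
      group
    show (k' : Q) * z * k * ((k' : Q) * z)⁻¹ ∈ K
    rw [e]
    exact mul_mem (mul_mem k'.2 hk) (inv_mem k'.2)⟩
  have hKodd : Odd (Nat.card K) := by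
    rw [← hK.index_eq_card]
    exact (Invol.odd_card_oddCore (G ⧸ N)).of_dvd_nat hidx
  have hKbot : K = ⊥ := le_bot_iff.1 (hOQ ▸ Invol.le_oddCore hKn hKodd)
  intro q hq
  have hZtop : Z = ⊤ := by
    have := hK.sup_eq_top
    rwa [hKbot, bot_sup_eq] at this
  exact (hZtop ▸ mem_top (⟨q, hq⟩ : Q) : (⟨q, hq⟩ : Q) ∈ Z)

/-- The commutation theorem, given its simple case. -/
theorem commutes_of_simple
    (hs : ∀ (G : Type u) [Group G] [Finite G] [IsSimpleGroup G], ¬ IsMulCommutative G →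
      (∀ H : Subgroup G, H ≠ ⊤ → Commutes ↥H) →
      ∀ (S : Sylow 2 G) (S₁ S₂ : Subgroup G), CPair S S₁ S₂ → S₁ ≠ ⊥ → S₂ ≠ ⊥ → False) :
    ∀ (G : Type u) [Group G] [Finite G], Commutes G := by
  suffices key : ∀ n : ℕ, ∀ (G : Type u) [Group G] [Finite G], Nat.card G = n → Commutes G from
    fun G _ _ => key _ G rfl
  intro n
  induction n using Nat.strong_induction_on with | _ n ih =>
  intro G _ _ hn S S₁ S₂ h
  have hq : ∀ N : Subgroup G, N.Normal → N ≠ ⊥ → ∀ _ : N.Normal, Commutes (G ⧸ N) := by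
    intro N _ hN _
    refine ih _ ?_ (G ⧸ N) rfl
    rw [← hn, card_eq_card_quotient_mul_card_subgroup N]
    exact lt_mul_of_one_lt_right Nat.card_pos ((one_lt_card_iff_ne_bot N).2 hN)
  have hsub : ∀ H : Subgroup G, H ≠ ⊤ → Commutes ↥H := by
    intro H hH
    refine ih _ ?_ ↥H rfl
    rw [← hn]
    rcases (Nat.le_of_dvd Nat.card_pos H.card_subgroup_dvd_card).lt_or_eq with hl | he
    · exact hl
    · exact absurd (Subgroup.eq_top_of_card_eq H he) hH
  by_cases hO : Cfsg.oddCore G = ⊥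
  swap
  · haveI := Cfsg.pPrimeCore_normal 2 G
    have hd : ∀ a ∈ S₁, ∀ b ∈ S₂, a⁻¹ * b ∈ Cfsg.oddCore G → a ∈ Cfsg.oddCore G := by
      intro a ha b hb hab
      obtain ⟨k, hk⟩ := S.2 ⟨a⁻¹ * b, mul_mem (inv_mem (h.cl₁.1 ha)) (h.cl₂.1 hb)⟩
      have hk' : (a⁻¹ * b) ^ 2 ^ k = 1 := by simpa using congrArg Subtype.val hk
      have hdv := orderOf_dvd_natCard (⟨_, hab⟩ : ↥(Cfsg.oddCore G))
      rw [orderOf_mk] at hdv
      have h1 : orderOf (a⁻¹ * b) = 1 := Nat.eq_one_of_dvd_coprimes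
        (Nat.Coprime.pow_right k (Nat.coprime_two_right.2 (Invol.odd_card_oddCore G)))
        hdv (orderOf_dvd_of_pow_eq_one hk')
      rw [orderOf_eq_one_iff, inv_mul_eq_one] at h1
      have : a = 1 := mem_bot.1 (h.disj ▸ mem_inf.2 ⟨ha, h1 ▸ hb⟩)
      exact this ▸ one_mem _
    have h1 := hq (Cfsg.oddCore G) inferInstance hO inferInstance _ _ _ (h.quotient _ hd)
    rw [← map_closures, show Cfsg.oddCore (G ⧸ Cfsg.oddCore G) = ⊥ from
      Comp.pPrimeCore_quotient_eq_bot 2 G, map_le_iff_le_comap] at h1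
    refine h1.trans ?_
    rw [MonoidHom.comap_bot, QuotientGroup.ker_mk']
  rw [hO, le_bot_iff]
  by_contra hD
  set K₁ := normalClosure (S₁ : Set G)
  set K₂ := normalClosure (S₂ : Set G)
  have hD₁ : ⁅K₁, K₂⁆ ≤ K₁ := commutator_le_left K₁ K₂
  have hD₂ : ⁅K₁, K₂⁆ ≤ K₂ := commutator_le_right K₁ K₂
  obtain ⟨N, hNn, hNne, hND, hNmin⟩ :=
    Solvable.exists_minimal_normal_le (commutator_normal K₁ K₂) hD
  haveI := hNn
  -- a component of the pair meeting `N` trivially centralizes `N`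
  have hcent : ∀ A : Subgroup G, Cfsg.IsStronglyClosed A (S : Subgroup G) → A ⊓ N = ⊥ →
      normalClosure (A : Set G) ≤ centralizer (N : Set G) := by
    intro A hA hAN
    exact normalClosure_le_normal (Cfsg.Agent.S1251.result S A hA N
      (by rw [normalizer_eq_top]; exact le_top) (oddCore_normal hO N) hAN)
  by_cases hNt : N = ⊤
  · subst hNt
    haveI : IsSimpleGroup G :=
      { exists_pair_ne := (Subgroup.nontrivial_iff_ne_bot ⊤).2 hNne |>.exists_pair_ne |>.elim
          fun a ⟨b, hab⟩ => ⟨a, b, fun e => hab (Subtype.ext e)⟩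
        eq_bot_or_eq_top_of_normal := fun K hK => hNmin K hK le_top }
    by_cases hab : IsMulCommutative G
    · exact hD (commutator_eq_bot_iff_le_centralizer.2 fun x _ =>
        mem_centralizer_iff.2 fun y _ => hab.is_comm.comm y x)
    · refine hs G hab hsub S S₁ S₂ h (fun e => hD ?_) (fun e => hD ?_)
      · exact le_bot_iff.1 (hD₁.trans (normalClosure_le_normal (by rw [e])))
      · exact le_bot_iff.1 (hD₂.trans (normalClosure_le_normal (by rw [e])))
  -- `N` is centralized by the commutator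
  have hNC : ⁅K₁, K₂⁆ ≤ centralizer (N : Set G) := by
    by_contra hcon
    have h1 : S₁ ⊓ N ≠ ⊥ := fun e => hcon (hD₁.trans (hcent S₁ h.cl₁ e))
    have h2 : S₂ ⊓ N ≠ ⊥ := fun e => hcon (hD₂.trans (hcent S₂ h.cl₂ e))
    have hM : ∀ A : Subgroup G, Cfsg.IsStronglyClosed A (S : Subgroup G) → A ⊓ N ≠ ⊥ →
        (normalClosure ((A.subgroupOf N : Subgroup N) : Set N)).map N.subtype = N := by
      intro A hA hne
      refine (hNmin _ (closure_map_normal hA N) (map_subtype_le _)).resolve_left fun e => hne ?_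
      refine (eq_bot_iff_forall _).2 fun x hx => mem_bot.1 (e ▸ ?_)
      exact ⟨⟨x, hx.2⟩, subset_normalClosure hx.1, rfl⟩
    have h3 := h.commutator_inside hO N (hsub N hNt)
    rw [hM S₁ h.cl₁ h1, hM S₂ h.cl₂ h2, commutator_eq_bot_iff_le_centralizer] at h3
    -- so `N` is abelian and lies in both subgroups
    have hcomm : ∀ x y : ↥N, x * y = y * x := fun x y => Subtype.ext
      (mem_centralizer_iff.1 (h3 x.2) y y.2).symm
    have hle : ∀ A : Subgroup G, Cfsg.IsStronglyClosed A (S : Subgroup G) → A ⊓ N ≠ ⊥ → N ≤ A := by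
      intro A hA hne
      conv_lhs => rw [← hM A hA hne]
      rw [map_le_iff_le_comap]
      haveI : (A.subgroupOf N).Normal := ⟨fun a ha b => by rwa [hcomm b a, mul_inv_cancel_right]⟩
      exact (normalClosure_le_normal le_rfl).trans le_rfl
    exact hNne (le_bot_iff.1 (h.disj ▸ le_inf (hle S₁ h.cl₁ h1) (hle S₂ h.cl₂ h2)))
  have hNp : IsPGroup 2 N := by
    have hcomm : ∀ x y : ↥N, x * y = y * x := fun x y => Subtype.ext
      (mem_centralizer_iff.1 (hNC (hND x.2)) y y.2).symm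
    obtain ⟨R, hR⟩ := Transfer.exists_sylow_eq_subgroupOf S N
    haveI : (R : Subgroup N).Normal := ⟨fun a ha b => by rwa [hcomm b a, mul_inv_cancel_right]⟩
    haveI := R.characteristic_of_normal inferInstance
    haveI : ((R : Subgroup N).map N.subtype).Normal := inferInstance
    rcases hNmin _ this (map_subtype_le _) with e | e
    · rw [Subgroup.map_eq_bot_iff, ker_subtype, le_bot_iff] at e
      have hodd : Odd (Nat.card N) := by
        rw [← Nat.not_even_iff_odd, even_iff_two_dvd]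
        intro h2
        exact (R.ne_bot_of_dvd_card h2) e
      exact absurd (le_bot_iff.1 (hO ▸ Invol.le_oddCore hNn hodd)) hNne
    · rw [← e]; exact R.2.map _
  have hNS : N ≤ S := le_sylow_of_normal hNp S
  -- inside one of the two subgroups
  have hside : ∀ (N' : Subgroup G) (_ : N'.Normal), N' ≠ ⊥ → IsPGroup 2 N' →
      ⁅K₁, K₂⁆ ≤ centralizer (N' : Set G) → N' ≤ S₁ ∨ N' ≤ S₂ → False := by
    intro N' hN' hne hp hc hor
    haveI := hN'
    refine hD (h.bot_of_quotient hO hp (fun a ha b hb hab => ?_) hc (hq N' hN' hne hN'))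
    rcases hor with h1 | h1
    · have hb1 : b ∈ S₁ := by simpa using mul_mem ha (h1 hab)
      have : b = 1 := mem_bot.1 (h.disj ▸ mem_inf.2 ⟨hb1, hb⟩)
      simpa [this] using hab
    · have ha2 : a ∈ S₂ := by simpa using mul_mem hb (inv_mem (h1 hab))
      have : a = 1 := mem_bot.1 (h.disj ▸ mem_inf.2 ⟨ha, ha2⟩)
      exact this ▸ one_mem _
  -- a nontrivial intersection with a normal 2-subgroup is normal
  have hmeet : ∀ A : Subgroup G, Cfsg.IsStronglyClosed A (S : Subgroup G) → ¬ N ≤ A → A ⊓ N = ⊥ := by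
    intro A hA hne
    haveI : (A ⊓ N).Normal := ⟨fun x hx g =>
      ⟨hA.2 x hx.1 g (hNS (hNn.conj_mem x hx.2 g)), hNn.conj_mem x hx.2 g⟩⟩
    exact (hNmin _ this inf_le_right).resolve_right fun e => hne (e ▸ inf_le_left)
  by_cases h1 : N ≤ S₁
  · exact hside N hNn hNne hNp hNC (Or.inl h1)
  by_cases h2 : N ≤ S₂
  · exact hside N hNn hNne hNp hNC (Or.inr h2)
  have hK₁C : K₁ ≤ centralizer (N : Set G) := hcent S₁ h.cl₁ (hmeet S₁ h.cl₁ h1)
  have hK₂C : K₂ ≤ centralizer (N : Set G) := hcent S₂ h.cl₂ (hmeet S₂ h.cl₂ h2)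
  by_cases hCt : centralizer (N : Set G) = ⊤
  swap
  · have h3 := h.commutator_inside hO (centralizer (N : Set G)) (hsub _ hCt)
    rw [closure_map_eq h.cl₁ _ (le_trans subset_normalClosure hK₁C),
      closure_map_eq h.cl₂ _ (le_trans subset_normalClosure hK₂C)] at h3
    exact hD h3
  -- now `N` is central of order two
  have hNcen : ∀ x ∈ N, ∀ g : G, g * x = x * g := fun x hx g =>
    (mem_centralizer_iff.1 (hCt ▸ mem_top g : g ∈ centralizer (N : Set G)) x hx).symm
  obtain ⟨z, hzN, hz2⟩ : ∃ z ∈ N, orderOf z = 2 := by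
    refine Invol.exists_invol_mem ?_
    obtain ⟨k, hk⟩ := IsPGroup.iff_card.1 hNp
    have := (one_lt_card_iff_ne_bot N).2 hNne
    rw [hk] at this ⊢
    rcases Nat.eq_zero_or_pos k with rfl | hk0
    · simp at this
    · exact even_two.pow_of_ne_zero hk0.ne'
  have hNz : N = zpowers z := by
    refine ((hNmin _ ⟨fun x hx g => ?_⟩ (zpowers_le.2 hzN)).resolve_left
      (zpowers_ne_bot.2 (Invol.invol_ne_one hz2))).symm
    rw [hNcen x (zpowers_le.2 hzN hx) g, mul_inv_cancel_right]; exact hx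
  by_cases hzS : ∃ a ∈ S₁, ∃ b ∈ S₂, a⁻¹ * b = z
  swap
  · refine hD (h.bot_of_quotient hO hNp (fun a ha b hb hab => ?_) hNC (hq N hNn hNne hNn))
    rw [hNz] at hab
    obtain ⟨k, hk⟩ := hab
    obtain ⟨j, rfl⟩ | ⟨j, rfl⟩ := Int.even_or_odd k
    · have : a⁻¹ * b = 1 := by
        rw [← hk]
        show z ^ (j + j) = 1
        rw [← two_mul, zpow_mul, show z ^ (2 : ℤ) = 1 by
          rw [zpow_two]; exact Invol.invol_mul_self hz2, one_zpow]
      rw [inv_mul_eq_one] at this
      exact (mem_bot.1 (h.disj ▸ mem_inf.2 ⟨ha, this ▸ hb⟩) : a = 1) ▸ one_mem _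
    · refine absurd ⟨a, ha, b, hb, ?_⟩ hzS
      rw [← hk]
      show z ^ (2 * j + 1) = z
      rw [zpow_add, zpow_mul, show z ^ (2 : ℤ) = 1 by
        rw [zpow_two]; exact Invol.invol_mul_self hz2, one_zpow, one_mul, zpow_one]
  obtain ⟨a, ha, b, hb, hab⟩ := hzS
  have hb' : b = a * z := by rw [← hab, mul_inv_cancel_left]
  have ha1 : a ≠ 1 := by
    rintro rfl
    rw [one_mul] at hb'
    exact h2 (hNz ▸ zpowers_le.2 (hb' ▸ hb))
  have ha2 : a * a = 1 := by
    have hbb : b * b = a * a := by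
      rw [hb']
      calc a * z * (a * z) = a * (z * a) * z := by group
        _ = a * (a * z) * z := by rw [hNcen z hzN a]
        _ = a * a * (z * z) := by group
        _ = _ := by rw [Invol.invol_mul_self hz2, mul_one]
    exact mem_bot.1 (h.disj ▸ mem_inf.2 ⟨mul_mem ha ha, hbb ▸ mul_mem hb hb⟩)
  have hao := Invol.invol_of_mul_self ha2 ha1
  have hiso : Cfsg.IsIsolatedInvolution a := Invol.isolated_of_sylow S hao (h.cl₁.1 ha) fun g hg => by
    have hga := h.cl₁.2 a ha g hg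
    have hgb : g * b * g⁻¹ = g * a * g⁻¹ * z := by
      rw [hb', ← mul_assoc g, mul_assoc (g * a), ← hNcen z hzN g⁻¹, ← mul_assoc]
    have hgb' : g * b * g⁻¹ ∈ S₂ := h.cl₂.2 b hb g (hgb ▸ mul_mem hg (hNS hzN))
    have he : (g * a * g⁻¹)⁻¹ * a = (g * b * g⁻¹)⁻¹ * b := by
      rw [hgb, hb', hNcen z hzN (g * a * g⁻¹), hNcen z hzN a]
      group
    have h5 : (g * a * g⁻¹)⁻¹ * a = 1 :=
      mem_bot.1 (h.disj ▸ mem_inf.2 ⟨mul_mem (inv_mem hga) ha, he ▸ mul_mem (inv_mem hgb') hb⟩)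
    exact inv_mul_eq_one.1 h5
  have hacen : ∀ g : G, g * a = a * g := fun g => by
    have := Invol.zstar G hiso g
    rw [hO, mem_bot, mul_inv_eq_one, mul_inv_eq_iff_eq_mul] at this
    exact this.symm
  haveI hA : (zpowers a).Normal := ⟨fun x hx g => by
    obtain ⟨k, rfl⟩ := hx
    rw [((show Commute g a from hacen g).zpow_right k).eq, mul_inv_cancel_right]
    exact zpow_mem (mem_zpowers a) k⟩
  refine hside (zpowers a) hA (zpowers_ne_bot.2 ha1) (Invol.isPGroup_zpowers_of_invol hao)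
    (fun x _ => ?_) (Or.inl (zpowers_le.2 ha))
  refine mem_centralizer_iff.2 fun y hy => ?_
  obtain ⟨k, rfl⟩ := hy
  exact ((show Commute x a from hacen x).zpow_right k).eq.symm

end CfsgLib.InvChar.ComClosed
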