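import Cfsg.Prelude.Def_SporadicB
import Cfsg.Agent.Lib.InvChar.SporFi22
import Cfsg.Agent.Lib.InvChar.PackedMat
import Cfsg.Agent.Lib.InvChar.SporData.U6.Chain
import Cfsg.Agent.Lib.Classical.UnitaryGen
import Cfsg.Agent.Lib.KnownC.UnitarySpectrum

/-!
# The subgroup of index 3510 of the presented Fi22 is a double cover of PSU(6, 2)
-/

set_option autoImplicit false
set_option maxRecDepth 100000

namespace CfsgLib.InvChar.SporFi22U6

open CfsgLib.InvChar.Coset Cfsg.Spor Matrix

theorem card_H : Nat.card ↥SporFi22.H = 18393661440 := by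
  have h := SporFi22.H.card_mul_index
  rw [SporFi22.index_H.1, SporFi22.card_eq.1] at h
  omega

/-- The isotropic point of a point, `693` outside the orbit. -/
noncomputable def blockOf (p : Fin FiA.table.n) : ℕ := field U6Two.beta 128 20 p

/-- `h` induces `π` on the isotropic points. -/
def Induces (h : Fi22) (π : Equiv.Perm (Fin 693)) : Prop :=
  ∀ p : Fin FiA.table.n, ∀ hp : blockOf p < 693,
    blockOf (SporFi22.rep h p) = (π ⟨blockOf p, hp⟩ : ℕ)

/-- A bounded check. -/
def below (q : ℕ → Bool) : ℕ → Bool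
  | 0 => true
  | n + 1 => q n && below q n

theorem below_get {q : ℕ → Bool} : ∀ n, below q n = true → ∀ i < n, q i = true := by
  intro n
  induction n with
  | zero => intro _ i hi; omega
  | succ n ih =>
    intro h i hi
    rw [below, Bool.and_eq_true] at h
    rcases Nat.lt_succ_iff_lt_or_eq.1 hi with hi | rfl
    · exact ih h.2 i hi
    · exact h.1

theorem repPt_ok : ∀ i < 693, field U6Two.repPt 128 20 i < FiA.table.n ∧
    field U6Two.beta 128 20 (field U6Two.repPt 128 20 i) = i := by decide +kernel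

theorem induces_unique {h : Fi22} {π π' : Equiv.Perm (Fin 693)} (hπ : Induces h π) (hπ' : Induces h π') :
    π = π' := by
  ext i
  obtain ⟨h1, h2⟩ := repPt_ok i i.2
  let p : Fin FiA.table.n := ⟨_, h1⟩
  have hp : blockOf p = i := h2
  have hlt : blockOf p < 693 := hp ▸ i.2
  have e := (hπ p hlt).symm.trans (hπ' p hlt)
  have hi : (⟨blockOf p, hlt⟩ : Fin 693) = i := Fin.ext hp
  rwa [hi] at e

theorem induces_mul {a b : Fi22} {π π' : Equiv.Perm (Fin 693)} (ha : Induces a π) (hb : Induces b π') :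
    Induces (a * b) (π * π') := by
  intro p hp
  have h1 := hb p hp
  have hlt : blockOf (SporFi22.rep b p) < 693 := h1 ▸ (π' ⟨blockOf p, hp⟩).2
  rw [map_mul, Equiv.Perm.mul_apply, ha _ hlt, Equiv.Perm.mul_apply]
  exact congrArg (fun i => (π i : ℕ)) (Fin.ext h1)

theorem induces_one : Induces 1 1 := fun p hp => by rw [map_one]; rfl

/-- One letter of the table. -/
noncomputable def stepChk (x : ℕ) : Bool :=
  below (fun p => !Nat.blt (field U6Two.beta 128 20 p) 693 ||
    Nat.beq (field U6Two.beta 128 20 (FiA.table.follow (FiA.subs.getD x []) p))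
      (U6Two.tab0.app (field U6Two.beta 128 20 p) x)) 3510

theorem step0 : stepChk 0 = true := by decide +kernel
theorem step1 : stepChk 1 = true := by decide +kernel
theorem step2 : stepChk 2 = true := by decide +kernel
theorem step3 : stepChk 3 = true := by decide +kernel
theorem step4 : stepChk 4 = true := by decide +kernel
theorem step5 : stepChk 5 = true := by decide +kernel
theorem step6 : stepChk 6 = true := by decide +kernel
theorem step7 : stepChk 7 = true := by decide +kernel
theorem step8 : stepChk 8 = true := by decide +kernel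

theorem beta_step : ∀ x < 9, ∀ p < FiA.table.n, field U6Two.beta 128 20 p < 693 →
    field U6Two.beta 128 20 (FiA.table.follow (FiA.subs.getD x []) p) =
      U6Two.tab0.app (field U6Two.beta 128 20 p) x := by
  intro x hx p hp hb
  have hc : stepChk x = true := by
    interval_cases x
    exacts [step0, step1, step2, step3, step4, step5, step6, step7, step8]
  have h := below_get _ hc p hp
  rw [show Nat.blt (field U6Two.beta 128 20 p) 693 = true by rw [Nat.blt_eq]; exact hb, Bool.not_true,
    Bool.false_or] at h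
  exact Nat.eq_of_beq_eq_true h

theorem tab0_invol : ∀ x < 9, ∀ i < 693, U6Two.tab0.app i x < 693 ∧
    U6Two.tab0.app (U6Two.tab0.app i x) x = i := by decide +kernel

/-- The permutation of a letter. -/
noncomputable def bigPerm (x : ℕ) : Equiv.Perm (Fin 693) :=
  if hx : x < 9 then
    { toFun := fun i => ⟨U6Two.tab0.app i x, (tab0_invol x hx i i.2).1⟩
      invFun := fun i => ⟨U6Two.tab0.app i x, (tab0_invol x hx i i.2).1⟩
      left_inv := fun i => Fin.ext (tab0_invol x hx i i.2).2
      right_inv := fun i => Fin.ext (tab0_invol x hx i i.2).2 }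
  else 1

theorem bigPerm_apply {x : ℕ} (hx : x < 9) (i : Fin 693) : (bigPerm x i : ℕ) = U6Two.tab0.app i x := by
  rw [bigPerm, dif_pos hx]
  rfl

/-- The generator `x` of `H`. -/
noncomputable def hgen (x : ℕ) : Fi22 := (wprod SporFi22.gen (FiA.subs.getD x []))⁻¹

theorem subs_lt : ∀ x < 9, ∀ y ∈ FiA.subs.getD x [], y < 9 := by decide +kernel

theorem follow_inv (L : List ℕ) (hL : ∀ y ∈ L, y < 9) (p : Fin FiA.table.n) :
    (SporFi22.rep (wprod SporFi22.gen L)⁻¹ p : ℕ) = FiA.table.follow L p := by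
  rw [map_inv, map_wprod SporFi22.rep SporFi22.gen SporFi22.perm _ fun y hy => SporFi22.rep_gen y (hL y hy)]
  exact (FiA.valid.follow_eq FiA.sq _ hL p).symm

theorem hgen_induces {x : ℕ} (hx : x < 9) : Induces (hgen x) (bigPerm x) := by
  intro p hp
  rw [bigPerm_apply hx]
  show field U6Two.beta 128 20 _ = _
  rw [hgen, follow_inv _ (subs_lt x hx)]
  exact beta_step x hx p p.2 hp

theorem hgen_mem {x : ℕ} (hx : x < 9) : hgen x ∈ SporFi22.H :=
  inv_mem (mem_wordsClosure SporFi22.gen
    ((by decide +kernel : ∀ x < 9, FiA.subs.getD x [] ∈ FiA.subs) x hx))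

theorem exists_induces : ∀ h ∈ SporFi22.H, ∃ π, Induces h π := by
  have inv_case : ∀ h π, Induces h π → Induces h⁻¹ π⁻¹ := by
    intro h π hπ p hp
    -- use that the block map is equivariant on the whole orbit
    have key : ∀ q : Fin FiA.table.n, blockOf (SporFi22.rep h q) < 693 → blockOf q < 693 := by
      let O : Set (Fin FiA.table.n) := {q | blockOf q < 693}
      have hsub : SporFi22.rep h '' O ⊆ O := by
        rintro _ ⟨q, hq, rfl⟩
        show blockOf (SporFi22.rep h q) < 693
        rw [hπ q hq]; exact (π _).2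
      have heq : SporFi22.rep h '' O = O :=
        Set.eq_of_subset_of_ncard_le hsub
          (by rw [Set.ncard_image_of_injective _ (SporFi22.rep h).injective]) (Set.toFinite _)
      intro q hq
      have : SporFi22.rep h q ∈ SporFi22.rep h '' O := heq.symm ▸ hq
      exact (SporFi22.rep h).injective.mem_set_image.1 this
    have e : SporFi22.rep h (SporFi22.rep h⁻¹ p) = p := by
      rw [← Equiv.Perm.mul_apply, ← map_mul, mul_inv_cancel, map_one, Equiv.Perm.one_apply]
    have hq : blockOf (SporFi22.rep h⁻¹ p) < 693 := key _ (by rw [e]; exact hp)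
    have h1 := hπ _ hq
    rw [e] at h1
    have h2 : (⟨blockOf p, hp⟩ : Fin 693) = π ⟨blockOf (SporFi22.rep h⁻¹ p), hq⟩ := Fin.ext h1
    rw [h2]
    simp
  intro h hh
  rw [SporFi22.H, wordsClosure] at hh
  induction hh using Subgroup.closure_induction with
  | mem a ha =>
    obtain ⟨L, hL, rfl⟩ := ha
    obtain ⟨x, hx, rfl⟩ := List.mem_iff_getElem.1 hL
    have hx7 : x < 9 := hx
    have h1 := inv_case _ _ (hgen_induces hx7)
    rw [hgen, inv_inv, List.getD_eq_getElem _ _ hx] at h1
    exact ⟨_, h1⟩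
  | one => exact ⟨1, induces_one⟩
  | mul a b _ _ ha hb =>
    obtain ⟨π, hπ⟩ := ha
    obtain ⟨π', hπ'⟩ := hb
    exact ⟨π * π', induces_mul hπ hπ'⟩
  | inv a _ ha =>
    obtain ⟨π, hπ⟩ := ha
    exact ⟨π⁻¹, inv_case a π hπ⟩

/-- The action of `H` on the blocks. -/
noncomputable def blockHom : ↥SporFi22.H →* Equiv.Perm (Fin 693) :=
  MonoidHom.mk' (fun h => Classical.choose (exists_induces h h.2)) fun a b =>
    induces_unique (Classical.choose_spec (exists_induces _ (a * b).2))
      (induces_mul (Classical.choose_spec (exists_induces a a.2)) (Classical.choose_spec (exists_induces b b.2)))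

theorem blockHom_hgen {x : ℕ} (hx : x < 9) : blockHom ⟨hgen x, hgen_mem hx⟩ = bigPerm x :=
  induces_unique (Classical.choose_spec (exists_induces (hgen x) (hgen_mem hx))) (hgen_induces hx)

theorem le_of_hgen_mem (L : Subgroup ↥SporFi22.H)
    (h : ∀ x (hx : x < 9), (⟨hgen x, hgen_mem hx⟩ : ↥SporFi22.H) ∈ L) : L = ⊤ := by
  have key : SporFi22.H ≤ L.map SporFi22.H.subtype := by
    conv_lhs => rw [SporFi22.H, wordsClosure]
    rw [Subgroup.closure_le]
    rintro _ ⟨W, hW, rfl⟩
    obtain ⟨x, hx, rfl⟩ := List.mem_iff_getElem.1 hW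
    have hx9 : x < 9 := hx
    refine ⟨(⟨hgen x, hgen_mem hx9⟩ : ↥SporFi22.H)⁻¹, inv_mem (h x hx9), ?_⟩
    show (hgen x)⁻¹ = _
    unfold hgen
    rw [inv_inv, List.getD_eq_getElem _ _ hx]
  refine top_le_iff.1 fun g _ => ?_
  obtain ⟨g', hg', e⟩ := key g.2
  exact (Subtype.ext e : g' = g) ▸ hg'

/-! ### The unitary group -/

theorem hF : Fintype.card FQ4 = 2 ^ 2 := by rw [FQ4.card_eq]; norm_num

/-- The vector with a given code. -/
def dec (c : ℕ) : Fin 6 → FQ4 := fun i => ⟨Fin.ofNat 4 (c / 4 ^ i.val)⟩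

/-- The code of a vector. -/
def enc (y : Fin 6 → FQ4) : ℕ :=
  (y 0).v.val + 4 * ((y 1).v.val + 4 * ((y 2).v.val + 4 * ((y 3).v.val + 4 * ((y 4).v.val + 4 * (y 5).v.val))))

theorem dec_enc (y : Fin 6 → FQ4) : dec (enc y) = y := by
  have key : ∀ a b c d e f : Fin 4, ∀ n, n = a.val + 4 * (b.val + 4 * (c.val + 4 * (d.val + 4 * (e.val + 4 * f.val)))) →
      n % 4 = a.val ∧ n / 4 % 4 = b.val ∧ n / 16 % 4 = c.val ∧ n / 64 % 4 = d.val ∧ n / 256 % 4 = e.val ∧
        n / 1024 % 4 = f.val := by
    intro a b c d e f n hn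
    omega
  obtain ⟨h0, h1, h2, h3, h4, h5⟩ := key (y 0).v (y 1).v (y 2).v (y 3).v (y 4).v (y 5).v _ rfl
  funext i
  show (⟨Fin.ofNat 4 (enc y / 4 ^ i.val)⟩ : FQ4) = y i
  refine congrArg FQ4.mk (Fin.ext ?_)
  rw [Fin.val_ofNat]
  fin_cases i <;> simp [enc, h0, h1, h2, h3, h4, h5]

theorem enc_lt (y : Fin 6 → FQ4) : enc y < 4096 := by
  unfold enc
  omega

/-- An isotropic point. -/
noncomputable def pt (j : Fin 693) : Fin 6 → FQ4 := dec (field U6Two.ptCode 128 20 j.val)

/-- The index of a vector. -/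
noncomputable def idx (y : Fin 6 → FQ4) : ℕ := field U6Two.index 128 20 (enc y)

theorem idx_smul : ∀ j : Fin 693, ∀ k : FQ4, k ≠ 0 → idx (k • pt j) = 4 * j.val + k.v.val := by
  decide +kernel

/-- Digit. -/
def dig (c i : ℕ) : ℕ := c / 4 ^ i % 4

/-- Product of two digits. -/
def mulN (a b : ℕ) : ℕ := Nat.land (Nat.shiftRight 2625168384 (2 * (4 * a + b))) 3

theorem val_mul : ∀ a b : FQ4, (a * b).v.val = mulN a.v.val b.v.val := by decide +kernel

theorem val_add : ∀ a b : FQ4, (a + b).v.val = Nat.xor a.v.val b.v.val := by decide +kernel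

theorem val_dec (c : ℕ) (i : Fin 6) : (dec c i).v.val = dig c i.val := Fin.val_ofNat ..

theorem val_hermForm (u w : Fin 6 → FQ4) : (Cfsg.hermForm 6 FQ4 2 u w).v.val =
    Nat.xor (Nat.xor (Nat.xor (Nat.xor (Nat.xor (mulN (u 0).v.val (mulN (w 0).v.val (w 0).v.val))
      (mulN (u 1).v.val (mulN (w 1).v.val (w 1).v.val))) (mulN (u 2).v.val (mulN (w 2).v.val (w 2).v.val)))
      (mulN (u 3).v.val (mulN (w 3).v.val (w 3).v.val))) (mulN (u 4).v.val (mulN (w 4).v.val (w 4).v.val)))
      (mulN (u 5).v.val (mulN (w 5).v.val (w 5).v.val)) := by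
  rw [Cfsg.hermForm, Fin.sum_univ_six]
  simp only [val_add, val_mul, sq]

/-- The form on codes. -/
def hN (c d : ℕ) : ℕ :=
  Nat.xor (Nat.xor (Nat.xor (Nat.xor (Nat.xor (mulN (dig c 0) (mulN (dig d 0) (dig d 0)))
    (mulN (dig c 1) (mulN (dig d 1) (dig d 1)))) (mulN (dig c 2) (mulN (dig d 2) (dig d 2))))
    (mulN (dig c 3) (mulN (dig d 3) (dig d 3)))) (mulN (dig c 4) (mulN (dig d 4) (dig d 4))))
    (mulN (dig c 5) (mulN (dig d 5) (dig d 5)))

theorem val_hermForm_dec (c d : ℕ) : (Cfsg.hermForm 6 FQ4 2 (dec c) (dec d)).v.val = hN c d := by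
  rw [val_hermForm]
  simp only [val_dec]
  rfl

/-- An isotropic code is a multiple of the code of a point. -/
noncomputable def lineChk (c : ℕ) : Bool :=
  !Nat.beq (hN c c) 0 || Nat.beq c 0 || force (field U6Two.index 128 20 c) fun v =>
    Nat.blt (v / 4) 693 && !Nat.beq (v % 4) 0 && force (field U6Two.ptCode 128 20 (v / 4)) fun d =>
      Nat.beq (dig c 0) (mulN (v % 4) (dig d 0)) && Nat.beq (dig c 1) (mulN (v % 4) (dig d 1)) &&
      Nat.beq (dig c 2) (mulN (v % 4) (dig d 2)) && Nat.beq (dig c 3) (mulN (v % 4) (dig d 3)) &&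
      Nat.beq (dig c 4) (mulN (v % 4) (dig d 4)) && Nat.beq (dig c 5) (mulN (v % 4) (dig d 5))

theorem lineChk_all : below lineChk 4096 = true := by decide +kernel

theorem code_iso : ∀ c < 4096, c ≠ 0 → Cfsg.hermForm 6 FQ4 2 (dec c) (dec c) = 0 →
    field U6Two.index 128 20 c / 4 < 693 ∧ field U6Two.index 128 20 c % 4 ≠ 0 ∧
      ∀ i, dec c i = ⟨Fin.ofNat 4 (field U6Two.index 128 20 c % 4)⟩ *
        dec (field U6Two.ptCode 128 20 (field U6Two.index 128 20 c / 4)) i := by
  intro c hc hc0 hiso
  have h0 : hN c c = 0 := by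
    rw [← val_hermForm_dec, hiso]
    rfl
  have h := below_get _ lineChk_all c hc
  have hb0 : Nat.beq c 0 = false := Bool.eq_false_iff.2 fun e => hc0 (Nat.eq_of_beq_eq_true e)
  rw [lineChk, h0] at h
  simp only [force_eq, hb0, show Nat.beq 0 0 = true from rfl, Bool.not_true, Bool.false_or,
    Bool.and_eq_true, Nat.blt_eq, Nat.beq_eq, Bool.not_eq_true'] at h
  obtain ⟨⟨h1, h2⟩, ⟨⟨⟨⟨d0, d1⟩, d2⟩, d3⟩, d4⟩, d5⟩ := h
  refine ⟨h1, fun e => ?_, fun i => ?_⟩
  · rw [e] at h2
    exact absurd h2 (by decide)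
  · have hv : ((⟨Fin.ofNat 4 (field U6Two.index 128 20 c % 4)⟩ : FQ4)).v.val =
        field U6Two.index 128 20 c % 4 := by simp
    have e : (dec c i).v.val = ((⟨Fin.ofNat 4 (field U6Two.index 128 20 c % 4)⟩ : FQ4) *
        dec (field U6Two.ptCode 128 20 (field U6Two.index 128 20 c / 4)) i).v.val := by
      rw [val_mul, val_dec, val_dec, hv]
      fin_cases i <;> assumption
    exact congrArg FQ4.mk (Fin.ext e)

theorem pt_iso : ∀ j : Fin 693, Cfsg.hermForm 6 FQ4 2 (pt j) (pt j) = 0 := by decide +kernel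

theorem pt_exists (y : Fin 6 → FQ4) (hy : y ≠ 0) (hiso : Cfsg.hermForm 6 FQ4 2 y y = 0) :
    ∃ (j : Fin 693) (k : FQ4), k ≠ 0 ∧ y = k • pt j := by
  have hc0 : enc y ≠ 0 := fun e => hy (by
    rw [← dec_enc y, e]
    funext i
    simp [dec]
    rfl)
  obtain ⟨h1, h2, h3⟩ := code_iso (enc y) (enc_lt y) hc0 (by rw [dec_enc]; exact hiso)
  refine ⟨⟨_, h1⟩, ⟨Fin.ofNat 4 (field U6Two.index 128 20 (enc y) % 4)⟩, fun e => h2 ?_, funext fun i => ?_⟩
  · have := congrArg (fun z : FQ4 => z.v.val) e
    simpa [show (0 : FQ4).v.val = 0 from rfl] using this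
  · rw [← congrFun (dec_enc y) i, h3 i]
    rfl

theorem eq_of_smul {i j : Fin 693} {a b : FQ4} (ha : a ≠ 0) (hb : b ≠ 0) (h : a • pt i = b • pt j) :
    i = j := by
  have e := idx_smul i a ha
  rw [h, idx_smul j b hb] at e
  exact Fin.ext (by omega)

theorem pt_ne_zero (i : Fin 693) : pt i ≠ 0 := by
  intro h
  have h1 := idx_smul i 1 one_ne_zero
  rw [h, smul_zero, (by decide +kernel : idx 0 = 0)] at h1
  have : (1 : FQ4).v.val = 1 := rfl
  omega

/-- The special unitary group. -/
abbrev SU6 := Cfsg.SU 6 FQ4 2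

theorem mulVec_ne_zero (A : SU6) (i : Fin 693) : (A.1 : Matrix (Fin 6) (Fin 6) FQ4) *ᵥ pt i ≠ 0 := by
  intro h
  refine pt_ne_zero i ?_
  have h2 := congrArg (fun v => (((A⁻¹ : SU6).1 : Matrix (Fin 6) (Fin 6) FQ4)) *ᵥ v) h
  simp only [Matrix.mulVec_mulVec, Matrix.mulVec_zero, ← Matrix.SpecialLinearGroup.coe_mul,
    ← Subgroup.coe_mul, inv_mul_cancel, Subgroup.coe_one, Matrix.SpecialLinearGroup.coe_one,
    Matrix.one_mulVec] at h2
  exact h2

theorem mulVec_iso (A : SU6) (i : Fin 693) : Cfsg.hermForm 6 FQ4 2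
    ((A.1 : Matrix (Fin 6) (Fin 6) FQ4) *ᵥ pt i) ((A.1 : Matrix (Fin 6) (Fin 6) FQ4) *ᵥ pt i) = 0 :=
  (A.2 (pt i) (pt i)).trans (pt_iso i)

/-- The image of a point. -/
noncomputable def ptMap (A : SU6) (i : Fin 693) : Fin 693 :=
  Classical.choose (pt_exists _ (mulVec_ne_zero A i) (mulVec_iso A i))

theorem ptMap_spec (A : SU6) (i : Fin 693) : ∃ k : FQ4, k ≠ 0 ∧
    (A.1 : Matrix (Fin 6) (Fin 6) FQ4) *ᵥ pt i = k • pt (ptMap A i) :=
  Classical.choose_spec (pt_exists _ (mulVec_ne_zero A i) (mulVec_iso A i))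

theorem ptMap_eq {A : SU6} {i j : Fin 693} {k : FQ4} (hk : k ≠ 0)
    (h : (A.1 : Matrix (Fin 6) (Fin 6) FQ4) *ᵥ pt i = k • pt j) : ptMap A i = j := by
  obtain ⟨k', hk', h'⟩ := ptMap_spec A i
  exact eq_of_smul hk' hk (h'.symm.trans h)

theorem ptMap_one (i : Fin 693) : ptMap 1 i = i :=
  ptMap_eq one_ne_zero (by simp)

theorem ptMap_mul (A B : SU6) (i : Fin 693) : ptMap (A * B) i = ptMap A (ptMap B i) := by
  obtain ⟨k, hk, h⟩ := ptMap_spec B i
  obtain ⟨k', hk', h'⟩ := ptMap_spec A (ptMap B i)
  refine ptMap_eq (mul_ne_zero hk hk') ?_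
  rw [Subgroup.coe_mul, Matrix.SpecialLinearGroup.coe_mul, ← Matrix.mulVec_mulVec, h, Matrix.mulVec_smul,
    h', smul_smul]

/-- The action on the isotropic points. -/
noncomputable def actHom : SU6 →* Equiv.Perm (Fin 693) where
  toFun A :=
    { toFun := ptMap A
      invFun := ptMap A⁻¹
      left_inv := fun i => by rw [← ptMap_mul, inv_mul_cancel, ptMap_one]
      right_inv := fun i => by rw [← ptMap_mul, mul_inv_cancel, ptMap_one] }
  map_one' := Equiv.ext ptMap_one
  map_mul' A B := Equiv.ext (ptMap_mul A B)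

/-- The centre of the transvection of a letter. -/
def root (x : ℕ) : Fin 6 → FQ4 := fun i => ⟨Fin.ofNat 4 ((U6Two.roots.getD x []).getD i.val 0)⟩

theorem root_iso : ∀ x < 9, Cfsg.hermForm 6 FQ4 2 (root x) (root x) = 0 := by decide +kernel

theorem transvection_unitary : ∀ x < 9, (Cfsg.unitaryTransvection 6 2 (root x) 1)ᵀ *
    (Cfsg.unitaryTransvection 6 2 (root x) 1).map (fun a => a ^ 2) = 1 := by decide +kernel

theorem transvection_mem {x : ℕ} (hx : x < 9) :
    ∃ A : SU6, (A.1 : Matrix (Fin 6) (Fin 6) FQ4) = Cfsg.unitaryTransvection 6 2 (root x) 1 := by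
  have hdet : (Cfsg.unitaryTransvection 6 2 (root x) 1).det = 1 := by
    rw [Cfsg.unitaryTransvection, one_smul, Matrix.vecMulVec_eq Unit,
      Matrix.det_one_add_replicateCol_mul_replicateRow]
    have h := root_iso x hx
    rw [Cfsg.hermForm] at h
    rw [dotProduct]
    simp only [mul_comm ((root x _) ^ 2)]
    rw [h, add_zero]
  refine ⟨⟨⟨_, hdet⟩, (CfsgLib.Classical.mem_su_iff hF _).2 ?_⟩, rfl⟩
  have e : (fun a : FQ4 => CfsgLib.Classical.qFrob hF a) = fun a => a ^ 2 :=
    funext (CfsgLib.Classical.qFrob_apply hF)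
  show _ * Matrix.map _ (fun a => CfsgLib.Classical.qFrob hF a) = 1
  rw [e]
  exact transvection_unitary x hx

/-- The code of a root. -/
def rootCode (x : ℕ) : ℕ := enc (root x)

/-- The image of a point under a transvection, by codes. -/
noncomputable def rootChk (x : ℕ) : Bool :=
  force (rootCode x) fun r => below (fun j => force (field U6Two.ptCode 128 20 j) fun c => force (hN c r) fun a =>
    Nat.beq (U6Two.tab0.app j x) (field U6Two.index 128 20
      (Nat.xor (dig c 0) (mulN a (dig r 0)) + 4 * (Nat.xor (dig c 1) (mulN a (dig r 1)) +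
       4 * (Nat.xor (dig c 2) (mulN a (dig r 2)) + 4 * (Nat.xor (dig c 3) (mulN a (dig r 3)) +
       4 * (Nat.xor (dig c 4) (mulN a (dig r 4)) + 4 * Nat.xor (dig c 5) (mulN a (dig r 5))))))) / 4)) 693

theorem rootChk_all : ∀ x < 9, rootChk x = true := by decide +kernel

theorem root_table : ∀ x < 9, ∀ j : Fin 693, U6Two.tab0.app j.val x =
    idx (pt j + Cfsg.hermForm 6 FQ4 2 (pt j) (root x) • root x) / 4 := by
  intro x hx j
  have h := rootChk_all x hx
  rw [rootChk, force_eq] at h
  have h' := below_get _ h j j.2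
  simp only [force_eq, Nat.beq_eq] at h'
  rw [h', show root x = dec (rootCode x) from (dec_enc _).symm, idx, enc]
  simp only [Pi.add_apply, Pi.smul_apply, smul_eq_mul, val_add, val_mul, pt, val_hermForm_dec, val_dec]
  rfl

theorem exists_transvection {x : ℕ} (hx : x < 9) : ∃ A : SU6, actHom A = bigPerm x := by
  obtain ⟨A, hA⟩ := transvection_mem hx
  refine ⟨A, Equiv.ext fun j => Fin.ext ?_⟩
  rw [bigPerm_apply hx, root_table x hx j]
  show (ptMap A j : ℕ) = _
  obtain ⟨k, hk, h⟩ := ptMap_spec A j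
  rw [hA, CfsgLib.Classical.unitaryTransvection_mulVec hF, one_mul, CfsgLib.Classical.hermB_apply] at h
  rw [h, idx_smul _ k hk]
  omega

theorem card_su : Nat.card SU6 = 27590492160 := by
  have h := CfsgLib.Classical.card_su_mul hF (n := 6) (by norm_num)
  rw [CfsgLib.Classical.card_gu hF] at h
  simp [Finset.prod_range_succ, Nat.even_iff] at h
  norm_num at h
  exact Nat.eq_of_mul_eq_mul_left (by norm_num : 0 < 3) (h.trans (by norm_num))

theorem center_le_ker : Subgroup.center SU6 ≤ actHom.ker := by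
  intro A hA
  obtain ⟨c, -, hc⟩ := CfsgLib.KnownC.UnitarySpectrum.scalar_of_mk_eq_one hF (by norm_num) A
    ((QuotientGroup.eq_one_iff A).2 hA)
  refine MonoidHom.mem_ker.2 (Equiv.ext fun i => ?_)
  show ptMap A i = i
  have h : (A.1 : Matrix (Fin 6) (Fin 6) FQ4) *ᵥ pt i = c • pt i := by
    rw [show (A.1 : Matrix (Fin 6) (Fin 6) FQ4) = c • 1 from hc, Matrix.smul_mulVec, Matrix.one_mulVec]
  exact ptMap_eq (fun e => mulVec_ne_zero A i (by rw [h, e, zero_smul])) h

theorem range_le : blockHom.range ≤ actHom.range := by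
  rw [MonoidHom.range_eq_map, Subgroup.map_le_iff_le_comap]
  refine (le_of_hgen_mem (actHom.range.comap blockHom) fun x hx => ?_).ge
  rw [Subgroup.mem_comap, blockHom_hgen hx]
  exact exists_transvection hx

theorem block_card : 9196830720 ≤ Nat.card blockHom.range :=
  U6Two.card_ge fun x hx => by
    have hx : x < 9 := hx
    exact ⟨bigPerm x, ⟨_, blockHom_hgen hx⟩, fun i => (bigPerm_apply hx i).symm⟩

theorem ker_eq : actHom.ker = Subgroup.center SU6 ∧ blockHom.range = actHom.range ∧
    Nat.card actHom.range = 9196830720 := by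
  have h1 := block_card.trans (Subgroup.card_le_of_le range_le)
  have h2 : Nat.card actHom.ker * Nat.card actHom.range = 27590492160 := by
    rw [← Subgroup.index_ker, Subgroup.card_mul_index, card_su]
  have h3 : Nat.card ↥(Subgroup.center SU6) = 3 := by
    rw [CfsgLib.Classical.card_center_su hF (by norm_num)]; rfl
  have h4 : 3 ≤ Nat.card actHom.ker := h3 ▸ Subgroup.card_le_of_le center_le_ker
  have h5 : Nat.card actHom.ker * 9196830720 ≤ 27590492160 :=
    le_of_le_of_eq (Nat.mul_le_mul_left _ h1) h2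
  have h6 : Nat.card actHom.ker = 3 :=
    le_antisymm (Nat.le_of_mul_le_mul_right (h5.trans_eq (by norm_num : 27590492160 = 3 * 9196830720))
      (by norm_num)) h4
  have h7 : Nat.card actHom.range = 9196830720 :=
    Nat.eq_of_mul_eq_mul_left (by norm_num : 0 < 3) (by rw [h6] at h2; exact h2.trans (by norm_num))
  exact ⟨(Subgroup.eq_of_le_of_card_ge center_le_ker (by rw [h6, h3])).symm,
    Subgroup.eq_of_le_of_card_ge range_le (h7.le.trans block_card), h7⟩

/-- The projective unitary group is the group induced on the isotropic points. -/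
theorem psu_iso_range : Nonempty (Cfsg.PSU 6 FQ4 2 ≃* blockHom.range) :=
  ⟨(QuotientGroup.quotientMulEquivOfEq ker_eq.1.symm).trans
    ((QuotientGroup.quotientKerEquivRange actHom).trans (MulEquiv.subgroupCongr ker_eq.2.1.symm))⟩

theorem card_ker : Nat.card blockHom.ker = 2 := by
  have h : Nat.card blockHom.ker * Nat.card blockHom.range = 18393661440 := by
    rw [← Subgroup.index_ker, Subgroup.card_mul_index, card_H]
  rw [ker_eq.2.1, ker_eq.2.2] at h
  exact Nat.eq_of_mul_eq_mul_right (by norm_num : 0 < 9196830720) (h.trans (by norm_num))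

theorem center_range : Subgroup.center ↥blockHom.range = ⊥ := by
  obtain ⟨e⟩ := psu_iso_range
  haveI := CfsgLib.Classical.isSimpleGroup_psu (n := 6) (F := FQ4) (q := 2) hF (by norm_num) (by omega)
  haveI : IsSimpleGroup ↥blockHom.range := e.symm.isSimpleGroup
  refine (Subgroup.Normal.eq_bot_or_eq_top (inferInstance : (Subgroup.center ↥blockHom.range).Normal)).resolve_right fun h => ?_
  letI : CommGroup ↥blockHom.range :=
    { mul_comm := fun a b => (Subgroup.mem_center_iff.1 (h ▸ Subgroup.mem_top a) b).symm }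
  have hp : (Nat.card ↥blockHom.range).Prime := IsSimpleGroup.prime_card
  rw [ker_eq.2.1, ker_eq.2.2] at hp
  exact absurd hp (Nat.not_prime_of_dvd_of_lt (m := 2) (by norm_num) (by norm_num) (by norm_num))

theorem center_H : Subgroup.center ↥SporFi22.H = blockHom.ker := by
  refine le_antisymm (fun g hg => ?_) ?_
  · have : blockHom.rangeRestrict g ∈ Subgroup.center ↥blockHom.range := by
      refine Subgroup.mem_center_iff.2 fun y => ?_
      obtain ⟨y, rfl⟩ := blockHom.rangeRestrict_surjective y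
      rw [← map_mul, ← map_mul, Subgroup.mem_center_iff.1 hg y]
    rw [center_range, Subgroup.mem_bot] at this
    exact MonoidHom.mem_ker.2 (congrArg Subtype.val this)
  · intro k hk
    refine Subgroup.mem_center_iff.2 fun g => ?_
    obtain ⟨u, w, huw, hset⟩ := Nat.card_eq_two_iff.1 card_ker
    have hall : ∀ v : blockHom.ker, v = u ∨ v = w := fun v => by
      have := hset.ge (Set.mem_univ v)
      simpa using this
    by_cases hk1 : k = 1
    · simp [hk1]
    have hne : g * k * g⁻¹ ≠ 1 := fun e => hk1 (conj_eq_one_iff.1 e)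
    have hn : g * k * g⁻¹ ∈ blockHom.ker := (inferInstance : blockHom.ker.Normal).conj_mem k hk g
    have : (⟨_, hn⟩ : blockHom.ker) = ⟨k, hk⟩ := by
      rcases hall 1 with h1 | h1 <;> rcases hall ⟨_, hn⟩ with h2 | h2 <;>
        rcases hall ⟨k, hk⟩ with h3 | h3 <;> first
        | exact h2.trans h3.symm
        | exact absurd (congrArg Subtype.val (h2.trans h1.symm)) hne
        | exact absurd (congrArg Subtype.val (h3.trans h1.symm)) hk1
    exact mul_inv_eq_iff_eq_mul.1 (congrArg Subtype.val this)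

/-- Products of generators along a word in the letters of `H`. -/
theorem wprod_hgen_eq : ∀ R : List ℕ, wprod hgen R =
    (wprod SporFi22.gen ((R.reverse.map fun x => FiA.subs.getD x []).flatten))⁻¹ := by
  intro R
  induction R with
  | nil => simp [wprod]
  | cons a R ih =>
    have e : wprod hgen (a :: R) = hgen a * wprod hgen R := by simp [wprod]
    rw [e, ih, List.reverse_cons, List.map_append, List.flatten_append, wprod_append, _root_.mul_inv_rev]
    simp [hgen]

/-- Relations among the generators of `H`. -/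
def hrels : List (List ℕ) :=
  [[1, 2, 1, 2, 1, 2], [2, 3, 2, 3, 2, 3], [2, 6, 2, 6, 2, 6], [3, 4, 3, 4, 3, 4], [4, 5, 4, 5, 4, 5],
    [6, 7, 6, 7, 6, 7], [4, 8, 4, 8, 4, 8], (List.replicate 9 [1, 2, 3, 4, 5, 6, 7]).flatten,
    (List.replicate 5 [1, 2, 3, 4, 6, 8]).flatten ++ [0]]

/-- One chunk of a relation. -/
noncomputable def relChk (W : List ℕ) (o : ℕ) : Bool :=
  below (fun i => Nat.beq (FiA.table.follow W (o + i)) (o + i)) 585

/-- The word of relation `k`. -/
def relWord (k : ℕ) : List ℕ :=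
  (((hrels.getD k []).reverse.map fun x => FiA.subs.getD x [])).flatten

theorem relChk0_0 : relChk (relWord 0) 0 = true := by decide +kernel
theorem relChk0_1 : relChk (relWord 0) 585 = true := by decide +kernel
theorem relChk0_2 : relChk (relWord 0) 1170 = true := by decide +kernel
theorem relChk0_3 : relChk (relWord 0) 1755 = true := by decide +kernel
theorem relChk0_4 : relChk (relWord 0) 2340 = true := by decide +kernel
theorem relChk0_5 : relChk (relWord 0) 2925 = true := by decide +kernel
theorem relChk1_0 : relChk (relWord 1) 0 = true := by decide +kernel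
theorem relChk1_1 : relChk (relWord 1) 585 = true := by decide +kernel
theorem relChk1_2 : relChk (relWord 1) 1170 = true := by decide +kernel
theorem relChk1_3 : relChk (relWord 1) 1755 = true := by decide +kernel
theorem relChk1_4 : relChk (relWord 1) 2340 = true := by decide +kernel
theorem relChk1_5 : relChk (relWord 1) 2925 = true := by decide +kernel
theorem relChk2_0 : relChk (relWord 2) 0 = true := by decide +kernel
theorem relChk2_1 : relChk (relWord 2) 585 = true := by decide +kernel
theorem relChk2_2 : relChk (relWord 2) 1170 = true := by decide +kernel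
theorem relChk2_3 : relChk (relWord 2) 1755 = true := by decide +kernel
theorem relChk2_4 : relChk (relWord 2) 2340 = true := by decide +kernel
theorem relChk2_5 : relChk (relWord 2) 2925 = true := by decide +kernel
theorem relChk3_0 : relChk (relWord 3) 0 = true := by decide +kernel
theorem relChk3_1 : relChk (relWord 3) 585 = true := by decide +kernel
theorem relChk3_2 : relChk (relWord 3) 1170 = true := by decide +kernel
theorem relChk3_3 : relChk (relWord 3) 1755 = true := by decide +kernel
theorem relChk3_4 : relChk (relWord 3) 2340 = true := by decide +kernel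
theorem relChk3_5 : relChk (relWord 3) 2925 = true := by decide +kernel
theorem relChk4_0 : relChk (relWord 4) 0 = true := by decide +kernel
theorem relChk4_1 : relChk (relWord 4) 585 = true := by decide +kernel
theorem relChk4_2 : relChk (relWord 4) 1170 = true := by decide +kernel
theorem relChk4_3 : relChk (relWord 4) 1755 = true := by decide +kernel
theorem relChk4_4 : relChk (relWord 4) 2340 = true := by decide +kernel
theorem relChk4_5 : relChk (relWord 4) 2925 = true := by decide +kernel
theorem relChk5_0 : relChk (relWord 5) 0 = true := by decide +kernel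
theorem relChk5_1 : relChk (relWord 5) 585 = true := by decide +kernel
theorem relChk5_2 : relChk (relWord 5) 1170 = true := by decide +kernel
theorem relChk5_3 : relChk (relWord 5) 1755 = true := by decide +kernel
theorem relChk5_4 : relChk (relWord 5) 2340 = true := by decide +kernel
theorem relChk5_5 : relChk (relWord 5) 2925 = true := by decide +kernel
theorem relChk6_0 : relChk (relWord 6) 0 = true := by decide +kernel
theorem relChk6_1 : relChk (relWord 6) 585 = true := by decide +kernel
theorem relChk6_2 : relChk (relWord 6) 1170 = true := by decide +kernel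
theorem relChk6_3 : relChk (relWord 6) 1755 = true := by decide +kernel
theorem relChk6_4 : relChk (relWord 6) 2340 = true := by decide +kernel
theorem relChk6_5 : relChk (relWord 6) 2925 = true := by decide +kernel
theorem relChk7_0 : relChk (relWord 7) 0 = true := by decide +kernel
theorem relChk7_1 : relChk (relWord 7) 585 = true := by decide +kernel
theorem relChk7_2 : relChk (relWord 7) 1170 = true := by decide +kernel
theorem relChk7_3 : relChk (relWord 7) 1755 = true := by decide +kernel
theorem relChk7_4 : relChk (relWord 7) 2340 = true := by decide +kernel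
theorem relChk7_5 : relChk (relWord 7) 2925 = true := by decide +kernel
theorem relChk8_0 : relChk (relWord 8) 0 = true := by decide +kernel
theorem relChk8_1 : relChk (relWord 8) 585 = true := by decide +kernel
theorem relChk8_2 : relChk (relWord 8) 1170 = true := by decide +kernel
theorem relChk8_3 : relChk (relWord 8) 1755 = true := by decide +kernel
theorem relChk8_4 : relChk (relWord 8) 2340 = true := by decide +kernel
theorem relChk8_5 : relChk (relWord 8) 2925 = true := by decide +kernel

theorem hrels_fix (R : List ℕ) (hR : R ∈ hrels) (i : ℕ) (hi : i < FiA.table.n) :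
    FiA.table.follow ((R.reverse.map fun x => FiA.subs.getD x []).flatten) i = i := by
  obtain ⟨k, hk, rfl⟩ := List.mem_iff_getElem.1 hR
  have hk9 : k < 9 := hk
  have hi' : i < 3510 := hi
  refine Eq.trans (congrArg (fun W => FiA.table.follow W i) (?_ : _ = relWord k)) ?_
  · simp only [relWord, List.getD_eq_getElem _ _ hk]
  obtain ⟨o, d, hd, rfl, ho⟩ : ∃ o d, d < 585 ∧ o * 585 + d = i ∧ o < 6 :=
    ⟨i / 585, i % 585, by omega, by omega, by omega⟩
  have key : relChk (relWord k) (o * 585) = true := by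
    interval_cases k <;> interval_cases o
    exacts [relChk0_0, relChk0_1, relChk0_2, relChk0_3, relChk0_4, relChk0_5, relChk1_0, relChk1_1, relChk1_2, relChk1_3, relChk1_4, relChk1_5, relChk2_0, relChk2_1, relChk2_2, relChk2_3, relChk2_4, relChk2_5, relChk3_0, relChk3_1, relChk3_2, relChk3_3, relChk3_4, relChk3_5, relChk4_0, relChk4_1, relChk4_2, relChk4_3, relChk4_4, relChk4_5, relChk5_0, relChk5_1, relChk5_2, relChk5_3, relChk5_4, relChk5_5, relChk6_0, relChk6_1, relChk6_2, relChk6_3, relChk6_4, relChk6_5, relChk7_0, relChk7_1, relChk7_2, relChk7_3, relChk7_4, relChk7_5, relChk8_0, relChk8_1, relChk8_2, relChk8_3, relChk8_4, relChk8_5]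
  exact Nat.eq_of_beq_eq_true (below_get _ key d hd)

theorem hrels_eq_one : ∀ R ∈ hrels, wprod hgen R = 1 := by
  intro R hR
  have hlt : ∀ y ∈ (R.reverse.map fun x => FiA.subs.getD x []).flatten, y < 9 :=
    (by decide +kernel : ∀ R ∈ hrels, ∀ y ∈ (R.reverse.map fun x => FiA.subs.getD x []).flatten, y < 9) R hR
  apply SporFi22.card_eq.2
  rw [map_one, wprod_hgen_eq]
  ext i
  rw [follow_inv _ hlt, Equiv.Perm.one_apply]
  exact hrels_fix R hR i i.2

/-- The generators as elements of the subgroup. -/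
noncomputable def hgen' (x : ℕ) : ↥SporFi22.H :=
  if hx : x < 9 then ⟨hgen x, hgen_mem hx⟩ else 1

theorem wprod_hgen' : ∀ R : List ℕ, (∀ x ∈ R, x < 9) → ((wprod hgen' R : ↥SporFi22.H) : Fi22) = wprod hgen R := by
  intro R
  induction R with
  | nil => intro _; simp [wprod]
  | cons a R ih =>
    intro hR
    obtain ⟨ha, hR⟩ := List.forall_mem_cons.1 hR
    have h := ih hR
    simp only [wprod, List.map_cons, List.prod_cons, Subgroup.coe_mul] at h ⊢
    rw [h, hgen', dif_pos ha]

/-- **The double cover does not split.** -/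
theorem isNonsplitDoubleCover : Cfsg.IsNonsplitDoubleCover ↥SporFi22.H (Cfsg.PSU 6 FQ4 2) := by
  obtain ⟨e⟩ := psu_iso_range
  refine ⟨by rw [center_H, card_ker], ⟨(QuotientGroup.quotientMulEquivOfEq center_H).trans
    ((QuotientGroup.quotientKerEquivRange blockHom).trans e.symm)⟩, fun L hc => ?_⟩
  rw [center_H] at hc
  have hidx : L.index = 2 := by rw [hc.index_eq_card, card_ker]
  have hrel : ∀ R ∈ hrels, wprod hgen' R = 1 := fun R hR =>
    Subtype.ext ((wprod_hgen' R ((by decide +kernel : ∀ R ∈ hrels, ∀ x ∈ R, x < 9) R hR)).trans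
      (hrels_eq_one R hR))
  have hmem : ∀ (x y : ℕ), [x, y, x, y, x, y] ∈ hrels → (hgen' x ∈ L ↔ hgen' y ∈ L) := by
    intro x y h
    have h1 : (hgen' x * hgen' y) ^ 3 ∈ L := by
      have := hrel _ h
      rw [show (hgen' x * hgen' y) ^ 3 = wprod hgen' [x, y, x, y, x, y] by simp [wprod, pow_succ, mul_assoc], this]
      exact one_mem L
    rw [pow_succ, Subgroup.mul_mem_iff_of_index_two hidx] at h1
    exact (Subgroup.mul_mem_iff_of_index_two hidx).1 (h1.1 (Subgroup.sq_mem_of_index_two hidx _))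
  have h2 : hgen' 2 ∈ L ↔ hgen' 1 ∈ L := (hmem 1 2 (by decide +kernel)).symm
  have h3 : hgen' 3 ∈ L ↔ hgen' 1 ∈ L := (hmem 2 3 (by decide +kernel)).symm.trans h2
  have h6 : hgen' 6 ∈ L ↔ hgen' 1 ∈ L := (hmem 2 6 (by decide +kernel)).symm.trans h2
  have h4 : hgen' 4 ∈ L ↔ hgen' 1 ∈ L := (hmem 3 4 (by decide +kernel)).symm.trans h3
  have h5 : hgen' 5 ∈ L ↔ hgen' 1 ∈ L := (hmem 4 5 (by decide +kernel)).symm.trans h4
  have h7 : hgen' 7 ∈ L ↔ hgen' 1 ∈ L := (hmem 6 7 (by decide +kernel)).symm.trans h6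
  have h8 : hgen' 8 ∈ L ↔ hgen' 1 ∈ L := (hmem 4 8 (by decide +kernel)).symm.trans h4
  have hparity : ∀ R : List ℕ, (∀ x ∈ R, 1 ≤ x ∧ x < 9) →
      (wprod hgen' R ∈ L ↔ (hgen' 1 ∈ L ∨ R.length % 2 = 0)) := by
    intro R
    induction R with
    | nil => intro _; simp [wprod, one_mem L]
    | cons a R ih =>
      intro hR
      obtain ⟨⟨ha1, ha9⟩, hR⟩ := List.forall_mem_cons.1 hR
      have e : wprod hgen' (a :: R) = hgen' a * wprod hgen' R := by simp [wprod]
      have hsame : hgen' a ∈ L ↔ hgen' 1 ∈ L := by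
        interval_cases a
        exacts [Iff.rfl, h2, h3, h4, h5, h6, h7, h8]
      rw [e, Subgroup.mul_mem_iff_of_index_two hidx, hsame, ih hR, List.length_cons]
      by_cases h : hgen' 1 ∈ L
      · simp [h]
      · simp only [h, false_or, false_iff]; omega
  have hall : hgen' 1 ∈ L := by
    have h := hparity _ ((by decide +kernel :
      ∀ x ∈ (List.replicate 9 [1, 2, 3, 4, 5, 6, 7]).flatten, 1 ≤ x ∧ x < 9))
    rw [hrel _ (by simp [hrels])] at h
    exact (h.1 (one_mem L)).resolve_right (by decide)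
  have hzero : hgen' 0 ∈ L := by
    have h := hrel ((List.replicate 5 [1, 2, 3, 4, 6, 8]).flatten ++ [0]) (by simp [hrels])
    rw [wprod_append, mul_eq_one_iff_inv_eq] at h
    rw [show hgen' 0 = wprod hgen' [0] by simp [wprod], ← h]
    exact inv_mem ((hparity _ (by decide +kernel)).2 (Or.inl hall))
  have htop : L = ⊤ := le_of_hgen_mem L fun x hx => by
    have e : (⟨hgen x, hgen_mem hx⟩ : ↥SporFi22.H) = hgen' x := by rw [hgen', dif_pos hx]
    rw [e]
    interval_cases x
    exacts [hzero, hall, h2.2 hall, h3.2 hall, h4.2 hall, h5.2 hall, h6.2 hall, h7.2 hall, h8.2 hall]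
  rw [htop, Subgroup.index_top] at hidx
  norm_num at hidx

end CfsgLib.InvChar.SporFi22U6
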