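import Cfsg.Agent.Lib.InvChar.SporFi22Simple
import Cfsg.Agent.Lib.InvChar.SporFi22U6
import Cfsg.Agent.Lib.InvChar.DoubleCoverUtil

/-!
# The transpositions of the presented Fischer group on 3510 points
-/

set_option autoImplicit false
set_option maxRecDepth 100000

namespace CfsgLib.InvChar.SporFi22

open CfsgLib.InvChar.Coset CfsgLib.InvChar.DoubleCoverUtil Cfsg.Spor

local notation "z₀" => (gen 0 : Fi22)

theorem gen_mem_rels {L : List ℕ} (h : L ∈ FiA.rels) : wprod (gen : ℕ → Fi22) L = 1 := pres.gen_rel L h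

theorem gen_zero_mem : z₀ ∈ H := by
  have h : wprod (gen : ℕ → Fi22) [0] ∈ H := mem_wordsClosure gen (by decide +kernel)
  simpa [wprod] using h

theorem gen_zero_central : ∀ k ∈ H, k * z₀ = z₀ * k := by
  intro k hk
  let z : ↥H := ⟨z₀, gen_zero_mem⟩
  have hz : z = ⟨SporFi22U6.hgen 0, SporFi22U6.hgen_mem (by norm_num)⟩ := by
    apply Subtype.ext
    show gen 0 = (wprod gen (FiA.subs.getD 0 []))⁻¹
    rw [show FiA.subs.getD 0 [] = [0] from rfl]
    simpa [wprod] using (inv_eq_of_mul_eq_one_right (gen_mul_self 0)).symm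
  have hb : SporFi22U6.blockHom z = 1 := by
    rw [hz, SporFi22U6.blockHom_hgen (by norm_num)]
    refine Equiv.ext fun i => Fin.ext ?_
    rw [SporFi22U6.bigPerm_apply (by norm_num), Equiv.Perm.one_apply]
    exact (by decide +kernel : ∀ i < 693, U6Two.tab0.app i 0 = i) i i.2
  have hc : z ∈ Subgroup.center ↥H := SporFi22U6.center_H ▸ hb
  exact congrArg Subtype.val (Subgroup.mem_center_iff.1 hc ⟨k, hk⟩)

theorem rep_inv_wprod (L : List ℕ) (hL : ∀ y ∈ L, y < 9) (p : Fin FiA.table.n) :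
    (rep (wprod gen L)⁻¹ p : ℕ) = FiA.table.follow L p := SporFi22U6.follow_inv L hL p

theorem gen_ne (x y : ℕ) (hx : x < 9) (hy : y < 9) (p : Fin FiA.table.n)
    (h : FiA.table.follow [x] p ≠ FiA.table.follow [y] p) : (gen x : Fi22) ≠ gen y := by
  intro e
  refine h ?_
  have hxL : ∀ z ∈ [x], z < 9 := by simpa using hx
  have hyL : ∀ z ∈ [y], z < 9 := by simpa using hy
  rw [← rep_inv_wprod _ hxL, ← rep_inv_wprod _ hyL]
  simp [wprod, e]

theorem braid01 : (z₀ * gen 1) ^ 3 = 1 := by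
  have h := gen_mem_rels (L := [0, 1, 0, 1, 0, 1]) (by decide +kernel)
  simpa [wprod, pow_succ, mul_assoc] using h

theorem braid12 : ((gen 1 : Fi22) * gen 2) ^ 3 = 1 := by
  have h := gen_mem_rels (L := [1, 2, 1, 2, 1, 2]) (by decide +kernel)
  simpa [wprod, pow_succ, mul_assoc] using h

theorem comm02 : (z₀ * gen 2) ^ 2 = 1 := by
  have h := gen_mem_rels (L := [0, 2, 0, 2]) (by decide +kernel)
  simpa [wprod, pow_succ, mul_assoc] using h

theorem step_six : (gen 1 * gen 2 * z₀ * gen 1) * z₀ * (gen 1 * gen 2 * z₀ * gen 1)⁻¹ = gen 2 := by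
  have i0 : (z₀)⁻¹ = z₀ := inv_eq_of_mul_eq_one_right (gen_mul_self 0)
  have i1 : (gen 1 : Fi22)⁻¹ = gen 1 := inv_eq_of_mul_eq_one_right (gen_mul_self 1)
  have i2 : (gen 2 : Fi22)⁻¹ = gen 2 := inv_eq_of_mul_eq_one_right (gen_mul_self 2)
  have b01 := braid_conj (gen_mul_self 0) (gen_mul_self 1) braid01
  have b12 := braid_conj (gen_mul_self 1) (gen_mul_self 2) braid12
  simp only [mul_inv_rev, i0, i1, i2]
  calc gen 1 * gen 2 * z₀ * gen 1 * z₀ * (gen 1 * (z₀ * (gen 2 * gen 1)))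
      = gen 1 * gen 2 * (z₀ * gen 1 * z₀) * (gen 1 * z₀) * (gen 2 * gen 1) := by simp [mul_assoc]
    _ = gen 1 * gen 2 * (gen 1 * (z₀ * (gen 1 * gen 1) * z₀)) * (gen 2 * gen 1) := by rw [b01]; simp [mul_assoc]
    _ = gen 1 * gen 2 * gen 1 * (gen 2 * gen 1) := by
        rw [gen_mul_self, mul_one, gen_mul_self, mul_one]
    _ = gen 2 * gen 1 * (gen 2 * gen 2) * gen 1 := by rw [b12]; simp [mul_assoc]
    _ = gen 2 := by rw [gen_mul_self, mul_one, mul_assoc, gen_mul_self, mul_one]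

/-- Every conjugate of the first generator is, up to conjugation in `H`, one of three. -/
theorem conj_cases (u : Fi22) : ∃ k ∈ H, (u ∈ H ∧ u * z₀ * u⁻¹ = k * z₀ * k⁻¹) ∨
    u * z₀ * u⁻¹ = k * (gen 1 * z₀ * gen 1) * k⁻¹ ∨ u * z₀ * u⁻¹ = k * gen 2 * k⁻¹ := by
  obtain ⟨hi, e, he0, he⟩ := index_H
  have hS : ∀ L ∈ FiA.subs, ∀ x ∈ L, x < FiA.table.g := by decide +kernel
  have o0 := suborbit_of_cert FiA.table rfl FiA.valid FiA.sq gen rep rep_gen e he hS H rfl (by norm_num)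
    FiA.sub0_ok ⟨1, by decide +kernel⟩ FiA.sub0_root.symm
  have o1 := suborbit_of_cert FiA.table rfl FiA.valid FiA.sq gen rep rep_gen e he hS H rfl (by norm_num)
    FiA.sub1_ok ⟨6, by decide +kernel⟩ FiA.sub1_root.symm
  have key : ∀ j < 3510, j = 0 ∨ ((field FiA.sub0Pos 128 20 j - 1 < 2816) ∧ field FiA.sub0Pts 128 20 (field FiA.sub0Pos 128 20 j - 1) = j) ∨ ((field FiA.sub1Pos 128 20 j - 1 < 693) ∧ field FiA.sub1Pts 128 20 (field FiA.sub1Pos 128 20 j - 1) = j) := by decide +kernel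
  obtain ⟨i, hiu⟩ := e.surjective (u : Fi22 ⧸ H)
  have hrep : ∀ (L : List ℕ) (p : Fin FiA.table.n), (∀ y ∈ L, y < 9) → FiA.table.follow L 0 = (p : ℕ) →
      e p = (((wprod gen L)⁻¹ : Fi22) : Fi22 ⧸ H) := by
    intro L p hL h
    have hp : rep (wprod gen L)⁻¹ ⟨0, FiA.covered.hn⟩ = p := Fin.ext ((rep_inv_wprod L hL _).trans h)
    rw [← hp, ← he, he0]
    show ((((wprod gen L)⁻¹ * 1 : Fi22)) : Fi22 ⧸ H) = _
    rw [mul_one]
  have orb : ∀ r : Fi22, (u : Fi22 ⧸ H) ∈ MulAction.orbit H (r : Fi22 ⧸ H) →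
      ∃ k ∈ H, u * z₀ * u⁻¹ = k * (r * z₀ * r⁻¹) * k⁻¹ := by
    rintro r ⟨⟨k, hk⟩, hkr⟩
    have h1 : (k * r)⁻¹ * u ∈ H := QuotientGroup.eq.1 hkr
    refine ⟨k, hk, ?_⟩
    have hc := gen_zero_central _ h1
    calc u * z₀ * u⁻¹ = (k * r) * (((k * r)⁻¹ * u) * z₀) * u⁻¹ := by simp [mul_assoc]
      _ = k * (r * z₀ * r⁻¹) * k⁻¹ := by rw [hc]; simp [mul_assoc]
  rcases key i i.2 with h | h | h
  · have hu : u ∈ H := by
      rw [show i = (⟨0, FiA.covered.hn⟩ : Fin FiA.table.n) from Fin.ext h, he0] at hiu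
      simpa using QuotientGroup.eq.1 hiu
    exact ⟨u, hu, Or.inl ⟨hu, rfl⟩⟩
  · have hm := (o0.2 i).2 ⟨_, h.1, h.2⟩
    rw [hiu, hrep [1] _ (by decide) (by decide +kernel)] at hm
    obtain ⟨k, hk, hku⟩ := orb _ hm
    refine ⟨k, hk, Or.inr (Or.inl ?_)⟩
    rw [hku]
    simp [wprod, inv_eq_of_mul_eq_one_right (gen_mul_self 1)]
  · have hm := (o1.2 i).2 ⟨_, h.1, h.2⟩
    rw [hiu, hrep [1, 0, 2, 1] _ (by decide) (by decide +kernel)] at hm
    obtain ⟨k, hk, hku⟩ := orb _ hm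
    refine ⟨k, hk, Or.inr (Or.inr ?_)⟩
    rw [hku]
    have : (wprod (gen : ℕ → Fi22) [1, 0, 2, 1])⁻¹ = gen 1 * gen 2 * z₀ * gen 1 := by
      simp [wprod, mul_assoc, inv_eq_of_mul_eq_one_right (gen_mul_self _)]
    rw [this, step_six]

/-- The centraliser of the first generator is `H`. -/
theorem centralizer_gen_zero : Subgroup.centralizer ({z₀} : Set Fi22) = H := by
  refine le_antisymm (fun u hu => ?_) fun k hk =>
    Subgroup.mem_centralizer_singleton_iff.2 (gen_zero_central k hk)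
  rw [Subgroup.mem_centralizer_singleton_iff] at hu
  have hz : u * z₀ * u⁻¹ = z₀ := by rw [hu, mul_inv_cancel_right]
  obtain ⟨k, hk, h⟩ := conj_cases u
  rw [hz] at h
  have hk' : ∀ y : Fi22, z₀ = k * y * k⁻¹ → z₀ = y := by
    intro y hy
    have h1 := gen_zero_central k hk
    have h2 : y = k⁻¹ * z₀ * k := by rw [hy]; simp [mul_assoc]
    rw [h2, mul_assoc, ← h1, inv_mul_cancel_left]
  rcases h with h | h | h
  · exact h.1
  · exfalso
    have e := hk' _ h
    have h3 := braid01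
    have h2 : (z₀ * gen 1) * (z₀ * gen 1) = 1 := by
      rw [show z₀ * gen 1 * (z₀ * gen 1) = z₀ * (gen 1 * z₀ * gen 1) by simp [mul_assoc], ← e, gen_mul_self]
    rw [pow_succ, pow_two, h2, one_mul] at h3
    exact gen_ne 1 0 (by norm_num) (by norm_num) ⟨0, FiA.covered.hn⟩ (by decide +kernel)
      ((inv_eq_of_mul_eq_one_right h3).symm.trans (inv_eq_of_mul_eq_one_right (gen_mul_self 0)))
  · exact absurd (hk' _ h) (gen_ne 0 2 (by norm_num) (by norm_num) ⟨1, by decide +kernel⟩ (by decide +kernel))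

theorem conj_three (u : Fi22) : (z₀ * (u * z₀ * u⁻¹)) ^ 2 = 1 ∨ (z₀ * (u * z₀ * u⁻¹)) ^ 3 = 1 := by
  obtain ⟨k, hk, h⟩ := conj_cases u
  have move : ∀ (y : Fi22) (n : ℕ), (z₀ * y) ^ n = 1 → (z₀ * (k * y * k⁻¹)) ^ n = 1 := by
    intro y n hy
    have : z₀ * (k * y * k⁻¹) = k * (z₀ * y) * k⁻¹ := by
      rw [← mul_assoc k, gen_zero_central k hk]; simp [mul_assoc]
    rw [this, conj_pow, hy, mul_one, mul_inv_cancel]
  rcases h with h | h | h
  · exact Or.inl (h.2 ▸ move _ 2 (by rw [gen_mul_self, one_pow]))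
  · refine Or.inr (h ▸ move _ 3 ?_)
    rw [show z₀ * (gen 1 * z₀ * gen 1) = (z₀ * gen 1) ^ 2 by simp [pow_two, mul_assoc], ← pow_mul, mul_comm,
      pow_mul, braid01, one_pow]
  · exact Or.inl (h ▸ move _ 2 comm02)

theorem orderOf_gen_zero : orderOf z₀ = 2 := by
  refine orderOf_eq_prime (by rw [pow_two]; exact gen_mul_self 0) fun h => ?_
  have := congrArg (fun g => rep g (⟨1, by decide +kernel⟩ : Fin FiA.table.n)) (inv_eq_one.2 h)
  simp only [map_one, Equiv.Perm.one_apply] at this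
  have e := rep_inv_wprod [0] (by decide) ⟨1, by decide +kernel⟩
  rw [show wprod (gen : ℕ → Fi22) [0] = gen 0 by simp [wprod], this] at e
  exact absurd e (by decide +kernel)

theorem isThreeTranspositionClass : Cfsg.IsThreeTranspositionClass (conjugatesOf z₀) := by
  have hconj : ∀ d ∈ conjugatesOf z₀, ∃ g : Fi22, g * z₀ * g⁻¹ = d := fun d hd => isConj_iff.1 hd
  refine ⟨⟨fun d hd => ?_, fun d hd f hf => ?_⟩, ⟨z₀, mem_conjugatesOf_self, rfl⟩, ?_⟩
  · obtain ⟨g, rfl⟩ := hconj d hd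
    rw [show g * z₀ * g⁻¹ = MulAut.conj g z₀ from rfl, MulEquiv.orderOf_eq, orderOf_gen_zero]
  · obtain ⟨g, rfl⟩ := hconj d hd
    obtain ⟨l, rfl⟩ := hconj f hf
    have e : g * z₀ * g⁻¹ * (l * z₀ * l⁻¹) = g * (z₀ * ((g⁻¹ * l) * z₀ * (g⁻¹ * l)⁻¹)) * g⁻¹ := by
      simp [mul_assoc]
    rw [e, conj_pow, conj_pow]
    rcases conj_three (g⁻¹ * l) with h | h
    · exact Or.inl (by rw [h, mul_one, mul_inv_cancel])
    · exact Or.inr (by rw [h, mul_one, mul_inv_cancel])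
  · haveI := isSimpleGroup
    have hn : (Subgroup.closure (conjugatesOf z₀)) = Subgroup.normalClosure {z₀} := by
      rw [Subgroup.normalClosure, Group.conjugatesOfSet]; simp
    rw [hn]
    refine ((Subgroup.normalClosure_normal).eq_bot_or_eq_top).resolve_left fun hb => ?_
    have h : z₀ ∈ Subgroup.normalClosure ({z₀} : Set Fi22) := Subgroup.subset_normalClosure rfl
    rw [hb, Subgroup.mem_bot] at h
    simpa [h] using orderOf_gen_zero

theorem card_transpositions : Nat.card (conjugatesOf z₀) = 3510 := by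
  let F : Fi22 ⧸ H → conjugatesOf z₀ := fun q => Quotient.liftOn' q
    (fun g => ⟨g * z₀ * g⁻¹, isConj_iff.2 ⟨g, rfl⟩⟩) (fun a b hab => Subtype.ext <| by
      have h := gen_zero_central _ (QuotientGroup.leftRel_apply.1 hab)
      show a * z₀ * a⁻¹ = b * z₀ * b⁻¹
      calc a * z₀ * a⁻¹ = a * (z₀ * (a⁻¹ * b)) * b⁻¹ := by simp [mul_assoc]
        _ = b * z₀ * b⁻¹ := by rw [← h]; simp [mul_assoc])
  have hF : Function.Bijective F := by
    constructor
    · intro p q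
      induction p using QuotientGroup.induction_on with
      | _ a =>
        induction q using QuotientGroup.induction_on with
        | _ b =>
          intro h
          have h' : a * z₀ * a⁻¹ = b * z₀ * b⁻¹ := congrArg Subtype.val h
          refine QuotientGroup.eq.2 ?_
          rw [← centralizer_gen_zero, Subgroup.mem_centralizer_singleton_iff]
          calc a⁻¹ * b * z₀ = a⁻¹ * (b * z₀ * b⁻¹) * b := by simp [mul_assoc]
            _ = z₀ * (a⁻¹ * b) := by rw [← h']; simp [mul_assoc]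
    · rintro ⟨d, hd⟩
      obtain ⟨g, rfl⟩ := isConj_iff.1 hd
      exact ⟨(g : Fi22 ⧸ H), rfl⟩
  rw [← Nat.card_congr (Equiv.ofBijective F hF), ← Subgroup.index_eq_card, index_H.1]

theorem centralizer_transposition (d : Fi22) (hd : d ∈ conjugatesOf z₀) :
    Cfsg.IsNonsplitDoubleCover (Subgroup.centralizer ({d} : Set Fi22)) (Cfsg.PSU 6 FQ4 2) := by
  obtain ⟨g, rfl⟩ := isConj_iff.1 hd
  have e : H.map (MulAut.conj g).toMonoidHom = Subgroup.centralizer ({g * z₀ * g⁻¹} : Set Fi22) := by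
    rw [← centralizer_gen_zero]
    ext x
    simp only [Subgroup.mem_map_equiv, Subgroup.mem_centralizer_singleton_iff, MulAut.conj_symm_apply]
    constructor
    · intro h
      calc x * (g * z₀ * g⁻¹) = g * ((g⁻¹ * x * g) * z₀) * g⁻¹ := by simp [mul_assoc]
        _ = g * z₀ * g⁻¹ * x := by rw [h]; simp [mul_assoc]
    · intro h
      calc g⁻¹ * x * g * z₀ = g⁻¹ * (x * (g * z₀ * g⁻¹)) * g := by simp [mul_assoc]
        _ = z₀ * (g⁻¹ * x * g) := by rw [h]; simp [mul_assoc]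
  exact double_cover_of_mulEquiv
    (((MulAut.conj g).subgroupMap H).trans (MulEquiv.subgroupCongr e)) SporFi22U6.isNonsplitDoubleCover

end CfsgLib.InvChar.SporFi22
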