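import Cfsg.Agent.Lib.Invol.BrauerSuzuki
import Mathlib.GroupTheory.Nilpotent

/-!
# Involutions of a non-abelian simple group: consequences of the Z*-theorem
-/

namespace CfsgLib.InvChar

universe u

variable {G : Type u} [Group G] [Finite G] [IsSimpleGroup G]

/-- A non-abelian finite simple group has no isolated involution. -/
theorem not_isolated_of_simple (hG : ¬ IsMulCommutative G) {z : G} :
    ¬ Cfsg.IsIsolatedInvolution z := by
  intro hz
  have hodd := CfsgLib.Invol.odd_card_oddCore G
  have hbot : Cfsg.oddCore G = ⊥ := by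
    refine (Cfsg.pPrimeCore_normal 2 G).eq_bot_or_eq_top.resolve_right fun h => ?_
    have hodd : Odd (Nat.card (Cfsg.pPrimeCore 2 G)) := hodd
    rw [h, Subgroup.card_top] at hodd
    have h2 : (2 : ℕ) ∣ Nat.card G := hz.1 ▸ orderOf_dvd_natCard z
    rw [Nat.odd_iff] at hodd
    omega
  have hzc : z ∈ Subgroup.center G := Subgroup.mem_center_iff.2 fun g => by
    have h := CfsgLib.Invol.zstar G hz g
    rw [hbot, Subgroup.mem_bot, mul_inv_eq_one, mul_inv_eq_iff_eq_mul] at h
    exact h.symm
  rcases (inferInstance : (Subgroup.center G).Normal).eq_bot_or_eq_top with h | h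
  · rw [h, Subgroup.mem_bot] at hzc
    exact CfsgLib.Invol.invol_ne_one hz.1 hzc
  · exact hG ⟨⟨fun a b => (Subgroup.mem_center_iff.1 (h ▸ Subgroup.mem_top a) b).symm⟩⟩

/-- In a non-abelian finite simple group every involution of a Sylow 2-subgroup has a second
conjugate in that subgroup. -/
theorem exists_other_conj_mem_sylow (hG : ¬ IsMulCommutative G) (P : Sylow 2 G) {u : G}
    (hu : orderOf u = 2) (huP : u ∈ P) : ∃ v, IsConj u v ∧ v ∈ P ∧ v ≠ u := by
  by_contra h
  exact not_isolated_of_simple hG (CfsgLib.Invol.isolated_of_sylow P hu huP fun g hg => by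
    by_contra hne
    exact h ⟨g * u * g⁻¹, isConj_iff.2 ⟨g, rfl⟩, hg, hne⟩)

/-- In a non-abelian finite simple group the conjugates of an involution do not commute in pairs. -/
theorem exists_conj_not_commute (hG : ¬ IsMulCommutative G) {z : G} (hz : z ≠ 1) :
    ∃ g : G, ¬ Commute z (g * z * g⁻¹) := by
  by_contra h
  simp only [not_exists, not_not] at h
  have hsub : ∀ a ∈ Subgroup.normalClosure ({z} : Set G),
      ∀ b ∈ Subgroup.normalClosure ({z} : Set G), Commute a b := by
    have hle : Subgroup.normalClosure ({z} : Set G) ≤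
        Subgroup.centralizer (Group.conjugatesOfSet ({z} : Set G)) := by
      refine (Subgroup.closure_le _).2 fun a ha => ?_
      rw [SetLike.mem_coe, Subgroup.mem_centralizer_iff]
      intro b hb
      rw [Group.mem_conjugatesOfSet_iff] at ha hb
      obtain ⟨a', ha', hza⟩ := ha
      obtain ⟨b', hb', hzb⟩ := hb
      rw [Set.mem_singleton_iff] at ha' hb'
      rw [ha'] at hza; rw [hb'] at hzb
      obtain ⟨c, rfl⟩ := isConj_iff.1 hza
      obtain ⟨d, rfl⟩ := isConj_iff.1 hzb
      have h2 := (h (c⁻¹ * d)).map (MulAut.conj c).toMonoidHom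
      simp only [MulEquiv.coe_toMonoidHom, MulAut.conj_apply] at h2
      have e : c * (c⁻¹ * d * z * (c⁻¹ * d)⁻¹) * c⁻¹ = d * z * d⁻¹ := by group
      rw [e] at h2
      exact h2.symm
    intro a ha b hb
    have hb' := Subgroup.mem_centralizer_iff.1 (hle hb)
    have : Subgroup.normalClosure ({z} : Set G) ≤ Subgroup.centralizer ({b} : Set G) := by
      refine (Subgroup.closure_le _).2 fun c hc => ?_
      rw [SetLike.mem_coe, Subgroup.mem_centralizer_singleton_iff]
      exact hb' c hc
    exact Subgroup.mem_centralizer_singleton_iff.1 (this ha)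
  rcases (Subgroup.normalClosure_normal :
      (Subgroup.normalClosure ({z} : Set G)).Normal).eq_bot_or_eq_top with hb | ht
  · exact hz (Subgroup.mem_bot.1 (hb ▸ Subgroup.subset_normalClosure (Set.mem_singleton z)))
  · exact hG ⟨⟨fun a b => hsub a (ht ▸ Subgroup.mem_top a) b (ht ▸ Subgroup.mem_top b)⟩⟩

end CfsgLib.InvChar
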