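import Cfsg.Agent.Lib.InvChar.SporHeInvolChecks

/-!
# The centraliser of `e` in the Held group is the centraliser of a transvection in SL(5,2)

An orbit of 5376 pairs of points maps equivariantly onto the 16 affine points of the model.
-/

set_option autoImplicit false
set_option maxRecDepth 100000

namespace CfsgLib.InvChar.SporHeInvol

open CfsgLib.InvChar.Coset Cfsg.Spor

theorem pair_inj {j k : ℕ} (hj : j < 5376) (hk : k < 5376) (hx : pairX j = pairX k)
    (hy : pairY j = pairY k) : j = k := by
  have mono : ∀ b, b < 5376 → ∀ a < b,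
      pairX a * 2058 + pairY a < pairX b * 2058 + pairY b := by
    intro b
    induction b with
    | zero => intro _ a ha; omega
    | succ b ih =>
      intro hb a ha
      have h1 := pair_increasing b (by omega)
      rcases Nat.lt_succ_iff_lt_or_eq.1 ha with h | h
      · exact (ih (by omega) a h).trans h1
      · exact h ▸ h1
  rcases lt_trichotomy j k with h | h | h
  · exact absurd (mono k hk j h) (by rw [hx, hy]; exact lt_irrefl _)
  · exact h
  · exact absurd (mono j hj k h) (by rw [hx, hy]; exact lt_irrefl _)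

/-- `g` induces `σ` on the 16 points through the pairs. -/
def Induces (g : He) (σ : Equiv.Perm (Fin 16)) : Prop :=
  ∀ k, ∀ hk : k < 5376, ∃ j < 5376,
    (SporHe.rep g ⟨pairX k, n_eq ▸ (pair_range k hk).1⟩ : ℕ) = pairX j ∧
    (SporHe.rep g ⟨pairY k, n_eq ▸ (pair_range k hk).2.1⟩ : ℕ) = pairY j ∧
    pairPi j = (σ ⟨pairPi k, (pair_range k hk).2.2⟩ : ℕ)

theorem Induces.one : Induces 1 1 := fun k hk =>
  ⟨k, hk, by simp, by simp, rfl⟩

theorem Induces.mul {g h : He} {σ τ : Equiv.Perm (Fin 16)} (hg : Induces g σ) (hh : Induces h τ) :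
    Induces (g * h) (σ * τ) := by
  intro k hk
  obtain ⟨j, hj, x1, y1, p1⟩ := hh k hk
  obtain ⟨i, hi, x2, y2, p2⟩ := hg j hj
  refine ⟨i, hi, ?_, ?_, ?_⟩
  · rw [map_mul, Equiv.Perm.mul_apply, ← x2]
    exact congrArg (fun p => (SporHe.rep g p : ℕ)) (Fin.ext x1)
  · rw [map_mul, Equiv.Perm.mul_apply, ← y2]
    exact congrArg (fun p => (SporHe.rep g p : ℕ)) (Fin.ext y1)
  · rw [p2, Equiv.Perm.mul_apply]
    exact congrArg (fun p => (σ p : ℕ)) (Fin.ext p1)

theorem Induces.pow {g : He} {σ : Equiv.Perm (Fin 16)} (hg : Induces g σ) : ∀ m : ℕ, Induces (g ^ m) (σ ^ m)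
  | 0 => by rw [pow_zero, pow_zero]; exact Induces.one
  | m + 1 => by rw [pow_succ, pow_succ]; exact (Induces.pow hg m).mul hg

theorem Induces.unique {g : He} {σ τ : Equiv.Perm (Fin 16)} (h1 : Induces g σ) (h2 : Induces g τ) :
    σ = τ := by
  ext i
  obtain ⟨hk, hki⟩ := witness i
  obtain ⟨j, hj, x1, y1, p1⟩ := h1 _ hk
  obtain ⟨j', hj', x2, y2, p2⟩ := h2 _ hk
  obtain rfl := pair_inj hj hj' (x1.symm.trans x2) (y1.symm.trans y2)
  have e : (⟨pairPi (HeInvol.wit.getD i 0), (pair_range _ hk).2.2⟩ : Fin 16) = i := Fin.ext hki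
  rw [e] at p1 p2
  exact p1.symm.trans p2

/-- The three generators of the centraliser. -/
noncomputable def kGen (j : Fin 3) : He := (wprod SporHe.gen (HeInvol.kWords.getD j []))⁻¹

theorem rep_kGen (j : Fin 3) (i : Fin HeA.table.n) :
    (SporHe.rep (kGen j) i : ℕ) = HeA.table.follow (HeInvol.kWords.getD j []) i := by
  rw [kGen, map_inv, map_wprod SporHe.rep SporHe.gen SporHe.perm _
    fun x hx => SporHe.rep_gen x (kWords_lt j x hx)]
  exact (HeA.valid.follow_eq HeA.sq _ (fun x hx => kWords_lt j x hx) i).symm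

theorem kGen_mem (j : Fin 3) : kGen j ∈ Subgroup.centralizer ({SporHe.gen 4} : Set He) := by
  rw [Subgroup.mem_centralizer_singleton_iff]
  refine SporHe.card_eq.2 (Equiv.ext fun i => Fin.ext ?_)
  rw [map_mul, map_mul, Equiv.Perm.mul_apply, Equiv.Perm.mul_apply, rep_kGen, zP_apply, zP_apply, rep_kGen]
  exact (kWords_comm j i i.2).symm

section

variable {s : TransvFive.SL5} (hs : (s : Matrix (Fin 5) (Fin 5) (ZMod 2)) = Matrix.transvection 0 1 1)

include hs

/-- The three elements of the model. -/
noncomputable def matElt (j : Fin 3) : ↥(Subgroup.centralizer ({s} : Set TransvFive.SL5)) :=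
  ⟨(⟨mat j, mat_det j⟩ : TransvFive.SL5), Subgroup.mem_centralizer_singleton_iff.2 (Subtype.ext
    (show mat j * (s : Matrix (Fin 5) (Fin 5) (ZMod 2)) = (s : Matrix (Fin 5) (Fin 5) (ZMod 2)) * mat j by
      rw [hs]; exact mat_comm j))⟩

theorem psi_matElt (j : Fin 3) (i : Fin 16) :
    (TransvFive.psi hs (matElt hs j) i : ℕ) = HeInvol.tab0.app i j := by
  rw [TransvFive.psi_apply]
  exact mat_act j i

theorem induces_kGen (j : Fin 3) : Induces (kGen j) (TransvFive.psi hs (matElt hs j)) := by
  intro k hk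
  have h := next_ok j k hk
  simp only [chkNext, force_eq, Bool.and_eq_true] at h
  obtain ⟨⟨⟨h1, h2⟩, h3⟩, h4⟩ := h
  refine ⟨_, by simpa [Nat.blt] using h1, ?_, ?_, ?_⟩
  · rw [rep_kGen]; exact Nat.eq_of_beq_eq_true h2
  · rw [rep_kGen]; exact Nat.eq_of_beq_eq_true h3
  · rw [psi_matElt]; exact Nat.eq_of_beq_eq_true h4

/-- The subgroup of the model generated by the three elements. -/
noncomputable def modelGroup : Subgroup (Equiv.Perm (Fin 16)) :=
  Subgroup.closure (Set.range fun j : Fin 3 => TransvFive.psi hs (matElt hs j))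

theorem realises_model : HeInvol.tab0.Realises (n := 16) (modelGroup hs) := by
  intro x hx
  have hx : x < 3 := hx
  exact ⟨_, Subgroup.subset_closure ⟨⟨x, hx⟩, rfl⟩, fun i => (psi_matElt hs ⟨x, hx⟩ i).symm⟩

theorem card_model_ge : 21504 ≤ Nat.card (modelGroup hs) := by
  have r0 := realises_model hs
  have r1 := Table.Realises.inf_stabilizer (T := HeInvol.tab1)
    (r0.derived HeInvol.tab0 HeInvol.tab1 HeInvol.words1 (by decide +kernel) (by decide +kernel)
      (by decide +kernel)) (0 : Fin 16) (by decide +kernel)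
  have r2 := Table.Realises.inf_stabilizer (T := HeInvol.tab2)
    (r1.derived HeInvol.tab1 HeInvol.tab2 HeInvol.words2 (by decide +kernel) (by decide +kernel)
      (by decide +kernel)) (2 : Fin 16) (by decide +kernel)
  have r3 := Table.Realises.inf_stabilizer (T := HeInvol.tab3)
    (r2.derived HeInvol.tab2 HeInvol.tab3 HeInvol.words3 (by decide +kernel) (by decide +kernel)
      (by decide +kernel)) (4 : Fin 16) (by decide +kernel)
  have c3 := Table.card_ge_step (T := HeInvol.tab3) (n := 16) rfl r3 (S := [[0], [1], [2]])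
    (by decide +kernel) (m := 8) (pts := HeInvol.pts3) (pos := HeInvol.pos3) (par := HeInvol.par3)
    (by decide) (fun k hk => Table.chkOrbit_get _ _ _ _ _ _ 8 0 (by decide +kernel) k (by omega) (by omega))
    (8 : Fin 16) (by decide +kernel) (Nat.succ_le_of_lt Nat.card_pos)
  have c2 := Table.card_ge_step (T := HeInvol.tab2) (n := 16) rfl r2 (S := [[0], [1]])
    (by decide +kernel) (m := 12) (pts := HeInvol.pts2) (pos := HeInvol.pos2) (par := HeInvol.par2)
    (by decide) (fun k hk => Table.chkOrbit_get _ _ _ _ _ _ 12 0 (by decide +kernel) k (by omega) (by omega))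
    (4 : Fin 16) (by decide +kernel) c3
  have c1 := Table.card_ge_step (T := HeInvol.tab1) (n := 16) rfl r1 (S := [[0], [1]])
    (by decide +kernel) (m := 14) (pts := HeInvol.pts1) (pos := HeInvol.pos1) (par := HeInvol.par1)
    (by decide) (fun k hk => Table.chkOrbit_get _ _ _ _ _ _ 14 0 (by decide +kernel) k (by omega) (by omega))
    (2 : Fin 16) (by decide +kernel) c2
  have c0 := Table.card_ge_step (T := HeInvol.tab0) (n := 16) rfl r0 (S := [[0], [1], [2]])
    (by decide +kernel) (m := 16) (pts := HeInvol.pts0) (pos := HeInvol.pos0) (par := HeInvol.par0)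
    (by decide) (fun k hk => Table.chkOrbit_get _ _ _ _ _ _ 16 0 (by decide +kernel) k (by omega) (by omega))
    (0 : Fin 16) (by decide +kernel) c1
  exact le_trans (le_of_eq (by norm_num)) c0

/-- **The centraliser of `e` is isomorphic to the centraliser of the transvection.** -/
theorem centralizer_equiv :
    Nonempty (↥(Subgroup.centralizer ({SporHe.gen 4} : Set He)) ≃*
      ↥(Subgroup.centralizer ({s} : Set TransvFive.SL5))) := by
  haveI : Finite He := SporHe.card_le.1
  let K : Subgroup He := Subgroup.closure (Set.range kGen)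
  have hKC : K ≤ Subgroup.centralizer ({SporHe.gen 4} : Set He) := by
    rw [Subgroup.closure_le]; rintro _ ⟨j, rfl⟩; exact kGen_mem j
  have hex : ∀ g ∈ K, ∃ σ, Induces g σ := by
    intro g hg
    induction hg using Subgroup.closure_induction with
    | mem x hx => obtain ⟨j, rfl⟩ := hx; exact ⟨_, induces_kGen hs j⟩
    | one => exact ⟨1, Induces.one⟩
    | mul x y _ _ hx hy =>
      obtain ⟨σ, h1⟩ := hx
      obtain ⟨τ, h2⟩ := hy
      exact ⟨σ * τ, h1.mul h2⟩
    | inv x _ hx =>
      obtain ⟨σ, h1⟩ := hx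
      refine ⟨σ ^ (orderOf x - 1), ?_⟩
      have e : x⁻¹ = x ^ (orderOf x - 1) := by
        refine inv_eq_of_mul_eq_one_right ?_
        rw [← pow_succ', Nat.sub_add_cancel (orderOf_pos x), pow_orderOf_eq_one]
      exact e ▸ h1.pow _
  choose σ hσ using fun g : K => hex g g.2
  let Φ : K →* Equiv.Perm (Fin 16) :=
    { toFun := σ
      map_one' := (hσ 1).unique (by rw [Subgroup.coe_one]; exact Induces.one)
      map_mul' := fun a b => (hσ (a * b)).unique (by rw [Subgroup.coe_mul]; exact (hσ a).mul (hσ b)) }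
  have hle : modelGroup hs ≤ Φ.range := by
    rw [modelGroup, Subgroup.closure_le]
    rintro _ ⟨j, rfl⟩
    exact ⟨⟨kGen j, Subgroup.subset_closure ⟨j, rfl⟩⟩, (hσ _).unique (induces_kGen hs j)⟩
  have hψ : modelGroup hs ≤ (TransvFive.psi hs).range := by
    rw [modelGroup, Subgroup.closure_le]
    rintro _ ⟨j, rfl⟩
    exact ⟨_, rfl⟩
  have hR := card_model_ge hs
  have hKle : Nat.card K ≤ 21504 := (Subgroup.card_le_of_le hKC).trans card_centralizer_le
  have hΦ : Nat.card Φ.range ≤ Nat.card K :=
    Nat.card_le_card_of_surjective Φ.rangeRestrict Φ.rangeRestrict_surjective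
  have hψc : Nat.card (TransvFive.psi hs).range ≤ 21504 :=
    (Nat.card_le_card_of_surjective _ (TransvFive.psi hs).rangeRestrict_surjective).trans
      (TransvFive.card_le hs)
  have e1 : modelGroup hs = Φ.range := Subgroup.eq_of_le_of_card_ge hle (by omega)
  have e2 : modelGroup hs = (TransvFive.psi hs).range := Subgroup.eq_of_le_of_card_ge hψ (by omega)
  have hKeq : K = Subgroup.centralizer ({SporHe.gen 4} : Set He) := by
    refine Subgroup.eq_of_le_of_card_ge hKC ?_
    have := card_centralizer_le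
    have := Subgroup.card_le_of_le hle
    omega
  have hinj : Function.Injective Φ := by
    have hb : Function.Bijective Φ.rangeRestrict :=
      Φ.rangeRestrict_surjective.bijective_of_nat_card_le (by
        have := Subgroup.card_le_of_le hle
        omega)
    intro a b hab
    exact hb.1 (Subtype.ext hab)
  exact ⟨(MulEquiv.subgroupCongr hKeq.symm).trans ((MonoidHom.ofInjective hinj).trans
    ((MulEquiv.subgroupCongr (e1.symm.trans e2)).trans
      (MonoidHom.ofInjective (TransvFive.psi_injective hs)).symm))⟩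

end

theorem orderOf_gen_four : orderOf (SporHe.gen 4) = 2 := by
  haveI : Fact (Nat.Prime 2) := ⟨Nat.prime_two⟩
  refine orderOf_eq_prime (by rw [pow_two]; exact SporHe.gen_mul_self 4) fun h => ?_
  have hp : ∃ i < 2058, HeA.table.app i 4 ≠ i := by decide +kernel
  obtain ⟨i, hi, hne⟩ := hp
  have e := zP_apply ⟨i, hi⟩
  rw [show zP = 1 by rw [zP, h, map_one]] at e
  exact hne e.symm

end CfsgLib.InvChar.SporHeInvol
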