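import Cfsg.Agent.Lib.InvChar.SporHeModel
import Mathlib.GroupTheory.Sylow

/-!
# The two classes of involutions of the presented Held group
-/

set_option autoImplicit false
set_option maxRecDepth 100000

namespace CfsgLib.InvChar.SporHeInvol

open CfsgLib.InvChar.Coset Cfsg.Spor

/-- The centraliser of `e` has exactly 21504 elements. -/
theorem card_centralizer_eq : Nat.card ↥(Subgroup.centralizer ({SporHe.gen 4} : Set He)) = 21504 := by
  haveI : Finite He := SporHe.card_le.1
  refine le_antisymm card_centralizer_le ?_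
  have hle : model ≤ phi.range := by
    rw [model, modelGroup, Subgroup.closure_le]
    rintro _ ⟨j, rfl⟩
    exact ⟨_, phi_kGen j⟩
  rw [← card_model]
  exact (Subgroup.card_le_of_le hle).trans
    (Nat.card_le_card_of_surjective phi.rangeRestrict phi.rangeRestrict_surjective)

/-- The code of an inverse, from a check. -/
theorem code_inv_of_check {σ : Equiv.Perm (Fin 16)} {q : ℕ} (h1 : ∀ i < 16, app16 q (app16 (code σ) i) = i)
    (h2 : q = enc16 fun i => app16 q i) : code σ⁻¹ = q := by
  rw [h2]
  refine enc16_congr _ _ fun t ht => ?_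
  rw [dif_pos ht]
  have h := h1 (σ⁻¹ ⟨t, ht⟩ : Fin 16) (Fin.isLt _)
  rw [app16_code, show σ (σ⁻¹ ⟨t, ht⟩) = (⟨t, ht⟩ : Fin 16) from σ.apply_symm_apply _] at h
  exact h.symm

/-- Words acting alike are equal in the group. -/
theorem wprod_eq_of_follow (L M : List ℕ) (hL : ∀ x ∈ L, x < 7) (hM : ∀ x ∈ M, x < 7)
    (h : ∀ i < 2058, HeA.table.follow L i = HeA.table.follow M i) :
    wprod SporHe.gen L = wprod SporHe.gen M := by
  refine inv_injective (SporHe.card_eq.2 ?_)
  rw [map_inv, map_inv, map_wprod SporHe.rep SporHe.gen SporHe.perm L fun x hx => SporHe.rep_gen x (hL x hx),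
    map_wprod SporHe.rep SporHe.gen SporHe.perm M fun x hx => SporHe.rep_gen x (hM x hx)]
  refine Equiv.ext fun i => Fin.ext ?_
  exact (HeA.valid.follow_eq HeA.sq L hL i).symm.trans
    ((h i (lt_of_lt_of_eq i.2 n_eq)).trans (HeA.valid.follow_eq HeA.sq M hM i))

/-- The class number of the `k`-th involution of the model. -/
noncomputable def invClass (k : ℕ) : ℕ := field HeAut.invClass 128 20 k

/-- The class number is one of those of the conjugates of `a`. -/
noncomputable def isA (c : ℕ) : Bool := Nat.beq c 5 || Nat.beq c 7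

/-- The generator representing a class. -/
noncomputable def target (c : ℕ) : ℕ := bif isA c then 0 else 4

/-- One involution of the class tree. -/
noncomputable def chkTree (k : ℕ) : Bool :=
  force (invClass k) fun c => Nat.blt c 8 &&
    bif Nat.beq k (HeAut.invRoot.getD c 0) then Nat.beq (invCode k) (kCode (HeAut.rootWords.getD c []))
    else force (field HeAut.invPar 128 20 k) fun v =>
      force (v >>> 2) fun p => force (v % 4) fun j =>
        Nat.blt p k && Nat.blt j 3 && Nat.beq (invClass p) c &&
          Nat.beq (invCode p) (comp16 (HeAut.genInvCode.getD j 0)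
            (comp16 (invCode k) (tabCode HeInvol.tab0 [j])))

theorem tree_ok : allFrom chkTree 575 0 = true := by decide +kernel

theorem genInv_ok : ∀ j < 3, HeAut.genInvCode.getD j 0 = enc16 (fun i => app16 (HeAut.genInvCode.getD j 0) i) ∧
    ∀ i < 16, app16 (HeAut.genInvCode.getD j 0) (app16 (tabCode HeInvol.tab0 [j]) i) = i := by
  decide +kernel

theorem rootConj_lt : ∀ c < 8, ∀ x ∈ HeAut.rootConj.getD c [], x < 7 := by decide +kernel

/-- The conjugacy of one root. -/
noncomputable def chkRoot (c i : ℕ) : Bool :=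
  Nat.beq (HeA.table.follow (HeAut.rootConj.getD c []) (kFollow (HeAut.rootWords.getD c []) i))
    (HeA.table.app (HeA.table.follow (HeAut.rootConj.getD c []) i) (target c))

theorem roots_ok : allFrom (fun c => allFrom (chkRoot c) 2058 0) 8 0 = true := by decide +kernel

theorem root_conj (c : ℕ) (hc : c < 8) :
    IsConj (kElt (HeAut.rootWords.getD c []) : He) (SporHe.gen (target c)) := by
  have hx := rootConj_lt c hc
  let P : He := (wprod SporHe.gen (HeAut.rootConj.getD c []))⁻¹
  have hP : ∀ i : Fin HeA.table.n,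
      (SporHe.rep P i : ℕ) = HeA.table.follow (HeAut.rootConj.getD c []) i := fun i => by
    rw [map_inv, map_wprod SporHe.rep SporHe.gen SporHe.perm _ fun x h => SporHe.rep_gen x (hx x h)]
    exact (HeA.valid.follow_eq HeA.sq _ (fun x h => hx x h) i).symm
  have ht : target c < 7 := by unfold target; cases isA c <;> decide
  have hP' : SporHe.gen (target c) * P = P * (kElt (HeAut.rootWords.getD c []) : He) := by
    refine SporHe.card_eq.2 (Equiv.ext fun i => Fin.ext ?_)
    rw [map_mul, map_mul, Equiv.Perm.mul_apply, Equiv.Perm.mul_apply, hP, rep_kElt, SporHe.rep_gen _ ht,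
      SporHe.perm, HeA.valid.toPerm_apply HeA.sq ht, hP]
    have h := allFrom_get _ 2058 0 (allFrom_get _ 8 0 roots_ok c (Nat.zero_le _) (by omega)) i
      (Nat.zero_le _) (lt_of_lt_of_eq i.2 (n_eq.trans (Nat.zero_add _).symm))
    exact (Nat.eq_of_beq_eq_true h).symm
  exact isConj_iff.2 ⟨P, by rw [← hP', mul_inv_cancel_right]⟩

/-- An element of the centraliser with a listed code is conjugate to the representative of its class. -/
theorem conj_target : ∀ (k : ℕ), k < 575 → ∀ g : ↥(Subgroup.centralizer ({SporHe.gen 4} : Set He)),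
    phiCode g = invCode k → IsConj (g : He) (SporHe.gen (target (invClass k))) := by
  intro k
  induction k using Nat.strong_induction_on with
  | _ k ih =>
    intro hk g hg
    have h := allFrom_get chkTree 575 0 tree_ok k (Nat.zero_le _) (by omega)
    rw [chkTree, force_eq, Bool.and_eq_true] at h
    obtain ⟨hc, h⟩ := h
    have hc : invClass k < 8 := Nat.le_of_ble_eq_true hc
    cases hroot : Nat.beq k (HeAut.invRoot.getD (invClass k) 0) with
    | true =>
      rw [hroot] at h
      simp only [cond_true] at h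
      have e : g = kElt (HeAut.rootWords.getD (invClass k) []) :=
        phiCode_injective (by rw [hg, phiCode_kElt]; exact Nat.eq_of_beq_eq_true h)
      rw [e]
      exact root_conj _ hc
    | false =>
      rw [hroot] at h
      simp only [cond_false, force_eq, Bool.and_eq_true] at h
      obtain ⟨⟨⟨h1, h2⟩, h3⟩, h4⟩ := h
      have h1 := Nat.le_of_ble_eq_true h1
      have hj : field HeAut.invPar 128 20 k % 4 < 3 := Nat.le_of_ble_eq_true h2
      let K : ↥(Subgroup.centralizer ({SporHe.gen 4} : Set He)) :=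
        ⟨kGen ⟨field HeAut.invPar 128 20 k % 4, hj⟩, kGen_mem _⟩
      have hK : phiCode K = tabCode HeInvol.tab0 [field HeAut.invPar 128 20 k % 4] := by
        rw [phiCode, phi_kGen, code_genPerm]
      have hKi : phiCode K⁻¹ = HeAut.genInvCode.getD (field HeAut.invPar 128 20 k % 4) 0 := by
        rw [phiCode, map_inv]
        refine code_inv_of_check (fun i hi => ?_) (genInv_ok _ hj).1
        rw [← phiCode, hK]
        exact (genInv_ok _ hj).2 i hi
      have hpar : phiCode (K⁻¹ * (g * K)) = invCode (field HeAut.invPar 128 20 k >>> 2) := by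
        rw [phiCode_mul, phiCode_mul, hKi, hK, hg]
        exact (Nat.eq_of_beq_eq_true h4).symm
      have hc' := Nat.eq_of_beq_eq_true h3
      have := ih _ (by omega) (by omega) _ hpar
      rw [hc'] at this
      refine IsConj.trans ?_ this
      exact isConj_iff.2 ⟨(K : He)⁻¹, by simp [mul_assoc]⟩

theorem not_conj_a_e : ¬ IsConj (SporHe.gen 0) (SporHe.gen 4) := by
  haveI : Finite He := SporHe.card_le.1
  intro h
  obtain ⟨c, hc⟩ := isConj_iff.1 h
  let x : He := (SporHe.gen 2 * SporHe.gen 3) ^ 2
  have h10 : (SporHe.gen 2 * SporHe.gen 3) ^ 10 = (1 : He) := by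
    have e := wprod_eq_of_follow [2, 3, 2, 3, 2, 3, 2, 3, 2, 3, 2, 3, 2, 3, 2, 3, 2, 3, 2, 3] [] (by decide)
      (by decide) (by decide +kernel)
    simp only [wprod, List.map_cons, List.map_nil, List.prod_cons, List.prod_nil, mul_one] at e
    simpa [pow_succ, mul_assoc] using e
  have hx : orderOf x = 5 := by
    haveI : Fact (Nat.Prime 5) := ⟨by norm_num⟩
    refine orderOf_eq_prime (by rw [← pow_mul]; exact h10) fun h1 => ?_
    have h2 : SporHe.rep x = 1 := by rw [h1, map_one]
    have hp : ∃ i < 2058, HeA.table.app (HeA.table.app (HeA.table.app (HeA.table.app i 3) 2) 3) 2 ≠ i := by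
      decide +kernel
    obtain ⟨i, hi, hne⟩ := hp
    refine hne ?_
    have e := congrArg (fun π : Equiv.Perm (Fin HeA.table.n) => (π ⟨i, hi⟩ : ℕ)) h2
    simp only [x, map_pow, map_mul, pow_two, Equiv.Perm.mul_apply, SporHe.rep_gen 2 (by norm_num),
      SporHe.rep_gen 3 (by norm_num), SporHe.perm] at e
    rw [HeA.valid.toPerm_apply HeA.sq (by decide), HeA.valid.toPerm_apply HeA.sq (by decide),
      HeA.valid.toPerm_apply HeA.sq (by decide), HeA.valid.toPerm_apply HeA.sq (by decide)] at e
    exact e
  have h02 : SporHe.gen 0 * SporHe.gen 2 = SporHe.gen 2 * (SporHe.gen 0 : He) := by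
    have e := wprod_eq_of_follow [0, 2] [2, 0] (by decide) (by decide) (by decide +kernel)
    simpa [wprod] using e
  have h03 : SporHe.gen 0 * SporHe.gen 3 = SporHe.gen 3 * (SporHe.gen 0 : He) := by
    have e := wprod_eq_of_follow [0, 3] [3, 0] (by decide) (by decide) (by decide +kernel)
    simpa [wprod] using e
  have hxa : Commute (SporHe.gen 0) x :=
    (Commute.mul_right h02 h03).pow_right 2
  have hmem : c * x * c⁻¹ ∈ Subgroup.centralizer ({SporHe.gen 4} : Set He) := by
    rw [Subgroup.mem_centralizer_singleton_iff, ← hc]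
    calc c * x * c⁻¹ * (c * SporHe.gen 0 * c⁻¹) = c * (x * SporHe.gen 0) * c⁻¹ := by group
      _ = c * (SporHe.gen 0 * x) * c⁻¹ := by rw [hxa.eq]
      _ = c * SporHe.gen 0 * c⁻¹ * (c * x * c⁻¹) := by group
  have h5 : orderOf (⟨_, hmem⟩ : ↥(Subgroup.centralizer ({SporHe.gen 4} : Set He))) = 5 := by
    rw [← Subgroup.orderOf_coe]
    show orderOf (MulAut.conj c x) = 5
    rw [MulEquiv.orderOf_eq, hx]
  have hdvd : 5 ∣ Nat.card ↥(Subgroup.centralizer ({SporHe.gen 4} : Set He)) :=
    h5 ▸ orderOf_dvd_natCard _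
  rw [card_centralizer_eq] at hdvd
  norm_num at hdvd

/-- Every involution is conjugate to `a` or to `e`. -/
theorem invol_classes (g : He) (hg : g * g = 1) (hne : g ≠ 1) :
    IsConj g (SporHe.gen 0) ∨ IsConj g (SporHe.gen 4) := by
  haveI : Finite He := SporHe.card_le.1
  haveI : Fact (Nat.Prime 2) := ⟨Nat.prime_two⟩
  let P : Sylow 2 ↥(Subgroup.centralizer ({SporHe.gen 4} : Set He)) := default
  have hP : Nat.card ((P : Subgroup _).map (Subgroup.centralizer ({SporHe.gen 4} : Set He)).subtype : Subgroup He) =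
      2 ^ (Nat.card He).factorization 2 := by
    rw [Subgroup.card_subtype, P.card_eq_multiplicity, card_centralizer_eq, SporHe.card_eq.1]
    congr 1
    rw [show 21504 = 2 ^ 10 * 21 by norm_num, show 4030387200 = 2 ^ 10 * 3935925 by norm_num,
      Nat.factorization_mul (by norm_num) (by norm_num), Nat.factorization_mul (by norm_num) (by norm_num)]
    simp [Nat.factorization_eq_zero_of_not_dvd]
  let Q : Sylow 2 He := Sylow.ofCard _ hP
  have h2 : IsPGroup 2 (Subgroup.zpowers g) := by
    refine IsPGroup.of_card (n := 1) ?_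
    rw [Nat.card_zpowers, orderOf_eq_prime (by rw [pow_two, hg]) hne, pow_one]
  obtain ⟨R, hR⟩ := h2.exists_le_sylow
  obtain ⟨c, hcR⟩ := MulAction.exists_smul_eq He R Q
  have hmem : c * g * c⁻¹ ∈ Subgroup.centralizer ({SporHe.gen 4} : Set He) := by
    have : MulAut.conj c g ∈ ((c • R : Sylow 2 He) : Subgroup He) := by
      rw [Sylow.coe_subgroup_smul]
      exact Subgroup.smul_mem_pointwise_smul g _ _ (hR (Subgroup.mem_zpowers g))
    rw [hcR] at this
    obtain ⟨y, -, hy⟩ := this
    rw [← show _ = c * g * c⁻¹ from hy]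
    exact y.2
  have hsq : (⟨_, hmem⟩ : ↥(Subgroup.centralizer ({SporHe.gen 4} : Set He))) * ⟨_, hmem⟩ = 1 := by
    refine Subtype.ext ?_
    show c * g * c⁻¹ * (c * g * c⁻¹) = 1
    rw [show c * g * c⁻¹ * (c * g * c⁻¹) = c * (g * g) * c⁻¹ by group, hg, mul_one, mul_inv_cancel]
  obtain ⟨k, hk, hkc⟩ := exists_invCode ⟨_, hmem⟩ hsq (fun h => hne (by
    have h' := congrArg Subtype.val h
    exact conj_eq_one_iff.1 h'))
  have hconj : IsConj g (c * g * c⁻¹) := isConj_iff.2 ⟨c, rfl⟩
  have h := hconj.trans (conj_target k hk _ hkc)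
  unfold target at h
  cases hA : isA (invClass k) <;> rw [hA] at h
  · exact Or.inr h
  · exact Or.inl h

end CfsgLib.InvChar.SporHeInvol
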