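import Cfsg.Prelude.Def_Spor_He
import Cfsg.Agent.Lib.InvChar.CosetGroup
import Cfsg.Agent.Lib.InvChar.SporData.HeA.Main
import Cfsg.Agent.Lib.InvChar.SporData.HeA.Chain
import Cfsg.Agent.Lib.InvChar.SporData.HeB.Main
import Cfsg.Agent.Lib.InvChar.SporData.HeC.Main
import Cfsg.Agent.Lib.InvChar.SporData.HeD.Main
import Cfsg.Agent.Lib.InvChar.SporData.HeZ.Main

/-!
# The presented Held group: order and the action on 2058 points
-/

set_option autoImplicit false
set_option maxRecDepth 100000

namespace CfsgLib.InvChar.SporHe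

open CfsgLib.InvChar.Coset Cfsg.Spor

/-- numbering of the generators -/
def idx : He.Gen → ℕ
  | .a => 0 | .b => 1 | .c => 2 | .d => 3 | .e => 4 | .f => 5 | .g => 6

/-- the generators by number -/
def ofN : ℕ → He.Gen
  | 0 => .a | 1 => .b | 2 => .c | 3 => .d | 4 => .e | 5 => .f | _ => .g

theorem pres : IsPres He.edges He.extra 7 idx ofN HeA.rels where
  left a := by cases a <;> decide
  check := by decide +kernel

/-- The generators of the Held group. -/
noncomputable abbrev gen : ℕ → He := pres.gen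

theorem gen_mul_self (x : ℕ) : gen x * gen x = 1 := pres.gen_mul_self x

theorem closure_gen : Subgroup.closure (gen '' Set.Iio 7) = ⊤ := pres.closure_gen

/-- The permutations of the 2058 points. -/
noncomputable def perm (x : ℕ) : Equiv.Perm (Fin HeA.table.n) := HeA.valid.toPerm HeA.sq x

theorem exists_rep : ∃ φ : He →* Equiv.Perm (Fin HeA.table.n), ∀ x < 7, φ (gen x) = perm x :=
  pres.exists_hom perm (fun x => HeA.valid.toPerm_mul_self HeA.sq x) fun r hr =>
    HeA.valid.wprod_eq_one HeA.sq hr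
      ((by decide +kernel : ∀ r ∈ HeA.rels, ∀ x ∈ r, x < 7) r hr)

/-- The action on 2058 points. -/
noncomputable def rep : He →* Equiv.Perm (Fin HeA.table.n) := Classical.choose exists_rep

theorem rep_gen : ∀ x < 7, rep (gen x) = perm x := Classical.choose_spec exists_rep

/-- The subgroup of index 2058. -/
noncomputable def H : Subgroup He := wordsClosure gen HeA.subs

theorem H_fix : ∀ h ∈ H, rep h ⟨0, HeA.covered.hn⟩ = ⟨0, HeA.covered.hn⟩ := by
  intro h hh
  suffices H ≤ (MulAction.stabilizer (Equiv.Perm (Fin HeA.table.n))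
      (⟨0, HeA.covered.hn⟩ : Fin HeA.table.n)).comap rep from this hh
  rw [H, wordsClosure, Subgroup.closure_le]
  rintro _ ⟨L, hL, rfl⟩
  have hlt := (by decide +kernel : ∀ L ∈ HeA.subs, ∀ x ∈ L, x < 7) L hL
  show rep (wprod gen L) ⟨0, HeA.covered.hn⟩ = _
  rw [map_wprod rep gen perm L fun x hx => rep_gen x (hlt x hx)]
  exact HeA.valid.wprod_fix HeA.sq hlt _
    ((by decide +kernel : ∀ L ∈ HeA.subs, HeA.table.follow L 0 = 0) L hL)

theorem index_H : H.index = 2058 ∧ ∃ e : Fin HeA.table.n ≃ He ⧸ H,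
    e ⟨0, HeA.covered.hn⟩ = ((1 : He) : He ⧸ H) ∧
    ∀ (g : He) (i : Fin HeA.table.n), g • e i = e (rep g i) :=
  HeA.covered.exact HeA.valid HeA.sq HeA.orbit0_ok HeA.base0 (by decide) (by decide) gen H gen_mul_self
    (fun r hr => pres.gen_rel r hr) (fun r hr => mem_wordsClosure gen hr) closure_gen rep rep_gen H_fix

theorem z_eq_one : wprod gen [2, 3, 2, 3, 4, 3, 2, 3, 2, 3, 4, 3, 2, 3, 4] = 1 := by
  have h := mem_of_goal (H := (⊥ : Subgroup He)) gen_mul_self (fun r hr =>
    holds_of_blocks (D := HeZ.cert) (s := gen) (H := ⊥) gen_mul_self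
      (fun r hr => pres.gen_rel r ((by decide +kernel : ∀ r ∈ HeZ.rels, r ∈ HeA.rels) r hr))
      (fun r hr => absurd hr (show r ∉ ([] : List (List ℕ)) from List.not_mem_nil))
      _ (by decide +kernel) HeZ.facts_ok r hr) HeZ.goal_ok
  exact Subgroup.mem_bot.1 h

theorem rels_subGen (emb : List ℕ) (R : List (List ℕ))
    (h : ∀ r ∈ R, (∀ x ∈ r, x < emb.length) ∧ (r.map (fun x => emb.getD x 0) ∈ HeA.rels ∨
      r.map (fun x => emb.getD x 0) = [2, 3, 2, 3, 4, 3, 2, 3, 2, 3, 4, 3, 2, 3, 4])) :
    ∀ r ∈ R, wprod (subGen gen emb) r = 1 := by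
  intro r hr
  obtain ⟨h1, h2⟩ := h r hr
  rw [wprod_subGen gen emb r h1]
  rcases h2 with h2 | h2
  · exact pres.gen_rel _ h2
  · rw [h2]; exact z_eq_one

theorem card_acdefg_le : Finite (lettersClosure gen HeC.emb) ∧
    Nat.card (lettersClosure gen HeC.emb) ≤ 80640 := by
  have h0 := card_lettersClosure_nil gen
  have h1 := HeD.covered.chain_step gen gen_mul_self HeD.emb [] rfl
    (rels_subGen _ _ (by decide +kernel)) (by decide) (by decide +kernel) h0.1 h0.2
  have h2 := HeC.covered.chain_step gen gen_mul_self HeC.emb HeD.emb rfl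
    (rels_subGen _ _ (by decide +kernel)) (by decide) (by decide +kernel) h1.1 h1.2
  exact ⟨h2.1, h2.2.trans (le_of_eq rfl)⟩

theorem card_le : Finite He ∧ Nat.card He ≤ 4030387200 := by
  obtain ⟨hfin, hc⟩ := card_acdefg_le
  have hi := HeB.covered.index_le gen (lettersClosure gen HeC.emb) gen_mul_self
    (fun r hr => pres.gen_rel r ((by decide +kernel : ∀ r ∈ HeB.rels, r ∈ HeA.rels) r hr))
    (fun r hr => mem_lettersClosure gen HeC.emb
      ((by decide +kernel : ∀ r ∈ HeB.subs, r ∈ HeC.emb.map fun x => [x]) r hr))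
    closure_gen
  exact card_le_of_index _ hfin hi hc

/-- The order of the presented Held group, and faithfulness of the action on 2058 points. -/
theorem card_eq : Nat.card He = 4030387200 ∧ Function.Injective rep :=
  card_eq_and_injective rep (by norm_num) card_le (HeA.card_range_ge gen rep rep_gen)

end CfsgLib.InvChar.SporHe
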