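import Cfsg.Agent.Lib.InvChar.ConstrainedSignalizer
import Cfsg.Agent.Lib.Comp.SFT.Main
import Cfsg.Agent.Lib.Invol.BrauerSuzuki

/-!
# Characteristic 2 type in the early sense: some centre of a 2-core is noncyclic

If every maximal 2-local had a 2-core with cyclic centre, a central involution of a Sylow 2-subgroup would
be isolated: a conjugate with largest Sylow centralizer would have to coincide with it inside a maximal
2-local over that centralizer's normalizer.
-/

set_option autoImplicit false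
set_option linter.style.haveILetI false
set_option linter.unusedSectionVars false

namespace CfsgLib.InvChar.EarlyCharTwo

open Subgroup CfsgLib.Comp

universe u

variable {G : Type u} [Group G] [Finite G]

/-- `c` is an involution in the centre of the Sylow 2-subgroup `S`. -/
def Cent (S : Sylow 2 G) (c : G) : Prop :=
  c ∈ (S : Subgroup G) ∧ orderOf c = 2 ∧ ∀ s ∈ (S : Subgroup G), s * c = c * s

theorem exists_cent (S : Sylow 2 G) (h2 : 2 ∣ Nat.card G) : ∃ z, Cent S z := by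
  haveI : Fact (Nat.Prime 2) := ⟨Nat.prime_two⟩
  haveI : Nontrivial ↥(S : Subgroup G) := (Subgroup.nontrivial_iff_ne_bot _).2 (S.ne_bot_of_dvd_card h2)
  haveI := S.2.center_nontrivial
  obtain ⟨c, hc⟩ := exists_prime_orderOf_dvd_card' (G := ↥(center ↥(S : Subgroup G))) 2
    ((S.2.to_subgroup _).card_eq_or_dvd.resolve_left Finite.one_lt_card.ne')
  refine ⟨((c : ↥(S : Subgroup G)) : G), (c : ↥(S : Subgroup G)).2, ?_, fun s hs => ?_⟩
  · rw [orderOf_coe, orderOf_coe, hc]
  · exact congrArg Subtype.val (mem_center_iff.1 c.2 ⟨s, hs⟩)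

theorem Cent.smul {S : Sylow 2 G} {c : G} (h : Cent S c) (g : G) :
    Cent (g • S) (g * c * g⁻¹) := by
  refine ⟨?_, ?_, ?_⟩
  · rw [Sylow.coe_subgroup_smul]; exact ⟨c, h.1, rfl⟩
  · exact ((MulAut.conj g).orderOf_eq c).trans h.2.1
  · intro s hs
    rw [Sylow.coe_subgroup_smul] at hs
    obtain ⟨x, hx, rfl⟩ := hs
    show g * x * g⁻¹ * (g * c * g⁻¹) = g * c * g⁻¹ * (g * x * g⁻¹)
    calc g * x * g⁻¹ * (g * c * g⁻¹) = g * (x * c) * g⁻¹ := by group
      _ = g * (c * x) * g⁻¹ := by rw [h.2.2 x hx]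
      _ = _ := by group

theorem exists_sylow_cent {R : Sylow 2 G} {c : G} (hc : Cent R c) {P : Subgroup G} (hP : IsPGroup 2 ↥P)
    (hPc : P ≤ centralizer ({c} : Set G)) :
    ∃ R' : Sylow 2 G, P ≤ (R' : Subgroup G) ∧ Cent R' c := by
  haveI : Fact (Nat.Prime 2) := ⟨Nat.prime_two⟩
  set K := centralizer ({c} : Set G) with hK
  have hRK : (R : Subgroup G) ≤ K := fun s hs => mem_centralizer_singleton_iff.2 (hc.2.2 s hs)
  obtain ⟨Q, hQ⟩ := (hP.comap_of_injective K.subtype K.subtype_injective).exists_le_sylow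
  obtain ⟨y, hy⟩ := MulAction.exists_smul_eq ↥K (R.subtype hRK) Q
  refine ⟨(y : G) • R, fun p hp => ?_, ?_⟩
  · have h1 : (⟨p, hPc hp⟩ : ↥K) ∈ (Q : Subgroup ↥K) := hQ (mem_subgroupOf.2 hp)
    rw [← hy, Sylow.coe_subgroup_smul] at h1
    obtain ⟨x, hx, hxe⟩ := h1
    rw [Sylow.coe_subgroup_smul]
    refine ⟨(x : G), ?_, congrArg Subtype.val hxe⟩
    rw [SetLike.mem_coe] at hx
    exact mem_subgroupOf.1 (by simpa using hx)
  · have h := hc.smul (y : G)
    have e : (y : G) * c * (y : G)⁻¹ = c := by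
      rw [mem_centralizer_singleton_iff.1 y.2, mul_inv_cancel_right]
    rwa [e] at h

/-- Every element of a cyclic group squaring to one is trivial or a fixed involution. -/
theorem eq_of_cyclic {H : Type*} [Group H] [Finite H] (h : IsCyclic H) {x y : H}
    (hx : orderOf x = 2) (hy : orderOf y = 2) : x = y := by
  classical
  haveI := Fintype.ofFinite H
  by_contra hne
  have hx1 : x ≠ 1 := fun e => by rw [e, orderOf_one] at hx; omega
  have hy1 : y ≠ 1 := fun e => by rw [e, orderOf_one] at hy; omega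
  have h2 := IsCyclic.card_pow_eq_one_le (α := H) (n := 2) (by norm_num)
  have hsub : ({1, x, y} : Finset H) ⊆ Finset.univ.filter (fun a : H => a ^ 2 = 1) := by
    intro a ha
    simp only [Finset.mem_insert, Finset.mem_singleton] at ha
    refine Finset.mem_filter.2 ⟨Finset.mem_univ _, ?_⟩
    rcases ha with rfl | rfl | rfl
    · exact one_pow 2
    · rw [← hx]; exact pow_orderOf_eq_one _
    · rw [← hy]; exact pow_orderOf_eq_one _
  have h3 := Finset.card_le_card hsub
  rw [Finset.card_insert_of_notMem (by simp [Ne.symm hx1, Ne.symm hy1]),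
    Finset.card_insert_of_notMem (by simpa using hne), Finset.card_singleton] at h3
  omega

/-- All cores of involution centralizers and of 2-locals vanish. -/
theorem local_centralizer_le (hcon : ConstrainedSignalizer.Constrained G)
    (hcore : ∀ t : G, orderOf t = 2 → Cfsg.centralizerPPrimeCore 2 t = ⊥)
    {T : Subgroup G} (hT : IsPGroup 2 ↥T) (hT1 : T ≠ ⊥)
    (hN : Cfsg.IsPConstrained 2 ↥(normalizer (T : Set G))) :
    centralizer (Cfsg.pCore 2 ↥(normalizer (T : Set G)) : Set ↥(normalizer (T : Set G))) ≤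
      Cfsg.pCore 2 ↥(normalizer (T : Set G)) := by
  haveI : Fact (Nat.Prime 2) := ⟨Nat.prime_two⟩
  have hcp : ∀ (K : Subgroup G), Cfsg.IsPConstrained 2 ↥K → Cfsg.pPrimeCore 2 ↥K = ⊥ →
      centralizer (Cfsg.pCore 2 ↥K : Set ↥K) ≤ Cfsg.pCore 2 ↥K := by
    intro K hK hO
    have hL := (pLayer_eq_bot_iff 2 _).1 ((isPConstrained_iff_pLayer 2 _).1 hK)
    let e : (↥K ⧸ Cfsg.pPrimeCore 2 ↥K) ≃* ↥K :=
      (QuotientGroup.quotientMulEquivOfEq hO).trans QuotientGroup.quotientBot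
    have h1 := layer_map_le_layer e.symm.toMonoidHom e.symm.surjective
    rw [hL, le_bot_iff, Subgroup.map_eq_bot_iff_of_injective (f := e.symm.toMonoidHom) _ e.symm.injective] at h1
    exact (centralizer_pCore_le_iff 2 _).2 ⟨h1, hO⟩
  refine hcp _ hN ?_
  -- an involution of the centre
  haveI : Nontrivial ↥T := (Subgroup.nontrivial_iff_ne_bot _).2 hT1
  haveI := hT.center_nontrivial
  obtain ⟨c, hc⟩ := exists_prime_orderOf_dvd_card' (G := ↥(center ↥T)) 2
    ((hT.to_subgroup _).card_eq_or_dvd.resolve_left Finite.one_lt_card.ne')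
  set z : G := ((c : ↥T) : G) with hz
  have hzo : orderOf z = 2 := by rw [hz, orderOf_coe, orderOf_coe, hc]
  have hzT : ∀ s ∈ T, s * z = z * s := fun s hs => congrArg Subtype.val (mem_center_iff.1 c.2 ⟨s, hs⟩)
  set N := normalizer (T : Set G) with hNdef
  set K := centralizer ({z} : Set G) with hKdef
  have hTK : T ≤ K := fun s hs => mem_centralizer_singleton_iff.2 (hzT s hs)
  have hTN : T ≤ N := le_normalizer
  -- the core of `N` centralizes `T`
  haveI : (T.subgroupOf N).Normal := normal_in_normalizer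
  haveI := Cfsg.pPrimeCore_normal 2 ↥N
  have hcomm : ∀ x ∈ Cfsg.pPrimeCore 2 ↥N, ∀ s ∈ T, s * (x : G) = (x : G) * s := by
    intro x hx s hs
    have hd : Disjoint (Cfsg.pPrimeCore 2 ↥N) (T.subgroupOf N) := by
      refine disjoint_iff.2 (inf_eq_bot_of_coprime ?_)
      obtain ⟨n, hn⟩ := (hT.comap_of_injective N.subtype N.subtype_injective).exists_card_eq
      rw [show T.subgroupOf N = T.comap N.subtype from rfl, hn]
      exact (coprime_card_pPrimeCore 2 ↥N).pow_right n
    exact congrArg Subtype.val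
      (Subgroup.commute_of_normal_of_disjoint _ _ inferInstance inferInstance hd x ⟨s, hTN hs⟩ hx
        (mem_subgroupOf.2 hs)).symm
  have hKeq : Cfsg.pPrimeCore 2 ↥K = ⊥ :=
    (Subgroup.map_eq_bot_iff_of_injective _ K.subtype_injective).1 (hcore z hzo)
  have hKloc := (centralizer_pCore_le_iff 2 _).1 (centralizer_pCore_normalizer_le
    (hcp K (hcon z (by rw [← pow_two, ← hzo]; exact pow_orderOf_eq_one z) (fun e => by rw [e, orderOf_one] at hzo; omega)) hKeq)
    (hT.comap_of_injective K.subtype K.subtype_injective : IsPGroup 2 ↥(T.subgroupOf K)))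
  set M := normalizer ((T.subgroupOf K : Subgroup ↥K) : Set ↥K) with hM
  let X : Subgroup ↥M := (((Cfsg.pPrimeCore 2 ↥N).map N.subtype).subgroupOf K).subgroupOf M
  have hXle : X ≤ Cfsg.pPrimeCore 2 ↥M := by
    refine le_sSup ⟨⟨fun x hx m => ?_⟩, ?_⟩
    · obtain ⟨y, hy, hyx⟩ := mem_subgroupOf.1 (mem_subgroupOf.1 hx)
      have hmN : ((m : ↥K) : G) ∈ N := by
        refine mem_normalizer_iff.2 fun s => ?_
        have hm := mem_normalizer_iff.1 m.2
        constructor
        · intro hs; exact mem_subgroupOf.1 ((hm ⟨s, hTK hs⟩).1 (mem_subgroupOf.2 hs))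
        · intro hs
          have hsK : s ∈ K := by
            have := K.mul_mem (K.mul_mem (K.inv_mem (m : ↥K).2) (hTK hs)) (m : ↥K).2
            simpa [mul_assoc] using this
          exact mem_subgroupOf.1 ((hm ⟨s, hsK⟩).2 (mem_subgroupOf.2 hs))
      refine mem_subgroupOf.2 (mem_subgroupOf.2 ⟨⟨_, hmN⟩ * y * (⟨_, hmN⟩ : ↥N)⁻¹,
        Subgroup.Normal.conj_mem inferInstance y hy _, ?_⟩)
      simp only [Subgroup.coe_subtype] at hyx
      simp [hyx]
    · refine Nat.Coprime.coprime_dvd_left ((card_comap_dvd_of_injective _ M.subtype M.subtype_injective).trans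
        ((card_comap_dvd_of_injective _ K.subtype K.subtype_injective).trans ?_)) (coprime_card_pPrimeCore 2 ↥N)
      rw [card_map_of_injective N.subtype_injective]
  replace hXle : X = ⊥ := le_bot_iff.1 (hXle.trans hKloc.2.le)
  rw [eq_bot_iff]
  intro x hx
  have hxK : (x : G) ∈ K := mem_centralizer_singleton_iff.2 (hcomm x hx z (c : ↥T).2).symm
  have hxM : (⟨_, hxK⟩ : ↥K) ∈ M := by
    refine Subgroup.centralizer_le_normalizer _ (mem_centralizer_iff.2 fun s hs => Subtype.ext ?_)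
    exact hcomm x hx s (mem_subgroupOf.1 hs)
  have : (⟨⟨_, hxK⟩, hxM⟩ : ↥M) ∈ X := mem_subgroupOf.2 (mem_subgroupOf.2 ⟨x, hx, rfl⟩)
  rw [hXle, mem_bot] at this
  exact mem_bot.2 (Subtype.ext (congrArg (fun w : ↥M => ((w : ↥K) : G)) this))

/-- Over every 2-subgroup of a maximal 2-local lies a Sylow 2-subgroup whose central involutions lie in
the centre of the 2-core of that 2-local. -/
theorem exists_sylow_center (hloc : ∀ T : Subgroup G, IsPGroup 2 ↥T → T ≠ ⊥ →
      centralizer (Cfsg.pCore 2 ↥(normalizer (T : Set G)) : Set ↥(normalizer (T : Set G))) ≤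
        Cfsg.pCore 2 ↥(normalizer (T : Set G)))
    {L : Subgroup G} (hL : Cfsg.IsTwoLocal L) {Q : Subgroup G} (hQ : IsPGroup 2 ↥Q) (hQL : Q ≤ L) :
    ∃ R : Sylow 2 G, Q ≤ (R : Subgroup G) ∧ ∀ c, Cent R c → ∃ d : ↥(center ↥(Cfsg.pCore 2 ↥L)),
      (((d : ↥(Cfsg.pCore 2 ↥L)) : ↥L) : G) = c := by
  haveI : Fact (Nat.Prime 2) := ⟨Nat.prime_two⟩
  obtain ⟨T, hT, hT1, rfl⟩ := hL
  set N := normalizer (T : Set G) with hN
  obtain ⟨U, hU⟩ := (hQ.comap_of_injective N.subtype N.subtype_injective).exists_le_sylow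
  obtain ⟨R, hR⟩ := (U.2.map N.subtype).exists_le_sylow
  refine ⟨R, fun q hq => hR ⟨⟨q, hQL hq⟩, hU (mem_subgroupOf.2 hq), rfl⟩, fun c hc => ?_⟩
  haveI : (T.subgroupOf N).Normal := normal_in_normalizer
  have hTU : T.subgroupOf N ≤ (U : Subgroup ↥N) := by
    obtain ⟨V, hV⟩ := (hT.comap_of_injective N.subtype N.subtype_injective :
      IsPGroup 2 ↥(T.subgroupOf N)).exists_le_sylow
    obtain ⟨g, rfl⟩ := MulAction.exists_smul_eq ↥N V U
    intro x hx
    rw [Sylow.coe_subgroup_smul]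
    exact ⟨g⁻¹ * x * g, hV (by simpa using Subgroup.Normal.conj_mem inferInstance x hx g⁻¹),
      by simp [MulAut.conj_apply, mul_assoc]⟩
  have hcU : ∀ s ∈ (U : Subgroup ↥N), (s : G) * c = c * (s : G) := fun s hs => hc.2.2 _ (hR ⟨s, hs, rfl⟩)
  have hcN : c ∈ N := Subgroup.centralizer_le_normalizer _ (mem_centralizer_iff.2 fun t ht =>
    hcU ⟨t, le_normalizer ht⟩ (hTU (mem_subgroupOf.2 ht)))
  haveI := Cfsg.pCore_normal 2 ↥N
  have hPU : Cfsg.pCore 2 ↥N ≤ (U : Subgroup ↥N) := by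
    obtain ⟨V, hV⟩ := (isPGroup_pCore 2 ↥N).exists_le_sylow
    obtain ⟨g, rfl⟩ := MulAction.exists_smul_eq ↥N V U
    intro x hx
    rw [Sylow.coe_subgroup_smul]
    exact ⟨g⁻¹ * x * g, hV (by simpa using Subgroup.Normal.conj_mem inferInstance x hx g⁻¹),
      by simp [MulAut.conj_apply, mul_assoc]⟩
  have hmem : (⟨c, hcN⟩ : ↥N) ∈ Cfsg.pCore 2 ↥N :=
    hloc T hT hT1 (mem_centralizer_iff.2 fun s hs => Subtype.ext (hcU s (hPU hs)))
  exact ⟨⟨⟨_, hmem⟩, mem_center_iff.2 fun s => Subtype.ext (Subtype.ext (hcU s.1 (hPU s.2)))⟩, rfl⟩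

theorem noncyclic_center [IsSimpleGroup G] (hG : ¬ IsMulCommutative G) (S : Sylow 2 G) (A : Subgroup G)
    (hA : Cfsg.IsSCN (S : Subgroup G) A) (hA3 : ¬ Cfsg.PRankLE 2 2 ↥A)
    (hinv : ∀ X : Subgroup G, Odd (Nat.card ↥X) → (S : Subgroup G) ≤ normalizer (X : Set G) → X = ⊥)
    (hcon : ∀ T : Subgroup G, IsPGroup 2 ↥T → T ≠ ⊥ → Cfsg.IsPConstrained 2 ↥(normalizer (T : Set G))) :
    ∃ M : Subgroup G, Cfsg.IsMaximalTwoLocal M ∧ ¬ IsCyclic ↥(center ↥(Cfsg.pCore 2 ↥M)) := by
  classical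
  haveI : Fact (Nat.Prime 2) := ⟨Nat.prime_two⟩
  obtain ⟨hAS, hAn, hAC⟩ := hA
  set A' : Subgroup ↥(S : Subgroup G) := A.subgroupOf (S : Subgroup G) with hA'
  have hA'n : A'.Normal := ⟨fun a ha s => mem_subgroupOf.2
    ((mem_normalizer_iff.1 (hAn s.2) (a : G)).1 (mem_subgroupOf.1 ha))⟩
  have hA'c : IsMulCommutative ↥A' := ⟨⟨fun a b => Subtype.ext (Subtype.ext (by
    have ha := mem_subgroupOf.1 a.2
    have hb := mem_subgroupOf.1 b.2
    have hb' : ((b : ↥(S : Subgroup G)) : G) ∈ centralizer (A : Set G) := (hAC.symm ▸ hb :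
      ((b : ↥(S : Subgroup G)) : G) ∈ (S : Subgroup G) ⊓ centralizer (A : Set G)).2
    exact mem_centralizer_iff.1 hb' _ ha))⟩⟩
  have hA'3 : ¬ Cfsg.PRankLE 2 2 ↥A' := by
    intro h
    refine hA3 fun E hE hE2 => ?_
    let e := (subgroupOfEquivOfLe hAS).symm
    have h1 := h (E.map e.toMonoidHom) (Subgroup.map_isMulCommutative E e.toMonoidHom) (by
      rintro _ ⟨a, ha, rfl⟩
      show e a ^ 2 = 1
      rw [← map_pow, hE2 a ha, map_one])
    rwa [card_map_of_injective (f := e.toMonoidHom) e.injective] at h1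
  -- cores of involution centralizers are trivial
  have hC := ConstrainedSignalizer.constrained_of_locals hcon
  obtain ⟨A₀, hEl, h8, hA₀S, hnorm⟩ := ConstrainedSignalizer.exists_base hA'n hA'c hA'3 S
  obtain ⟨W, hW, hWB⟩ := ConstrainedSignalizer.exists_signalizer hC
    (ConstrainedSignalizer.complete_of_signalizer hC fun E hc he h3 =>
      CfsgLib.Comp.SFT.solvable_functor_two E hc he h3) S hEl h8 hA₀S hnorm
  have hS1 : ¬ Cfsg.PRankLE 2 1 ↥(S : Subgroup G) := by
    intro h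
    have h1 := h (A₀.subgroupOf (S : Subgroup G))
      ⟨⟨fun a b => Subtype.ext (Subtype.ext (hEl.1 _ (mem_subgroupOf.1 a.2) _ (mem_subgroupOf.1 b.2)))⟩⟩
      (fun a ha => Subtype.ext (hEl.2 _ (mem_subgroupOf.1 ha)))
    rw [Nat.card_congr (subgroupOfEquivOfLe hA₀S).toEquiv] at h1
    omega
  obtain ⟨hWS, hWN⟩ := hWB (S : Subgroup G) le_rfl hS1
  have hWbot : W = ⊥ := hinv W hW (le_normalizer.trans hWN)
  have hcoreS : ∀ t ∈ (S : Subgroup G), t ≠ 1 → Cfsg.centralizerPPrimeCore 2 t = ⊥ := fun t ht ht1 =>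
    le_bot_iff.1 (hWbot ▸ hWS.symm ▸
      le_iSup (fun b : {b : G // b ∈ (S : Subgroup G) ∧ b ≠ 1} => Cfsg.centralizerPPrimeCore 2 (b : G)) ⟨t, ht, ht1⟩)
  have hcore : ∀ t : G, orderOf t = 2 → Cfsg.centralizerPPrimeCore 2 t = ⊥ := by
    intro t ht
    obtain ⟨R, hR⟩ := (IsPGroup.of_card (n := 1) (by rw [Nat.card_zpowers, ht, pow_one]) :
      IsPGroup 2 ↥(zpowers t)).exists_le_sylow
    obtain ⟨g, hg⟩ := MulAction.exists_smul_eq G S R
    have htR := hR (mem_zpowers t)
    rw [← hg, Sylow.coe_subgroup_smul] at htR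
    obtain ⟨s, hs, hst⟩ := htR
    have hst' : g * s * g⁻¹ = t := hst
    have hs1 : s ≠ 1 := fun e => by rw [e, mul_one, mul_inv_cancel] at hst'; rw [← hst', orderOf_one] at ht; omega
    have h := ConstrainedSignalizer.map_core_conj g s
    rw [hcoreS s hs hs1, Subgroup.map_bot] at h
    rw [eq_bot_iff]
    intro x hx
    have h2 := ConstrainedSignalizer.map_core_conj g⁻¹ t
    have h3 := h2 ⟨x, hx, rfl⟩
    rw [show g⁻¹ * t * g⁻¹⁻¹ = s by rw [← hst']; group, hcoreS s hs hs1, mem_bot] at h3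
    exact mem_bot.2 (conj_eq_one_iff.1 h3)
  have hloc := fun T hT hT1 => local_centralizer_le hC hcore (T := T) hT hT1 (hcon T hT hT1)
  -- suppose all centres are cyclic
  by_contra hne
  push Not at hne
  have h2G : 2 ∣ Nat.card G := by
    have h1 := card_dvd_of_le hA₀S
    have h2 : 2 ∣ Nat.card A₀ := by
      haveI : Nontrivial ↥A₀ := Finite.one_lt_card_iff_nontrivial.1 (by omega)
      exact (show IsPGroup 2 ↥A₀ from S.2.to_le hA₀S).card_eq_or_dvd.resolve_left Finite.one_lt_card.ne'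
    exact h2.trans (h1.trans (Subgroup.card_subgroup_dvd_card _))
  have hmaxle : ∀ L₀ : Subgroup G, Cfsg.IsTwoLocal L₀ → ∃ L, Cfsg.IsMaximalTwoLocal L ∧ L₀ ≤ L := by
    intro L₀ h0
    obtain ⟨L, hL, hmax⟩ := Finite.exists_le_maximal (α := Subgroup G) (p := Cfsg.IsTwoLocal) h0
    exact ⟨L, ⟨hmax.1, fun N hN hle => le_antisymm (hmax.2 hN hle) hle⟩, hL⟩
  have huniq : ∀ (R : Sylow 2 G) (c d : G), Cent R c → Cent R d → c = d := by
    intro R c d hc hd
    obtain ⟨L, hL, hle⟩ := hmaxle _ ⟨(R : Subgroup G), R.2, R.ne_bot_of_dvd_card h2G, rfl⟩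
    obtain ⟨R', hR', hctr⟩ := exists_sylow_center hloc hL.1 R.2 (le_normalizer.trans hle)
    have e : R' = R := Sylow.ext (R.3 R'.2 hR')
    subst e
    obtain ⟨c', hc'⟩ := hctr c hc
    obtain ⟨d', hd'⟩ := hctr d hd
    rw [← hc', ← hd', eq_of_cyclic (hne L hL) (x := c') (y := d') ?_ ?_]
    · rw [← orderOf_coe, ← orderOf_coe, ← orderOf_coe, hc']; exact hc.2.1
    · rw [← orderOf_coe, ← orderOf_coe, ← orderOf_coe, hd']; exact hd.2.1
  obtain ⟨z, hz⟩ := exists_cent S h2G
  have hiso : Cfsg.IsIsolatedInvolution z := by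
    refine ⟨hz.2.1, fun g₀ hg₀ => ?_⟩
    by_contra hne₀
    -- the set of bad pairs
    let Bad : Type u := {p : Sylow 2 G × G // p.2 ∈ (p.1 : Subgroup G) ∧
      ∃ c, Cent p.1 c ∧ IsConj c p.2 ∧ p.2 ≠ c}
    haveI : Finite Bad := Subtype.finite
    haveI : Nonempty Bad := by
      obtain ⟨R, hR, hRz⟩ := exists_sylow_cent hz (P := zpowers (g₀ * z * g₀⁻¹))
        (IsPGroup.of_card (n := 1) (by rw [Nat.card_zpowers, pow_one]; exact ((MulAut.conj g₀).orderOf_eq z).trans hz.2.1))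
        (zpowers_le.2 (mem_centralizer_singleton_iff.2 hg₀.eq.symm))
      exact ⟨⟨(R, g₀ * z * g₀⁻¹), hR (mem_zpowers _), z, hRz, isConj_iff.2 ⟨g₀, rfl⟩, hne₀⟩⟩
    obtain ⟨⟨⟨R, t⟩, htR, c, hc, hconj, htc⟩, hmax⟩ := Finite.exists_max
      (fun p : Bad => Nat.card ↥((p.1.1 : Subgroup G) ⊓ centralizer ({p.1.2} : Set G)))
    set P : Subgroup G := (R : Subgroup G) ⊓ centralizer ({t} : Set G) with hP
    change t ∈ (R : Subgroup G) at htR
    change t ≠ c at htc
    obtain ⟨g, hg⟩ := isConj_iff.1 hconj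
    change g * c * g⁻¹ = t at hg
    have htP : t ∈ P := ⟨htR, mem_centralizer_singleton_iff.2 rfl⟩
    have hcP : c ∈ P := ⟨hc.1, mem_centralizer_singleton_iff.2 (hc.2.2 t htR).symm⟩
    have hto : orderOf t = 2 := by rw [← hg]; exact ((MulAut.conj g).orderOf_eq c).trans hc.2.1
    have hPlt : Nat.card ↥P < Nat.card ↥(R : Subgroup G) := by
      refine lt_of_le_of_ne (card_le_of_le inf_le_left) fun e => htc (huniq R t c ⟨htR, hto, fun s hs => ?_⟩ hc)
      have hs' : s ∈ P := (eq_of_le_of_card_ge (inf_le_left : P ≤ (R : Subgroup G)) e.ge).symm.le hs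
      exact mem_centralizer_singleton_iff.1 hs'.2
    have hP1 : P ≠ ⊥ := fun e => by
      have := e ▸ htP
      rw [mem_bot] at this
      rw [this, orderOf_one] at hto; omega
    obtain ⟨L, hL, hle⟩ := hmaxle _ ⟨P, R.2.to_le inf_le_left, hP1, rfl⟩
    -- both central involutions lie in the centre of the 2-core of `L`
    have key : ∀ (R' : Sylow 2 G) (d : G), Cent R' d → P ≤ (R' : Subgroup G) → d ∈ P →
        ∃ d' : ↥(center ↥(Cfsg.pCore 2 ↥L)), (((d' : ↥(Cfsg.pCore 2 ↥L)) : ↥L) : G) = d := by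
      intro R' d hd hPR' hdP
      set Q : Subgroup G := (R' : Subgroup G) ⊓ normalizer (P : Set G) with hQ
      have hPQ : P < Q := by
        haveI : Group.IsNilpotent ↥(R' : Subgroup G) := R'.2.isNilpotent
        have hlt : P.subgroupOf (R' : Subgroup G) < ⊤ := by
          refine lt_top_iff_ne_top.2 fun e => ?_
          have h1 : (R' : Subgroup G) ≤ P := subgroupOf_eq_top.1 e
          exact absurd (card_le_of_le h1) (not_le.2 (by rw [R'.card_eq_multiplicity, ← R.card_eq_multiplicity]; exact hPlt))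
        have hnc := Group.normalizerCondition_of_isNilpotent (P.subgroupOf (R' : Subgroup G)) hlt
        refine lt_of_le_of_ne (le_inf hPR' le_normalizer) fun e => ?_
        obtain ⟨x, hx, hxn⟩ := SetLike.exists_of_lt hnc
        refine hxn (mem_subgroupOf.2 (e.symm.le ⟨x.2, mem_normalizer_iff.2 fun s => ⟨fun hs => ?_, fun hs => ?_⟩⟩))
        · exact mem_subgroupOf.1 ((mem_normalizer_iff.1 hx ⟨s, hPR' hs⟩).1 (mem_subgroupOf.2 hs))
        · have hsR : s ∈ (R' : Subgroup G) := by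
            have := mul_mem (mul_mem (inv_mem x.2) (hPR' hs)) x.2
            simpa [mul_assoc] using this
          exact mem_subgroupOf.1 ((mem_normalizer_iff.1 hx ⟨s, hsR⟩).2 (mem_subgroupOf.2 hs))
      obtain ⟨R'', hQR, hctr⟩ := exists_sylow_center hloc hL.1 (R'.2.to_le inf_le_left)
        (inf_le_right.trans hle : Q ≤ L)
      obtain ⟨w, hw⟩ := exists_cent R'' h2G
      by_cases hwd : w = d
      · exact hctr d (hwd ▸ hw)
      · exfalso
        obtain ⟨y, hy⟩ := MulAction.exists_smul_eq G R' R''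
        have hw' : w = y * d * y⁻¹ := huniq R'' _ _ hw (hy ▸ hd.smul y)
        have := hmax ⟨(R'', d), hQR (hPQ.le hdP), w, hw, isConj_iff.2 ⟨y⁻¹, by rw [hw']; group⟩, fun e => hwd e.symm⟩
        have h2 : Nat.card ↥Q ≤ Nat.card ↥((R'' : Subgroup G) ⊓ centralizer ({d} : Set G)) :=
          card_le_of_le (le_inf hQR fun q hq => mem_centralizer_singleton_iff.2 (hd.2.2 q hq.1))
        have h3 : Nat.card ↥P < Nat.card ↥Q := by
          refine lt_of_le_of_ne (card_le_of_le hPQ.le) fun e => hPQ.ne (eq_of_le_of_card_ge hPQ.le e.ge)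
        exact absurd (lt_of_lt_of_le h3 h2) (not_lt.2 this)
    obtain ⟨c', hc'⟩ := key R c hc inf_le_left hcP
    obtain ⟨R₁, hPR₁, hR₁⟩ := exists_sylow_cent (hg ▸ hc.smul g : Cent (g • R) t)
      (R.2.to_le (inf_le_left : P ≤ (R : Subgroup G))) inf_le_right
    obtain ⟨t', ht'⟩ := key R₁ t hR₁ hPR₁ htP
    refine htc ?_
    rw [← hc', ← ht', eq_of_cyclic (hne L hL) (x := t') (y := c') ?_ ?_]
    · rw [← orderOf_coe, ← orderOf_coe, ← orderOf_coe, ht']; exact hto
    · rw [← orderOf_coe, ← orderOf_coe, ← orderOf_coe, hc']; exact hc.2.1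
  -- Z*
  have hOne : Cfsg.oddCore G = ⊥ := by
    haveI : (Cfsg.oddCore G).Normal := Cfsg.pPrimeCore_normal 2 G
    rcases IsSimpleGroup.eq_bot_or_eq_top_of_normal (Cfsg.oddCore G) inferInstance with h | h
    · exact h
    · exfalso
      have h1 := CfsgLib.Invol.odd_card_oddCore G
      rw [h, Subgroup.card_top] at h1
      exact (Nat.not_even_iff_odd.2 h1) (even_iff_two_dvd.2 h2G)
  have hzc : z ∈ center G := mem_center_iff.2 fun g => by
    have h := CfsgLib.Invol.zstar G hiso g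
    rw [hOne, mem_bot, mul_inv_eq_one, mul_inv_eq_iff_eq_mul] at h
    exact h.symm
  rcases IsSimpleGroup.eq_bot_or_eq_top_of_normal (center G) inferInstance with h | h
  · rw [h, mem_bot] at hzc
    have := hz.2.1
    rw [hzc, orderOf_one] at this
    omega
  · exact hG ⟨⟨fun a b => mem_center_iff.1 (h ▸ mem_top b) a⟩⟩

end CfsgLib.InvChar.EarlyCharTwo
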