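import Cfsg.Agent.Lib.InvChar.BSWPSL
import Cfsg.Agent.Lib.Invol.DihedralFusion

/-!
Dihedral Sylow two-subgroup and an inverted signalizer-like core: the Brauer-Suzuki-Wall situation.
-/

set_option autoImplicit false
set_option linter.unusedSectionVars false

namespace CfsgLib.InvChar.BSW

open Subgroup CfsgLib.Invol

/-- A central involution can be taken as the distinguished one. -/
theorem exists_dihData_central {S : Type*} [Group S] (D : DihData S) (t : S) (ht : orderOf t = 2)
    (hc : ∀ u : S, u * t = t * u) : ∃ D' : DihData S, D'.z = t := by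
  rcases D.invol_cases ht with h | ⟨i, hi⟩
  · exact ⟨D, h.symm⟩
  · have h1 := hc (D.r ^ (1 : ℤ))
    rw [hi, D.zy_mul_z, ← mul_assoc, ← zpow_add, mul_left_inj, D.zpow_eq_iff] at h1
    have hh : D.h = 1 := by
      have := D.h_pos
      have h2 : (2 * (D.h : ℤ)) ∣ 2 := by
        have h3 := h1
        rw [show i - 1 - (1 + i) = -2 by ring, Int.dvd_neg] at h3
        exact h3
      have := Int.le_of_dvd (by norm_num) h2
      omega
    have hz : D.z = D.r := by
      show D.r ^ (D.h : ℤ) = D.r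
      rw [hh]; exact zpow_one _
    have hne : t ≠ D.z := fun e => D.ne_zpow i 1 (by rw [← hi, e, hz, zpow_one])
    have hzz : D.z * D.z = 1 := invol_mul_self D.orderOf_z
    have htt : t * t = 1 := invol_mul_self ht
    have hrot : ∀ j : ℤ, D.r ^ j = 1 ∨ D.r ^ j = D.z := by
      intro j
      rcases Int.even_or_odd' j with ⟨k, rfl | rfl⟩
      · exact Or.inl (D.zpow_eq_one_iff.2 ⟨k, by rw [hh]; push_cast; ring⟩)
      · refine Or.inr ?_
        rw [hz, zpow_add, zpow_one, D.zpow_eq_one_iff.2 ⟨k, by rw [hh]; push_cast; ring⟩, one_mul]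
    refine ⟨⟨1, t, D.z, Nat.one_pos, ⟨0, rfl⟩, by rw [ht], D.orderOf_z, ?_, ?_, ?_, ?_⟩,
      zpow_one t⟩
    · rw [(D.commute_z t).eq, mul_inv_cancel_right]
      exact (invol_inv ht).symm
    · intro hm
      obtain ⟨j, hj⟩ := mem_zpowers_iff.1 hm
      rcases Int.even_or_odd' j with ⟨k, rfl | rfl⟩
      · rw [zpow_mul, show t ^ (2 : ℤ) = 1 by rw [zpow_two]; exact htt, one_zpow] at hj
        exact invol_ne_one D.orderOf_z hj.symm
      · rw [zpow_add, zpow_one, zpow_mul, show t ^ (2 : ℤ) = 1 by rw [zpow_two]; exact htt, one_zpow,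
          one_mul] at hj
        exact hne hj
    · intro u
      rcases D.cases u with ⟨j, rfl⟩ | ⟨j, rfl⟩
      · rcases hrot j with e | e
        · exact Or.inl ⟨0, by rw [e, zpow_zero]⟩
        · exact Or.inr ⟨0, by rw [e, zpow_zero, one_mul]⟩
      · have hs : D.r ^ j * D.s = D.r ^ (j - i) * t := by
          rw [hi, ← mul_assoc, ← zpow_add, sub_add_cancel]
        rcases hrot (j - i) with e | e
        · exact Or.inl ⟨1, by rw [hs, e, one_mul, zpow_one]⟩
        · exact Or.inr ⟨1, by rw [hs, e, zpow_one, (D.commute_z t).eq]⟩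
    · rw [D.card_eq, hh]

theorem isCyclic_rot {X : Type*} [Group X] [Finite X] (S : Sylow 2 X) (D : DihData (S : Subgroup X)) :
    IsCyclic ((zpowers D.r).map (S : Subgroup X).subtype : Subgroup X) := by
  rw [MonoidHom.map_zpowers]
  infer_instance

universe u

variable {G : Type u} [Group G] [Finite G]

theorem psl_of_dihedral [IsSimpleGroup G] (S : Sylow 2 G) (n : ℕ) (hn : 2 ≤ n)
    (hS : Nonempty ((S : Subgroup G) ≃* DihedralGroup n)) (t : G) (ht : orderOf t = 2)
    (htS : t ∈ (S : Subgroup G)) (htZ : ∀ s ∈ (S : Subgroup G), s * t = t * s) (O : Subgroup G)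
    (hO : O = (Cfsg.oddCore (Subgroup.centralizer ({t} : Set G))).map
      (Subgroup.centralizer ({t} : Set G)).subtype)
    (ha : O ≠ ⊥ → IsCyclic ((S : Subgroup G) ⊓ Subgroup.centralizer (O : Set G) : Subgroup G) ∧
      ((S : Subgroup G) ⊓ Subgroup.centralizer (O : Set G)).relIndex (S : Subgroup G) = 2)
    (hb : ∀ s ∈ (S : Subgroup G), s ∉ Subgroup.centralizer (O : Set G) → ∀ y ∈ O, s * y * s⁻¹ = y⁻¹)
    (hc : ∀ Y : Subgroup G, Y ≤ O → Y ≠ ⊥ →
      Subgroup.normalizer (Y : Set G) ≤ Subgroup.centralizer ({t} : Set G)) :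
    ∃ (F : Type) (_ : Field F) (_ : Fintype F), Odd (Fintype.card F) ∧
      Nonempty (G ≃* Matrix.ProjectiveSpecialLinearGroup (Fin 2) F) := by
  classical
  haveI : Fact (Nat.Prime 2) := ⟨Nat.prime_two⟩
  obtain ⟨eS⟩ := hS
  have hna : ¬ IsMulCommutative G := fun hcomm => by
    have hcard : Nat.card (S : Subgroup G) = 2 * n := by
      rw [Nat.card_congr eS.toEquiv, DihedralGroup.nat_card]
    letI : CommGroup G := { mul_comm := fun a b => hcomm.is_comm.comm a b }
    have hp : (Nat.card G).Prime := IsSimpleGroup.prime_card (α := G)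
    have h1 : 2 * n ∣ Nat.card G := hcard ▸ card_subgroup_dvd_card _
    rcases (Nat.dvd_prime hp).1 h1 with h2 | h2
    · omega
    · rw [← h2] at hp
      rcases hp.eq_one_or_self_of_dvd 2 (dvd_mul_right 2 n) with h3 | h3 <;> omega
  obtain ⟨D₀⟩ := exists_dihData S.2 hn eS
  obtain ⟨D, hDz⟩ := exists_dihData_central D₀ ⟨t, htS⟩ (by rw [← Subgroup.orderOf_coe]; exact ht)
    fun u => Subtype.ext (htZ u u.2)
  obtain ⟨r, hr⟩ : ∃ r : G, r = (D.r : (S : Subgroup G)) := ⟨_, rfl⟩
  obtain ⟨s, hs⟩ : ∃ s : G, s = (D.s : (S : Subgroup G)) := ⟨_, rfl⟩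
  obtain ⟨C, hC⟩ : ∃ C, C = Subgroup.centralizer ({t} : Set G) := ⟨_, rfl⟩
  have hSC : (S : Subgroup G) ≤ C := hC ▸ fun x hx => mem_centralizer_singleton_iff.2 (htZ x hx)
  have hOC : O ≤ C := hC ▸ hO ▸ map_subtype_le _
  have hOodd : Odd (Nat.card O) := by
    rw [hO, card_map_of_injective (subtype_injective _)]
    exact Nat.coprime_two_right.1 (CfsgLib.Solvable.pPrimeCore_coprime 2)
  have hOnormal : ∀ x ∈ C, ∀ y ∈ O, x * y * x⁻¹ ∈ O := by
    rw [hC, hO]
    rintro x hx _ ⟨y, hy, rfl⟩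
    exact ⟨⟨x, hx⟩ * y * ⟨x, hx⟩⁻¹, (CfsgLib.Solvable.pPrimeCore_normal 2 _).conj_mem _ hy _, rfl⟩
  have hOinv : ∀ y ∈ O, y * y = 1 → y = 1 := fun y hy h => orderOf_eq_one_iff.1
    (Nat.eq_one_of_dvd_coprimes (Nat.coprime_two_left.2 hOodd)
      (orderOf_dvd_of_pow_eq_one ((pow_two y).trans h)) (Subgroup.orderOf_dvd_natCard _ hy))
  have hOS : ∀ y ∈ O, y ∈ (S : Subgroup G) → y = 1 := fun y hy hyS => by
    obtain ⟨k, hk⟩ := S.2 ⟨y, hyS⟩
    exact orderOf_eq_one_iff.1 (Nat.eq_one_of_dvd_coprimes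
      ((Nat.coprime_two_left.2 hOodd).pow_left k)
      (orderOf_dvd_of_pow_eq_one (congrArg Subtype.val hk :)) (Subgroup.orderOf_dvd_natCard _ hy))
  have hrS : r ∈ (S : Subgroup G) := hr ▸ SetLike.coe_mem _
  have hsS : s ∈ (S : Subgroup G) := hs ▸ SetLike.coe_mem _
  have hs2 : orderOf s = 2 := by rw [hs, Subgroup.orderOf_coe, D.orderOf_s]
  have hsr : s * r * s⁻¹ = r⁻¹ := by rw [hs, hr]; exact congrArg Subtype.val D.conj_r
  have hzr : r ^ (D.h : ℤ) = t := by
    rw [hr, ← SubgroupClass.coe_zpow]; exact congrArg Subtype.val hDz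
  -- the centralizer has a normal two-complement
  have hsplit : ∀ x ∈ C, ∃ y ∈ O, ∃ p ∈ (S : Subgroup G), x = y * p := by
    let S' : Sylow 2 C := S.subtype hSC
    let e : (S' : Subgroup C) ≃* (S : Subgroup G) := Subgroup.subgroupOfEquivOfLe hSC
    let D' : DihData (S' : Subgroup C) :=
      { h := D.h
        r := e.symm D.r
        s := e.symm D.s
        h_pos := D.h_pos
        h_pow := D.h_pow
        orderOf_r := by rw [MulEquiv.orderOf_eq, D.orderOf_r]
        orderOf_s := by rw [MulEquiv.orderOf_eq, D.orderOf_s]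
        conj_r := by rw [← map_mul, ← map_inv, ← map_mul, D.conj_r, map_inv]
        s_notMem := fun h => D.s_notMem (by
          obtain ⟨i, hi⟩ := mem_zpowers_iff.1 h
          rw [← map_zpow] at hi
          exact mem_zpowers_iff.2 ⟨i, e.symm.injective hi⟩)
        cases := fun u => by
          rcases D.cases (e u) with ⟨i, hi⟩ | ⟨i, hi⟩
          · exact Or.inl ⟨i, by rw [← map_zpow, ← hi, MulEquiv.symm_apply_apply]⟩
          · exact Or.inr ⟨i, by rw [← map_zpow, ← map_mul, ← hi, MulEquiv.symm_apply_apply]⟩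
        card_eq := by rw [Nat.card_congr e.toEquiv, D.card_eq] }
    have hz' : ∀ j : ℤ, ¬ IsConj (dz S' D') (dt S' D' j) := by
      intro j hj
      obtain ⟨g, hg⟩ := isConj_iff.1 hj
      have hg' : (g : G) * t * (g : G)⁻¹ = t := by
        rw [mem_centralizer_singleton_iff.1 (hC.le g.2), mul_inv_cancel_right]
      have hzt : ((dz S' D' : C) : G) = t := by
        show (((e.symm D.r) ^ (D.h : ℤ) : (S' : Subgroup C)) : G) = t
        rw [← map_zpow]
        exact congrArg Subtype.val hDz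
      have h2 : ((dt S' D' j : C) : G) = t := by
        rw [← congrArg Subtype.val hg]
        show (g : G) * ((dz S' D' : C) : G) * (g : G)⁻¹ = t
        rw [hzt, hg']
      refine D'.ne_zpow j D'.h (Subtype.ext (Subtype.ext ?_))
      exact h2.trans hzt.symm
    have hcompl := hasNormalPComplement_of_cyclic_focal S' _
      (isCyclic_rot S' D') (residual_le_rot S' D' (hz' 0) (hz' 1))
    obtain ⟨N, hN, hNc⟩ := (CfsgLib.Transfer.hasNormalPComplement_iff_exists_isComplement' S').1 hcompl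
    have hNO : N.map C.subtype ≤ O := by
      subst hC
      rw [hO]
      refine map_mono (CfsgLib.Solvable.le_pPrimeCore hN ?_)
      rw [← hNc.index_eq_card]
      exact (Nat.Prime.coprime_iff_not_dvd Nat.prime_two).2 S'.not_dvd_index |>.symm
    intro x hx
    obtain ⟨k, hk, p, hp, he⟩ := mem_sup_of_normal_left.1
      ((hNc.sup_eq_top ▸ mem_top _) : (⟨x, hx⟩ : C) ∈ N ⊔ (S' : Subgroup C))
    exact ⟨k, hNO ⟨k, hk, rfl⟩, p, hp, (congrArg Subtype.val he).symm⟩
  -- the rotations centralise `O`, and `s` inverts it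
  have hSform : ∀ p ∈ (S : Subgroup G), (∃ i : ℤ, p = r ^ i) ∨ ∃ i : ℤ, p = r ^ i * s := by
    intro p hp
    rcases D.cases ⟨p, hp⟩ with ⟨i, hi⟩ | ⟨i, hi⟩
    · exact Or.inl ⟨i, by rw [hr, ← SubgroupClass.coe_zpow]; exact congrArg Subtype.val hi⟩
    · exact Or.inr ⟨i, by rw [hr, hs, ← SubgroupClass.coe_zpow]; exact congrArg Subtype.val hi⟩
  have hrefl : ∀ i : ℤ, orderOf (r ^ i * s) = 2 := fun i => by
    rw [hr, hs, ← SubgroupClass.coe_zpow, ← coe_mul, Subgroup.orderOf_coe, D.orderOf_zy]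
  have hOr : ∀ y ∈ O, r * y = y * r ∧ s * y * s⁻¹ = y⁻¹ := by
    by_cases hO1 : O = ⊥
    · intro y hy
      rw [hO1, mem_bot] at hy
      simp [hy]
    obtain ⟨hcyc, hidx⟩ := ha hO1
    obtain ⟨K0, hK0⟩ : ∃ K0, K0 = (S : Subgroup G) ⊓ Subgroup.centralizer (O : Set G) := ⟨_, rfl⟩
    rw [← hK0] at hcyc hidx
    have hK0S : K0 ≤ (S : Subgroup G) := hK0 ▸ inf_le_left
    have hK0c : Nat.card K0 = 2 * D.h := by
      have h1 := (K0.subgroupOf (S : Subgroup G)).card_mul_index
      rw [Nat.card_congr (subgroupOfEquivOfLe hK0S).toEquiv, D.card_eq,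
        show (K0.subgroupOf (S : Subgroup G)).index = 2 from hidx] at h1
      omega
    have htK0 : t ∈ K0 := hK0 ▸ ⟨htS, mem_centralizer_iff.2 fun y hy =>
      mem_centralizer_singleton_iff.1 (hO.le.trans (map_subtype_le _) hy)⟩
    obtain ⟨g, hg⟩ := hcyc.exists_generator
    have hgo : orderOf (g : G) = 2 * D.h := by
      rw [Subgroup.orderOf_coe, orderOf_eq_card_of_forall_mem_zpowers hg, hK0c]
    have hrK0 : r ∈ K0 := by
      have hrot : ∀ j : ℤ, r ^ j ∈ zpowers r := fun j => zpow_mem (mem_zpowers r) j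
      have hgr : zpowers (g : G) ≤ zpowers r := by
        rcases hSform g (hK0S g.2) with ⟨i, hi⟩ | ⟨i, hi⟩
        · exact zpowers_le.2 (hi ▸ hrot i)
        · -- a reflection: the order is two, so the subgroup is generated by `t`
          obtain ⟨k, hk⟩ := mem_zpowers_iff.1 (hg ⟨t, htK0⟩)
          have hk' : (g : G) ^ k = t := by rw [← SubgroupClass.coe_zpow, hk]
          have hg2 : (g : G) * (g : G) = 1 := invol_mul_self (hi ▸ hrefl i)
          rcases Int.even_or_odd' k with ⟨l, rfl | rfl⟩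
          · rw [zpow_mul, zpow_two, hg2, one_zpow] at hk'
            exact absurd hk'.symm (invol_ne_one ht)
          · rw [zpow_add, zpow_one, zpow_mul, zpow_two, hg2, one_zpow, one_mul] at hk'
            exact zpowers_le.2 (hk' ▸ hzr ▸ hrot _)
      have heq : zpowers (g : G) = zpowers r := eq_of_le_of_card_ge hgr (by
        rw [Nat.card_zpowers, Nat.card_zpowers, hgo, hr, Subgroup.orderOf_coe, D.orderOf_r])
      exact zpowers_le.2 g.2 (heq.ge (mem_zpowers r))
    intro y hy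
    have hrc := mem_centralizer_iff.1 (hK0.le hrK0).2
    refine ⟨(hrc y hy).symm, hb s hsS (fun hsc => ?_) y hy⟩
    have hle : (S : Subgroup G) ≤ K0 := by
      intro p hp
      rw [hK0]
      refine ⟨hp, ?_⟩
      have hrC : r ∈ Subgroup.centralizer (O : Set G) := (hK0.le hrK0).2
      rcases hSform p hp with ⟨i, rfl⟩ | ⟨i, rfl⟩
      · exact zpow_mem hrC i
      · exact mul_mem (zpow_mem hrC i) hsc
    have h2 := Subgroup.card_le_of_le hle
    rw [D.card_eq, hK0c] at h2
    have := D.h_pos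
    omega
  have hrz : ∀ y ∈ O, ∀ i : ℤ, Commute (r ^ i) y := fun y hy i => by
    have h1 : Commute r y := (hOr y hy).1
    exact h1.zpow_left i
  have hOab : ∀ x ∈ O, ∀ y ∈ O, x * y = y * x := fun x hx y hy => by
    have h1 := (hOr _ (mul_mem hx hy)).2
    rw [show s * (x * y) * s⁻¹ = (s * x * s⁻¹) * (s * y * s⁻¹) by group, (hOr x hx).2, (hOr y hy).2,
      mul_inv_rev] at h1
    exact inv_injective (by rw [mul_inv_rev, mul_inv_rev]; exact h1.symm)
  let K : Subgroup G :=
    { carrier := {x | ∃ y ∈ O, ∃ i : ℤ, x = y * r ^ i}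
      one_mem' := ⟨1, one_mem O, 0, by rw [zpow_zero, mul_one]⟩
      mul_mem' := by
        rintro _ _ ⟨a, ha', i, rfl⟩ ⟨b, hb', j, rfl⟩
        refine ⟨a * b, mul_mem ha' hb', i + j, ?_⟩
        rw [zpow_add, show a * r ^ i * (b * r ^ j) = a * (r ^ i * b) * r ^ j by group, (hrz b hb' i).eq]
        group
      inv_mem' := by
        rintro _ ⟨a, ha', i, rfl⟩
        refine ⟨a⁻¹, inv_mem ha', -i, ?_⟩
        rw [mul_inv_rev, ← zpow_neg, (hrz _ (inv_mem ha') (-i)).eq] }
  have hKab : ∀ x ∈ K, ∀ y ∈ K, x * y = y * x := by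
    rintro _ ⟨a, ha', i, rfl⟩ _ ⟨b, hb', j, rfl⟩
    exact (((show Commute a b from hOab a ha' b hb').mul_right (hrz a ha' j).symm).mul_left
      ((hrz b hb' i).mul_right (Commute.zpow_zpow (Commute.refl r) i j))).eq
  have hinv : ∀ x ∈ K, s * x * s⁻¹ = x⁻¹ := by
    rintro _ ⟨a, ha', i, rfl⟩
    rw [show s * (a * r ^ i) * s⁻¹ = (s * a * s⁻¹) * (s * r ^ i * s⁻¹) by group, (hOr a ha').2,
      ← conj_zpow, hsr, inv_zpow', mul_inv_rev, ← zpow_neg, (hrz _ (inv_mem ha') (-i)).eq]
  have htK : t ∈ K := ⟨1, one_mem O, D.h, by rw [one_mul, hzr]⟩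
  have hKC : K ≤ C := by
    rintro _ ⟨a, ha', i, rfl⟩
    exact mul_mem (hOC ha') (zpow_mem (hSC hrS) i)
  have hsK : s ∉ K := by
    rintro ⟨a, ha', i, he⟩
    have ha1 : a = 1 := hOS a ha' (by
      rw [show a = s * (r ^ i)⁻¹ by rw [he, mul_inv_cancel_right]]
      exact mul_mem hsS (inv_mem (zpow_mem hrS i)))
    rw [ha1, one_mul, hr, hs, ← SubgroupClass.coe_zpow] at he
    exact D.s_notMem (mem_zpowers_iff.2 ⟨i, (Subtype.ext he).symm⟩)
  have hKinv : ∀ x ∈ K, x * x = 1 → x = 1 ∨ x = t := by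
    rintro _ ⟨a, ha', i, rfl⟩ h
    have h1 : a * a * (r ^ i * r ^ i) = 1 := by
      rw [← h, show a * r ^ i * (a * r ^ i) = a * (r ^ i * a) * r ^ i by group, (hrz a ha' i).eq]
      group
    have ha1 : a = 1 := hOinv a ha' (hOS _ (mul_mem ha' ha') (by
      rw [eq_inv_of_mul_eq_one_left h1]
      exact inv_mem (mul_mem (zpow_mem hrS i) (zpow_mem hrS i))))
    rw [ha1, one_mul] at h ⊢
    by_cases h2 : r ^ i = 1
    · exact Or.inl h2
    · refine Or.inr ?_
      have ho : orderOf (D.r ^ i) = 2 := by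
        rw [← Subgroup.orderOf_coe, SubgroupClass.coe_zpow, ← hr]
        exact invol_of_mul_self h h2
      rw [hr, ← SubgroupClass.coe_zpow, D.eq_z_of_zpow ho]
      exact congrArg Subtype.val hDz
  have hCK : ∀ x ∈ C, x ∈ K ∨ ∃ k ∈ K, x = k * s := by
    intro x hx
    obtain ⟨y, hy, p, hp, rfl⟩ := hsplit x hx
    rcases hSform p hp with ⟨i, rfl⟩ | ⟨i, rfl⟩
    · exact Or.inl ⟨y, hy, i, rfl⟩
    · exact Or.inr ⟨y * r ^ i, ⟨y, hy, i, rfl⟩, by rw [mul_assoc]⟩
  -- trivial intersections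
  have hTI : ∀ g : G, g ∉ C → K ⊓ K.map (MulAut.conj g).toMonoidHom = ⊥ := by
    intro g hg
    rw [eq_bot_iff]
    rintro x ⟨hxK, hxg⟩
    rw [mem_bot]
    by_contra hx1
    obtain ⟨k0, hk0, hk0x⟩ := hxg
    have hk0x' : g * k0 * g⁻¹ = x := hk0x
    apply hg
    rw [hC, mem_centralizer_singleton_iff]
    suffices h : g * t * g⁻¹ = t from mul_inv_eq_iff_eq_mul.1 h
    obtain ⟨a, ha', i, hxai⟩ := hxK
    have hcomm : Commute x (g * t * g⁻¹) := by
      rw [← hk0x']
      show g * k0 * g⁻¹ * (g * t * g⁻¹) = g * t * g⁻¹ * (g * k0 * g⁻¹)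
      rw [show g * k0 * g⁻¹ * (g * t * g⁻¹) = g * (k0 * t) * g⁻¹ by group, hKab k0 hk0 t htK]
      group
    by_cases hri : r ^ i = 1
    · -- the odd part
      rw [hri, mul_one] at hxai
      have hu : g * t * g⁻¹ ∈ C := hC ▸ hc (zpowers x) (zpowers_le.2 (hxai ▸ ha'))
        (fun e => hx1 (zpowers_eq_bot.1 e)) (centralizer_le_normalizer _ (mem_centralizer_iff.2 fun y hy => by
          obtain ⟨m, rfl⟩ := mem_zpowers_iff.1 hy
          exact (hcomm.zpow_left m).eq))
      rcases hCK _ hu with hu' | ⟨k, hk, hke⟩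
      · refine (hKinv _ hu' ?_).resolve_left (fun e => invol_ne_one ht (conj_eq_one_iff.1 e))
        rw [← invol_mul_self ht]
        rw [show g * t * g⁻¹ * (g * t * g⁻¹) = g * (t * t) * g⁻¹ by group, invol_mul_self ht]
        group
      · exfalso
        have hxK' : x ∈ K := ⟨a, ha', 0, by rw [zpow_zero, mul_one, hxai]⟩
        have h1 : x⁻¹ = x := by
          calc x⁻¹ = k * (s * x * s⁻¹) * k⁻¹ := by
                rw [hinv x hxK', hKab k hk _ (inv_mem hxK'), mul_inv_cancel_right]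
            _ = (k * s) * x * (k * s)⁻¹ := by group
            _ = x := by rw [← hke, hcomm.symm.eq, mul_inv_cancel_right]
        exact hx1 (hxai ▸ hOinv a ha' (by
          have h2 := mul_inv_cancel x
          rwa [h1, hxai] at h2))
    · -- a power of `x` is the central involution
      obtain ⟨m, hm⟩ : ∃ m : ℕ, x ^ m = t := by
        have hxc : x ^ Nat.card O = (r ^ i) ^ Nat.card O := by
          rw [hxai, (hrz a ha' i).symm.mul_pow, ← SubgroupClass.coe_pow (x := (⟨a, ha'⟩ : O)),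
            pow_card_eq_one', coe_one, one_mul]
        obtain ⟨k, hk⟩ := S.2 ⟨r ^ i, zpow_mem hrS i⟩
        have hk' : (r ^ i) ^ 2 ^ k = 1 := congrArg Subtype.val hk
        have hne : (r ^ i) ^ Nat.card O ≠ 1 := fun e => hri (orderOf_eq_one_iff.1
          (Nat.eq_one_of_dvd_coprimes ((Nat.coprime_two_left.2 hOodd).pow_left k)
            (orderOf_dvd_of_pow_eq_one hk') (orderOf_dvd_of_pow_eq_one e)))
        have hex : ∃ j, ((r ^ i) ^ Nat.card O) ^ 2 ^ j = 1 := ⟨k, by
          rw [← pow_mul, mul_comm, pow_mul, hk', one_pow]⟩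
        obtain ⟨j, hj, hjmin⟩ : ∃ j, ((r ^ i) ^ Nat.card O) ^ 2 ^ j = 1 ∧
            ∀ l < j, ((r ^ i) ^ Nat.card O) ^ 2 ^ l ≠ 1 :=
          ⟨Nat.find hex, Nat.find_spec hex, fun l hl => Nat.find_min hex hl⟩
        rcases j with _ | j
        · rw [pow_zero, pow_one] at hj
          exact absurd hj hne
        · refine ⟨Nat.card O * 2 ^ j, ?_⟩
          rw [pow_mul, hxc]
          have hriK : r ^ i ∈ K := ⟨1, one_mem O, i, by rw [one_mul]⟩
          refine (hKinv _ ?_ ?_).resolve_left (hjmin j (by omega))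
          · exact pow_mem (pow_mem hriK _) _
          · rw [← pow_add, ← two_mul, ← pow_succ']
            exact hj
      have h1 : g * k0 ^ m * g⁻¹ = t := by rw [← conj_pow, hk0x', hm]
      have h2 : k0 ^ m = t := by
        refine (hKinv _ (pow_mem hk0 m) ?_).resolve_left fun e => ?_
        · refine (conj_eq_one_iff (a := g)).1 ?_
          rw [show g * (k0 ^ m * k0 ^ m) * g⁻¹ = (g * k0 ^ m * g⁻¹) * (g * k0 ^ m * g⁻¹) by group, h1,
            invol_mul_self ht]
        · rw [e, mul_one, mul_inv_cancel] at h1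
          exact invol_ne_one ht h1.symm
      rwa [h2] at h1
  have hno : ∀ H : Subgroup G, H.index ≠ 2 := fun H hH => by
    haveI := normal_of_index_eq_two hH
    rcases (inferInstance : H.Normal).eq_bot_or_eq_top with h | h
    · rw [h, index_bot] at hH
      have h1 := card_subgroup_dvd_card (S : Subgroup G)
      rw [Nat.card_congr eS.toEquiv, DihedralGroup.nat_card, hH] at h1
      have := Nat.le_of_dvd (by norm_num) h1
      omega
    · rw [h, index_top] at hH
      omega
  haveI : Fintype G := Fintype.ofFinite G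
  have hsetup : Setup t K s :=
    { ht := ht
      hcomm := hKab
      hKH := hC ▸ hKC
      htK := htK
      hs := hs2
      hsH := hC ▸ hSC hsS
      hsK := hsK
      hH := by
        rw [← hC]
        refine le_antisymm (sup_le hKC (zpowers_le.2 (hSC hsS))) fun x hx => ?_
        rcases hCK x hx with hxK | ⟨k, hk, rfl⟩
        · exact mem_sup_left hxK
        · exact mul_mem_sup hk (mem_zpowers s)
      hCK := by
        refine le_antisymm (fun x hx => ?_) (zpowers_le.2 ⟨htK, mem_centralizer_singleton_iff.2 (htZ s hsS).symm⟩)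
        have h1 := mem_centralizer_singleton_iff.1 hx.2
        have h2 := hinv x hx.1
        rw [← h1, mul_inv_cancel_right] at h2
        rcases hKinv x hx.1 (by nth_rewrite 2 [h2]; exact mul_inv_cancel x) with rfl | rfl
        exacts [one_mem _, mem_zpowers _]
      hinv := hinv
      hTI := fun g hg => hTI g (hC ▸ hg)
      hconj := fun x y hx hy => one_class_of_no_index_two S D hno x y hx hy }
  obtain ⟨F, iF, iFF, hodd, -, hiso⟩ := Conclusion.exists_psl hna hsetup.main
  exact ⟨F, iF, iFF, hodd, hiso⟩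

end CfsgLib.InvChar.BSW
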