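import Cfsg.Agent.S0631
import Cfsg.Agent.Lib.Comp.PConstrainedNormal

/-!
`p`-constraint of locals: transport, and passage from `C(T)` to `N(T)`.
-/

namespace CfsgLib.InvChar

open Subgroup CfsgLib.Comp

variable {p : ℕ} [Fact p.Prime]

theorem isPConstrained_congr {A B : Type*} [Group A] [Finite A] [Group B] [Finite B] (e : A ≃* B)
    (h : Cfsg.IsPConstrained p A) : Cfsg.IsPConstrained p B := by
  rw [isPConstrained_iff_pLayer, pLayer_eq_bot_iff] at h ⊢
  haveI := Cfsg.pPrimeCore_normal p A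
  haveI := Cfsg.pPrimeCore_normal p B
  have heq : (Cfsg.pPrimeCore p A).map e.toMonoidHom = Cfsg.pPrimeCore p B :=
    CfsgLib.Solvable.map_pPrimeCore_equiv e p
  have h1 := layer_map_le_layer (QuotientGroup.congr _ _ e heq).toMonoidHom
    (QuotientGroup.congr _ _ e heq).surjective
  have h2 := layer_map_le_layer (QuotientGroup.congr _ _ e heq).symm.toMonoidHom
    (QuotientGroup.congr _ _ e heq).symm.surjective
  rw [h, le_bot_iff] at h2
  exact (map_eq_bot_iff_of_injective _ (QuotientGroup.congr _ _ e heq).symm.injective).1 h2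

variable {G : Type*} [Group G] [Finite G]

/-- If the centralizer of a normal `p`-subgroup is `p`-constrained, so is the group. -/
theorem isPConstrained_of_centralizer {T : Subgroup G} [T.Normal] (hT : IsPGroup p T)
    (h : Cfsg.IsPConstrained p ↥(centralizer (T : Set G))) : Cfsg.IsPConstrained p G := by
  haveI := Cfsg.pPrimeCore_normal p G
  set q := QuotientGroup.mk' (Cfsg.pPrimeCore p G) with hqdef
  have hq : Function.Surjective q := QuotientGroup.mk'_surjective _
  have hTb : T.map q ≤ Cfsg.pCore p (G ⧸ Cfsg.pPrimeCore p G) :=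
    le_sSup ⟨Subgroup.Normal.map inferInstance q hq, hT.map q⟩
  set K := centralizer (T : Set G) with hKdef
  haveI : K.Normal := by rw [hKdef]; infer_instance
  haveI := Cfsg.pPrimeCore_normal p ↥K
  haveI := CfsgLib.Solvable.pPrimeCore_characteristic p ↥K
  -- the core of `K`
  have hOK : (Cfsg.pPrimeCore p ↥K).map K.subtype ≤ Cfsg.pPrimeCore p G :=
    CfsgLib.Solvable.map_pPrimeCore_le p K
  set r : ↥K →* G ⧸ Cfsg.pPrimeCore p G := q.comp K.subtype with hrdef
  have hker : r.ker = Cfsg.pPrimeCore p ↥K := by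
    refine le_antisymm (le_sSup ⟨inferInstance, ?_⟩) fun x hx =>
      (QuotientGroup.eq_one_iff (x : G)).2 (hOK (mem_map_of_mem _ hx))
    have hsub : r.ker.map K.subtype ≤ Cfsg.pPrimeCore p G := by
      rintro _ ⟨x, hx, rfl⟩
      exact (QuotientGroup.eq_one_iff (x : G)).1 hx
    rw [← card_map_of_injective K.subtype_injective]
    exact Nat.Coprime.coprime_dvd_left (card_dvd_of_le hsub) (coprime_card_pPrimeCore p G)
  rw [isPConstrained_iff] at h ⊢
  intro g hg
  have hgK : g ∈ K.map q := by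
    rw [hKdef, hqdef, map_centralizer_eq (coprime_card_pPrimeCore p G) hT]
    exact centralizer_le hTb hg
  obtain ⟨k, hk, rfl⟩ := hgK
  let ρ : ↥K ⧸ Cfsg.pPrimeCore p ↥K →* G ⧸ Cfsg.pPrimeCore p G :=
    QuotientGroup.lift _ r hker.ge
  have hρ : Function.Injective ρ := by
    rw [injective_iff_map_eq_one]
    intro x
    obtain ⟨x, rfl⟩ := QuotientGroup.mk_surjective x
    exact fun hx => (QuotientGroup.eq_one_iff x).2 (hker.le hx)
  -- the image of `O_p(K / O_{p'}(K))` is a normal `p`-subgroup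
  have himg : (Cfsg.pCore p (↥K ⧸ Cfsg.pPrimeCore p ↥K)).map ρ ≤ Cfsg.pCore p (G ⧸ Cfsg.pPrimeCore p G) := by
    refine le_sSup ⟨⟨?_⟩, (CfsgLib.Solvable.pCore_isPGroup p).map ρ⟩
    rintro _ ⟨x, hx, rfl⟩ b
    obtain ⟨y, rfl⟩ := hq b
    let c : ↥K ≃* ↥K := MulAut.conjNormal y
    have hc : (Cfsg.pPrimeCore p ↥K).map c.toMonoidHom = Cfsg.pPrimeCore p ↥K :=
      CfsgLib.Solvable.map_pPrimeCore_equiv c p
    let cb := QuotientGroup.congr _ _ c hc
    have hcb : cb x ∈ Cfsg.pCore p (↥K ⧸ Cfsg.pPrimeCore p ↥K) :=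
      (CfsgLib.Solvable.map_pCore_equiv cb p).le (mem_map_of_mem _ hx)
    refine ⟨cb x, hcb, ?_⟩
    obtain ⟨x, rfl⟩ := QuotientGroup.mk_surjective x
    show q ((c x : ↥K) : G) = q y * q ((x : ↥K) : G) * (q y)⁻¹
    rw [← map_inv, ← map_mul, ← map_mul]
    simp [c, MulAut.conjNormal_apply]
  have hmem : (QuotientGroup.mk ⟨k, hk⟩ : ↥K ⧸ Cfsg.pPrimeCore p ↥K) ∈
      centralizer (Cfsg.pCore p (↥K ⧸ Cfsg.pPrimeCore p ↥K) : Set (↥K ⧸ Cfsg.pPrimeCore p ↥K)) := by
    intro x hx
    apply hρ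
    rw [map_mul, map_mul]
    exact hg _ (himg (mem_map_of_mem ρ hx))
  exact himg (mem_map_of_mem ρ (h hmem))

end CfsgLib.InvChar
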