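import Cfsg.Agent.Lib.Comp.ConstrainedBalance
import Cfsg.Agent.Lib.Comp.PConstrained
import Cfsg.Agent.Lib.InvChar.ConstrainedLocal
import Cfsg.Agent.Lib.Coprime.Generation
import Cfsg.Agent.S0205

/-!
# The signalizer of a group with constrained 2-locals

If all 2-locals are 2-constrained and a normal elementary abelian subgroup of order at least 8 sits in
a Sylow 2-subgroup, the cores of the involution centralizers generate one subgroup for every noncyclic
2-subgroup, assuming completeness of solvable signalizer functors.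
-/

set_option autoImplicit false

namespace CfsgLib.InvChar.ConstrainedSignalizer

open Subgroup CfsgLib.Comp

variable {G : Type*} [Group G] [Finite G]

/-- The subgroup generated by the cores of the centralizers of the nontrivial elements. -/
def coreJoin (B : Subgroup G) : Subgroup G :=
  ⨆ b : {b : G // b ∈ B ∧ b ≠ 1}, Cfsg.centralizerPPrimeCore 2 (b : G)

theorem coreJoin_mono {B C : Subgroup G} (h : B ≤ C) : coreJoin B ≤ coreJoin C :=
  iSup_le fun b => le_iSup (fun b : {b : G // b ∈ C ∧ b ≠ 1} => Cfsg.centralizerPPrimeCore 2 (b : G))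
    ⟨b.1, h b.2.1, b.2.2⟩

/-- The completeness hypothesis: the cores on an elementary abelian subgroup of rank at least 3. -/
def Complete (G : Type*) [Group G] : Prop :=
  ∀ E : Subgroup G, (∀ a ∈ E, ∀ b ∈ E, a * b = b * a) → (∀ a ∈ E, a ^ 2 = 1) → 8 ≤ Nat.card E →
    ¬ 2 ∣ Nat.card ↥(coreJoin E) ∧ ∀ a ∈ E, a ≠ 1 →
      coreJoin E ⊓ centralizer ({a} : Set G) = Cfsg.centralizerPPrimeCore 2 a

/-- All involution centralizers are 2-constrained. -/
def Constrained (G : Type*) [Group G] : Prop :=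
  ∀ t : G, t * t = 1 → t ≠ 1 → Cfsg.IsPConstrained 2 ↥(centralizer ({t} : Set G))

theorem constrained_of_locals
    (h : ∀ T : Subgroup G, IsPGroup 2 T → T ≠ ⊥ → Cfsg.IsPConstrained 2 ↥(normalizer (T : Set G))) :
    Constrained G := by
  intro t ht ht1
  haveI : Fact (Nat.Prime 2) := ⟨Nat.prime_two⟩
  have ho : orderOf t = 2 := orderOf_eq_prime (by rw [pow_two, ht]) ht1
  have hmem : ∀ y ∈ zpowers t, y = 1 ∨ y = t := by
    rintro y ⟨n, rfl⟩
    show t ^ n = 1 ∨ t ^ n = t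
    rcases Int.even_or_odd n with ⟨j, rfl⟩ | ⟨j, rfl⟩
    · exact Or.inl (by rw [← two_mul, zpow_mul, zpow_two, ht, one_zpow])
    · exact Or.inr (by rw [zpow_add_one, zpow_mul, zpow_two, ht, one_zpow, one_mul])
  have heq : normalizer ((zpowers t : Subgroup G) : Set G) = centralizer ({t} : Set G) := by
    ext g
    rw [mem_centralizer_singleton_iff]
    constructor
    · intro hg
      rcases hmem _ ((mem_normalizer_iff.1 hg t).1 (mem_zpowers t)) with e | e
      · exact absurd (conj_eq_one_iff.1 e) ht1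
      · exact mul_inv_eq_iff_eq_mul.1 e
    · intro hg
      exact Subgroup.centralizer_le_normalizer _ (mem_centralizer_iff.2 fun y hy => by
        obtain ⟨n, rfl⟩ := mem_zpowers_iff.1 hy
        exact ((show Commute t g from hg.symm).zpow_left n).eq)
  refine isPConstrained_congr (MulEquiv.subgroupCongr heq) (h _ ?_ ?_)
  · exact IsPGroup.of_card (n := 1) (by rw [Nat.card_zpowers, ho, pow_one])
  · exact fun e => ht1 (zpowers_eq_bot.1 e)

/-- Balance. -/
theorem balance (h : Constrained G) {a b : G} (hb : b * b = 1) (hb1 : b ≠ 1) (hab : a * b = b * a)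
    (ha : ∃ k : ℕ, a ^ 2 ^ k = 1) :
    Cfsg.centralizerPPrimeCore 2 a ⊓ centralizer ({b} : Set G) ≤ Cfsg.centralizerPPrimeCore 2 b := by
  haveI : Fact (Nat.Prime 2) := ⟨Nat.prime_two⟩
  obtain ⟨k, hk⟩ := ha
  refine centralizerPPrimeCore_inf_centralizer_le ((isPConstrained_iff 2 _).1 (h b hb hb1))
    (mem_centralizer_singleton_iff.2 hab) ?_
  obtain ⟨j, -, hj⟩ := (Nat.dvd_prime_pow Nat.prime_two).1 (orderOf_dvd_of_pow_eq_one hk)
  exact CfsgLib.Comp.isPGroup_zpowers_of_orderOf hj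

theorem odd_core (a : G) : Odd (Nat.card ↥(Cfsg.centralizerPPrimeCore 2 a)) := by
  haveI : Fact (Nat.Prime 2) := ⟨Nat.prime_two⟩
  exact Nat.coprime_two_right.1 (coprime_card_centralizerPPrimeCore a)

theorem le_normalizer_core {a b : G} (h : a * b = b * a) :
    b ∈ normalizer ((Cfsg.centralizerPPrimeCore 2 a : Subgroup G) : Set G) := by
  haveI : Fact (Nat.Prime 2) := ⟨Nat.prime_two⟩
  exact centralizer_le_normalizer_centralizerPPrimeCore a (mem_centralizer_singleton_iff.2 h.symm)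

/-- Completeness follows from the solvable signalizer functor theorem. -/
theorem complete_of_signalizer (h : Constrained G)
    (hsft : ∀ (E : Subgroup G), (∀ a ∈ E, ∀ b ∈ E, a * b = b * a) → (∀ a ∈ E, a ^ 2 = 1) →
      2 ^ 3 ≤ Nat.card E → ∀ θ : G → Subgroup G,
      (∀ a ∈ E, a ≠ 1 → θ a ≤ centralizer {a}) → (∀ a ∈ E, a ≠ 1 → ¬ 2 ∣ Nat.card (θ a)) →
      (∀ a ∈ E, a ≠ 1 → ∀ b ∈ E, ∀ x ∈ θ a, b * x * b⁻¹ ∈ θ a) →
      (∀ a ∈ E, a ≠ 1 → Group.IsSolvable (θ a)) →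
      (∀ a ∈ E, a ≠ 1 → ∀ b ∈ E, b ≠ 1 → θ a ⊓ centralizer {b} ≤ θ b) →
      ¬ 2 ∣ Nat.card ↥(⨆ a : {a : G // a ∈ E ∧ a ≠ 1}, θ a) ∧
        ∀ a ∈ E, a ≠ 1 → (⨆ b : {a : G // a ∈ E ∧ a ≠ 1}, θ b) ⊓ centralizer {a} = θ a) :
    Complete G := by
  haveI : Fact (Nat.Prime 2) := ⟨Nat.prime_two⟩
  intro E hc he h8
  refine hsft E hc he (by norm_num; exact h8) (Cfsg.centralizerPPrimeCore 2)
    (fun a _ _ => centralizerPPrimeCore_le a) (fun a _ _ => ?_) (fun a ha _ b hb x hx => ?_)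
    (fun a _ _ => Cfsg.Agent.S0205.result (odd_core a)) (fun a ha _ b hb hb1 => ?_)
  · exact fun h2 => (Nat.not_even_iff_odd.2 (odd_core a)) (even_iff_two_dvd.2 h2)
  · exact (mem_normalizer_iff.1 (le_normalizer_core (hc a ha b hb)) x).1 hx
  · exact balance h (by rw [← pow_two]; exact he b hb) hb1 (hc a ha b hb) ⟨1, by rw [pow_one]; exact he a ha⟩

/-- Elementary abelian: commuting elements squaring to one. -/
def El (E : Subgroup G) : Prop := (∀ a ∈ E, ∀ b ∈ E, a * b = b * a) ∧ ∀ a ∈ E, a ^ 2 = 1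

theorem el_closure {s : Set G} (hc : ∀ a ∈ s, ∀ b ∈ s, a * b = b * a) (h2 : ∀ a ∈ s, a ^ 2 = 1) :
    El (closure s) := by
  haveI h : IsMulCommutative (closure s) :=
    isMulCommutative_closure fun a ha b hb => hc a ha b hb
  refine ⟨fun a ha b hb => congrArg Subtype.val (h.is_comm.comm ⟨a, ha⟩ ⟨b, hb⟩), fun a ha => ?_⟩
  induction ha using closure_induction with
  | mem v hv => exact h2 v hv
  | one => exact one_pow 2
  | mul x y hx hy ihx ihy =>
    have hxy : Commute x y := congrArg Subtype.val (h.is_comm.comm ⟨x, hx⟩ ⟨y, hy⟩)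
    rw [hxy.mul_pow, ihx, ihy, one_mul]
  | inv x _ ih => rw [inv_pow, ih, inv_one]

/-- Five distinct elements force order at least 8. -/
theorem eight_le {E : Subgroup G} (hE : El E) {x y w : G} (hx : x ∈ E) (hy : y ∈ E) (hw : w ∈ E)
    (hx1 : x ≠ 1) (hy1 : y ≠ 1) (hxy : x ≠ y) (hw1 : w ≠ 1) (hwx : w ≠ x) (hwy : w ≠ y) (hwxy : w ≠ x * y) :
    8 ≤ Nat.card E := by
  classical
  haveI : Fact (Nat.Prime 2) := ⟨Nat.prime_two⟩
  haveI := Fintype.ofFinite ↥E
  obtain ⟨n, hn⟩ := IsPGroup.iff_card.1 (show IsPGroup 2 E from fun a => ⟨1, Subtype.ext (by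
    rw [pow_one]; exact hE.2 a a.2)⟩)
  have hxy1 : x * y ≠ 1 := fun e => hxy (by
    have h2 := hE.2 y hy
    rw [pow_two] at h2
    exact mul_right_cancel (e.trans h2.symm))
  have hxyx : x * y ≠ x := fun e => hy1 (mul_eq_left.1 e)
  have hxyy : x * y ≠ y := fun e => hx1 (mul_eq_right.1 e)
  have h5 : 5 ≤ Nat.card E := by
    let f : Fin 5 → ↥E := ![1, ⟨x, hx⟩, ⟨y, hy⟩, ⟨w, hw⟩, ⟨x * y, E.mul_mem hx hy⟩]
    have hf : Function.Injective f := by
      intro i j hij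
      fin_cases i <;> fin_cases j <;>
        first | rfl | (exfalso; simp [f, Subtype.ext_iff] at hij <;>
          first | exact hx1 hij | exact hx1 hij.symm | exact hy1 hij | exact hy1 hij.symm |
            exact hw1 hij | exact hw1 hij.symm | exact hxy hij | exact hxy hij.symm |
            exact hwx hij | exact hwx hij.symm | exact hwy hij | exact hwy hij.symm |
            exact hwxy hij | exact hwxy hij.symm | exact hxy1 hij | exact hxy1 hij.symm |
            exact hxyx hij | exact hxyx hij.symm | exact hxyy hij | exact hxyy hij.symm)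
    simpa [Nat.card_eq_fintype_card] using Fintype.card_le_of_injective f hf
  rw [hn] at h5 ⊢
  rcases Nat.lt_or_ge n 3 with h | h
  · interval_cases n <;> omega
  · exact le_trans (by norm_num) (Nat.pow_le_pow_right (by norm_num) h)

theorem not_isCyclic_of_two {V : Subgroup G} (hV : El V) {x y : G} (hx : x ∈ V) (hy : y ∈ V)
    (hx1 : x ≠ 1) (hy1 : y ≠ 1) (hxy : x ≠ y) : ¬ IsCyclic ↥V := by
  rintro ⟨⟨a, ha⟩, hgen⟩
  have hpow : ∀ z : ↥V, (z : G) = 1 ∨ (z : G) = a := fun z => by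
    obtain ⟨i, hi⟩ := mem_zpowers_iff.1 (hgen z)
    have hi' : (z : G) = a ^ i := by rw [← hi]; rfl
    have ha2 : a ^ (2 : ℤ) = 1 := by exact_mod_cast hV.2 a ha
    rcases Int.even_or_odd i with ⟨j, rfl⟩ | ⟨j, rfl⟩
    · left; rw [hi', ← two_mul, zpow_mul, ha2, one_zpow]
    · right; rw [hi', zpow_add_one, zpow_mul, ha2, one_zpow, one_mul]
  rcases hpow ⟨x, hx⟩ with h | h
  · exact hx1 h
  rcases hpow ⟨y, hy⟩ with h' | h'
  · exact hy1 h'
  exact hxy (h.trans h'.symm)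

/-- A noncyclic subgroup of an elementary abelian subgroup of rank at least 3 has the same join. -/
theorem coreJoin_eq_of_le (hG : Complete G) {V E : Subgroup G} (hE : El E) (h8 : 8 ≤ Nat.card E)
    (hVE : V ≤ E) (hnc : ¬ IsCyclic ↥V) : coreJoin V = coreJoin E := by
  obtain ⟨hodd, hmeet⟩ := hG E hE.1 hE.2 h8
  refine le_antisymm (coreJoin_mono hVE) ?_
  haveI : IsMulCommutative V := ⟨⟨fun a b => Subtype.ext (hE.1 a (hVE a.2) b (hVE b.2))⟩⟩
  have hnorm : V ≤ normalizer ((coreJoin E : Subgroup G) : Set G) := by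
    intro v hv
    refine le_normalizer_sSup_aux v ?_
    intro a
    exact le_normalizer_core (hE.1 a.1 a.2.1 v (hVE hv))
  have hV2 : IsPGroup 2 V := fun a => ⟨1, Subtype.ext (by rw [pow_one]; exact hE.2 a (hVE a.2))⟩
  have hgen := CfsgLib.Coprime.iSup_centralizer_eq (A := V) (G := coreJoin E) inferInstance hnc hnorm (by
    obtain ⟨n, hn⟩ := hV2.exists_card_eq
    rw [hn]
    exact Nat.Coprime.pow_left _ (Nat.prime_two.coprime_iff_not_dvd.2 hodd))
  refine hgen.symm.le.trans (iSup_le ?_)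
  rintro ⟨v, hv, hv1⟩
  rw [hmeet v (hVE hv) hv1]
  exact le_iSup (fun b : {b : G // b ∈ V ∧ b ≠ 1} => Cfsg.centralizerPPrimeCore 2 (b : G)) ⟨v, hv, hv1⟩
where
  le_normalizer_sSup_aux {ι : Type _} {f : ι → Subgroup G} (v : G)
      (h : ∀ i, v ∈ normalizer (f i : Set G)) : v ∈ normalizer ((⨆ i, f i : Subgroup G) : Set G) := by
    rw [← CfsgLib.Comp.map_conj_eq_iff, Subgroup.map_iSup]
    exact iSup_congr fun i => CfsgLib.Comp.map_conj_eq_iff.2 (h i)

theorem coreJoin_eq_of_common (hG : Complete G) {E F : Subgroup G} (hE : El E) (hE8 : 8 ≤ Nat.card E)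
    (hF : El F) (hF8 : 8 ≤ Nat.card F) {x y : G} (hxE : x ∈ E) (hxF : x ∈ F) (hyE : y ∈ E) (hyF : y ∈ F)
    (hx1 : x ≠ 1) (hy1 : y ≠ 1) (hxy : x ≠ y) : coreJoin E = coreJoin F := by
  have hV : El (E ⊓ F) := ⟨fun a ha b hb => hE.1 a ha.1 b hb.1, fun a ha => hE.2 a ha.1⟩
  have hnc := not_isCyclic_of_two hV (x := x) (y := y) ⟨hxE, hxF⟩ ⟨hyE, hyF⟩ hx1 hy1 hxy
  rw [← coreJoin_eq_of_le hG hE hE8 inf_le_left hnc, coreJoin_eq_of_le hG hF hF8 inf_le_right hnc]

section Sylow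

variable {S A₀ : Subgroup G} (hA : El A₀) (hA8 : 8 ≤ Nat.card A₀)
  (hAn : ∀ s ∈ S, ∀ a ∈ A₀, s * a * s⁻¹ ∈ A₀)

include hA hA8 hAn in
/-- An involution of `S` has a second fixed point in `A₀`. -/
theorem exists_fixed {e z : G} (he : e ∈ S) (he2 : e * e = 1) :
    ∃ w ∈ A₀, w ≠ 1 ∧ w ≠ z ∧ e * w = w * e := by
  classical
  let φ : ↥A₀ →* ↥A₀ := MonoidHom.mk' (fun a => a * ⟨e * a * e⁻¹, hAn e he a a.2⟩) fun a b => by
    refine Subtype.ext ?_
    show ((a : G) * b) * (e * ((a : G) * b) * e⁻¹) = (a : G) * (e * a * e⁻¹) * ((b : G) * (e * b * e⁻¹))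
    have h1 := hA.1 _ b.2 _ (hAn e he a a.2)
    calc ((a : G) * b) * (e * ((a : G) * b) * e⁻¹) = (a : G) * (b * (e * a * e⁻¹)) * (e * b * e⁻¹) := by group
      _ = (a : G) * ((e * a * e⁻¹) * b) * (e * b * e⁻¹) := by rw [h1]
      _ = _ := by group
  let C : Subgroup ↥A₀ := (centralizer ({e} : Set G)).subgroupOf A₀
  have hei : e⁻¹ = e := inv_eq_of_mul_eq_one_right he2
  have hker : φ.ker ≤ C := by
    intro a ha
    have h : (a : G) * (e * a * e⁻¹) = 1 := congrArg Subtype.val (MonoidHom.mem_ker.1 ha)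
    have h2 : (a : G) * a = 1 := by rw [← pow_two]; exact hA.2 a a.2
    refine mem_subgroupOf.2 (mem_centralizer_singleton_iff.2 ?_)
    exact (mul_inv_eq_iff_eq_mul.1 (mul_left_cancel (h.trans h2.symm))).symm
  have hrange : φ.range ≤ C := by
    rintro _ ⟨a, rfl⟩
    refine mem_subgroupOf.2 (mem_centralizer_singleton_iff.2 ?_)
    show (a : G) * (e * a * e⁻¹) * e = e * ((a : G) * (e * a * e⁻¹))
    rw [hA.1 _ a.2 _ (hAn e he a a.2), hei]
    calc e * (a : G) * e * a * e = e * ((a : G) * (e * a * e)) := by group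
      _ = e * ((e * a * e) * a) := by
          rw [hA.1 _ a.2 (e * a * e) (by simpa [hei] using hAn e he a a.2)]
  have hcard : 8 ≤ Nat.card C * Nat.card C := by
    have h := φ.ker.card_mul_index
    rw [Subgroup.index_ker] at h
    calc 8 ≤ Nat.card ↥A₀ := hA8
      _ = Nat.card φ.ker * Nat.card φ.range := h.symm
      _ ≤ _ := Nat.mul_le_mul (card_le_of_le hker) (card_le_of_le hrange)
  have h3 : 3 ≤ Nat.card C := by
    by_contra h
    have := Nat.mul_le_mul (show Nat.card C ≤ 2 by omega) (show Nat.card C ≤ 2 by omega)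
    omega
  haveI := Fintype.ofFinite ↥C
  rw [Nat.card_eq_fintype_card] at h3
  obtain ⟨w, hw⟩ : ∃ w : ↥C, ((w : ↥A₀) : G) ≠ 1 ∧ ((w : ↥A₀) : G) ≠ z := by
    by_contra hne
    push Not at hne
    let f : ↥C → Bool := fun w => decide (((w : ↥A₀) : G) = 1)
    have hf : Function.Injective f := by
      intro a b hab
      simp only [f, decide_eq_decide] at hab
      refine Subtype.ext (Subtype.ext ?_)
      by_cases h : ((a : ↥A₀) : G) = 1
      · rw [h, hab.1 h]
      · exact (hne a h).trans (hne b fun e => h (hab.2 e)).symm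
    have := Fintype.card_le_of_injective f hf
    simp at this
    omega
  exact ⟨_, (w : ↥A₀).2, hw.1, hw.2, (mem_centralizer_singleton_iff.1 (mem_subgroupOf.1 w.2)).symm⟩

include hA hA8 hAn in
/-- All elementary abelian subgroups of rank at least 3 of `S` have one join. -/
theorem coreJoin_eq_base (hG : Complete G) {z : G} (hzA : z ∈ A₀) (hz1 : z ≠ 1)
    (hzc : ∀ s ∈ S, s * z = z * s) {E : Subgroup G} (hE : El E) (hE8 : 8 ≤ Nat.card E) (hES : E ≤ S) :
    coreJoin E = coreJoin A₀ := by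
  have hz2 : z ^ 2 = 1 := hA.2 z hzA
  have hF : El (closure (insert z (E : Set G))) := by
    refine el_closure ?_ ?_
    · rintro a (rfl | ha) b (rfl | hb)
      · rfl
      · exact (hzc b (hES hb)).symm
      · exact hzc a (hES ha)
      · exact hE.1 a ha b hb
    · rintro a (rfl | ha)
      exacts [hz2, hE.2 a ha]
  set F := closure (insert z (E : Set G)) with hFdef
  have hEF : E ≤ F := fun a ha => subset_closure (Or.inr ha)
  have hzF : z ∈ F := subset_closure (Or.inl rfl)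
  have hF8 : 8 ≤ Nat.card F := hE8.trans (card_le_of_le hEF)
  obtain ⟨e, heE, he1, hez⟩ : ∃ e ∈ E, e ≠ 1 ∧ e ≠ z := by
    by_contra h
    push Not at h
    have hle : E ≤ zpowers z := fun a ha => by
      by_cases ha1 : a = 1
      · rw [ha1]; exact one_mem _
      · rw [h a ha ha1]; exact mem_zpowers z
    have := hE8.trans (card_le_of_le hle)
    rw [Nat.card_zpowers, orderOf_eq_prime (p := 2) hz2 hz1] at this
    omega
  obtain ⟨u, huE, hu1, hue⟩ : ∃ u ∈ E, u ≠ 1 ∧ u ≠ e := by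
    by_contra h
    push Not at h
    have hle : E ≤ zpowers e := fun a ha => by
      by_cases ha1 : a = 1
      · rw [ha1]; exact one_mem _
      · rw [h a ha ha1]; exact mem_zpowers e
    have := hE8.trans (card_le_of_le hle)
    rw [Nat.card_zpowers, orderOf_eq_prime (p := 2) (hE.2 e heE) he1] at this
    omega
  rw [coreJoin_eq_of_common hG hE hE8 hF hF8 heE (hEF heE) huE (hEF huE) he1 hu1 hue.symm]
  by_cases heA : e ∈ A₀
  · exact coreJoin_eq_of_common hG hF hF8 hA hA8 hzF hzA (hEF heE) heA hz1 he1 hez.symm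
  have he2 : e * e = 1 := by rw [← pow_two]; exact hE.2 e heE
  obtain ⟨w, hwA, hw1, hwz, hew⟩ := exists_fixed hA hA8 hAn (z := z) (hES heE) he2
  have hwe : w ≠ e := fun h => heA (h ▸ hwA)
  have hwze : w ≠ z * e := fun h => heA (by
    have h' := A₀.mul_mem (A₀.inv_mem hzA) (h ▸ hwA : z * e ∈ A₀)
    rwa [inv_mul_cancel_left] at h')
  have hF2 : El (closure {z, e, w}) := by
    refine el_closure ?_ ?_
    · rintro a (rfl | rfl | rfl) b (rfl | rfl | rfl)
      exacts [rfl, (hzc _ (hES heE)).symm, hA.1 _ hzA _ hwA, hzc _ (hES heE), rfl, hew,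
        hA.1 _ hwA _ hzA, hew.symm, rfl]
    · rintro a (rfl | rfl | rfl)
      exacts [hz2, hE.2 _ heE, hA.2 _ hwA]
  have hm : ∀ a ∈ ({z, e, w} : Set G), a ∈ closure ({z, e, w} : Set G) := fun a ha => subset_closure ha
  have h8 := eight_le hF2 (hm z (by simp)) (hm e (by simp)) (hm w (by simp)) hz1 he1 hez.symm hw1 hwz hwe hwze
  rw [coreJoin_eq_of_common hG hF hF8 hF2 h8 hzF (hm z (by simp)) (hEF heE) (hm e (by simp)) hz1 he1 hez.symm]
  exact coreJoin_eq_of_common hG hF2 h8 hA hA8 (hm z (by simp)) hzA (hm w (by simp)) hwA hz1 hw1 hwz.symm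

include hA hA8 hAn in
/-- Two commuting involutions of `S` lie in an elementary abelian subgroup of rank at least 3. -/
theorem exists_big (hAS : A₀ ≤ S) {z : G} (hzA : z ∈ A₀) (hz1 : z ≠ 1) (hzc : ∀ s ∈ S, s * z = z * s)
    {x y : G} (hx : x ∈ S) (hy : y ∈ S) (hx2 : x ^ 2 = 1) (hy2 : y ^ 2 = 1) (hxy : x * y = y * x)
    (hx1 : x ≠ 1) (hy1 : y ≠ 1) (hne : x ≠ y) :
    ∃ E, El E ∧ 8 ≤ Nat.card E ∧ E ≤ S ∧ x ∈ E ∧ y ∈ E := by
  have hbig : ∀ w : G, w ∈ S → w ^ 2 = 1 → w ≠ 1 → w * x = x * w → w * y = y * w → w ≠ x → w ≠ y →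
      w ≠ x * y → ∃ E, El E ∧ 8 ≤ Nat.card E ∧ E ≤ S ∧ x ∈ E ∧ y ∈ E := by
    intro w hwS hw2 hw1 hwx hwy h1 h2 h3
    have hE : El (closure {x, y, w}) := by
      refine el_closure ?_ ?_
      · rintro a (rfl | rfl | rfl) b (rfl | rfl | rfl)
        exacts [rfl, hxy, hwx.symm, hxy.symm, rfl, hwy.symm, hwx, hwy, rfl]
      · rintro a (rfl | rfl | rfl)
        exacts [hx2, hy2, hw2]
    have hm : ∀ a ∈ ({x, y, w} : Set G), a ∈ closure ({x, y, w} : Set G) := fun a ha => subset_closure ha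
    refine ⟨_, hE, eight_le hE (hm x (by simp)) (hm y (by simp)) (hm w (by simp)) hx1 hy1 hne hw1 h1 h2 h3,
      (closure_le S).2 ?_, hm x (by simp), hm y (by simp)⟩
    rintro a (rfl | rfl | rfl) <;> assumption
  by_cases hzin : z = x ∨ z = y ∨ z = x * y
  swap
  · push Not at hzin
    exact hbig z (hAS hzA) (hA.2 z hzA) hz1 (hzc x hx).symm (hzc y hy).symm hzin.1 hzin.2.1 hzin.2.2
  -- an element `e` of the four group with `{x, y} ⊆ ⟨z, e⟩`
  obtain ⟨e, heS, he2, hback, hgen⟩ : ∃ e, e ∈ S ∧ e * e = 1 ∧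
      (∀ H : Subgroup G, x ∈ H → y ∈ H → e ∈ H) ∧ ∀ H : Subgroup G, z ∈ H → e ∈ H → x ∈ H ∧ y ∈ H := by
    rcases hzin with h | h | h
    · exact ⟨y, hy, by rw [← pow_two, hy2], fun _ _ h' => h', fun H h1 h2 => ⟨h ▸ h1, h2⟩⟩
    · exact ⟨x, hx, by rw [← pow_two, hx2], fun _ h' _ => h', fun H h1 h2 => ⟨h2, h ▸ h1⟩⟩
    · exact ⟨x, hx, by rw [← pow_two, hx2], fun _ h' _ => h', fun H h1 h2 => ⟨h2, by
        have := H.mul_mem (H.inv_mem h2) (h ▸ h1 : x * y ∈ H)
        rwa [inv_mul_cancel_left] at this⟩⟩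
  by_cases heA : e ∈ A₀
  · obtain ⟨h1, h2⟩ := hgen A₀ hzA heA
    exact ⟨A₀, hA, hA8, hAS, h1, h2⟩
  obtain ⟨w, hwA, hw1, hwz, hew⟩ := exists_fixed hA hA8 hAn (z := z) heS he2
  have hC : z ∈ centralizer ({w} : Set G) ∧ e ∈ centralizer ({w} : Set G) :=
    ⟨mem_centralizer_singleton_iff.2 (hA.1 z hzA w hwA), mem_centralizer_singleton_iff.2 hew⟩
  obtain ⟨hxw, hyw⟩ := hgen _ hC.1 hC.2
  rw [mem_centralizer_singleton_iff] at hxw hyw
  by_cases hwin : w = x ∨ w = y ∨ w = x * y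
  · exfalso
    apply heA
    have fy : x ∈ A₀ → x * y ∈ A₀ → y ∈ A₀ := fun a b => by
      have := A₀.mul_mem (A₀.inv_mem a) b
      rwa [inv_mul_cancel_left] at this
    have fx : y ∈ A₀ → x * y ∈ A₀ → x ∈ A₀ := fun a b => by
      have := A₀.mul_mem b (A₀.inv_mem a)
      rwa [mul_inv_cancel_right] at this
    rcases hzin with h | h | h <;> rcases hwin with h' | h' | h' <;>
      first
      | exact absurd (h'.trans h.symm) hwz
      | exact hback A₀ (h ▸ hzA) (h' ▸ hwA)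
      | exact hback A₀ (h' ▸ hwA) (h ▸ hzA)
      | exact hback A₀ (h ▸ hzA) (fy (h ▸ hzA) (h' ▸ hwA))
      | exact hback A₀ (h' ▸ hwA) (fy (h' ▸ hwA) (h ▸ hzA))
      | exact hback A₀ (fx (h ▸ hzA) (h' ▸ hwA)) (h ▸ hzA)
      | exact hback A₀ (fx (h' ▸ hwA) (h ▸ hzA)) (h' ▸ hwA)
  · push Not at hwin
    exact hbig w (hAS hwA) (hA.2 w hwA) hw1 hxw.symm hyw.symm hwin.1 hwin.2.1 hwin.2.2

end Sylow

/-- A nontrivial normal subgroup of a `p`-group meets the centre. -/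
theorem meets_center {H : Type*} [Group H] [Finite H] (hH : IsPGroup 2 H) {N : Subgroup H} [N.Normal]
    (hne : N ≠ ⊥) : N ⊓ center H ≠ ⊥ := by
  haveI : Fact (Nat.Prime 2) := ⟨Nat.prime_two⟩
  have hN : IsPGroup 2 ↥N := hH.to_subgroup N
  haveI : Nontrivial ↥N := (Subgroup.nontrivial_iff_ne_bot N).2 hne
  obtain ⟨n, hn, hcard⟩ := hN.nontrivial_iff_card.1 inferInstance
  have hfix := (show IsPGroup 2 (ConjAct H) from hH).exists_fixed_point_of_prime_dvd_card_of_fixed_point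
    (α := ↥N) (by rw [hcard]; exact dvd_pow_self 2 (by omega)) (a := 1) (fun g => smul_one g)
  obtain ⟨z, hz, hz1⟩ := hfix
  intro h
  apply hz1
  refine Subtype.ext ?_
  have hmem : (z : H) ∈ N ⊓ center H := ⟨z.2, mem_center_iff.2 fun g => by
    have := congrArg Subtype.val (hz (ConjAct.toConjAct g))
    rw [ConjAct.Subgroup.val_conj_smul, ConjAct.smul_def, ConjAct.ofConjAct_toConjAct] at this
    exact mul_inv_eq_iff_eq_mul.1 this⟩
  rw [h] at hmem
  exact (mem_bot.1 hmem).symm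

/-- Conjugation permutes the cores of centralizers. -/
theorem map_core_conj (g a : G) :
    (Cfsg.centralizerPPrimeCore 2 a).map (MulAut.conj g).toMonoidHom ≤
      Cfsg.centralizerPPrimeCore 2 (g * a * g⁻¹) := by
  haveI : Fact (Nat.Prime 2) := ⟨Nat.prime_two⟩
  refine le_centralizerPPrimeCore ?_ ?_ ?_
  · rintro _ ⟨y, hy, rfl⟩
    have h := mem_centralizer_singleton_iff.1 (centralizerPPrimeCore_le a hy)
    refine mem_centralizer_singleton_iff.2 ?_
    show g * y * g⁻¹ * (g * a * g⁻¹) = g * a * g⁻¹ * (g * y * g⁻¹)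
    calc g * y * g⁻¹ * (g * a * g⁻¹) = g * (y * a) * g⁻¹ := by group
      _ = g * (a * y) * g⁻¹ := by rw [h]
      _ = g * a * g⁻¹ * (g * y * g⁻¹) := by group
  · intro c hc
    have hc' : g⁻¹ * c * g ∈ centralizer ({a} : Set G) := by
      have h := mem_centralizer_singleton_iff.1 hc
      refine mem_centralizer_singleton_iff.2 ?_
      calc g⁻¹ * c * g * a = g⁻¹ * (c * (g * a * g⁻¹)) * g := by group
        _ = g⁻¹ * (g * a * g⁻¹ * c) * g := by rw [h]
        _ = a * (g⁻¹ * c * g) := by group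
    refine mem_normalizer_iff.2 fun y => ?_
    have key : ∀ w, w ∈ (Cfsg.centralizerPPrimeCore 2 a).map (MulAut.conj g).toMonoidHom ↔
        g⁻¹ * w * g ∈ Cfsg.centralizerPPrimeCore 2 a := by
      intro w
      rw [mem_map_equiv, MulAut.conj_symm_apply]
    rw [key, key, mem_normalizer_iff.1 (le_normalizer_core (mem_centralizer_singleton_iff.1 hc').symm)]
    rw [show g⁻¹ * c * g * (g⁻¹ * y * g) * (g⁻¹ * c * g)⁻¹ = g⁻¹ * (c * y * c⁻¹) * g by group]
  · rw [card_map_of_injective (MulEquiv.injective _)]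
    exact coprime_card_centralizerPPrimeCore a

/-- A subgroup of rank at least 2 contains two commuting involutions. -/
theorem exists_pair {B : Subgroup G} (h : ¬ Cfsg.PRankLE 2 1 ↥B) :
    ∃ x ∈ B, ∃ y ∈ B, x ^ 2 = 1 ∧ y ^ 2 = 1 ∧ x * y = y * x ∧ x ≠ 1 ∧ y ≠ 1 ∧ x ≠ y := by
  classical
  rw [Cfsg.PRankLE] at h
  push Not at h
  obtain ⟨E, hc, he, h4⟩ := h
  haveI := Fintype.ofFinite ↥E
  rw [Nat.card_eq_fintype_card] at h4
  obtain ⟨x, -, hx1⟩ := Finset.exists_mem_ne (s := (Finset.univ : Finset ↥E))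
    (by rw [Finset.card_univ]; omega) 1
  obtain ⟨y, -, hy⟩ := Finset.exists_mem_notMem_of_card_lt_card (s := ({1, x} : Finset ↥E))
    (t := Finset.univ) (by
      refine lt_of_le_of_lt (Finset.card_le_two) ?_
      rw [Finset.card_univ]; omega)
  simp only [Finset.mem_insert, Finset.mem_singleton, not_or] at hy
  refine ⟨(x : ↥B), (x : ↥B).2, (y : ↥B), (y : ↥B).2, congrArg Subtype.val (he x x.2),
    congrArg Subtype.val (he y y.2), congrArg (fun w : ↥E => ((w : ↥B) : G)) (hc.is_comm.comm x y),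
    fun e => hx1 (Subtype.ext (Subtype.ext e)), fun e => hy.1 (Subtype.ext (Subtype.ext e)),
    fun e => hy.2 (Subtype.ext (Subtype.ext e.symm))⟩

/-- **One signalizer for every noncyclic subgroup of a Sylow 2-subgroup.** -/
theorem exists_signalizer (hcon : Constrained G) (hG : Complete G) (S : Sylow 2 G) {A₀ : Subgroup G}
    (hA : El A₀) (hA8 : 8 ≤ Nat.card A₀) (hAS : A₀ ≤ (S : Subgroup G))
    (hAn : ∀ s ∈ (S : Subgroup G), ∀ a ∈ A₀, s * a * s⁻¹ ∈ A₀) :
    ∃ W : Subgroup G, Odd (Nat.card ↥W) ∧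
      ∀ B : Subgroup G, B ≤ (S : Subgroup G) → ¬ Cfsg.PRankLE 2 1 ↥B →
        W = coreJoin B ∧ normalizer (B : Set G) ≤ normalizer (W : Set G) := by
  classical
  haveI : Fact (Nat.Prime 2) := ⟨Nat.prime_two⟩
  -- a central involution of `S` in `A₀`
  obtain ⟨z, hzA, hz1, hzc⟩ : ∃ z ∈ A₀, z ≠ 1 ∧ ∀ s ∈ (S : Subgroup G), s * z = z * s := by
    haveI : (A₀.subgroupOf (S : Subgroup G)).Normal :=
      ⟨fun a ha s => mem_subgroupOf.2 (hAn s s.2 a (mem_subgroupOf.1 ha))⟩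
    have hne : A₀.subgroupOf (S : Subgroup G) ≠ ⊥ := by
      intro h
      have e := card_eq_one.2 h
      rw [Nat.card_congr (subgroupOfEquivOfLe hAS).toEquiv] at e
      omega
    haveI : Nontrivial ↥(A₀.subgroupOf (S : Subgroup G)) := (Subgroup.nontrivial_iff_ne_bot _).2 hne
    obtain ⟨z, hz, hz1⟩ : ∃ z, z ∈ A₀.subgroupOf (S : Subgroup G) ⊓ center ↥(S : Subgroup G) ∧
        z ∉ (⊥ : Subgroup ↥(S : Subgroup G)) := by
      haveI := Fintype.ofFinite ↥(S : Subgroup G)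
      exact SetLike.exists_of_lt (bot_lt_iff_ne_bot.2 (CfsgLib.InvChar.ConstrainedSignalizer.meets_center S.2 hne))
    exact ⟨z, mem_subgroupOf.1 hz.1, fun e => hz1 (mem_bot.2 (Subtype.ext e)),
      fun s hs => congrArg Subtype.val (mem_center_iff.1 hz.2 ⟨s, hs⟩)⟩
  refine ⟨coreJoin A₀, Nat.not_even_iff_odd.1 fun h => (hG A₀ hA.1 hA.2 hA8).1 (even_iff_two_dvd.1 h),
    fun B hBS hB => ?_⟩
  obtain ⟨x, hx, y, hy, hx2, hy2, hxy, hx1, hy1, hne⟩ := exists_pair hB
  have hW : coreJoin B = coreJoin A₀ := by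
    refine le_antisymm (iSup_le ?_) ?_
    · rintro ⟨b, hb, hb1⟩
      -- an involution power of `b`
      obtain ⟨k, hk⟩ := S.2 ⟨b, hBS hb⟩
      have hbk : b ^ 2 ^ k = 1 := congrArg Subtype.val hk
      obtain ⟨j, hj, hjn⟩ : ∃ j, b ^ 2 ^ (j + 1) = 1 ∧ b ^ 2 ^ j ≠ 1 := by
        have hex : ∃ j, b ^ 2 ^ j = 1 := ⟨k, hbk⟩
        refine ⟨Nat.find hex - 1, ?_, Nat.find_min hex (Nat.sub_lt ?_ one_pos)⟩
        · rw [Nat.sub_add_cancel]
          · exact Nat.find_spec hex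
          · exact Nat.one_le_iff_ne_zero.2 fun e => hb1 (by simpa [e] using Nat.find_spec hex)
        · exact Nat.pos_of_ne_zero fun e => hb1 (by simpa [e] using Nat.find_spec hex)
      set i := b ^ 2 ^ j with hi
      have hi2 : i ^ 2 = 1 := by rw [hi, ← pow_mul, ← pow_succ, hj]
      have hiB : i ∈ B := B.pow_mem hb _
      -- a partner
      obtain ⟨p, hpB, hp2, hp1, hpi, hpc⟩ : ∃ p ∈ B, p ^ 2 = 1 ∧ p ≠ 1 ∧ p ≠ i ∧ p * i = i * p := by
        have hB2 : IsPGroup 2 ↥B := S.2.to_le hBS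
        haveI : Nontrivial ↥B := ⟨⟨⟨x, hx⟩, 1, fun e => hx1 (congrArg Subtype.val e)⟩⟩
        haveI := hB2.center_nontrivial
        obtain ⟨c, hc⟩ := exists_prime_orderOf_dvd_card' (G := ↥(center ↥B)) 2
          ((hB2.to_subgroup _).card_eq_or_dvd.resolve_left Finite.one_lt_card.ne')
        set c' : G := ((c : ↥B) : G) with hc'
        have hcB : c' ∈ B := (c : ↥B).2
        have hcc : ∀ u ∈ B, u * c' = c' * u := fun u hu =>
          congrArg Subtype.val (mem_center_iff.1 c.2 ⟨u, hu⟩)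
        have hc2 : c' ^ 2 = 1 := by
          have h := pow_orderOf_eq_one c
          rw [hc] at h
          exact congrArg (fun w : ↥(center ↥B) => ((w : ↥B) : G)) h
        have hc1 : c' ≠ 1 := fun e => by
          rw [show c = 1 from Subtype.ext (Subtype.ext e), orderOf_one] at hc
          omega
        by_cases hci : c' = i
        · by_cases hxi : x = i
          · exact ⟨y, hy, hy2, hy1, fun e => hne (hxi.trans e.symm), by rw [← hxi, hxy]⟩
          · exact ⟨x, hx, hx2, hx1, hxi, by rw [← hci, hcc x hx]⟩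
        · exact ⟨c', hcB, hc2, hc1, hci, (hcc i hiB).symm⟩
      obtain ⟨E, hE, hE8, hES, hpE, hiE⟩ := exists_big hA hA8 hAn hAS hzA hz1 hzc (hBS hpB) (hBS hiB)
        hp2 hi2 hpc hp1 hjn hpi
      refine le_trans ?_ (le_of_eq (coreJoin_eq_base hA hA8 hAn hG hzA hz1 hzc hE hE8 hES))
      refine le_trans (le_trans ?_ (balance hcon (a := b) (by rw [← pow_two]; exact hi2) hjn
        ((Commute.refl b).pow_right _).eq ⟨k, hbk⟩))
        (le_iSup (fun e : {e : G // e ∈ E ∧ e ≠ 1} => Cfsg.centralizerPPrimeCore 2 (e : G)) ⟨i, hiE, hjn⟩)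
      refine le_inf le_rfl fun d hd => mem_centralizer_singleton_iff.2 ?_
      exact ((show Commute d b from mem_centralizer_singleton_iff.1
        (centralizerPPrimeCore_le b hd)).pow_right _).eq
    · obtain ⟨E, hE, hE8, hES, hxE, hyE⟩ := exists_big hA hA8 hAn hAS hzA hz1 hzc (hBS hx) (hBS hy)
        hx2 hy2 hxy hx1 hy1 hne
      have hV : El (E ⊓ B) := ⟨fun a ha b hb => hE.1 a ha.1 b hb.1, fun a ha => hE.2 a ha.1⟩
      rw [← coreJoin_eq_base hA hA8 hAn hG hzA hz1 hzc hE hE8 hES,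
        ← coreJoin_eq_of_le hG hE hE8 inf_le_left (not_isCyclic_of_two hV (x := x) (y := y)
          ⟨hxE, hx⟩ ⟨hyE, hy⟩ hx1 hy1 hne)]
      exact coreJoin_mono inf_le_right
  refine ⟨hW.symm, fun g hg => ?_⟩
  rw [← hW]
  have hle : ∀ h ∈ normalizer (B : Set G), (coreJoin B).map (MulAut.conj h).toMonoidHom ≤ coreJoin B := by
    intro h hh
    rw [coreJoin, Subgroup.map_iSup]
    refine iSup_le fun b => (map_core_conj h b.1).trans ?_
    exact le_iSup (fun b : {b : G // b ∈ B ∧ b ≠ 1} => Cfsg.centralizerPPrimeCore 2 (b : G))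
      ⟨h * b.1 * h⁻¹, (mem_normalizer_iff.1 hh _).1 b.2.1, fun e => b.2.2 (conj_eq_one_iff.1 e)⟩
  refine mem_normalizer_iff.2 fun w => ⟨fun hw => hle g hg ⟨w, hw, rfl⟩, fun hw => ?_⟩
  have := hle g⁻¹ ((normalizer (B : Set G)).inv_mem hg) ⟨_, hw, rfl⟩
  simpa [mul_assoc] using this

/-- An abelian normal subgroup of rank at least 3 gives an elementary one, in any Sylow 2-subgroup. -/
theorem exists_base {S : Sylow 2 G} {A : Subgroup ↥(S : Subgroup G)} (hAn : A.Normal)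
    (hAab : IsMulCommutative ↥A) (hA3 : ¬ Cfsg.PRankLE 2 2 ↥A) (S' : Sylow 2 G) :
    ∃ A₀ : Subgroup G, El A₀ ∧ 8 ≤ Nat.card A₀ ∧ A₀ ≤ (S' : Subgroup G) ∧
      ∀ s ∈ (S' : Subgroup G), ∀ a ∈ A₀, s * a * s⁻¹ ∈ A₀ := by
  classical
  haveI : Fact (Nat.Prime 2) := ⟨Nat.prime_two⟩
  obtain ⟨g, rfl⟩ := MulAction.exists_smul_eq G S S'
  let Ω : Subgroup ↥(S : Subgroup G) :=
    { carrier := {a | a ∈ A ∧ a ^ 2 = 1}
      one_mem' := ⟨A.one_mem, one_pow 2⟩
      mul_mem' := fun {a b} ha hb => ⟨A.mul_mem ha.1 hb.1, by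
        have hab : Commute a b := congrArg Subtype.val (hAab.is_comm.comm ⟨a, ha.1⟩ ⟨b, hb.1⟩)
        rw [hab.mul_pow, ha.2, hb.2, one_mul]⟩
      inv_mem' := fun {a} ha => ⟨A.inv_mem ha.1, by rw [inv_pow, ha.2, inv_one]⟩ }
  let f : ↥(S : Subgroup G) →* G := (MulAut.conj g).toMonoidHom.comp (S : Subgroup G).subtype
  have hf : Function.Injective f := fun a b h => (S : Subgroup G).subtype_injective ((MulAut.conj g).injective h)
  have hfS : ∀ a, f a ∈ ((g • S : Sylow 2 G) : Subgroup G) := fun a => by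
    rw [Sylow.coe_subgroup_smul]
    exact ⟨a, a.2, rfl⟩
  have hfs : ∀ s ∈ ((g • S : Sylow 2 G) : Subgroup G), ∃ a, f a = s := fun s hs => by
    rw [Sylow.coe_subgroup_smul] at hs
    obtain ⟨a, ha, rfl⟩ := hs
    exact ⟨⟨a, ha⟩, rfl⟩
  refine ⟨Ω.map f, ⟨?_, ?_⟩, ?_, ?_, ?_⟩
  · rintro _ ⟨a, ha, rfl⟩ _ ⟨b, hb, rfl⟩
    rw [← map_mul, ← map_mul]
    exact congrArg f (congrArg Subtype.val (hAab.is_comm.comm ⟨a, ha.1⟩ ⟨b, hb.1⟩))
  · rintro _ ⟨a, ha, rfl⟩
    rw [← map_pow, ha.2, map_one]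
  · rw [card_map_of_injective hf]
    rw [Cfsg.PRankLE] at hA3
    push Not at hA3
    obtain ⟨E, hEc, hE2, hE4⟩ := hA3
    have hle : E.map A.subtype ≤ Ω := by
      rintro _ ⟨a, ha, rfl⟩
      exact ⟨a.2, congrArg Subtype.val (hE2 a ha)⟩
    have h1 := card_le_of_le hle
    rw [card_map_of_injective A.subtype_injective] at h1
    obtain ⟨j, hj⟩ := IsPGroup.iff_card.1 ((S.2.to_subgroup A).to_subgroup E)
    rw [hj] at hE4 h1
    have := (Nat.pow_lt_pow_iff_right (by norm_num : 1 < 2)).1 hE4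
    exact le_trans (le_trans (by norm_num) (Nat.pow_le_pow_right (by norm_num) this)) h1
  · rintro _ ⟨a, -, rfl⟩
    exact hfS a
  · rintro s hs _ ⟨a, ha, rfl⟩
    obtain ⟨b, rfl⟩ := hfs s hs
    refine ⟨b * a * b⁻¹, ⟨hAn.conj_mem a ha.1 b, ?_⟩, by rw [map_mul, map_mul, map_inv]⟩
    rw [conj_pow, ha.2, mul_one, mul_inv_cancel]

end CfsgLib.InvChar.ConstrainedSignalizer
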