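import Cfsg.Agent.Lib.KnownC.AutPSLOut
import Cfsg.Agent.Lib.KnownC.AutPSLField
import Cfsg.Agent.Lib.KnownC.FieldAut
import Cfsg.Agent.Lib.Classical.PSLTwoPerm
import Cfsg.Agent.Lib.StructC.UniqueInvol

/-!
Four-subgroups of `PSL(2,q)`, `q` odd: they are self-centralizing, and an automorphism of
2-power order fixing one pointwise is inner when the group has abelian Sylow 2-subgroups.
-/

set_option autoImplicit false

namespace CfsgLib.InvChar.PSLFour

open Matrix

variable {F : Type*} [Field F]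

local notation "PSL2" => ProjectiveSpecialLinearGroup (Fin 2) F

/-- In an odd characteristic, only scalars commute with two anticommuting square roots of `-1`. -/
theorem matrix_scalar (h2 : (2 : F) ≠ 0) (a b M : Matrix (Fin 2) (Fin 2) F) (ha : a * a = -1)
    (hb : b * b = -1) (hab : a * b = -(b * a)) (hMa : M * a = a * M) (hMb : M * b = b * M) :
    ∃ c : F, M = c • 1 := by
  have hta : a.trace = 0 := by
    have h := trace_mul_comm (b * a) b
    rw [← mul_assoc b b a, hb, neg_one_mul, trace_neg] at h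
    have h' : b * a = -(a * b) := by rw [hab, neg_neg]
    rw [h', neg_mul, mul_assoc, hb, mul_neg_one, neg_neg] at h
    have : (2 : F) * a.trace = 0 := by linear_combination h
    exact (mul_eq_zero.1 this).resolve_left h2
  refine ⟨M.trace / 2, ?_⟩
  set P := M - (M.trace / 2) • (1 : Matrix (Fin 2) (Fin 2) F) with hP
  have htP : P.trace = 0 := by
    rw [hP, trace_sub, trace_smul, trace_one, Fintype.card_fin, smul_eq_mul, Nat.cast_ofNat,
      div_mul_cancel₀ _ h2, sub_self]
  have hPa : P * a = a * P := by rw [hP, sub_mul, mul_sub, hMa, smul_one_mul, mul_smul_one]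
  have hPb : P * b = b * P := by rw [hP, sub_mul, mul_sub, hMb, smul_one_mul, mul_smul_one]
  have hid : P * a + a * P = (P * a).trace • (1 : Matrix (Fin 2) (Fin 2) F) := by
    rw [trace_fin_two] at htP hta
    have hP1 : P 1 1 = -P 0 0 := by linear_combination htP
    have ha1 : a 1 1 = -a 0 0 := by linear_combination hta
    ext i j
    fin_cases i <;> fin_cases j <;>
      simp [Matrix.mul_apply, Fin.sum_univ_two, trace_fin_two, hP1, ha1] <;> ring
  rw [← hPa] at hid
  set d := (P * a).trace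
  have hPl : P = (-(d / 2)) • a := by
    have h := congrArg (fun X => X * a) hid
    simp only [add_mul, mul_assoc, ha, mul_neg, mul_one, smul_mul_assoc, one_mul] at h
    ext i j
    have h' := congrFun (congrFun h i) j
    simp only [Matrix.add_apply, Matrix.neg_apply, Matrix.smul_apply, smul_eq_mul] at h' ⊢
    field_simp
    linear_combination -h'
  have hz : -(d / 2) = 0 := by
    rw [hPl, smul_mul_assoc, mul_smul_comm, hab] at hPb
    have hba : (2 * (d / 2)) • (b * a) = 0 := by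
      rw [two_mul, add_smul]
      rw [smul_neg, neg_smul, neg_neg] at hPb
      calc (d / 2) • (b * a) + (d / 2) • (b * a) = (d / 2) • (b * a) + -((d / 2) • (b * a)) := by
            nth_rewrite 2 [hPb]
            rfl
        _ = 0 := add_neg_cancel _
    rcases eq_or_ne (2 * (d / 2)) 0 with h0 | h0
    · rw [neg_eq_zero]; exact (mul_eq_zero.1 h0).resolve_left h2
    · exfalso
      have hne : b * a = 0 := (smul_eq_zero.1 hba).resolve_left h0
      have h1 : b * (b * a) * a = 0 := by rw [hne, mul_zero, zero_mul]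
      rw [← mul_assoc b b a, hb, neg_one_mul, neg_mul, ha, neg_neg] at h1
      exact one_ne_zero h1
  rw [hz, zero_smul] at hPl
  exact sub_eq_zero.1 hPl

theorem coe_center_sl {A : Matrix.SpecialLinearGroup (Fin 2) F}
    (hA : A ∈ Subgroup.center (Matrix.SpecialLinearGroup (Fin 2) F)) : A.1 = 1 ∨ A.1 = -1 := by
  obtain ⟨r, hr, hA'⟩ := Matrix.SpecialLinearGroup.mem_center_iff.1 hA
  rw [Fintype.card_fin] at hr
  rcases sq_eq_one_iff.1 hr with h | h
  · exact Or.inl (by rw [← hA', h, map_one])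
  · exact Or.inr (by rw [← hA', h, map_neg, map_one])

theorem mk_eq_one {A : Matrix.SpecialLinearGroup (Fin 2) F} {c : F} (h : A.1 = c • 1) :
    (QuotientGroup.mk A : PSL2) = 1 := by
  refine (QuotientGroup.eq_one_iff _).2 (Matrix.SpecialLinearGroup.mem_center_iff.2 ⟨c, ?_, ?_⟩)
  · have := A.2
    rw [h, det_smul, det_one, mul_one] at this
    exact this
  · rw [h, scalar_apply, ← smul_one_eq_diagonal]

theorem sl_sq_eq_neg_one (h2 : (2 : F) ≠ 0) (A : Matrix.SpecialLinearGroup (Fin 2) F)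
    (hx : (QuotientGroup.mk A : PSL2) * QuotientGroup.mk A = 1) (hne : (QuotientGroup.mk A : PSL2) ≠ 1) :
    A.1 * A.1 = -1 := by
  rw [← QuotientGroup.mk_mul, QuotientGroup.eq_one_iff] at hx
  rcases coe_center_sl hx with h | h
  · exfalso
    have h' : A * A = 1 := Subtype.ext h
    have hinv : A⁻¹ = A := inv_eq_of_mul_eq_one_right h'
    have he := congrArg Subtype.val hinv
    rw [Matrix.SpecialLinearGroup.coe_inv, adjugate_fin_two] at he
    have e00 := congrFun (congrFun he 0) 0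
    have e01 := congrFun (congrFun he 0) 1
    have e10 := congrFun (congrFun he 1) 0
    simp at e00 e01 e10
    have z01 : A.1 0 1 = 0 :=
      (mul_eq_zero.1 (show (2 : F) * A.1 0 1 = 0 by linear_combination -e01)).resolve_left h2
    have z10 : A.1 1 0 = 0 :=
      (mul_eq_zero.1 (show (2 : F) * A.1 1 0 = 0 by linear_combination -e10)).resolve_left h2
    refine hne (mk_eq_one (c := A.1 0 0) ?_)
    ext i j
    fin_cases i <;> fin_cases j <;> simp [z01, z10, e00]
  · exact h

/-- Lifts of two distinct commuting involutions anticommute. -/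
theorem lift_anticomm (h2 : (2 : F) ≠ 0) (A B : Matrix.SpecialLinearGroup (Fin 2) F)
    (hx : (QuotientGroup.mk A : PSL2) * QuotientGroup.mk A = 1)
    (hxne : (QuotientGroup.mk A : PSL2) ≠ 1)
    (hy : (QuotientGroup.mk B : PSL2) * QuotientGroup.mk B = 1)
    (hyne : (QuotientGroup.mk B : PSL2) ≠ 1)
    (hxy : (QuotientGroup.mk A : PSL2) ≠ QuotientGroup.mk B)
    (hc : (QuotientGroup.mk A : PSL2) * QuotientGroup.mk B = QuotientGroup.mk B * QuotientGroup.mk A) :
    A.1 * B.1 = -(B.1 * A.1) := by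
  have ha := sl_sq_eq_neg_one h2 A hx hxne
  have hb := sl_sq_eq_neg_one h2 B hy hyne
  rw [← QuotientGroup.mk_mul, ← QuotientGroup.mk_mul, QuotientGroup.eq] at hc
  rcases coe_center_sl hc with h | h
  · exfalso
    have hab : A * B = B * A := inv_mul_eq_one.1 (Subtype.ext h)
    have hab' : A.1 * B.1 = B.1 * A.1 := congrArg Subtype.val hab
    have h1 : A * B * (A * B) = 1 := by
      refine Subtype.ext ?_
      show A.1 * B.1 * (A.1 * B.1) = 1
      rw [mul_assoc, ← mul_assoc B.1 A.1, ← hab', mul_assoc A.1 B.1, hb, mul_neg_one,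
        mul_neg, ha, neg_neg]
    have hxy1 : (QuotientGroup.mk (A * B) : PSL2) * QuotientGroup.mk (A * B) = 1 := by
      rw [← QuotientGroup.mk_mul, h1, QuotientGroup.mk_one]
    by_cases hne : (QuotientGroup.mk (A * B) : PSL2) = 1
    · rw [QuotientGroup.mk_mul, mul_eq_one_iff_eq_inv, ← inv_eq_of_mul_eq_one_right hy] at hne
      exact hxy (by rw [hne, inv_eq_of_mul_eq_one_right hy, inv_eq_of_mul_eq_one_right hy])
    · have := sl_sq_eq_neg_one h2 (A * B) hxy1 hne
      rw [show (A * B).1 * (A * B).1 = 1 from congrArg Subtype.val h1] at this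
      have e := congrFun (congrFun this 0) 0
      simp at e
      exact h2 (by linear_combination e)
  · have h' : A.1 * B.1 * ((A * B)⁻¹ * (B * A)).1 = B.1 * A.1 := by
      have := congrArg Subtype.val (mul_inv_cancel_left (A * B) (B * A))
      simpa [Matrix.SpecialLinearGroup.coe_mul] using this
    rw [h, mul_neg_one] at h'
    rw [← h', neg_neg]

/-- An inner-diagonal automorphism fixing a four-group pointwise is induced by that group. -/
theorem semiAut_fix_four (h2 : (2 : F) ≠ 0) (x y : PSL2) (hx : x * x = 1) (hx1 : x ≠ 1)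
    (hy : y * y = 1) (hy1 : y ≠ 1) (hxy : x ≠ y) (hc : x * y = y * x) (g : GL (Fin 2) F)
    (hgx : CfsgLib.KnownC.semiAut g (RingEquiv.refl F) x = x)
    (hgy : CfsgLib.KnownC.semiAut g (RingEquiv.refl F) y = y) :
    ∃ s : Matrix.SpecialLinearGroup (Fin 2) F, ((QuotientGroup.mk s : PSL2) = 1 ∨
      (QuotientGroup.mk s : PSL2) = x ∨ (QuotientGroup.mk s : PSL2) = y ∨
      (QuotientGroup.mk s : PSL2) = x * y) ∧ ∃ c : F, s.1 * g.1 = c • 1 := by
  obtain ⟨A, rfl⟩ := QuotientGroup.mk_surjective x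
  obtain ⟨B, rfl⟩ := QuotientGroup.mk_surjective y
  have ha := sl_sq_eq_neg_one h2 A hx hx1
  have hb := sl_sq_eq_neg_one h2 B hy hy1
  have hab := lift_anticomm h2 A B hx hx1 hy hy1 hxy hc
  have hcomm : ∀ X : Matrix.SpecialLinearGroup (Fin 2) F,
      CfsgLib.KnownC.semiAut g (RingEquiv.refl F) (QuotientGroup.mk X) = QuotientGroup.mk X →
      g.1 * X.1 = X.1 * g.1 ∨ g.1 * X.1 = -(X.1 * g.1) := by
    intro X hX
    rw [CfsgLib.KnownC.semiAut_mk, QuotientGroup.eq] at hX
    rw [show CfsgLib.KnownC.slField (RingEquiv.refl F) = 1 from map_one CfsgLib.KnownC.slField,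
      MulAut.one_apply] at hX
    set Y := CfsgLib.KnownC.slConj g X with hY
    have hYv : Y.1 = g.1 * X.1 * (g⁻¹).1 := CfsgLib.KnownC.slConj_coe g X
    have h' : Y.1 * (Y⁻¹ * X).1 = X.1 := congrArg Subtype.val (mul_inv_cancel_left Y X)
    rcases coe_center_sl hX with h | h
    · rw [h, mul_one, hYv] at h'
      left
      conv_rhs => rw [← h', mul_assoc, Units.inv_mul, mul_one]
    · rw [h, mul_neg_one, hYv] at h'
      right
      conv_rhs => rw [← h', neg_mul, neg_neg, mul_assoc, Units.inv_mul, mul_one]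
  rcases hcomm A hgx with hA | hA <;> rcases hcomm B hgy with hB | hB
  · refine ⟨1, Or.inl (QuotientGroup.mk_one _), ?_⟩
    obtain ⟨c, hc'⟩ := matrix_scalar h2 A.1 B.1 g.1 ha hb hab hA hB
    refine ⟨c, ?_⟩
    show (1 : Matrix (Fin 2) (Fin 2) F) * g.1 = _
    rw [one_mul, hc']
  · refine ⟨A, Or.inr (Or.inl rfl), matrix_scalar h2 A.1 B.1 _ ha hb hab ?_ ?_⟩
    · rw [mul_assoc, hA]
    · rw [mul_assoc, hB, mul_neg, ← mul_assoc, hab, neg_mul, neg_neg, mul_assoc]
  · refine ⟨B, Or.inr (Or.inr (Or.inl rfl)), matrix_scalar h2 A.1 B.1 _ ha hb hab ?_ ?_⟩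
    · rw [mul_assoc, hA, mul_neg, ← mul_assoc, ← mul_assoc, ← neg_mul, hab]
    · rw [mul_assoc, hB]
  · refine ⟨A * B, Or.inr (Or.inr (Or.inr (QuotientGroup.mk_mul _ _ _))),
      matrix_scalar h2 A.1 B.1 _ ha hb hab ?_ ?_⟩
    · rw [Matrix.SpecialLinearGroup.coe_mul, mul_assoc, hA, mul_neg, ← mul_assoc (A.1 * B.1),
        mul_assoc A.1 B.1 A.1, ← mul_assoc A.1 (A.1 * B.1)]
      rw [show B.1 * A.1 = -(A.1 * B.1) by rw [hab, neg_neg], mul_neg, neg_mul, neg_neg]
    · rw [Matrix.SpecialLinearGroup.coe_mul, mul_assoc, hB, mul_neg, ← mul_assoc (A.1 * B.1),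
        ← mul_assoc B.1 (A.1 * B.1), ← mul_assoc B.1 A.1,
        show B.1 * A.1 = -(A.1 * B.1) by rw [hab, neg_neg], neg_mul, neg_mul]

theorem two_ne_zero_of_odd [Fintype F] (h : Odd (Fintype.card F)) : (2 : F) ≠ 0 := by
  intro h2
  have : ringChar F = 2 := CharP.ringChar_of_prime_eq_zero Nat.prime_two (by exact_mod_cast h2)
  have := (FiniteField.odd_card_of_char_ne_two (F := F))
  exact (Nat.not_even_iff_odd.2 h) (Nat.even_iff.2 (FiniteField.even_card_of_char_two ‹_›))

/-- A four-group of `PSL(2,q)`, `q` odd, is self-centralizing. -/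
theorem centralizer_four (h2 : (2 : F) ≠ 0) (x y z : PSL2) (hx : x * x = 1) (hx1 : x ≠ 1)
    (hy : y * y = 1) (hy1 : y ≠ 1) (hxy : x ≠ y) (hc : x * y = y * x) (hzx : z * x = x * z)
    (hzy : z * y = y * z) : z = 1 ∨ z = x ∨ z = y ∨ z = x * y := by
  obtain ⟨C, rfl⟩ := QuotientGroup.mk_surjective z
  have hfix : ∀ w : PSL2, QuotientGroup.mk C * w = w * QuotientGroup.mk C →
      CfsgLib.KnownC.semiAut (Matrix.SpecialLinearGroup.toGL C) (RingEquiv.refl F) w = w := by
    intro w hw
    rw [← CfsgLib.KnownC.conj_eq_semiAut, MulAut.conj_apply, hw, mul_inv_cancel_right]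
  obtain ⟨s, hs, c, hsc⟩ :=
    semiAut_fix_four h2 x y hx hx1 hy hy1 hxy hc _ (hfix x hzx) (hfix y hzy)
  have h1 : (QuotientGroup.mk s : PSL2) * QuotientGroup.mk C = 1 := by
    rw [← QuotientGroup.mk_mul]; exact mk_eq_one (c := c) (by rw [Matrix.SpecialLinearGroup.coe_mul]; exact hsc)
  have hz : (QuotientGroup.mk C : PSL2) = (QuotientGroup.mk s)⁻¹ :=
    (inv_eq_of_mul_eq_one_right h1).symm
  rw [hz]
  rcases hs with h | h | h | h <;> rw [h]
  · exact Or.inl inv_one
  · exact Or.inr (Or.inl (inv_eq_of_mul_eq_one_right hx))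
  · exact Or.inr (Or.inr (Or.inl (inv_eq_of_mul_eq_one_right hy)))
  · refine Or.inr (Or.inr (Or.inr ?_))
    rw [_root_.mul_inv_rev, inv_eq_of_mul_eq_one_right hx, inv_eq_of_mul_eq_one_right hy, hc]

/-- An automorphism of 2-power order fixing a four-group is inner by it, if the field has an odd
number of automorphisms. -/
theorem aut_fix_four [Fintype F] (h2 : (2 : F) ≠ 0) (hf : Odd (Nat.card (F ≃+* F))) (x y : PSL2)
    (hx : x * x = 1) (hx1 : x ≠ 1) (hy : y * y = 1) (hy1 : y ≠ 1) (hxy : x ≠ y)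
    (hc : x * y = y * x) (β : MulAut PSL2) (k : ℕ) (hβ : β ^ (2 ^ k) = 1) (hbx : β x = x)
    (hby : β y = y) :
    ∃ v : PSL2, (v = 1 ∨ v = x ∨ v = y ∨ v = x * y) ∧ β = MulAut.conj v := by
  rcases CfsgLib.KnownC.mulAut_psl_cases (le_refl 2) β with ⟨g, σ, rfl⟩ | ⟨h3, -⟩
  swap
  · omega
  have hσ : σ = 1 := by
    rw [CfsgLib.KnownC.semiAut_pow, CfsgLib.KnownC.semiAut_eq_one_iff (le_refl 2)] at hβ
    have h1 : orderOf σ ∣ 2 ^ k := orderOf_dvd_of_pow_eq_one hβ.1
    have h3 : orderOf σ ∣ Nat.card (F ≃+* F) := orderOf_dvd_natCard σ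
    exact orderOf_eq_one_iff.1
      (Nat.eq_one_of_dvd_coprimes ((Nat.coprime_two_left.2 hf).pow_left k) h1 h3)
  subst hσ
  change CfsgLib.KnownC.semiAut g (RingEquiv.refl F) x = x at hbx
  change CfsgLib.KnownC.semiAut g (RingEquiv.refl F) y = y at hby
  change ∃ v, _ ∧ CfsgLib.KnownC.semiAut g (RingEquiv.refl F) = _
  obtain ⟨s, hs, c, hsc⟩ := semiAut_fix_four h2 x y hx hx1 hy hy1 hxy hc g hbx hby
  have hcen : Matrix.SpecialLinearGroup.toGL s * g ∈ Subgroup.center (GL (Fin 2) F) := by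
    rw [Subgroup.mem_center_iff]
    intro k
    refine Units.ext ?_
    show k.1 * (s.1 * g.1) = (s.1 * g.1) * k.1
    rw [hsc, mul_smul_one, smul_one_mul]
  have hmul : MulAut.conj (QuotientGroup.mk s : PSL2) * CfsgLib.KnownC.semiAut g (RingEquiv.refl F)
      = 1 := by
    rw [CfsgLib.KnownC.conj_eq_semiAut, CfsgLib.KnownC.semiAut_mul,
      CfsgLib.KnownC.semiAut_eq_one_iff (le_refl 2)]
    refine ⟨rfl, ?_⟩
    convert hcen using 2
    refine congrArg _ (Units.ext (Matrix.ext fun i j => rfl))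
  refine ⟨(QuotientGroup.mk s)⁻¹, ?_, ?_⟩
  · rcases hs with h | h | h | h <;> rw [h]
    · exact Or.inl inv_one
    · exact Or.inr (Or.inl (inv_eq_of_mul_eq_one_right hx))
    · exact Or.inr (Or.inr (Or.inl (inv_eq_of_mul_eq_one_right hy)))
    · refine Or.inr (Or.inr (Or.inr ?_))
      rw [_root_.mul_inv_rev, inv_eq_of_mul_eq_one_right hx, inv_eq_of_mul_eq_one_right hy, hc]
  · rw [map_inv]
    exact (inv_eq_of_mul_eq_one_right hmul).symm

end CfsgLib.InvChar.PSLFour
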