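import Cfsg.Agent.Lib.InvChar.BSWBasic
import Cfsg.Agent.Lib.Char.Induce
import Cfsg.Agent.Lib.BlockB.ClassMul

/-!
The virtual characters induced from `K` in the Brauer-Suzuki-Wall situation, and their common
constituent.
-/

set_option autoImplicit false
set_option linter.unusedSectionVars false

namespace CfsgLib.InvChar.BSW

open CfsgLib.Invol CfsgLib.Char
open scoped ComplexConjugate

universe u

variable {G : Type u} [Group G] {t s : G} {K : Subgroup G}

/-- The degree zero function `2 - λ - λ⁻¹` on `K`, extended by zero. -/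
noncomputable def al (l : ↥K →* ℂˣ) (x : G) : ℂ := by
  classical
  exact if h : x ∈ K then 2 - (l ⟨x, h⟩ : ℂ) - (l⁻¹ ⟨x, h⟩ : ℂ) else 0

theorem al_coe (l : ↥K →* ℂˣ) (x : ↥K) : al l (x : G) = 2 - (l x : ℂ) - (l⁻¹ x : ℂ) := by
  rw [al, dif_pos x.2]

theorem al_of_not_mem (l : ↥K →* ℂˣ) {x : G} (h : x ∉ K) : al l x = 0 := by
  rw [al, dif_neg h]

theorem al_one (l : ↥K →* ℂˣ) : al l 1 = 0 := by
  rw [show (1 : G) = ((1 : ↥K) : G) from rfl, al_coe, map_one, map_one, Units.val_one]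
  norm_num

variable [Fintype G]

/-- The induced virtual character. -/
noncomputable def Iv (l : ↥K →* ℂˣ) (y : G) : ℂ :=
  (2 * Nat.card ↥K : ℂ)⁻¹ * ∑ g : G, al l (g⁻¹ * y * g)

theorem Iv_classFun (l : ↥K →* ℂˣ) : Cfsg.IsClassFunction G (Iv l) := by
  intro y h
  unfold Iv
  congr 1
  refine Fintype.sum_equiv (Equiv.mulLeft h⁻¹) _ _ fun g => ?_
  simp only [Equiv.coe_mulLeft]
  congr 1
  group

theorem Iv_eq_zero (l : ↥K →* ℂˣ) {y : G} (hy : y ∉ kParts K) : Iv l y = 0 := by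
  unfold Iv
  rw [Finset.sum_eq_zero, mul_zero]
  intro g _
  by_cases h1 : y = 1
  · rw [h1, mul_one, inv_mul_cancel, al_one]
  · refine al_of_not_mem l fun h => hy (mem_kParts.2 ⟨h1, g⁻¹, ?_⟩)
    rwa [inv_inv]

/-- The sum of a character over a subgroup is a natural multiple of its order. -/
theorem sum_subgroup_eq (H : Subgroup G) [Fintype H] (χ : Cfsg.IrrCharacter G) :
    ∃ n : ℕ, ∑ h : H, (χ : G → ℂ) h = (Nat.card H : ℂ) * n := by
  obtain ⟨n, hn⟩ := classInner_isCharacter_nat (isCharacter_restrict (irr_isCharacter χ.2) H)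
    (irr_isCharacter (G := H) isIrrCharacter_one)
  refine ⟨n, ?_⟩
  rw [classInner_def] at hn
  simp only [map_one, mul_one] at hn
  rw [← hn, ← mul_assoc, mul_inv_cancel₀ (natCard_ne_zero (G := H)), one_mul]

theorem int_value_invol (χ : Cfsg.IrrCharacter G) {v : G} (hv : orderOf v = 2) :
    ∃ a : ℤ, (χ : G → ℂ) v = a := by
  classical
  obtain ⟨n, hn⟩ := sum_subgroup_eq (Subgroup.zpowers v) χ
  obtain ⟨f, hf⟩ := char_apply_one_eq_nat (irr_isCharacter χ.2)
  refine ⟨2 * (n : ℤ) - f, ?_⟩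
  have hv1 : (1 : ↥(Subgroup.zpowers v)) ≠ ⟨v, Subgroup.mem_zpowers v⟩ := fun h =>
    invol_ne_one hv (congrArg Subtype.val h).symm
  have huniv : (Finset.univ : Finset ↥(Subgroup.zpowers v)) = {1, ⟨v, Subgroup.mem_zpowers v⟩} := by
    symm
    refine Finset.eq_univ_of_card _ ?_
    rw [Finset.card_pair hv1, ← Nat.card_eq_fintype_card, Nat.card_zpowers, hv]
  rw [huniv, Finset.sum_pair hv1, Nat.card_zpowers, hv] at hn
  simp only [OneMemClass.coe_one] at hn
  rw [hf] at hn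
  push_cast
  push_cast at hn
  linear_combination hn

theorem hom_inv_inv (l : ↥K →* ℂˣ) : l⁻¹⁻¹ = l := by
  ext x
  simp

theorem hom_inv_ne_one {l : ↥K →* ℂˣ} (hl : l ≠ 1) : l⁻¹ ≠ 1 := fun h => hl (by
  ext x
  have := DFunLike.congr_fun h x
  simpa using congrArg (fun a : ℂˣ => (a⁻¹ : ℂˣ)) this)

theorem sum_lin (hcomm : ∀ a b : ↥K, a * b = b * a) [Fintype ↥K] (l : ↥K →* ℂˣ) (hl : l ≠ 1) :
    ∑ x : ↥K, (l x : ℂ) = 0 := by
  obtain ⟨a, ha⟩ : ∃ a, l a ≠ 1 := by
    by_contra h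
    push Not at h
    exact hl (MonoidHom.ext h)
  have h2 : ∑ x : ↥K, (l x : ℂ) = (l a : ℂ) * ∑ x : ↥K, (l x : ℂ) := by
    rw [Finset.mul_sum]
    refine (Fintype.sum_equiv (Equiv.mulLeft a) _ _ fun x => ?_).symm
    simp
  by_contra h0
  have h3 : ((l a : ℂ)) * ∑ x : ↥K, (l x : ℂ) = 1 * ∑ x : ↥K, (l x : ℂ) := by rw [← h2, one_mul]
  exact ha (Units.ext (mul_right_cancel₀ h0 h3))

/-- The coefficient of an irreducible character in `Iv l`. -/
noncomputable def cf (K : Subgroup G) (l : ↥K →* ℂˣ) (χ : Cfsg.IrrCharacter G) : ℂ :=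
  Cfsg.classInner (Iv (K := K) l) (χ : G → ℂ)

namespace Setup

variable (S : Setup t K s)
include S

theorem commK (a b : ↥K) : a * b = b * a := Subtype.ext (S.hcomm _ a.2 _ b.2)

theorem Iv_apply (l : ↥K →* ℂˣ) {x : G} (hx : x ∈ K) (hx1 : x ≠ 1) : Iv l x = al l x := by
  classical
  unfold Iv
  have hterm : ∀ g : G, al l (g⁻¹ * x * g) =
      if g ∈ Subgroup.centralizer ({t} : Set G) then al l x else 0 := by
    intro g
    split_ifs with hg
    · have h := S.conj_mem (inv_mem hg) hx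
      rw [inv_inv] at h
      rcases h.2 with e | e <;> rw [e]
      rw [show x⁻¹ = (((⟨x, hx⟩ : ↥K)⁻¹ : ↥K) : G) from rfl, al_coe,
        show al l x = al l ((⟨x, hx⟩ : ↥K) : G) from rfl, al_coe, map_inv, map_inv,
        MonoidHom.inv_apply, inv_inv]
      ring
    · refine al_of_not_mem l fun h => hg ?_
      have := S.mem_H_of_conj hx hx1 (g := g⁻¹) (by rwa [inv_inv])
      simpa using inv_mem this
  rw [Finset.sum_congr rfl fun g _ => hterm g, ← Finset.sum_filter, Finset.sum_const,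
    nsmul_eq_mul, ← Fintype.card_subtype, ← Nat.card_eq_fintype_card, S.card_H, ← mul_assoc]
  push_cast
  rw [inv_mul_cancel₀ (mul_ne_zero two_ne_zero (Nat.cast_ne_zero.2 Nat.card_pos.ne')), one_mul]

theorem inner_Iv [Fintype ↥K] (l : ↥K →* ℂˣ) {f : G → ℂ} (hf : Cfsg.IsClassFunction G f) :
    Cfsg.classInner (Iv l) f =
      (2 * Nat.card ↥K : ℂ)⁻¹ * ∑ x : ↥K, al l (x : G) * conj (f x) := by
  classical
  rw [classInner_def]
  simp only [Iv, Finset.mul_sum, Finset.sum_mul]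
  rw [Finset.sum_comm]
  have hg : ∀ g : G, ∑ y : G, (Nat.card G : ℂ)⁻¹ *
      ((2 * Nat.card ↥K : ℂ)⁻¹ * al l (g⁻¹ * y * g) * conj (f y)) =
      (Nat.card G : ℂ)⁻¹ * ∑ x : ↥K, (2 * Nat.card ↥K : ℂ)⁻¹ * (al l (x : G) * conj (f x)) := by
    intro g
    rw [← Finset.mul_sum]
    congr 1
    rw [← Finset.sum_subset (Finset.subset_univ ((Finset.univ.filter fun y : G => y ∈ K).image
      fun y => g * y * g⁻¹)) (fun y _ hy => ?_),
      Finset.sum_image (fun a _ b _ e => mul_left_cancel (mul_right_cancel e)),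
      Finset.sum_subtype (Finset.univ.filter fun y : G => y ∈ K) (p := fun y => y ∈ K) (by simp)]
    · refine Finset.sum_congr rfl fun x _ => ?_
      rw [hf, show g⁻¹ * (g * (x : G) * g⁻¹) * g = (x : G) by group, mul_assoc]
    · rw [al_of_not_mem l fun h => hy (Finset.mem_image.2 ⟨g⁻¹ * y * g, by simpa using h, by group⟩)]
      simp
  rw [Finset.sum_congr rfl fun g _ => hg g, Finset.sum_const, Finset.card_univ, nsmul_eq_mul,
    ← Nat.card_eq_fintype_card, ← mul_assoc, mul_inv_cancel₀ natCard_ne_zero, one_mul]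

theorem real_on_K (χ : Cfsg.IrrCharacter G) {x : G} (hx : x ∈ K) :
    (χ : G → ℂ) x⁻¹ = (χ : G → ℂ) x := by
  rw [← S.hinv x hx]
  exact irr_isClassFunction χ.2 x s

theorem cf_eq [Fintype ↥K] (l : ↥K →* ℂˣ) (χ : Cfsg.IrrCharacter G) :
    cf K l χ = (Nat.card ↥K : ℂ)⁻¹ *
      (∑ x : ↥K, (χ : G → ℂ) x - ∑ x : ↥K, (l x : ℂ) * (χ : G → ℂ) x) := by
  rw [cf, S.inner_Iv l (irr_isClassFunction χ.2)]
  have hterm : ∀ x : ↥K, al l (x : G) * conj ((χ : G → ℂ) x) =
      2 * (χ : G → ℂ) x - (l x : ℂ) * (χ : G → ℂ) x - (l⁻¹ x : ℂ) * (χ : G → ℂ) x := by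
    intro x
    rw [← char_inv (irr_isCharacter χ.2), S.real_on_K χ x.2, al_coe]
    ring
  rw [Finset.sum_congr rfl fun x _ => hterm x, Finset.sum_sub_distrib, Finset.sum_sub_distrib,
    ← Finset.mul_sum]
  have hinv : ∑ x : ↥K, (l⁻¹ x : ℂ) * (χ : G → ℂ) x = ∑ x : ↥K, (l x : ℂ) * (χ : G → ℂ) x := by
    refine Fintype.sum_equiv (Equiv.inv ↥K) _ _ fun x => ?_
    simp only [Equiv.inv_apply, InvMemClass.coe_inv]
    rw [S.real_on_K χ x.2, MonoidHom.inv_apply, map_inv]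
  rw [hinv, mul_inv]
  ring

theorem cf_int (l : ↥K →* ℂˣ) (χ : Cfsg.IrrCharacter G) : ∃ c : ℤ, cf K l χ = c := by
  classical
  haveI : Fintype ↥K := Fintype.ofFinite _
  obtain ⟨a, ha⟩ := classInner_isCharacter_nat (isCharacter_restrict (irr_isCharacter χ.2) K)
    (irr_isCharacter (G := ↥K) isIrrCharacter_one)
  obtain ⟨b, hb⟩ := classInner_isCharacter_nat (isCharacter_restrict (irr_isCharacter χ.2) K)
    (irr_isCharacter (G := ↥K) (isIrrCharacter_linear l⁻¹))
  refine ⟨(a : ℤ) - b, ?_⟩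
  push_cast
  rw [← ha, ← hb, classInner_def, classInner_def, S.cf_eq l χ, mul_sub]
  congr 1
  · congr 1
    exact Finset.sum_congr rfl fun x _ => by rw [map_one, mul_one]
  · congr 1
    refine Finset.sum_congr rfl fun x _ => ?_
    rw [conj_linear_apply, hom_inv_inv, mul_comm]

theorem cf_triv (l : ↥K →* ℂˣ) (hl : l ≠ 1) :
    cf K l ⟨fun _ => 1, isIrrCharacter_one⟩ = 1 := by
  classical
  haveI : Fintype ↥K := Fintype.ofFinite _
  rw [S.cf_eq]
  simp only [mul_one, sum_lin S.commK l hl, sub_zero, Finset.sum_const, Finset.card_univ,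
    nsmul_eq_mul, ← Nat.card_eq_fintype_card]
  exact inv_mul_cancel₀ (Nat.cast_ne_zero.2 Nat.card_pos.ne')

theorem cf_inv (l : ↥K →* ℂˣ) (χ : Cfsg.IrrCharacter G) : cf K l⁻¹ χ = cf K l χ := by
  classical
  haveI : Fintype ↥K := Fintype.ofFinite _
  have : Iv (K := K) l⁻¹ = Iv l := by
    funext y
    unfold Iv
    congr 1
    refine Finset.sum_congr rfl fun g _ => ?_
    by_cases h : g⁻¹ * y * g ∈ K
    · rw [show g⁻¹ * y * g = ((⟨_, h⟩ : ↥K) : G) from rfl, al_coe, al_coe, hom_inv_inv]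
      ring
    · rw [al_of_not_mem _ h, al_of_not_mem _ h]
  rw [cf, cf, this]

theorem Iv_sum [Fintype (Cfsg.IrrCharacter G)] (l : ↥K →* ℂˣ) (y : G) :
    Iv l y = ∑ χ : Cfsg.IrrCharacter G, cf K l χ * (χ : G → ℂ) y :=
  classFunction_apply_eq_sum (Iv_classFun l) y

open scoped Classical in
theorem cf_mul [Fintype (Cfsg.IrrCharacter G)] (l m : ↥K →* ℂˣ) (hl : l ≠ 1) (hm : m ≠ 1) :
    ∑ χ : Cfsg.IrrCharacter G, cf K l χ * cf K m χ =
      2 + (if l * m = 1 then 1 else 0) + (if l * m⁻¹ = 1 then 1 else 0) := by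
  haveI : Fintype ↥K := Fintype.ofFinite _
  have h1 : Cfsg.classInner (Iv (K := K) l) (Iv m) =
      ∑ χ : Cfsg.IrrCharacter G, cf K l χ * cf K m χ := by
    rw [classInner_eq_sum_mul (Iv_classFun l)]
    refine Finset.sum_congr rfl fun χ _ => ?_
    obtain ⟨c, hc⟩ := S.cf_int m χ
    show cf K l χ * conj (cf K m χ) = cf K l χ * cf K m χ
    rw [hc, map_intCast]
  rw [← h1, S.inner_Iv l (Iv_classFun m)]
  have hterm : ∀ x : ↥K, al l (x : G) * conj (Iv m (x : G)) =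
      4 - 2 * (l x : ℂ) - 2 * (l⁻¹ x : ℂ) - 2 * (m x : ℂ) - 2 * (m⁻¹ x : ℂ)
        + ((l * m) x : ℂ) + ((l * m⁻¹) x : ℂ) + ((l⁻¹ * m) x : ℂ) + ((l⁻¹ * m⁻¹) x : ℂ) := by
    intro x
    by_cases hx : x = 1
    · subst hx
      rw [OneMemClass.coe_one, al_one, zero_mul]
      simp only [map_one, Units.val_one]
      norm_num
    · rw [S.Iv_apply m x.2 (fun h => hx (Subtype.ext h)), al_coe, al_coe, map_sub, map_sub,
        map_ofNat, conj_linear_apply, conj_linear_apply, hom_inv_inv]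
      simp only [MonoidHom.mul_apply, Units.val_mul]
      ring
  rw [Finset.sum_congr rfl fun x _ => hterm x]
  simp only [Finset.sum_add_distrib, Finset.sum_sub_distrib, ← Finset.mul_sum, Finset.sum_const,
    Finset.card_univ, nsmul_eq_mul, ← Nat.card_eq_fintype_card]
  have hsum : ∀ n : ↥K →* ℂˣ, ∑ x : ↥K, (n x : ℂ) = if n = 1 then (Nat.card ↥K : ℂ) else 0 := by
    intro n
    split_ifs with h
    · subst h
      simp [Nat.card_eq_fintype_card]
    · exact sum_lin S.commK n h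
  rw [hsum, hsum, hsum, hsum, hsum, hsum, hsum, hsum, if_neg hl, if_neg hm,
    if_neg (hom_inv_ne_one hl), if_neg (hom_inv_ne_one hm)]
  have e1 : (l⁻¹ * m = 1) ↔ (l * m⁻¹ = 1) := by
    simp only [DFunLike.ext_iff, MonoidHom.mul_apply, MonoidHom.inv_apply, MonoidHom.one_apply,
      inv_mul_eq_one, mul_inv_eq_one]
  have e2 : (l⁻¹ * m⁻¹ = 1) ↔ (l * m = 1) := by
    simp only [DFunLike.ext_iff, MonoidHom.mul_apply, MonoidHom.inv_apply, MonoidHom.one_apply,
      inv_mul_eq_one, eq_inv_iff_mul_eq_one]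
  simp only [e1, e2]
  have hk : (Nat.card ↥K : ℂ) ≠ 0 := Nat.cast_ne_zero.2 Nat.card_pos.ne'
  split_ifs <;> field_simp <;> ring

/-- The class sum identity for `t t`. -/
theorem phi [Fintype (Cfsg.IrrCharacter G)] (l : ↥K →* ℂˣ) (hl : l ≠ 1) :
    (Nat.card G : ℂ) * ∑ χ : Cfsg.IrrCharacter G,
      cf K l χ * ((χ : G → ℂ) t * (χ : G → ℂ) t / (χ : G → ℂ) 1) =
      4 * (Nat.card ↥K : ℂ) ^ 3 := by
  classical
  haveI : Fintype ↥K := Fintype.ofFinite _
  set k : ℂ := (Nat.card ↥K : ℂ) with hk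
  have hk0 : k ≠ 0 := Nat.cast_ne_zero.2 Nat.card_pos.ne'
  have h1 : ∑ g : G, Iv l (t * (g * t * g⁻¹)) = (Nat.card G : ℂ) *
      ∑ χ : Cfsg.IrrCharacter G, cf K l χ * ((χ : G → ℂ) t * (χ : G → ℂ) t / (χ : G → ℂ) 1) := by
    simp only [S.Iv_sum l]
    rw [Finset.sum_comm, Finset.mul_sum]
    refine Finset.sum_congr rfl fun χ _ => ?_
    rw [← Finset.mul_sum, CfsgLib.BlockB.sum_irr_mul_conj]
    ring
  rw [← h1]
  -- conjugate both factors
  have h2 : ∑ g : G, Iv l (t * (g * t * g⁻¹)) =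
      (2 * k)⁻¹ * ((2 * k) * ((2 * k) * ∑ u ∈ invols G, ∑ v ∈ invols G, al l (u * v))) := by
    unfold Iv
    rw [← hk, ← Finset.mul_sum, Finset.sum_comm]
    congr 1
    have hh : ∀ h : G, ∑ g : G, al l (h⁻¹ * (t * (g * t * g⁻¹)) * h) =
        ∑ g : G, al l ((h⁻¹ * t * h⁻¹⁻¹) * (g * t * g⁻¹)) := by
      intro h
      refine Fintype.sum_equiv (Equiv.mulLeft h⁻¹) _ _ fun g => ?_
      simp only [Equiv.coe_mulLeft]
      congr 1
      group
    have hinv' : (∑ h : G, ∑ g : G, al l (h⁻¹ * t * h⁻¹⁻¹ * (g * t * g⁻¹))) =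
        ∑ h : G, ∑ g : G, al l (h * t * h⁻¹ * (g * t * g⁻¹)) :=
      Fintype.sum_equiv (Equiv.inv G) (fun h => ∑ g : G, al l (h⁻¹ * t * h⁻¹⁻¹ * (g * t * g⁻¹)))
        (fun h => ∑ g : G, al l (h * t * h⁻¹ * (g * t * g⁻¹))) fun h => rfl
    rw [Finset.sum_congr rfl fun h _ => hh h, hinv',
      S.sum_conj_invol (M := ℂ) (fun u => ∑ g : G, al l (u * (g * t * g⁻¹))), nsmul_eq_mul]
    push_cast
    rw [← hk]
    congr 1
    rw [Finset.mul_sum]
    refine Finset.sum_congr rfl fun u _ => ?_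
    rw [S.sum_conj_invol (M := ℂ) (fun v => al l (u * v)), nsmul_eq_mul]
    push_cast
    rfl
  have h3 : ∑ u ∈ invols G, ∑ v ∈ invols G, al l (u * v) = k * ∑ x : ↥K, al l (x : G) := by
    have hu : ∀ u ∈ invols G, ∑ v ∈ invols G, al l (u * v) =
        ∑ x : ↥K, if orderOf (u * x) = 2 then al l (x : G) else 0 := by
      intro u hu
      rw [← Finset.sum_subtype (Finset.univ.filter fun y : G => y ∈ K) (p := fun y => y ∈ K)
        (by simp) (fun y => if orderOf (u * y) = 2 then al l y else 0), Finset.sum_filter]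
      rw [show invols G = Finset.univ.filter fun v : G => orderOf v = 2 by
        ext v; simp [mem_invols], Finset.sum_filter]
      refine Fintype.sum_equiv (Equiv.mulLeft u) _ _ fun v => ?_
      simp only [Equiv.coe_mulLeft]
      have huu := invol_mul_self (mem_invols.1 hu)
      have e : u * (u * v) = v := by rw [← mul_assoc, huu, one_mul]
      by_cases hv : u * v ∈ K
      · simp [hv, e]
      · simp [hv, e, al_of_not_mem l hv]
    rw [Finset.sum_congr rfl hu, Finset.sum_comm, Finset.mul_sum]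
    refine Finset.sum_congr rfl fun x _ => ?_
    by_cases hx : x = 1
    · subst hx
      rw [OneMemClass.coe_one, al_one, mul_zero]
      simp
    · rw [← Finset.sum_filter, Finset.sum_const, nsmul_eq_mul,
        S.card_pairs_kNe x.2 (fun h => hx (Subtype.ext h))]
  have h4 : ∑ x : ↥K, al l (x : G) = 2 * k := by
    simp only [al_coe]
    rw [Finset.sum_sub_distrib, Finset.sum_sub_distrib, sum_lin S.commK l hl,
      sum_lin S.commK l⁻¹ (hom_inv_ne_one hl), Finset.sum_const, Finset.card_univ, nsmul_eq_mul,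
      ← Nat.card_eq_fintype_card, hk]
    ring
  rw [h2, h3, h4, ← mul_assoc, inv_mul_cancel₀ (mul_ne_zero two_ne_zero hk0), one_mul]
  ring

end Setup

end CfsgLib.InvChar.BSW
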