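import Cfsg.Agent.S2119

/-!
Automorphisms of alternating groups which preserve the three-cycles come from the symmetric group.
-/

set_option autoImplicit false

namespace CfsgLib.InvChar

open Equiv Equiv.Perm Cfsg.Agent.S2119

theorem conjNormal_injective {n : ℕ} (hn : 4 ≤ n) :
    Function.Injective (MulAut.conjNormal : Equiv.Perm (Fin n) →* MulAut ↥(alternatingGroup (Fin n))) := by
  rw [injective_iff_map_eq_one]
  intro σ hσ
  ext1 a
  by_contra hne
  rw [Equiv.Perm.one_apply] at hne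
  obtain ⟨c, hc⟩ : ∃ c, c ∉ ({a, σ a} : Finset (Fin n)) := by
    by_contra! h
    have e := Finset.card_le_two (a := a) (b := σ a)
    rw [Finset.eq_univ_iff_forall.mpr h, Finset.card_univ, Fintype.card_fin] at e
    omega
  obtain ⟨d, hd⟩ : ∃ d, d ∉ ({a, σ a, c} : Finset (Fin n)) := by
    by_contra! h
    have e := Finset.card_le_three (a := a) (b := σ a) (c := c)
    rw [Finset.eq_univ_iff_forall.mpr h, Finset.card_univ, Fintype.card_fin] at e
    omega
  simp only [Finset.mem_insert, Finset.mem_singleton, not_or] at hc hd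
  have hT := isThreeCycle_T (a := a) (b := c) (c := d) (Ne.symm hc.1) (Ne.symm hd.1) (Ne.symm hd.2.2)
  have h := congrArg (fun f : MulAut ↥(alternatingGroup (Fin n)) =>
    (f ⟨T a c d, hT.mem_alternatingGroup⟩ : Equiv.Perm (Fin n))) hσ
  simp only [MulAut.conjNormal_apply, MulAut.one_apply, conj_T] at h
  have h' : T (σ a) (σ c) (σ d) (σ a) = T a c d (σ a) := congrArg (fun f : Equiv.Perm (Fin n) => f (σ a)) h
  rw [T_a (fun e => hc.1 (σ.injective e).symm) (fun e => hd.1 (σ.injective e).symm),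
    T_o hne (Ne.symm hc.2) (Ne.symm hd.2.1)] at h'
  exact hc.1 (σ.injective h')

theorem exists_perm_of_preserves_threeCycles {n : ℕ} (hn : 4 ≤ n) :
    ∀ φ : MulAut ↥(alternatingGroup (Fin n)),
      (∀ x : ↥(alternatingGroup (Fin n)), (x : Equiv.Perm (Fin n)).IsThreeCycle →
        (φ x : Equiv.Perm (Fin n)).IsThreeCycle) →
      ∃ σ : Equiv.Perm (Fin n), MulAut.conjNormal σ = φ := by
  intro φ hφ
  obtain ⟨a, b, hab⟩ : ∃ a b : Fin n, a ≠ b := ⟨⟨0, by omega⟩, ⟨1, by omega⟩, by simp⟩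
  set y : {i // a ≠ i ∧ b ≠ i} → Equiv.Perm (Fin n) := fun i =>
    φ ⟨T a b i.1, (isThreeCycle_T hab i.2.1 i.2.2).mem_alternatingGroup⟩ with hy
  have hy3 : ∀ i, (y i).IsThreeCycle := fun i =>
    hφ _ (isThreeCycle_T hab i.2.1 i.2.2)
  have hedge : ∀ i j, i ≠ j → ∃ x, y i x ≠ x ∧ y j x = y i x := by
    intro i j hij
    have hij' : i.1 ≠ j.1 := fun h => hij (Subtype.ext h)
    obtain ⟨hsq, hne⟩ := mul_T_sq hab i.2.1 i.2.2 j.2.1 j.2.2 hij'
    set ti : ↥(alternatingGroup (Fin n)) := ⟨T a b i.1, (isThreeCycle_T hab i.2.1 i.2.2).mem_alternatingGroup⟩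
    set tj : ↥(alternatingGroup (Fin n)) := ⟨T a b j.1, (isThreeCycle_T hab j.2.1 j.2.2).mem_alternatingGroup⟩
    have hprod : y i * y j = ((φ (ti * tj) : ↥(alternatingGroup (Fin n))) : Equiv.Perm (Fin n)) := by
      rw [map_mul]; rfl
    refine edge (hy3 i) (hy3 j) ?_ ?_
    · have hone : (ti * tj) ^ 2 = 1 := Subtype.ext hsq
      rw [hprod, ← SubgroupClass.coe_pow, ← map_pow, hone, map_one]
      rfl
    · intro h
      rw [hprod] at h
      have : φ (ti * tj) = 1 := Subtype.ext h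
      exact hne (congrArg Subtype.val (φ.injective (this.trans (map_one φ).symm)))
  obtain ⟨i₀, j₀, hij₀⟩ : ∃ i j : {i // a ≠ i ∧ b ≠ i}, i ≠ j := by
    have hc : 1 < Fintype.card {i // a ≠ i ∧ b ≠ i} := by
      rw [Fintype.card_subtype]
      have : (Finset.univ.filter (fun i => a ≠ i ∧ b ≠ i)) = ({a, b} : Finset (Fin n))ᶜ := by
        ext i; simp [eq_comm]
      rw [this, Finset.card_compl, Finset.card_pair hab, Fintype.card_fin]
      omega
    exact Fintype.one_lt_card_iff.mp hc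
  obtain ⟨A, hA, hA'⟩ := hedge i₀ j₀ hij₀
  set B := y i₀ A with hB
  have hAB : A ≠ B := Ne.symm hA
  have hform : ∀ {w : Equiv.Perm (Fin n)}, w.IsThreeCycle → w A = B →
      w = T A B (w B) ∧ w B ≠ A ∧ w B ≠ B := by
    intro w hw hwA
    obtain ⟨h, -, h1, h2⟩ := eq_T hw (x := A) (by rw [hwA]; exact hA)
    rw [hwA] at h h1 h2
    exact ⟨h, h1, h2⟩
  have hyinj : Function.Injective y := fun i j h => by
    have := φ.injective (Subtype.ext h)
    have h' := congrArg (fun f : ↥(alternatingGroup (Fin n)) => (f : Equiv.Perm (Fin n)) b) this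
    simp only [T_b i.2.1 i.2.2, T_b j.2.1 j.2.2] at h'
    exact Subtype.ext h'
  have hall : ∀ i, y i A = B := by
    intro i
    by_cases h0 : i = i₀
    · rw [h0]
    by_cases h1 : i = j₀
    · rw [h1, hA']
    obtain ⟨e0, a0, b0⟩ := hform (hy3 i₀) rfl
    obtain ⟨e1, a1, b1⟩ := hform (hy3 j₀) hA'
    have hCD : y i₀ B ≠ y j₀ B := fun h => hij₀ (hyinj (e0.trans (h ▸ e1.symm)))
    refine third (hy3 i) hAB a0.symm b0.symm a1.symm b1.symm hCD ?_ ?_
    · rw [← e0]; exact hedge i₀ i (Ne.symm h0)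
    · rw [← e1]; exact hedge j₀ i (Ne.symm h1)
  set s : Fin n → Fin n := fun x => if ha : x = a then A else if hb : x = b then B
    else y ⟨x, Ne.symm ha, Ne.symm hb⟩ B with hs
  have hsa : s a = A := by simp [hs]
  have hsb : s b = B := by simp [hs, hab.symm]
  have hsi : ∀ i : {i // a ≠ i ∧ b ≠ i}, s i.1 = y i B := fun i => by
    simp [hs, Ne.symm i.2.1, Ne.symm i.2.2]
  have hsinj : Function.Injective s := by
    have key : ∀ i : {i // a ≠ i ∧ b ≠ i}, y i B ≠ A ∧ y i B ≠ B := fun i =>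
      (hform (hy3 i) (hall i)).2
    have hs_cases : ∀ u, (u = a ∧ s u = A) ∨ (u = b ∧ s u = B) ∨
        ∃ i : {i // a ≠ i ∧ b ≠ i}, i.1 = u ∧ s u = y i B := by
      intro u
      by_cases ua : u = a
      · exact Or.inl ⟨ua, ua ▸ hsa⟩
      by_cases ub : u = b
      · exact Or.inr (Or.inl ⟨ub, ub ▸ hsb⟩)
      exact Or.inr (Or.inr ⟨⟨u, Ne.symm ua, Ne.symm ub⟩, rfl, hsi ⟨u, Ne.symm ua, Ne.symm ub⟩⟩)
    intro u v huv
    rcases hs_cases u with ⟨hu, eu⟩ | ⟨hu, eu⟩ | ⟨i, hu, eu⟩ <;>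
      rcases hs_cases v with ⟨hv, ev⟩ | ⟨hv, ev⟩ | ⟨j, hv, ev⟩ <;> rw [eu, ev] at huv
    · rw [hu, hv]
    · exact absurd huv hAB
    · exact absurd huv.symm (key j).1
    · exact absurd huv.symm hAB
    · rw [hu, hv]
    · exact absurd huv.symm (key j).2
    · exact absurd huv (key i).1
    · exact absurd huv (key i).2
    · have ei := (hform (hy3 i) (hall i)).1
      rw [huv] at ei
      rw [← hu, ← hv, hyinj (ei.trans (hform (hy3 j) (hall j)).1.symm)]
  set σ : Equiv.Perm (Fin n) := Equiv.ofBijective s (Finite.injective_iff_bijective.mp hsinj) with hσ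
  refine ⟨σ, MulEquiv.toMonoidHom_injective ?_⟩
  apply MonoidHom.eq_of_eqOn_dense (s := {g : ↥(alternatingGroup (Fin n)) |
    ∃ i, a ≠ i ∧ b ≠ i ∧ (g : Equiv.Perm (Fin n)) = T a b i})
  · rw [eq_top_iff]
    rintro g -
    have : (g : Equiv.Perm (Fin n)) ∈ (Subgroup.closure {g : ↥(alternatingGroup (Fin n)) |
        ∃ i, a ≠ i ∧ b ≠ i ∧ (g : Equiv.Perm (Fin n)) = T a b i}).map (alternatingGroup (Fin n)).subtype := by
      have himg : (alternatingGroup (Fin n)).subtype '' {g : ↥(alternatingGroup (Fin n)) |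
          ∃ i, a ≠ i ∧ b ≠ i ∧ (g : Equiv.Perm (Fin n)) = T a b i} =
          {g : Equiv.Perm (Fin n) | ∃ i, a ≠ i ∧ b ≠ i ∧ g = T a b i} := by
        ext z
        constructor
        · rintro ⟨w, hw, rfl⟩; exact hw
        · rintro ⟨i, h1, h2, rfl⟩
          exact ⟨⟨_, (isThreeCycle_T hab h1 h2).mem_alternatingGroup⟩, ⟨i, h1, h2, rfl⟩, rfl⟩
      rw [MonoidHom.map_closure, himg]
      have hall3 : alternatingGroup (Fin n) ≤ Subgroup.closure {g : Equiv.Perm (Fin n) | ∃ i, a ≠ i ∧ b ≠ i ∧ g = T a b i} := by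
        rw [← Equiv.Perm.closure_three_cycles_eq_alternating, Subgroup.closure_le]
        exact fun t ht => three_cycle_mem_closure hab ht
      exact hall3 g.2
    obtain ⟨w, hw, hwg⟩ := this
    rwa [← Subtype.ext hwg]
  · rintro g ⟨i, h1, h2, hg⟩
    apply Subtype.ext
    have : g = ⟨T a b i, (isThreeCycle_T hab h1 h2).mem_alternatingGroup⟩ := Subtype.ext hg
    subst this
    change ((MulAut.conjNormal σ) _ : Equiv.Perm (Fin n)) = _
    rw [MulAut.conjNormal_apply, conj_T]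
    have e1 : σ a = A := hsa
    have e2 : σ b = B := hsb
    have e3 : σ i = y ⟨i, h1, h2⟩ B := hsi ⟨i, h1, h2⟩
    rw [e1, e2, e3]
    exact ((hform (hy3 _) (hall _)).1).symm


end CfsgLib.InvChar
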