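import Mathlib

/-!
# The centraliser of a double transposition in the alternating group of degree 6, and small facts on
dihedral centralisers
-/

set_option autoImplicit false

namespace CfsgLib.InvChar.DihedralSylow

open Equiv

/-- A double transposition. -/
def dt : Perm (Fin 6) := Equiv.swap 0 1 * Equiv.swap 2 3

/-- The rotation: a four-cycle times a transposition. -/
def rot : Perm (Fin 6) := Equiv.swap 0 3 * Equiv.swap 0 1 * Equiv.swap 0 2 * Equiv.swap 4 5

/-- The reflection. -/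
def refl : Perm (Fin 6) := Equiv.swap 0 1 * Equiv.swap 4 5

/-- The dihedral group inside the permutations. -/
def dFun : DihedralGroup 4 → Perm (Fin 6)
  | .r i => rot ^ i.val
  | .sr i => refl * rot ^ i.val

/-- Bundled. -/
def dHom : DihedralGroup 4 →* Perm (Fin 6) where
  toFun := dFun
  map_one' := by decide
  map_mul' := by decide

theorem dHom_props : (∀ x, Perm.sign (dHom x) = 1 ∧ dHom x * dt = dt * dHom x) ∧
    (∀ x y, dHom x = dHom y → x = y) ∧
    (∀ σ : Perm (Fin 6), σ * dt = dt * σ → Perm.sign σ = 1 → ∃ x, dHom x = σ) := by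
  refine ⟨by decide +kernel, by decide +kernel, by decide +kernel⟩

theorem centralizer_doubleTransposition (αt : ↥(alternatingGroup (Fin 6))) (hαt : orderOf αt = 2)
    (hsupp : (αt : Perm (Fin 6)).support.card = 4) :
    Nonempty (↥(Subgroup.centralizer ({αt} : Set ↥(alternatingGroup (Fin 6)))) ≃* DihedralGroup 4) := by
  have ho : orderOf (αt : Perm (Fin 6)) = 2 := by rw [Subgroup.orderOf_coe, hαt]
  have hct : (αt : Perm (Fin 6)).cycleType = dt.cycleType := by
    obtain ⟨n, hn⟩ := Perm.cycleType_prime_order (σ := (αt : Perm (Fin 6))) (by rw [ho]; exact Nat.prime_two)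
    rw [ho] at hn
    have hs := (αt : Perm (Fin 6)).sum_cycleType
    rw [hn, Multiset.sum_replicate, smul_eq_mul, hsupp] at hs
    obtain rfl : n = 1 := by omega
    rw [hn]
    decide +kernel
  obtain ⟨σ, hσ⟩ := isConj_iff.1 ((Perm.isConj_iff_cycleType_eq).2 hct.symm)
  have hmem : ∀ x, σ * dHom x * σ⁻¹ ∈ alternatingGroup (Fin 6) := fun x => by
    rw [Perm.mem_alternatingGroup, map_mul, map_mul, map_inv, (dHom_props.1 x).1]; simp
  let f : DihedralGroup 4 →* ↥(alternatingGroup (Fin 6)) :=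
    (((MulAut.conj σ).toMonoidHom.comp dHom)).codRestrict _ hmem
  have hf : ∀ x, (f x : Perm (Fin 6)) = σ * dHom x * σ⁻¹ := fun x => rfl
  have hfc : ∀ x, f x ∈ Subgroup.centralizer ({αt} : Set ↥(alternatingGroup (Fin 6))) := fun x => by
    refine Subgroup.mem_centralizer_singleton_iff.2 (Subtype.ext ?_)
    rw [Subgroup.coe_mul, Subgroup.coe_mul, hf, ← hσ]
    calc σ * dHom x * σ⁻¹ * (σ * dt * σ⁻¹) = σ * (dHom x * dt) * σ⁻¹ := by group
      _ = σ * (dt * dHom x) * σ⁻¹ := by rw [(dHom_props.1 x).2]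
      _ = σ * dt * σ⁻¹ * (σ * dHom x * σ⁻¹) := by group
  refine ⟨(MulEquiv.ofBijective (f.codRestrict _ hfc) ⟨fun x y h => ?_, fun c => ?_⟩).symm⟩
  · refine dHom_props.2.1 x y ?_
    have h' : σ * dHom x * σ⁻¹ = σ * dHom y * σ⁻¹ := congrArg (fun t : ↥(Subgroup.centralizer
      ({αt} : Set ↥(alternatingGroup (Fin 6)))) => ((t : ↥(alternatingGroup (Fin 6))) : Perm (Fin 6))) h
    exact mul_left_cancel (mul_right_cancel h')
  · have hc : ((c : ↥(alternatingGroup (Fin 6))) : Perm (Fin 6)) * αt = αt * ((c : ↥(alternatingGroup (Fin 6))) : Perm (Fin 6)) :=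
      congrArg Subtype.val (Subgroup.mem_centralizer_singleton_iff.1 c.2)
    obtain ⟨x, hx⟩ := dHom_props.2.2 (σ⁻¹ * ((c : ↥(alternatingGroup (Fin 6))) : Perm (Fin 6)) * σ) (by
      rw [← hσ] at hc
      calc σ⁻¹ * _ * σ * dt = σ⁻¹ * (((c : ↥(alternatingGroup (Fin 6))) : Perm (Fin 6)) * (σ * dt * σ⁻¹)) * σ := by group
        _ = σ⁻¹ * (σ * dt * σ⁻¹ * ((c : ↥(alternatingGroup (Fin 6))) : Perm (Fin 6))) * σ := by rw [hc]
        _ = dt * (σ⁻¹ * _ * σ) := by group) (by
      have := (Perm.mem_alternatingGroup).1 (c : ↥(alternatingGroup (Fin 6))).2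
      rw [map_mul, map_mul, map_inv, this]; simp)
    refine ⟨x, Subtype.ext (Subtype.ext ?_)⟩
    show σ * dHom x * σ⁻¹ = _
    rw [hx]; group

variable {G : Type*} [Group G]

theorem mem_of_dihedral {t : G} (e : Subgroup.centralizer ({t} : Set G) ≃* DihedralGroup 4) (N : Subgroup G)
    (hN : ∀ x : G, x * x = 1 → x ∈ N) (s : G) (hs : s ∈ Subgroup.centralizer ({t} : Set G)) : s ∈ N := by
  have hsr : ∀ i, ((e.symm (DihedralGroup.sr i) : Subgroup.centralizer ({t} : Set G)) : G) ∈ N := fun i => by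
    refine hN _ ?_
    rw [← Subgroup.coe_mul, ← map_mul]
    simp
  obtain ⟨d, hd⟩ := e.symm.surjective ⟨s, hs⟩
  rw [show s = ((e.symm d : Subgroup.centralizer ({t} : Set G)) : G) from (congrArg Subtype.val hd).symm]
  rcases d with i | i
  · rw [show DihedralGroup.r i = DihedralGroup.sr (0 : ZMod 4) * DihedralGroup.sr i by simp, map_mul,
      Subgroup.coe_mul]
    exact N.mul_mem (hsr 0) (hsr i)
  · exact hsr i

theorem fixes_center {t : G} (e : Subgroup.centralizer ({t} : Set G) ≃* DihedralGroup 4)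
    (htD : t ∈ Subgroup.centralizer ({t} : Set G)) (ht : orderOf t = 2) {n : G}
    (hn : n ∈ Subgroup.normalizer ((Subgroup.centralizer ({t} : Set G) : Subgroup G) : Set G)) : n * t = t * n := by
  have hc : ∀ z : Subgroup.centralizer ({t} : Set G), (∀ y, z * y = y * z) → z = 1 ∨ z = e.symm (.r 2) := by
    intro z hz
    have key : ∀ x : DihedralGroup 4, (∀ y, x * y = y * x) → x = 1 ∨ x = .r 2 := by decide
    rcases key (e z) (fun y => by
      obtain ⟨y, rfl⟩ := e.surjective y
      rw [← map_mul, ← map_mul, hz y]) with h | h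
    · exact Or.inl (e.injective (by rw [h, map_one]))
    · exact Or.inr (e.injective (by rw [h, e.apply_symm_apply]))
  let z0 : Subgroup.centralizer ({t} : Set G) := ⟨t, htD⟩
  have hz0 : ∀ y, z0 * y = y * z0 := fun y =>
    Subtype.ext (Subgroup.mem_centralizer_singleton_iff.1 y.2).symm
  let φ := (Subgroup.centralizer ({t} : Set G)).normalizerMonoidHom ⟨n, hn⟩
  have hz1 : ∀ y, φ z0 * y = y * φ z0 := fun y => by
    obtain ⟨y, rfl⟩ := φ.surjective y
    rw [← map_mul, ← map_mul, hz0 y]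
  have hne : z0 ≠ 1 := fun h => by
    rw [show t = 1 from congrArg Subtype.val h, orderOf_one] at ht
    omega
  have h0 := (hc z0 hz0).resolve_left hne
  have h1 := (hc (φ z0) hz1).resolve_left (fun h => hne (φ.injective (by rw [h, map_one])))
  have h2 : n * t * n⁻¹ = t := congrArg Subtype.val (h1.trans h0.symm)
  exact mul_inv_eq_iff_eq_mul.1 h2

theorem exists_index_two_of_even [Finite G] (h : 2 ∣ (commutator G).index) : ∃ H : Subgroup G, H.index = 2 := by
  rw [Subgroup.index_eq_card] at h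
  letI : CommGroup (G ⧸ commutator G) := inferInstanceAs (CommGroup (Abelianization G))
  haveI : Fact (Nat.Prime 2) := ⟨Nat.prime_two⟩
  obtain ⟨x, hx⟩ := exists_prime_orderOf_dvd_card' (G := G ⧸ commutator G) 2 h
  let sq : (G ⧸ commutator G) →* (G ⧸ commutator G) := powMonoidHom 2
  have hne : sq.range ≠ ⊤ := by
    intro htop
    have hinj : Function.Injective sq := Finite.injective_iff_surjective.2 (MonoidHom.range_eq_top.1 htop)
    have h1 : sq x = sq 1 := by
      show x ^ 2 = 1 ^ 2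
      rw [one_pow, ← hx, pow_orderOf_eq_one]
    rw [hinj h1, orderOf_one] at hx
    omega
  obtain ⟨M, hM, hle⟩ := (eq_top_or_exists_le_coatom sq.range).resolve_left hne
  obtain ⟨y, hy⟩ : ∃ y, y ∉ M := by
    by_contra hc
    push Not at hc
    exact hM.1 (eq_top_iff.2 fun y _ => hc y)
  have hy2 : y * y ∈ M := hle ⟨y, pow_two y⟩
  refine ⟨M.comap (QuotientGroup.mk' (commutator G)), ?_⟩
  rw [Subgroup.index_comap_of_surjective _ (QuotientGroup.mk'_surjective _), Subgroup.index_eq_two_iff]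
  refine ⟨y, fun b => ?_⟩
  have htop : M ⊔ Subgroup.zpowers y = ⊤ :=
    hM.2 _ (lt_of_le_of_ne le_sup_left fun e => hy (e ▸ Subgroup.mem_sup_right (Subgroup.mem_zpowers y)))
  obtain ⟨m, hm, w, ⟨k, rfl⟩, rfl⟩ := Subgroup.mem_sup.1 (htop ▸ Subgroup.mem_top b : b ∈ M ⊔ Subgroup.zpowers y)
  rcases Int.even_or_odd' k with ⟨j, rfl | rfl⟩ <;> beta_reduce
  · refine Or.inr ⟨?_, fun hc => hy ?_⟩
    · exact M.mul_mem hm (by rw [zpow_mul, zpow_two]; exact M.zpow_mem hy2 j)
    · have h1 : m * y ^ (2 * j) ∈ M := M.mul_mem hm (by rw [zpow_mul, zpow_two]; exact M.zpow_mem hy2 j)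
      exact (M.mul_mem_cancel_left h1).1 hc
  · have h1 : m * y ^ (2 * j) ∈ M := M.mul_mem hm (by rw [zpow_mul, zpow_two]; exact M.zpow_mem hy2 j)
    refine Or.inl ⟨?_, fun hc => hy ?_⟩
    · rw [zpow_add, zpow_one, ← mul_assoc, mul_assoc]
      exact M.mul_mem h1 hy2
    · rw [zpow_add, zpow_one, ← mul_assoc] at hc
      exact (M.mul_mem_cancel_left h1).1 hc

end CfsgLib.InvChar.DihedralSylow
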