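import Cfsg.Agent.Lib.Char.Linear
import Cfsg.Agent.Lib.Char.LinearSum
import Cfsg.Agent.Lib.Invol.Basic

/-!
The Brauer-Suzuki-Wall situation: `C(t) = K⟨s⟩`, `K` abelian TI inverted by `s`, one class of
involutions. Group theoretic basics and counting.
-/

set_option autoImplicit false

namespace CfsgLib.InvChar.BSW

open CfsgLib.Invol

universe u

variable {G : Type u} [Group G]

/-- The hypotheses of the Brauer-Suzuki-Wall theorem. -/
structure Setup (t : G) (K : Subgroup G) (s : G) : Prop where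
  ht : orderOf t = 2
  hcomm : ∀ x ∈ K, ∀ y ∈ K, x * y = y * x
  hKH : K ≤ Subgroup.centralizer ({t} : Set G)
  htK : t ∈ K
  hs : orderOf s = 2
  hsH : s ∈ Subgroup.centralizer ({t} : Set G)
  hsK : s ∉ K
  hH : K ⊔ Subgroup.zpowers s = Subgroup.centralizer ({t} : Set G)
  hCK : K ⊓ Subgroup.centralizer ({s} : Set G) = Subgroup.zpowers t
  hinv : ∀ x ∈ K, s * x * s⁻¹ = x⁻¹
  hTI : ∀ g : G, g ∉ Subgroup.centralizer ({t} : Set G) → K ⊓ K.map (MulAut.conj g).toMonoidHom = ⊥
  hconj : ∀ x y : G, orderOf x = 2 → orderOf y = 2 → IsConj x y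

variable {t s : G} {K : Subgroup G}

theorem mul_self_eq_one_of_order_two {a : G} (h : orderOf a = 2) : a * a = 1 := invol_mul_self h

namespace Setup

variable (S : Setup t K s)
include S

theorem conjInv {x : G} (hx : x ∈ K) : s * x = x⁻¹ * s := by
  rw [← S.hinv x hx, inv_mul_cancel_right]

theorem eq_of_sq {x : G} (hx : x ∈ K) (h : x * x = 1) : x = 1 ∨ x = t := by
  have hx' : x⁻¹ = x := inv_eq_of_mul_eq_one_right h
  have hc : s * x = x * s := by rw [S.conjInv hx, hx']
  have hmem : x ∈ Subgroup.zpowers t := by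
    rw [← S.hCK]
    exact ⟨hx, Subgroup.mem_centralizer_singleton_iff.2 hc.symm⟩
  obtain ⟨i, rfl⟩ := hmem
  rcases Int.even_or_odd i with ⟨l, rfl⟩ | ⟨l, rfl⟩
  · left
    show t ^ (l + l) = 1
    rw [← two_mul, zpow_mul, zpow_two, invol_mul_self S.ht, one_zpow]
  · right
    show t ^ (2 * l + 1) = t
    rw [zpow_add_one, zpow_mul, zpow_two, invol_mul_self S.ht, one_zpow, one_mul]

theorem mem_H {h : G} : h ∈ Subgroup.centralizer ({t} : Set G) ↔ h ∈ K ∨ h * s ∈ K := by
  have hss : s * s = 1 := invol_mul_self S.hs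
  have hsi : s⁻¹ = s := invol_inv S.hs
  constructor
  · intro hh
    let M : Subgroup G :=
      { carrier := {a | a ∈ K ∨ a * s ∈ K}
        one_mem' := Or.inl (one_mem K)
        mul_mem' := by
          intro a b ha hb
          rcases ha with ha | ha <;> rcases hb with hb | hb
          · exact Or.inl (mul_mem ha hb)
          · exact Or.inr (by rw [mul_assoc]; exact mul_mem ha hb)
          · refine Or.inr ?_
            have e : a * b * s = a * s * (s * b * s⁻¹) := by
              rw [hsi]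
              calc a * b * s = a * (s * s) * b * s := by rw [hss, mul_one]
                _ = a * s * (s * b * s) := by group
            rw [e, S.hinv b hb]
            exact mul_mem ha (inv_mem hb)
          · refine Or.inl ?_
            have e : a * b = a * s * (s * (b * s) * s⁻¹) := by
              rw [hsi]
              calc a * b = a * (s * s) * b * (s * s) := by rw [hss, mul_one, mul_one]
                _ = a * s * (s * (b * s) * s) := by group
            rw [e, S.hinv _ hb]
            exact mul_mem ha (inv_mem hb)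
        inv_mem' := by
          intro a ha
          rcases ha with ha | ha
          · exact Or.inl (inv_mem ha)
          · refine Or.inr ?_
            have e : a⁻¹ * s = s * (a * s)⁻¹ * s⁻¹ := by
              rw [hsi, _root_.mul_inv_rev, hsi, ← mul_assoc, hss, one_mul]
            rw [e, S.hinv _ (inv_mem ha)]
            exact inv_mem (inv_mem ha) }
    rw [← S.hH] at hh
    exact (sup_le (fun a ha => Or.inl ha) (Subgroup.zpowers_le.2
      (Or.inr (by rw [hss]; exact one_mem K))) : K ⊔ Subgroup.zpowers s ≤ M) hh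
  · rintro (h' | h')
    · exact S.hKH h'
    · have := mul_mem (S.hKH h') S.hsH
      rwa [mul_assoc, hss, mul_one] at this

theorem mul_s_invol {x : G} (hx : x ∈ K) : orderOf (x * s) = 2 := by
  refine invol_of_mul_self ?_ fun h => S.hsK ?_
  · rw [mul_assoc, ← mul_assoc s x s, S.conjInv hx, mul_assoc x⁻¹ s s, invol_mul_self S.hs, mul_one,
      mul_inv_cancel]
  · rw [← inv_eq_of_mul_eq_one_right h]
    exact inv_mem hx

theorem invol_in_H {h : G} (hh : h ∈ Subgroup.centralizer ({t} : Set G)) (ho : orderOf h = 2) :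
    h = t ∨ h * s ∈ K := by
  rcases S.mem_H.1 hh with h' | h'
  · exact Or.inl ((S.eq_of_sq h' (invol_mul_self ho)).resolve_left (invol_ne_one ho))
  · exact Or.inr h'

theorem conj_mem {h x : G} (hh : h ∈ Subgroup.centralizer ({t} : Set G)) (hx : x ∈ K) :
    h * x * h⁻¹ ∈ K ∧ (h * x * h⁻¹ = x ∨ h * x * h⁻¹ = x⁻¹) := by
  rcases S.mem_H.1 hh with h' | h'
  · have : h * x * h⁻¹ = x := by rw [S.hcomm h h' x hx, mul_inv_cancel_right]
    exact ⟨this.symm ▸ hx, Or.inl this⟩
  · have e : h * x * h⁻¹ = h * s * (s * x * s⁻¹) * (h * s)⁻¹ := by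
      rw [_root_.mul_inv_rev, invol_inv S.hs]
      calc h * x * h⁻¹ = h * (s * s) * x * (s * s) * h⁻¹ := by
            rw [invol_mul_self S.hs, mul_one, mul_one]
        _ = h * s * (s * x * s) * (s * h⁻¹) := by group
    have : h * x * h⁻¹ = x⁻¹ := by
      rw [e, S.hinv x hx, S.hcomm _ h' _ (inv_mem hx), mul_inv_cancel_right]
    exact ⟨this.symm ▸ inv_mem hx, Or.inr this⟩

theorem mem_H_of_conj {g x : G} (hx : x ∈ K) (hx1 : x ≠ 1) (h : g * x * g⁻¹ ∈ K) :
    g ∈ Subgroup.centralizer ({t} : Set G) := by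
  by_contra hg
  have hmem : g * x * g⁻¹ ∈ K ⊓ K.map (MulAut.conj g).toMonoidHom :=
    ⟨h, Subgroup.mem_map_of_mem _ hx⟩
  rw [S.hTI g hg, Subgroup.mem_bot] at hmem
  exact hx1 (conj_eq_one_iff.1 hmem)

theorem cent_le {x c : G} (hx : x ∈ K) (hx1 : x ≠ 1) (hc : c * x = x * c) :
    c ∈ Subgroup.centralizer ({t} : Set G) :=
  S.mem_H_of_conj hx hx1 (by rw [hc, mul_inv_cancel_right]; exact hx)

theorem cent_eq {x c : G} (hx : x ∈ K) (hx2 : x * x ≠ 1) (hc : c * x = x * c) : c ∈ K := by
  have hx1 : x ≠ 1 := fun h => hx2 (by rw [h, one_mul])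
  rcases S.mem_H.1 (S.cent_le hx hx1 hc) with h | h
  · exact h
  · exfalso
    apply hx2
    have h1 : s * x * s⁻¹ = x := by
      have hcs : (c * s) * x = x * (c * s) := S.hcomm _ h _ hx
      calc s * x * s⁻¹ = c⁻¹ * ((c * s) * x) * s⁻¹ := by group
        _ = c⁻¹ * (x * (c * s)) * s⁻¹ := by rw [hcs]
        _ = c⁻¹ * (x * c) := by group
        _ = x := by rw [← hc, inv_mul_cancel_left]
    rw [S.hinv x hx] at h1
    exact eq_inv_iff_mul_eq_one.1 h1.symm

/-- The involutions whose product with `x ∈ K#` is an involution form the coset `K s`. -/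
theorem pair_iff {x : G} (hx : x ∈ K) (hx1 : x ≠ 1) (u : G) :
    (orderOf u = 2 ∧ orderOf (u * x) = 2) ↔ u * s ∈ K := by
  constructor
  · rintro ⟨hu, hux⟩
    have h1 : u * x * u⁻¹ = x⁻¹ := by
      have := invol_mul_self hux
      rw [invol_inv hu]
      exact eq_inv_of_mul_eq_one_left (by rw [mul_assoc]; exact this)
    have huH := S.mem_H_of_conj hx hx1 (g := u) (h1.symm ▸ inv_mem hx)
    rcases S.invol_in_H huH hu with rfl | h
    · exfalso
      have h3 : u * x = x * u := S.hcomm u S.htK x hx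
      have h4 : x * x = 1 := by
        rw [h3, mul_inv_cancel_right] at h1
        exact eq_inv_iff_mul_eq_one.1 h1
      rw [(S.eq_of_sq hx h4).resolve_left hx1, invol_mul_self hu, orderOf_one] at hux
      omega
    · exact h
  · intro h
    have hu : u = u * s * s := by rw [mul_assoc, invol_mul_self S.hs, mul_one]
    refine ⟨hu ▸ S.mul_s_invol h, ?_⟩
    have e : u * x = u * s * x⁻¹ * s := by
      conv_lhs => rw [hu]
      rw [mul_assoc (u * s) s x, S.conjInv hx, ← mul_assoc]
    rw [e]
    exact S.mul_s_invol (mul_mem h (inv_mem hx))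

variable [Finite G]

theorem even_card : Even (Nat.card ↥K) := by
  have := Subgroup.orderOf_dvd_natCard K S.htK
  rw [S.ht] at this
  exact even_iff_two_dvd.2 this

theorem card_H : Nat.card ↥(Subgroup.centralizer ({t} : Set G)) = 2 * Nat.card ↥K := by
  have hle : K ≤ Subgroup.centralizer ({t} : Set G) := S.hKH
  have h2 : K.relIndex (Subgroup.centralizer ({t} : Set G)) = 2 := by
    rw [Subgroup.relIndex, Subgroup.index_eq_two_iff]
    refine ⟨⟨s, S.hsH⟩, fun b => ?_⟩
    simp only [Subgroup.mem_subgroupOf, Subgroup.coe_mul]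
    rcases S.mem_H.1 b.2 with h | h
    · exact Or.inr ⟨h, fun h' => S.hsK (by simpa using mul_mem (inv_mem h) h')⟩
    · refine Or.inl ⟨h, fun h' => S.hsK ?_⟩
      simpa using mul_mem (inv_mem h') h
  have := Subgroup.relIndex_mul_relIndex ⊥ K (Subgroup.centralizer ({t} : Set G)) bot_le hle
  rw [Subgroup.relIndex_bot_left, Subgroup.relIndex_bot_left, h2] at this
  omega

theorem card_H_invol {v : G} (hv : orderOf v = 2) :
    Nat.card ↥(Subgroup.centralizer ({v} : Set G)) = 2 * Nat.card ↥K := by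
  obtain ⟨g, hg⟩ := isConj_iff.1 (S.hconj t v S.ht hv)
  rw [← S.card_H]
  refine Nat.card_congr
    { toFun := fun a => ⟨g⁻¹ * a * g, ?_⟩
      invFun := fun a => ⟨g * a * g⁻¹, ?_⟩
      left_inv := fun a => Subtype.ext (by group)
      right_inv := fun a => Subtype.ext (by group) }
  · refine Subgroup.mem_centralizer_singleton_iff.2 ?_
    have := Subgroup.mem_centralizer_singleton_iff.1 a.2
    calc g⁻¹ * a * g * t = g⁻¹ * (a * (g * t * g⁻¹)) * g := by group
      _ = g⁻¹ * ((g * t * g⁻¹) * a) * g := by rw [hg, this]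
      _ = t * (g⁻¹ * a * g) := by group
  · refine Subgroup.mem_centralizer_singleton_iff.2 ?_
    have := Subgroup.mem_centralizer_singleton_iff.1 a.2
    calc g * a * g⁻¹ * v = g * (a * t) * g⁻¹ := by rw [← hg]; group
      _ = g * (t * a) * g⁻¹ := by rw [this]
      _ = v * (g * a * g⁻¹) := by rw [← hg]; group

end Setup

/-- The involutions. -/
noncomputable def invols (G : Type u) [Group G] [Fintype G] : Finset G :=
  letI := Classical.decEq G
  Finset.univ.filter fun u => orderOf u = 2

theorem mem_invols [Fintype G] {u : G} : u ∈ invols G ↔ orderOf u = 2 := by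
  classical
  simp [invols]

/-- The conjugates of the non-identity elements of `K`. -/
noncomputable def kParts (K : Subgroup G) [Fintype G] : Finset G :=
  letI := Classical.decEq G
  letI : DecidablePred fun y : G => ∃ g : G, g * y * g⁻¹ ∈ K := Classical.decPred _
  Finset.univ.filter fun y => y ≠ 1 ∧ ∃ g : G, g * y * g⁻¹ ∈ K

theorem mem_kParts [Fintype G] {y : G} : y ∈ kParts K ↔ y ≠ 1 ∧ ∃ g : G, g * y * g⁻¹ ∈ K := by
  classical
  simp [kParts]

/-- The non-identity elements of `K`. -/
noncomputable def kNe (K : Subgroup G) [Fintype G] : Finset G :=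
  letI := Classical.decEq G
  letI : DecidablePred fun y : G => y ∈ K := Classical.decPred _
  Finset.univ.filter fun y => y ∈ K ∧ y ≠ 1

theorem mem_kNe [Fintype G] {y : G} : y ∈ kNe K ↔ y ∈ K ∧ y ≠ 1 := by
  classical
  simp [kNe]

theorem card_kNe [Fintype G] : (kNe K).card + 1 = Nat.card ↥K := by
  classical
  rw [Nat.card_eq_fintype_card, Fintype.card_subtype,
    show kNe K = (Finset.univ.filter fun y : G => y ∈ K).erase 1 by ext y; simp [mem_kNe, and_comm],
    Finset.card_erase_of_mem (by simp [one_mem])]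
  have : 0 < (Finset.univ.filter fun y : G => y ∈ K).card := Finset.card_pos.2 ⟨1, by simp [one_mem]⟩
  omega

namespace Setup

variable (S : Setup t K s) [Fintype G]
include S

/-- Fibres of the conjugation map onto the class of involutions. -/
theorem sum_conj_invol {M : Type*} [AddCommMonoid M] (f : G → M) :
    ∑ g : G, f (g * t * g⁻¹) = (2 * Nat.card ↥K) • ∑ u ∈ invols G, f u := by
  classical
  have hmap : ∀ g ∈ (Finset.univ : Finset G), g * t * g⁻¹ ∈ invols G := fun g _ =>
    mem_invols.2 (by rw [orderOf_conj_eq, S.ht])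
  rw [← Finset.sum_fiberwise_of_maps_to hmap, Finset.smul_sum]
  refine Finset.sum_congr rfl fun u hu => ?_
  rw [Finset.sum_congr rfl (g := fun _ => f u) fun g hg => by rw [(Finset.mem_filter.1 hg).2],
    Finset.sum_const]
  congr 1
  obtain ⟨c, hc⟩ := isConj_iff.1 (S.hconj t u S.ht (mem_invols.1 hu))
  rw [← S.card_H, Nat.card_eq_fintype_card, Fintype.card_subtype]
  refine Finset.card_bij (fun g _ => c⁻¹ * g) (fun g hg => ?_) (fun a _ b _ h => mul_left_cancel h)
    (fun b hb => ⟨c * b, ?_, by group⟩)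
  · have hg' := (Finset.mem_filter.1 hg).2
    simp only [Finset.mem_filter, Finset.mem_univ, true_and]
    refine Subgroup.mem_centralizer_singleton_iff.2 ?_
    calc c⁻¹ * g * t = c⁻¹ * (g * t * g⁻¹) * g := by group
      _ = c⁻¹ * (c * t * c⁻¹) * g := by rw [hg', hc]
      _ = t * (c⁻¹ * g) := by group
  · simp only [Finset.mem_filter, Finset.mem_univ, true_and] at hb ⊢
    rw [← hc]
    calc c * b * t * (c * b)⁻¹ = c * (b * t) * b⁻¹ * c⁻¹ := by group
      _ = c * (t * b) * b⁻¹ * c⁻¹ := by rw [Subgroup.mem_centralizer_singleton_iff.1 hb]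
      _ = c * t * c⁻¹ := by group

theorem card_G : Nat.card G = 2 * Nat.card ↥K * (invols G).card := by
  have h := S.sum_conj_invol (fun _ => (1 : ℕ))
  simp only [Finset.sum_const, Finset.card_univ, smul_eq_mul, mul_one] at h
  rw [Nat.card_eq_fintype_card, h]

/-- Fibres of the conjugation map onto `kParts`. -/
theorem sum_kParts {f : G → ℂ} (hf : ∀ a g : G, f (g * a * g⁻¹) = f a) :
    (2 * Nat.card ↥K : ℂ) * ∑ y ∈ kParts K, f y = (Nat.card G : ℂ) * ∑ x ∈ kNe K, f x := by
  classical
  have hmap : ∀ p ∈ (Finset.univ : Finset G) ×ˢ kNe K, p.1 * p.2 * p.1⁻¹ ∈ kParts K := by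
    intro p hp
    obtain ⟨-, hp2⟩ := Finset.mem_product.1 hp
    obtain ⟨h1, h2⟩ := mem_kNe.1 hp2
    refine mem_kParts.2 ⟨fun h => h2 (conj_eq_one_iff.1 h), p.1⁻¹, ?_⟩
    simpa [mul_assoc] using h1
  have hL : (Nat.card G : ℂ) * ∑ x ∈ kNe K, f x =
      ∑ p ∈ (Finset.univ : Finset G) ×ˢ kNe K, f (p.1 * p.2 * p.1⁻¹) := by
    rw [Finset.sum_product]
    simp only [hf]
    rw [Finset.sum_const, Finset.card_univ, nsmul_eq_mul, Nat.card_eq_fintype_card]
  rw [hL, ← Finset.sum_fiberwise_of_maps_to hmap, Finset.mul_sum]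
  refine Finset.sum_congr rfl fun y hy => ?_
  rw [Finset.sum_congr rfl (g := fun _ => f y) fun p hp => by rw [(Finset.mem_filter.1 hp).2],
    Finset.sum_const, nsmul_eq_mul]
  congr 1
  obtain ⟨hy1, c, hc⟩ := mem_kParts.1 hy
  set x := c * y * c⁻¹ with hx
  have hx1 : x ≠ 1 := fun h => hy1 (conj_eq_one_iff.1 h)
  have hcard : ((Finset.univ ×ˢ kNe K).filter fun p : G × G => p.1 * p.2 * p.1⁻¹ = y).card =
      2 * Nat.card ↥K := by
    rw [← S.card_H, Nat.card_eq_fintype_card, Fintype.card_subtype]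
    refine (Finset.card_bij (fun h _ => (c⁻¹ * h, h⁻¹ * x * h)) (fun h hh => ?_)
      (fun a _ b _ e => mul_left_cancel (Prod.mk.inj e).1) (fun p hp => ⟨c * p.1, ?_, ?_⟩)).symm
    · simp only [Finset.mem_filter, Finset.mem_univ, true_and] at hh
      simp only [Finset.mem_filter, Finset.mem_product, Finset.mem_univ, true_and, mem_kNe]
      have h1 := (S.conj_mem (inv_mem hh) hc).1
      rw [inv_inv] at h1
      refine ⟨⟨h1, fun e => hx1 ?_⟩, ?_⟩
      · calc x = h * (h⁻¹ * x * h) * h⁻¹ := by group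
          _ = 1 := by rw [e]; group
      · rw [hx]; group
    · simp only [Finset.mem_filter, Finset.mem_product, Finset.mem_univ, true_and, mem_kNe] at hp
      simp only [Finset.mem_filter, Finset.mem_univ, true_and]
      refine S.mem_H_of_conj hp.1.1 hp.1.2 ?_
      have e : c * p.1 * p.2 * (c * p.1)⁻¹ = c * (p.1 * p.2 * p.1⁻¹) * c⁻¹ := by group
      rw [e, hp.2]
      exact hc
    · simp only [Finset.mem_filter, Finset.mem_product, Finset.mem_univ, true_and, mem_kNe] at hp
      refine Prod.ext (by simp) ?_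
      show (c * p.1)⁻¹ * x * (c * p.1) = p.2
      rw [hx, ← hp.2]; group
  exact_mod_cast hcard.symm

theorem two_mul_card_kParts :
    2 * Nat.card ↥K * (kParts K).card = Nat.card G * (Nat.card ↥K - 1) := by
  have h := S.sum_kParts (f := fun _ => (1 : ℂ)) fun _ _ => rfl
  simp only [Finset.sum_const, nsmul_eq_mul, mul_one] at h
  have h' : 2 * Nat.card ↥K * (kParts K).card = Nat.card G * (kNe K).card := by exact_mod_cast h
  rw [h', ← card_kNe, Nat.add_sub_cancel]

theorem card_kParts : (kParts K).card = (invols G).card * (Nat.card ↥K - 1) := by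
  have h := S.two_mul_card_kParts
  rw [S.card_G, mul_assoc (2 * Nat.card ↥K)] at h
  exact Nat.eq_of_mul_eq_mul_left (by have := Nat.card_pos (α := ↥K); omega) h

/-- An element commuting with a conjugate of an element of `K#` is in `kParts`. -/
theorem mem_kParts_of_commute {y z : G} (hz : z ∈ kParts K) (hy : y ≠ 1) (h : y * z = z * y) :
    y ∈ kParts K := by
  obtain ⟨hz1, g, hg⟩ := mem_kParts.1 hz
  set y' := g * y * g⁻¹ with hy'
  have hc : y' * (g * z * g⁻¹) = (g * z * g⁻¹) * y' := by
    calc g * y * g⁻¹ * (g * z * g⁻¹) = g * (y * z) * g⁻¹ := by group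
      _ = g * (z * y) * g⁻¹ := by rw [h]
      _ = g * z * g⁻¹ * (g * y * g⁻¹) := by group
  have hyH := S.cent_le hg (fun e => hz1 (conj_eq_one_iff.1 e)) hc
  rcases S.mem_H.1 hyH with hK | hK
  · exact mem_kParts.2 ⟨hy, g, hK⟩
  · have ho : orderOf y' = 2 := by
      have := S.mul_s_invol hK
      rwa [mul_assoc, invol_mul_self S.hs, mul_one] at this
    obtain ⟨c, hc'⟩ := isConj_iff.1 (S.hconj y' t ho S.ht)
    refine mem_kParts.2 ⟨hy, c * g, ?_⟩
    have e : c * g * y * (c * g)⁻¹ = c * y' * c⁻¹ := by rw [hy']; group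
    rw [e, hc']
    exact S.htK

theorem invol_mem_kParts {v : G} (hv : orderOf v = 2) : v ∈ kParts K := by
  obtain ⟨c, hc⟩ := isConj_iff.1 (S.hconj v t hv S.ht)
  exact mem_kParts.2 ⟨invol_ne_one hv, c, hc.symm ▸ S.htK⟩

/-- The involutions forming an involutory product with `y`. -/
theorem card_pairs_kNe {x : G} (hx : x ∈ K) (hx1 : x ≠ 1) :
    ((invols G).filter fun u => orderOf (u * x) = 2).card = Nat.card ↥K := by
  classical
  rw [Nat.card_eq_fintype_card, Fintype.card_subtype]
  refine Finset.card_bij (fun u _ => u * s) (fun u hu => ?_) (fun a _ b _ e => mul_right_cancel e)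
    (fun b hb => ⟨b * s, ?_, by rw [mul_assoc, invol_mul_self S.hs, mul_one]⟩)
  · simp only [Finset.mem_filter, mem_invols] at hu
    simp only [Finset.mem_filter, Finset.mem_univ, true_and]
    exact (S.pair_iff hx hx1 u).1 hu
  · simp only [Finset.mem_filter, Finset.mem_univ, true_and] at hb
    simp only [Finset.mem_filter, mem_invols]
    exact (S.pair_iff hx hx1 (b * s)).2 (by rwa [mul_assoc, invol_mul_self S.hs, mul_one])

theorem card_pairs_kParts {y : G} (hy : y ∈ kParts K) :
    ((invols G).filter fun u => orderOf (u * y) = 2).card = Nat.card ↥K := by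
  classical
  obtain ⟨hy1, g, hg⟩ := mem_kParts.1 hy
  rw [← S.card_pairs_kNe hg (fun e => hy1 (conj_eq_one_iff.1 e))]
  refine Finset.card_bij (fun u _ => g * u * g⁻¹) (fun u hu => ?_)
    (fun a _ b _ e => mul_left_cancel (mul_right_cancel e))
    (fun b hb => ⟨g⁻¹ * b * g, ?_, by group⟩)
  · simp only [Finset.mem_filter, mem_invols] at hu ⊢
    refine ⟨by rw [orderOf_conj_eq, hu.1], ?_⟩
    rw [show g * u * g⁻¹ * (g * y * g⁻¹) = g * (u * y) * g⁻¹ by group, orderOf_conj_eq, hu.2]
  · simp only [Finset.mem_filter, mem_invols] at hb ⊢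
    refine ⟨?_, ?_⟩
    · rw [show g⁻¹ * b * g = g⁻¹ * b * g⁻¹⁻¹ by rw [inv_inv], orderOf_conj_eq, hb.1]
    · rw [show g⁻¹ * b * g * y = g⁻¹ * (b * (g * y * g⁻¹)) * g⁻¹⁻¹ by group, orderOf_conj_eq, hb.2]

/-- An element outside `kParts` inverted by an involution has abelian centralizer, inverted by
that involution. -/
theorem real_facts {y u : G} (hy : y ∉ kParts K) (hy1 : y ≠ 1) (hu : orderOf u = 2)
    (huy : orderOf (u * y) = 2) :
    (∀ c, c * y = y * c → u * c * u⁻¹ = c⁻¹) ∧
      (∀ a b, a * y = y * a → b * y = y * b → a * b = b * a) ∧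
      ((invols G).filter fun v => orderOf (v * y) = 2).card =
        Nat.card ↥(Subgroup.centralizer ({y} : Set G)) := by
  classical
  set A := Subgroup.centralizer ({y} : Set G) with hA
  have memA : ∀ c, c ∈ A ↔ c * y = y * c := fun c => Subgroup.mem_centralizer_singleton_iff
  have hinvy : ∀ v, orderOf v = 2 → orderOf (v * y) = 2 → v * y * v⁻¹ = y⁻¹ := fun v hv hvy => by
    rw [invol_inv hv]
    exact eq_inv_of_mul_eq_one_left (by rw [mul_assoc]; exact invol_mul_self hvy)
  have huy' := hinvy u hu huy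
  have hconjA : ∀ c ∈ A, u * c * u⁻¹ ∈ A := by
    intro c hc
    have h : Commute (u * c * u⁻¹) (u * y * u⁻¹) := by
      show u * c * u⁻¹ * (u * y * u⁻¹) = u * y * u⁻¹ * (u * c * u⁻¹)
      calc u * c * u⁻¹ * (u * y * u⁻¹) = u * (c * y) * u⁻¹ := by group
        _ = u * (y * c) * u⁻¹ := by rw [(memA c).1 hc]
        _ = u * y * u⁻¹ * (u * c * u⁻¹) := by group
    rw [huy'] at h
    exact (memA _).2 (Commute.inv_right_iff.1 h).eq
  -- no involution in `A`, and `u` has no fixed points
  have hodd : ∀ v, orderOf v = 2 → v * y ≠ y * v := fun v hv h =>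
    hy (S.mem_kParts_of_commute (S.invol_mem_kParts hv) hy1 h.symm)
  have hfix : ∀ c ∈ A, u * c * u⁻¹ = c → c = 1 := by
    intro c hc he
    by_contra hc1
    have hcu : c * u = u * c := by
      have := congrArg (fun a => a * u) he
      simpa [mul_assoc] using this.symm
    exact hy (S.mem_kParts_of_commute (S.mem_kParts_of_commute (S.invol_mem_kParts hu) hc1 hcu)
      hy1 ((memA c).1 hc).symm)
  let φ : ↥A → ↥A := fun a => ⟨(a : G)⁻¹ * (u * a * u⁻¹), mul_mem (inv_mem a.2) (hconjA a a.2)⟩
  have hφ : Function.Injective φ := by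
    intro a b hab
    have h : (a : G)⁻¹ * (u * a * u⁻¹) = (b : G)⁻¹ * (u * b * u⁻¹) := congrArg Subtype.val hab
    refine Subtype.ext ?_
    have h2 : u * ((b : G) * (a : G)⁻¹) * u⁻¹ = (b : G) * (a : G)⁻¹ := by
      calc u * ((b : G) * (a : G)⁻¹) * u⁻¹
          = (b : G) * ((b : G)⁻¹ * (u * b * u⁻¹)) * (u * a * u⁻¹)⁻¹ := by group
        _ = (b : G) * ((a : G)⁻¹ * (u * a * u⁻¹)) * (u * a * u⁻¹)⁻¹ := by rw [h]
        _ = (b : G) * (a : G)⁻¹ := by group
    exact (mul_inv_eq_one.1 (hfix _ (mul_mem b.2 (inv_mem a.2)) h2)).symm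
  have hinv : ∀ c ∈ A, u * c * u⁻¹ = c⁻¹ := by
    intro c hc
    obtain ⟨a, ha⟩ := (Finite.injective_iff_surjective.1 hφ) ⟨c, hc⟩
    have h : (a : G)⁻¹ * (u * a * u⁻¹) = c := congrArg Subtype.val ha
    rw [← h, invol_inv hu]
    have huu := invol_mul_self hu
    calc u * ((a : G)⁻¹ * (u * a * u)) * u = u * (a : G)⁻¹ * u * a * (u * u) := by group
      _ = u * (a : G)⁻¹ * u * a := by rw [huu, mul_one]
      _ = ((a : G)⁻¹ * (u * a * u))⁻¹ := by
          rw [_root_.mul_inv_rev, _root_.mul_inv_rev, _root_.mul_inv_rev, inv_inv, invol_inv hu]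
          group
  refine ⟨fun c hc => hinv c ((memA c).2 hc), fun a b ha hb => ?_, ?_⟩
  · have hab := hinv (a * b) (mul_mem ((memA a).2 ha) ((memA b).2 hb))
    have h3 : u * (a * b) * u⁻¹ = u * a * u⁻¹ * (u * b * u⁻¹) := by group
    rw [h3, hinv a ((memA a).2 ha), hinv b ((memA b).2 hb), _root_.mul_inv_rev] at hab
    have := congrArg (fun z => z⁻¹) hab
    simpa using this.symm
  · rw [Nat.card_eq_fintype_card, Fintype.card_subtype]
    refine Finset.card_bij (fun v _ => u * v) (fun v hv => ?_) (fun a _ b _ e => mul_left_cancel e)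
      (fun c hc => ⟨u * c, ?_, by rw [← mul_assoc, invol_mul_self hu, one_mul]⟩)
    · simp only [Finset.mem_filter, mem_invols] at hv
      simp only [Finset.mem_filter, Finset.mem_univ, true_and]
      refine (memA _).2 ?_
      have hvy := hinvy v hv.1 hv.2
      have hui : u * y⁻¹ * u⁻¹ = y := by
        have := congrArg (fun z => z⁻¹) huy'
        simpa [mul_assoc] using this
      calc u * v * y = u * (v * y * v⁻¹) * v := by group
        _ = u * y⁻¹ * v := by rw [hvy]
        _ = (u * y⁻¹ * u⁻¹) * (u * v) := by group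
        _ = y * (u * v) := by rw [hui]
    · simp only [Finset.mem_filter, Finset.mem_univ, true_and] at hc
      have hsq : ∀ d ∈ A, orderOf (u * d) = 2 := by
        intro d hd
        refine invol_of_mul_self ?_ fun h => hodd u hu ?_
        · have h1 := hinv d hd
          rw [invol_inv hu] at h1
          rw [← mul_assoc, h1, inv_mul_cancel]
        · have : u = d⁻¹ := eq_inv_of_mul_eq_one_left h
          rw [this]
          exact (memA _).1 (inv_mem hd)
      simp only [Finset.mem_filter, mem_invols]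
      refine ⟨hsq c hc, ?_⟩
      rw [mul_assoc]
      exact hsq _ (mul_mem hc ((memA y).2 rfl))

/-- The double count of pairs of involutions. -/
theorem pair_count :
    (invols G).card * (invols G).card =
      ∑ y : G, ((invols G).filter fun u => orderOf (u * y) = 2).card := by
  classical
  simp only [Finset.card_filter]
  rw [Finset.sum_comm]
  rw [Finset.sum_congr rfl (g := fun _ => (invols G).card) fun u hu => ?_, Finset.sum_const,
    smul_eq_mul]
  rw [← Finset.card_filter]
  refine Finset.card_bij (fun y _ => u * y) (fun y hy => mem_invols.2 (Finset.mem_filter.1 hy).2)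
    (fun a _ b _ e => mul_left_cancel e) (fun v hv => ⟨u⁻¹ * v, ?_, mul_inv_cancel_left u v⟩)
  simp only [Finset.mem_filter, Finset.mem_univ, true_and, mul_inv_cancel_left]
  exact mem_invols.1 hv

end Setup

end CfsgLib.InvChar.BSW
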