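import Cfsg.Agent.Lib.InvChar.BSWChars

/-!
The exceptional character of the Brauer-Suzuki-Wall situation and the group order.
-/

set_option autoImplicit false
set_option linter.unusedSectionVars false

namespace CfsgLib.InvChar.BSW

open CfsgLib.Invol CfsgLib.Char
open scoped ComplexConjugate

universe u

variable {G : Type u} [Group G] {t s : G} {K : Subgroup G} [Fintype G]

/-- The trivial character. -/
def triv (G : Type u) [Group G] : Cfsg.IrrCharacter G := ⟨fun _ => 1, isIrrCharacter_one⟩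

theorem triv_apply (y : G) : ((triv G : Cfsg.IrrCharacter G) : G → ℂ) y = 1 := rfl

/-- A finite family of integers whose squares sum to two. -/
theorem exists_pair_of_sum_sq_two {ι : Type*} [DecidableEq ι] (s : Finset ι) (f : ι → ℤ)
    (h : ∑ i ∈ s, f i * f i = 2) :
    ∃ a ∈ s, ∃ b ∈ s, a ≠ b ∧ f a * f a = 1 ∧ f b * f b = 1 ∧
      ∀ i ∈ s, i ≠ a → i ≠ b → f i = 0 := by
  set S := s.filter fun i => f i ≠ 0 with hS
  have hsum : ∑ i ∈ S, f i * f i = 2 := by
    rw [← h, hS, Finset.sum_filter]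
    refine Finset.sum_congr rfl fun i _ => ?_
    by_cases hi : f i = 0 <;> simp [hi]
  have hone : ∀ i ∈ S, f i * f i = 1 := by
    intro i hi
    have h0 : f i ≠ 0 := (Finset.mem_filter.1 hi).2
    have hle : f i * f i ≤ 2 := by
      rw [← hsum]
      exact Finset.single_le_sum (fun j _ => mul_self_nonneg (f j)) hi
    have h1 : f i = 1 ∨ f i = -1 := by
      have : -1 ≤ f i ∧ f i ≤ 1 := by constructor <;> nlinarith
      omega
    rcases h1 with h1 | h1 <;> rw [h1] <;> norm_num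
  have hcard : S.card = 2 := by
    rw [Finset.sum_congr rfl hone, Finset.sum_const, nsmul_eq_mul, mul_one] at hsum
    exact_mod_cast hsum
  obtain ⟨a, b, hab, hSab⟩ := Finset.card_eq_two.1 hcard
  have ha : a ∈ S := by simp [hSab]
  have hb : b ∈ S := by simp [hSab]
  refine ⟨a, (Finset.mem_filter.1 ha).1, b, (Finset.mem_filter.1 hb).1, hab, hone a ha, hone b hb,
    fun i hi hia hib => ?_⟩
  by_contra h0
  have : i ∈ S := Finset.mem_filter.2 ⟨hi, h0⟩
  simp [hSab, hia, hib] at this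

theorem hom_ne_one {l : ↥K →* ℂˣ} (hl : l * l ≠ 1) : l ≠ 1 := fun e => hl (by
  subst e
  ext x
  simp)

theorem hom_sq_mul (a b : ↥K →* ℂˣ) (h : a * a = 1) : a * b * (a * b) = b * b := by
  ext x
  have := DFunLike.congr_fun h x
  simp only [MonoidHom.mul_apply, MonoidHom.one_apply] at this ⊢
  rw [mul_mul_mul_comm, this, one_mul]

theorem hom_eq_inv {a b : ↥K →* ℂˣ} (h : a * b = 1) : b = a⁻¹ := by
  ext x
  have := DFunLike.congr_fun h x
  simp only [MonoidHom.mul_apply, MonoidHom.one_apply] at this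
  rw [MonoidHom.inv_apply, eq_inv_of_mul_eq_one_right this]

theorem hom_mul_inv_self (a : ↥K →* ℂˣ) : a * a⁻¹ = 1 := by
  ext x
  simp

theorem hom_inv_mul_self (a : ↥K →* ℂˣ) : a⁻¹ * a = 1 := by
  ext x
  simp

theorem hom_one_inv : ((1 : ↥K →* ℂˣ))⁻¹ = 1 := by
  ext x
  simp

theorem hom_eq_of_mul_inv {a b : ↥K →* ℂˣ} (h : a * b⁻¹ = 1) : a = b := by
  ext x
  have := DFunLike.congr_fun h x
  simp only [MonoidHom.mul_apply, MonoidHom.one_apply, MonoidHom.inv_apply] at this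
  rw [mul_inv_eq_one.1 this]

theorem hom_inv_sq_ne {l : ↥K →* ℂˣ} (hl : l * l ≠ 1) : l⁻¹ * l⁻¹ ≠ 1 := fun e => hl (by
  ext x
  have := congrArg (fun z : ℂˣ => z⁻¹) (DFunLike.congr_fun e x)
  simp at this ⊢
  exact congrArg Units.val this)

namespace Setup

variable (S : Setup t K s)
include S

theorem comm_eq_bot : commutator ↥K = ⊥ := by
  rw [commutator_def, Subgroup.commutator_eq_bot_iff_le_centralizer]
  exact fun a _ => Subgroup.mem_centralizer_iff.2 fun b _ => S.commK b a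

theorem finite_lin : Finite (↥K →* ℂˣ) :=
  Nat.finite_of_card_ne_zero (by
    rw [natCard_linear, S.comm_eq_bot, Subgroup.index_bot]
    exact Nat.card_pos.ne')

theorem card_lin : Nat.card (↥K →* ℂˣ) = Nat.card ↥K := by
  rw [natCard_linear, S.comm_eq_bot, Subgroup.index_bot]

open scoped Classical in
theorem sum_lin_apply [Fintype (↥K →* ℂˣ)] (x : ↥K) :
    ∑ l : ↥K →* ℂˣ, (l x : ℂ) = if x = 1 then (Nat.card ↥K : ℂ) else 0 := by
  rw [sum_linear_apply, S.comm_eq_bot, Subgroup.index_bot]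
  simp only [Subgroup.mem_bot]

theorem val_t (l : ↥K →* ℂˣ) : (l ⟨t, S.htK⟩ : ℂ) = 1 ∨ (l ⟨t, S.htK⟩ : ℂ) = -1 := by
  have h : l ⟨t, S.htK⟩ * l ⟨t, S.htK⟩ = 1 := by
    rw [← map_mul]
    convert map_one l
    exact Subtype.ext (invol_mul_self S.ht)
  exact mul_self_eq_one_iff.1 (by rw [← Units.val_mul, h, Units.val_one])

theorem hom_mul_self_ne {l : ↥K →* ℂˣ} {x : ↥K} (h : l (x * x) ≠ 1) : l * l ≠ 1 := fun e => h (by
  rw [map_mul, ← MonoidHom.mul_apply, e, MonoidHom.one_apply])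

theorem exists_sq_ne (hk : 4 ≤ Nat.card ↥K) : ∃ y : ↥K, y * y ≠ 1 := by
  classical
  by_contra h
  push Not at h
  have hsub : (Finset.univ.filter fun x : G => x ∈ K) ⊆ {1, t} := by
    intro x hx
    have := S.eq_of_sq (Finset.mem_filter.1 hx).2
      (congrArg Subtype.val (h ⟨x, (Finset.mem_filter.1 hx).2⟩))
    simpa using this
  have := Finset.card_le_card hsub
  have h2 := Finset.card_le_two (a := (1 : G)) (b := t)
  rw [← Fintype.card_subtype, ← Nat.card_eq_fintype_card] at this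
  omega

theorem exists_fourth_ne (hk : 5 ≤ Nat.card ↥K) : ∃ y : ↥K, y * y * (y * y) ≠ 1 := by
  classical
  haveI : Fintype ↥K := Fintype.ofFinite _
  by_contra h
  push Not at h
  have hfib : ∀ z : ↥K, (Finset.univ.filter fun y : ↥K => y * y = z).card ≤ 2 := by
    intro z
    by_cases hz : ∃ y0 : ↥K, y0 * y0 = z
    · obtain ⟨y0, hy0⟩ := hz
      refine le_trans (Finset.card_le_card (t := {y0, y0 * ⟨t, S.htK⟩}) fun y hy => ?_)
        Finset.card_le_two
      have hy' := (Finset.mem_filter.1 hy).2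
      have hsq : (y0⁻¹ * y) * (y0⁻¹ * y) = 1 := by
        rw [mul_assoc, ← mul_assoc y, S.commK y y0⁻¹, mul_assoc y0⁻¹ y, hy', ← hy0]
        group
      rcases S.eq_of_sq (y0⁻¹ * y).2 (congrArg Subtype.val hsq) with e | e
      · have : y0⁻¹ * y = 1 := Subtype.ext e
        rw [inv_mul_eq_one] at this
        simp [this]
      · have : y0⁻¹ * y = ⟨t, S.htK⟩ := Subtype.ext e
        rw [← this, mul_inv_cancel_left]
        simp
    · rw [Finset.filter_eq_empty_iff.2 fun y _ e => hz ⟨y, e⟩]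
      simp
  have hmap : ∀ y ∈ (Finset.univ : Finset ↥K),
      y * y ∈ ({1, ⟨t, S.htK⟩} : Finset ↥K) := by
    intro y _
    rcases S.eq_of_sq (y * y).2 (congrArg Subtype.val (h y)) with e | e
    · simp [show y * y = 1 from Subtype.ext e]
    · simp [show y * y = ⟨t, S.htK⟩ from Subtype.ext e]
  have h1 := Finset.card_eq_sum_card_fiberwise hmap
  have h2 : ∑ z ∈ ({1, ⟨t, S.htK⟩} : Finset ↥K),
      (Finset.univ.filter fun y : ↥K => y * y = z).card ≤ 2 * 2 := by
    refine le_trans (Finset.sum_le_sum fun z _ => hfib z) ?_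
    rw [Finset.sum_const, smul_eq_mul]
    exact Nat.mul_le_mul_right 2 Finset.card_le_two
  rw [← h1, Finset.card_univ, ← Nat.card_eq_fintype_card] at h2
  omega

theorem exists_neg (hk : 4 ≤ Nat.card ↥K) :
    ∃ l : ↥K →* ℂˣ, l * l ≠ 1 ∧ (l ⟨t, S.htK⟩ : ℂ) = -1 := by
  have ht1 : (⟨t, S.htK⟩ : ↥K) ≠ 1 := fun e => invol_ne_one S.ht (congrArg Subtype.val e)
  obtain ⟨μ, hμ⟩ := exists_linear_ne_one S.commK ht1
  have hμt : (μ ⟨t, S.htK⟩ : ℂ) = -1 :=
    (S.val_t μ).resolve_left fun e => hμ (Units.ext e)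
  by_cases h : μ * μ = 1
  · obtain ⟨y, hy⟩ := S.exists_sq_ne hk
    obtain ⟨ν, hν⟩ := exists_linear_ne_one S.commK hy
    have hν2 := S.hom_mul_self_ne hν
    rcases S.val_t ν with e | e
    · refine ⟨μ * ν, ?_, by rw [MonoidHom.mul_apply, Units.val_mul, hμt, e, mul_one]⟩
      rwa [hom_sq_mul μ ν h]
    · exact ⟨ν, hν2, e⟩
  · exact ⟨μ, h, hμt⟩

theorem exists_pos (hk : 5 ≤ Nat.card ↥K) :
    ∃ l : ↥K →* ℂˣ, l * l ≠ 1 ∧ (l ⟨t, S.htK⟩ : ℂ) = 1 := by
  obtain ⟨y, hy⟩ := S.exists_fourth_ne hk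
  obtain ⟨μ, hμ⟩ := exists_linear_ne_one S.commK hy
  refine ⟨μ * μ, S.hom_mul_self_ne (x := y) ?_, ?_⟩
  · rw [MonoidHom.mul_apply, ← map_mul]
    exact hμ
  · rw [MonoidHom.mul_apply, ← map_mul]
    have : (⟨t, S.htK⟩ : ↥K) * ⟨t, S.htK⟩ = 1 := Subtype.ext (invol_mul_self S.ht)
    rw [this, map_one, Units.val_one]

/-- There is only one non-trivial real linear character. -/
theorem real_lin_unique {a b : ↥K →* ℂˣ} (ha : a * a = 1) (ha1 : a ≠ 1) (hb : b * b = 1)
    (hb1 : b ≠ 1) : a = b := by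
  let sq : ↥K →* ↥K :=
    MonoidHom.mk' (fun x => x * x) fun x y => by
      rw [mul_assoc, ← mul_assoc y, S.commK y x, mul_assoc x y y, ← mul_assoc]
  have hker : Nat.card sq.ker = 2 := by
    have ht1 : (⟨t, S.htK⟩ : ↥K) ≠ 1 := fun e => invol_ne_one S.ht (congrArg Subtype.val e)
    rw [Nat.card_eq_two_iff]
    refine ⟨1, ⟨⟨t, S.htK⟩, MonoidHom.mem_ker.2 (Subtype.ext (invol_mul_self S.ht))⟩,
      fun e => ht1 (congrArg Subtype.val e).symm, Set.eq_univ_of_forall fun x => ?_⟩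
    rcases S.eq_of_sq x.1.2 (congrArg Subtype.val (MonoidHom.mem_ker.1 x.2)) with e | e
    · exact Or.inl (Subtype.ext (Subtype.ext e))
    · exact Or.inr (Subtype.ext (Subtype.ext e))
  have hidx : sq.range.index = 2 := by
    have h1 := sq.range.card_mul_index
    have h2 := sq.ker.card_mul_index
    rw [Subgroup.index_ker, hker] at h2
    have : 0 < Nat.card sq.range := Nat.card_pos
    rw [← h2, mul_comm 2] at h1
    exact Nat.eq_of_mul_eq_mul_left this h1
  obtain ⟨x0, hx0⟩ := Subgroup.index_eq_two_iff.1 hidx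
  have key : ∀ c : ↥K →* ℂˣ, c * c = 1 → c ≠ 1 → ∀ x, (x ∈ sq.range → c x = 1) ∧
      (x ∉ sq.range → (c x : ℂ) = -1) := by
    intro c hc hc1 x
    have htriv : ∀ z ∈ sq.range, c z = 1 := by
      rintro _ ⟨w, rfl⟩
      show c (w * w) = 1
      rw [map_mul, ← MonoidHom.mul_apply, hc, MonoidHom.one_apply]
    refine ⟨htriv x, fun hx => ?_⟩
    have h2 : (c x : ℂ) * (c x : ℂ) = 1 := by
      rw [← Units.val_mul, ← MonoidHom.mul_apply, hc, MonoidHom.one_apply, Units.val_one]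
    rcases mul_self_eq_one_iff.1 h2 with h | h
    · exfalso
      apply hc1
      refine MonoidHom.ext fun z => ?_
      rw [MonoidHom.one_apply]
      rcases hx0 z with ⟨hz, -⟩ | ⟨hz, -⟩
      · rcases hx0 x with ⟨hx', -⟩ | ⟨hx', -⟩
        · have : z * x⁻¹ ∈ sq.range := by
            have := mul_mem hz (inv_mem hx')
            simpa [mul_assoc] using this
          have := htriv _ this
          rw [map_mul, map_inv, show c x = 1 from Units.ext h, inv_one, mul_one] at this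
          exact this
        · exact absurd hx' hx
      · exact htriv z hz
    · exact h
  refine MonoidHom.ext fun x => ?_
  by_cases hx : x ∈ sq.range
  · rw [(key a ha ha1 x).1 hx, (key b hb hb1 x).1 hx]
  · exact Units.ext (by rw [(key a ha ha1 x).2 hx, (key b hb hb1 x).2 hx])

/-- The integral coefficient. -/
noncomputable def ci (l : ↥K →* ℂˣ) (χ : Cfsg.IrrCharacter G) : ℤ := (S.cf_int l χ).choose

theorem ci_spec (l : ↥K →* ℂˣ) (χ : Cfsg.IrrCharacter G) : cf K l χ = (S.ci l χ : ℂ) :=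
  (S.cf_int l χ).choose_spec

theorem ci_inv (l : ↥K →* ℂˣ) (χ : Cfsg.IrrCharacter G) : S.ci l⁻¹ χ = S.ci l χ := by
  have h := S.cf_inv l χ
  rw [S.ci_spec, S.ci_spec] at h
  exact_mod_cast h

theorem ci_triv {l : ↥K →* ℂˣ} (hl : l ≠ 1) : S.ci l (triv G) = 1 := by
  have h := S.cf_triv l hl
  rw [show (⟨fun _ => 1, isIrrCharacter_one⟩ : Cfsg.IrrCharacter G) = triv G from rfl,
    S.ci_spec] at h
  exact_mod_cast h

open scoped Classical in
theorem ci_mul [Fintype (Cfsg.IrrCharacter G)] (l m : ↥K →* ℂˣ) (hl : l ≠ 1) (hm : m ≠ 1) :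
    ∑ χ : Cfsg.IrrCharacter G, S.ci l χ * S.ci m χ =
      2 + (if l * m = 1 then 1 else 0) + (if l * m⁻¹ = 1 then 1 else 0) := by
  have h := S.cf_mul l m hl hm
  simp only [S.ci_spec] at h
  split_ifs at h ⊢ <;> exact_mod_cast h

open scoped Classical in
/-- A non-real `l` has two non-trivial constituents. -/
theorem support_two [Fintype (Cfsg.IrrCharacter G)] {l : ↥K →* ℂˣ} (hl : l * l ≠ 1) :
    ∃ a b : Cfsg.IrrCharacter G, a ≠ triv G ∧ b ≠ triv G ∧ a ≠ b ∧
      S.ci l a * S.ci l a = 1 ∧ S.ci l b * S.ci l b = 1 ∧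
      ∀ χ, χ ≠ triv G → χ ≠ a → χ ≠ b → S.ci l χ = 0 := by
  have hl1 : l ≠ 1 := hom_ne_one hl
  have h := S.ci_mul l l hl1 hl1
  rw [if_neg hl, if_pos (hom_mul_inv_self l), ← Finset.add_sum_erase _ _
    (Finset.mem_univ (triv G)), S.ci_triv hl1] at h
  obtain ⟨a, ha, b, hb, hab, h1, h2, h3⟩ := exists_pair_of_sum_sq_two
    (Finset.univ.erase (triv G)) (S.ci l) (by linarith)
  exact ⟨a, b, Finset.ne_of_mem_erase ha, Finset.ne_of_mem_erase hb, hab, h1, h2,
    fun χ hχ hχa hχb => h3 χ (Finset.mem_erase.2 ⟨hχ, Finset.mem_univ χ⟩) hχa hχb⟩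

open scoped Classical in
theorem support_sum [Fintype (Cfsg.IrrCharacter G)] {l : ↥K →* ℂˣ} (hl : l ≠ 1)
    {a b : Cfsg.IrrCharacter G} (ha : a ≠ triv G) (hb : b ≠ triv G) (hab : a ≠ b)
    (h0 : ∀ χ, χ ≠ triv G → χ ≠ a → χ ≠ b → S.ci l χ = 0) (F : Cfsg.IrrCharacter G → ℂ) :
    ∑ χ : Cfsg.IrrCharacter G, cf K l χ * F χ =
      F (triv G) + (S.ci l a : ℂ) * F a + (S.ci l b : ℂ) * F b := by
  rw [← Finset.sum_subset (Finset.subset_univ {triv G, a, b}) fun χ _ hχ => ?_,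
    Finset.sum_insert (by simp [ha.symm, hb.symm]), Finset.sum_pair hab, S.ci_spec, S.ci_spec,
    S.ci_spec, S.ci_triv hl]
  · push_cast
    ring
  · simp only [Finset.mem_insert, Finset.mem_singleton, not_or] at hχ
    rw [S.ci_spec, h0 χ hχ.1 hχ.2.1 hχ.2.2]
    simp

open scoped Classical in
/-- Two different non-real `l`, `m` have exactly one common constituent. -/
theorem common_one [Fintype (Cfsg.IrrCharacter G)] {l m : ↥K →* ℂˣ} (hl : l * l ≠ 1)
    (hm : m * m ≠ 1) (h1 : l * m ≠ 1) (h2 : l * m⁻¹ ≠ 1)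
    {a b : Cfsg.IrrCharacter G} (ha : a ≠ triv G) (hb : b ≠ triv G) (hab : a ≠ b)
    (ha1 : S.ci l a * S.ci l a = 1) (hb1 : S.ci l b * S.ci l b = 1)
    (h0 : ∀ χ, χ ≠ triv G → χ ≠ a → χ ≠ b → S.ci l χ = 0) :
    (S.ci m a = S.ci l a ∧ S.ci m b = 0) ∨ (S.ci m b = S.ci l b ∧ S.ci m a = 0) := by
  have hl1 : l ≠ 1 := hom_ne_one hl
  have hm1 : m ≠ 1 := hom_ne_one hm
  have hsum := S.ci_mul l m hl1 hm1
  rw [if_neg h1, if_neg h2] at hsum
  have hs : ((S.ci l a : ℤ) : ℂ) * (S.ci m a : ℂ) + (S.ci l b : ℂ) * (S.ci m b : ℂ) = 1 := by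
    have := S.support_sum hl1 ha hb hab h0 (fun χ => (S.ci m χ : ℂ))
    simp only [S.ci_spec, S.ci_triv hm1] at this
    have h' : ((∑ χ : Cfsg.IrrCharacter G, S.ci l χ * S.ci m χ : ℤ) : ℂ) = 2 := by
      rw [hsum]; norm_num
    push_cast at h' this
    linear_combination h' - this
  have hs' : S.ci l a * S.ci m a + S.ci l b * S.ci m b = 1 := by exact_mod_cast hs
  obtain ⟨a', b', -, -, -, ha', hb', h0'⟩ := S.support_two hm
  have hval : ∀ χ, χ ≠ triv G → S.ci m χ = 0 ∨ S.ci m χ = 1 ∨ S.ci m χ = -1 := by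
    intro χ hχ
    by_cases h : χ = a' ∨ χ = b'
    · right
      refine mul_self_eq_one_iff.1 ?_
      rcases h with rfl | rfl <;> assumption
    · push Not at h
      exact Or.inl (h0' χ hχ h.1 h.2)
  rcases mul_self_eq_one_iff.1 ha1 with e1 | e1 <;> rcases mul_self_eq_one_iff.1 hb1 with e2 | e2 <;>
    rcases hval a ha with e3 | e3 | e3 <;> rcases hval b hb with e4 | e4 | e4 <;>
    simp [e1, e2, e3, e4] at hs' ⊢

theorem eval_t {l : ↥K →* ℂˣ} : al l t = 2 - 2 * (l ⟨t, S.htK⟩ : ℂ) := by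
  rw [show al l t = al l ((⟨t, S.htK⟩ : ↥K) : G) from rfl, al_coe]
  have : (l⁻¹ ⟨t, S.htK⟩ : ℂ) = (l ⟨t, S.htK⟩ : ℂ) := by
    rw [MonoidHom.inv_apply, Units.val_inv_eq_inv_val]
    rcases S.val_t l with e | e <;> rw [e] <;> norm_num
  rw [this]
  ring

theorem one_not_kParts : (1 : G) ∉ kParts K := fun h => (mem_kParts.1 h).1 rfl

open scoped Classical in
/-- The equations for a non-real `l` with constituents `a`, `b`. -/
theorem equations [Fintype (Cfsg.IrrCharacter G)] {l : ↥K →* ℂˣ} (hl : l ≠ 1)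
    {a b : Cfsg.IrrCharacter G} (ha : a ≠ triv G) (hb : b ≠ triv G) (hab : a ≠ b)
    (h0 : ∀ χ, χ ≠ triv G → χ ≠ a → χ ≠ b → S.ci l χ = 0) :
    (∀ y, y ∉ kParts K →
      1 + (S.ci l a : ℂ) * (a : G → ℂ) y + (S.ci l b : ℂ) * (b : G → ℂ) y = 0) ∧
    (1 + (S.ci l a : ℂ) * (a : G → ℂ) t + (S.ci l b : ℂ) * (b : G → ℂ) t =
      2 - 2 * (l ⟨t, S.htK⟩ : ℂ)) ∧
    (Nat.card G : ℂ) * (1 + (S.ci l a : ℂ) * ((a : G → ℂ) t * (a : G → ℂ) t / (a : G → ℂ) 1) +
      (S.ci l b : ℂ) * ((b : G → ℂ) t * (b : G → ℂ) t / (b : G → ℂ) 1)) =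
      4 * (Nat.card ↥K : ℂ) ^ 3 := by
  refine ⟨fun y hy => ?_, ?_, ?_⟩
  · have := S.support_sum hl ha hb hab h0 (fun χ => (χ : G → ℂ) y)
    rw [← S.Iv_sum, Iv_eq_zero l hy] at this
    simpa [triv_apply] using this.symm
  · have := S.support_sum hl ha hb hab h0 (fun χ => (χ : G → ℂ) t)
    rw [← S.Iv_sum, S.Iv_apply l S.htK (invol_ne_one S.ht), S.eval_t] at this
    simpa [triv_apply] using this.symm
  · have := S.support_sum hl ha hb hab h0
      (fun χ => (χ : G → ℂ) t * (χ : G → ℂ) t / (χ : G → ℂ) 1)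
    rw [← S.phi l hl, this]
    simp [triv_apply]

open scoped Classical in
theorem pair_sq_le [Fintype (Cfsg.IrrCharacter G)] {a b : Cfsg.IrrCharacter G} (ha : a ≠ triv G)
    (hb : b ≠ triv G) (hab : a ≠ b) {A B : ℤ} (hA : (a : G → ℂ) t = A) (hB : (b : G → ℂ) t = B) :
    1 + A * A + B * B ≤ 2 * (Nat.card ↥K : ℤ) := by
  have hcol := column_orthogonality (G := G) t t
  rw [if_pos (IsConj.refl t), S.card_H] at hcol
  have hre : (∑ χ : Cfsg.IrrCharacter G,
      Complex.normSq ((χ : G → ℂ) t) : ℝ) = 2 * (Nat.card ↥K : ℝ) := by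
    have h : ((∑ χ : Cfsg.IrrCharacter G, Complex.normSq ((χ : G → ℂ) t) : ℝ) : ℂ) =
        ((2 * (Nat.card ↥K : ℝ) : ℝ) : ℂ) := by
      push_cast
      simp only [← Complex.mul_conj]
      rw [hcol]
      push_cast
      rfl
    exact_mod_cast h
  have hle := Finset.sum_le_sum_of_subset_of_nonneg (f := fun χ : Cfsg.IrrCharacter G =>
      Complex.normSq ((χ : G → ℂ) t)) (Finset.subset_univ {triv G, a, b})
    (fun χ _ _ => Complex.normSq_nonneg _)
  rw [hre, Finset.sum_insert (by simp [ha.symm, hb.symm]), Finset.sum_pair hab, triv_apply, hA, hB,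
    map_one, Complex.normSq_intCast, Complex.normSq_intCast, ← add_assoc] at hle
  exact_mod_cast hle

open scoped Classical in
/-- The two basic constituents, with their values at `t`. -/
theorem exists_core (hk : 4 ≤ Nat.card ↥K) [Fintype (Cfsg.IrrCharacter G)] :
    ∃ (l : ↥K →* ℂˣ) (ψ θ : Cfsg.IrrCharacter G), l * l ≠ 1 ∧
      ψ ≠ triv G ∧ θ ≠ triv G ∧ ψ ≠ θ ∧
      S.ci l ψ * S.ci l ψ = 1 ∧ S.ci l θ * S.ci l θ = 1 ∧
      (∀ χ, χ ≠ triv G → χ ≠ ψ → χ ≠ θ → S.ci l χ = 0) ∧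
      (S.ci l ψ : ℂ) * (ψ : G → ℂ) t = 1 ∧ (S.ci l θ : ℂ) * (θ : G → ℂ) t = 2 ∧
      ∀ m : ↥K →* ℂˣ, m * m ≠ 1 → S.ci m ψ = S.ci l ψ := by
  obtain ⟨l, hl, hlt⟩ := S.exists_neg hk
  have hl1 : l ≠ 1 := hom_ne_one hl
  obtain ⟨a, b, ha, hb, hab, ha1, hb1, h0⟩ := S.support_two hl
  have hsym : ∀ m : ↥K →* ℂˣ, l * m = 1 ∨ l * m⁻¹ = 1 → ∀ χ, S.ci m χ = S.ci l χ := by
    rintro m (e | e) χ
    · rw [hom_eq_inv e, S.ci_inv]
    · rw [hom_eq_of_mul_inv e]
  by_cases hfour : Nat.card ↥K = 4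
  · -- only one pair of non-real characters
    haveI := S.finite_lin
    haveI : Fintype (↥K →* ℂˣ) := Fintype.ofFinite _
    have honly : ∀ m : ↥K →* ℂˣ, m * m ≠ 1 → l * m = 1 ∨ l * m⁻¹ = 1 := by
      intro m hm
      by_contra hcon
      push Not at hcon
      have hm1 : m ≠ 1 := hom_ne_one hm
      have hli : l⁻¹ ≠ 1 := hom_inv_ne_one hl1
      have hmi : m⁻¹ ≠ 1 := hom_inv_ne_one hm1
      have hself : ∀ a : ↥K →* ℂˣ, a = a⁻¹ → a * a = 1 := fun a e => by
        conv_lhs => arg 1; rw [e]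
        exact hom_inv_mul_self a
      have hsub : ({1, l, l⁻¹, m, m⁻¹} : Finset (↥K →* ℂˣ)).card = 5 := by
        rw [Finset.card_eq_succ]
        refine ⟨1, {l, l⁻¹, m, m⁻¹}, ?_, rfl, ?_⟩
        · simp only [Finset.mem_insert, Finset.mem_singleton, not_or]
          exact ⟨fun e => hl1 e.symm, fun e => hli e.symm, fun e => hm1 e.symm, fun e => hmi e.symm⟩
        rw [Finset.card_eq_succ]
        refine ⟨l, {l⁻¹, m, m⁻¹}, ?_, rfl, ?_⟩
        · simp only [Finset.mem_insert, Finset.mem_singleton, not_or]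
          exact ⟨fun e => hl (hself l e), fun e => hcon.2 (by rw [e, hom_mul_inv_self]),
            fun e => hcon.1 (by rw [e, hom_inv_mul_self])⟩
        rw [Finset.card_eq_succ]
        refine ⟨l⁻¹, {m, m⁻¹}, ?_, rfl, ?_⟩
        · simp only [Finset.mem_insert, Finset.mem_singleton, not_or]
          exact ⟨fun e => hcon.1 (by rw [← e, hom_mul_inv_self]),
            fun e => hcon.2 (by rw [← e, hom_mul_inv_self])⟩
        exact Finset.card_pair fun e => hm (hself m e)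
      have := Finset.card_le_univ ({1, l, l⁻¹, m, m⁻¹} : Finset (↥K →* ℂˣ))
      rw [hsub, ← Nat.card_eq_fintype_card, S.card_lin] at this
      omega
    obtain ⟨A, hA⟩ := int_value_invol a S.ht
    obtain ⟨B, hB⟩ := int_value_invol b S.ht
    obtain ⟨-, ht', -⟩ := S.equations hl1 ha hb hab h0
    rw [hA, hB, hlt] at ht'
    have hs : S.ci l a * A + S.ci l b * B = 3 := by
      have : ((S.ci l a * A + S.ci l b * B : ℤ) : ℂ) = ((3 : ℤ) : ℂ) := by
        push_cast
        linear_combination ht'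
      exact_mod_cast this
    have hle := S.pair_sq_le ha hb hab hA hB
    rw [hfour] at hle
    push_cast at hle
    set x := S.ci l a * A with hx
    set y := S.ci l b * B with hy
    have hxx : x * x = A * A := by rw [hx, mul_mul_mul_comm, ha1, one_mul]
    have hyy : y * y = B * B := by rw [hy, mul_mul_mul_comm, hb1, one_mul]
    have hx' : x = 1 ∨ x = 2 := by
      have hy' : y = 3 - x := by omega
      rw [← hxx, ← hyy, hy'] at hle
      have h1 : 1 ≤ x := by nlinarith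
      have h2 : x ≤ 2 := by nlinarith
      omega
    rcases hx' with e | e
    · refine ⟨l, a, b, hl, ha, hb, hab, ha1, hb1, h0, ?_, ?_, fun m hm => hsym m (honly m hm) a⟩
      · rw [hA, ← Int.cast_mul, ← hx, e, Int.cast_one]
      · rw [hB, ← Int.cast_mul, ← hy, show y = 2 by omega, Int.cast_ofNat]
    · refine ⟨l, b, a, hl, hb, ha, hab.symm, hb1, ha1,
        fun χ h1 h2 h3 => h0 χ h1 h3 h2, ?_, ?_, fun m hm => hsym m (honly m hm) b⟩
      · rw [hB, ← Int.cast_mul, ← hy, show y = 1 by omega, Int.cast_one]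
      · rw [hA, ← Int.cast_mul, ← hx, e, Int.cast_ofNat]
  · obtain ⟨l2, hl2, hl2t⟩ := S.exists_pos (by omega)
    have hl21 : l2 ≠ 1 := hom_ne_one hl2
    have hd1 : l * l2 ≠ 1 := fun e => by
      have := congrArg (fun n : ↥K →* ℂˣ => ((n ⟨t, S.htK⟩ : ℂˣ) : ℂ)) e
      simp only [MonoidHom.mul_apply, Units.val_mul, hlt, hl2t, MonoidHom.one_apply,
        Units.val_one] at this
      norm_num at this
    have hd2 : l * l2⁻¹ ≠ 1 := fun e => by
      rw [hom_eq_of_mul_inv e, hl2t] at hlt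
      norm_num at hlt
    -- name the common constituent `ψ`
    obtain ⟨ψ, θ, hψ, hθ, hne, hψ1, hθ1, h0', hc, hc0⟩ : ∃ ψ θ : Cfsg.IrrCharacter G,
        ψ ≠ triv G ∧ θ ≠ triv G ∧ ψ ≠ θ ∧
        S.ci l ψ * S.ci l ψ = 1 ∧ S.ci l θ * S.ci l θ = 1 ∧
        (∀ χ, χ ≠ triv G → χ ≠ ψ → χ ≠ θ → S.ci l χ = 0) ∧
        S.ci l2 ψ = S.ci l ψ ∧ S.ci l2 θ = 0 := by
      rcases S.common_one hl hl2 hd1 hd2 ha hb hab ha1 hb1 h0 with ⟨e1, e2⟩ | ⟨e1, e2⟩
      · exact ⟨a, b, ha, hb, hab, ha1, hb1, h0, e1, e2⟩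
      · exact ⟨b, a, hb, ha, hab.symm, hb1, ha1, fun χ h1 h2 h3 => h0 χ h1 h3 h2, e1, e2⟩
    -- the second constituent of `l2`
    obtain ⟨η, hη, hηψ, hη1, h02⟩ : ∃ η : Cfsg.IrrCharacter G, η ≠ triv G ∧ η ≠ ψ ∧
        S.ci l2 η * S.ci l2 η = 1 ∧
        ∀ χ, χ ≠ triv G → χ ≠ ψ → χ ≠ η → S.ci l2 χ = 0 := by
      obtain ⟨a2, b2, ha2, hb2, hab2, ha21, hb21, h2⟩ := S.support_two hl2
      by_cases h : ψ = a2
      · subst h
        exact ⟨b2, hb2, hab2.symm, hb21, h2⟩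
      · by_cases h' : ψ = b2
        · subst h'
          exact ⟨a2, ha2, hab2, ha21, fun χ h1 h3 h4 => h2 χ h1 h4 h3⟩
        · exfalso
          have := h2 ψ hψ h h'
          rw [hc] at this
          rw [this] at hψ1
          norm_num at hψ1
    obtain ⟨hy1, ht1, hp1⟩ := S.equations hl1 hψ hθ hne h0'
    obtain ⟨hy2, ht2, hp2⟩ := S.equations hl21 hψ hη hηψ.symm h02
    rw [hlt] at ht1
    rw [hl2t, hc] at ht2
    rw [hc] at hp2
    have e1 := hy1 1 S.one_not_kParts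
    have e2 := hy2 1 S.one_not_kParts
    rw [hc] at e2
    have hθ0 : (θ : G → ℂ) 1 ≠ 0 := irr_apply_one_ne_zero θ.2
    have hη0 : (η : G → ℂ) 1 ≠ 0 := irr_apply_one_ne_zero η.2
    set d := (S.ci l ψ : ℂ) with hd
    set e := (S.ci l θ : ℂ) with he
    set e' := (S.ci l2 η : ℂ) with he'
    have hee : e * e = 1 := by rw [he, ← Int.cast_mul, hθ1, Int.cast_one]
    have hee' : e' * e' = 1 := by rw [he', ← Int.cast_mul, hη1, Int.cast_one]
    have hE : e' * (η : G → ℂ) 1 = e * (θ : G → ℂ) 1 := by linear_combination e2 - e1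
    have hG : (Nat.card G : ℂ) ≠ 0 := natCard_ne_zero
    have hq : e * ((θ : G → ℂ) t * (θ : G → ℂ) t / (θ : G → ℂ) 1) =
        e' * ((η : G → ℂ) t * (η : G → ℂ) t / (η : G → ℂ) 1) := by
      have := mul_left_cancel₀ hG (hp1.trans hp2.symm)
      linear_combination this
    have hsq : (e * (θ : G → ℂ) t) * (e * (θ : G → ℂ) t) =
        (e' * (η : G → ℂ) t) * (e' * (η : G → ℂ) t) := by
      have hq' : e * ((θ : G → ℂ) t * (θ : G → ℂ) t / (θ : G → ℂ) 1) * (e * (θ : G → ℂ) 1) =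
          e' * ((η : G → ℂ) t * (η : G → ℂ) t / (η : G → ℂ) 1) * (e * (θ : G → ℂ) 1) := by
        rw [hq]
      rw [show e' * ((η : G → ℂ) t * (η : G → ℂ) t / (η : G → ℂ) 1) * (e * (θ : G → ℂ) 1) =
          e' * ((η : G → ℂ) t * (η : G → ℂ) t / (η : G → ℂ) 1) * (e' * (η : G → ℂ) 1) by rw [hE]]
        at hq'
      field_simp at hq'
      linear_combination hq'
    have hval : d * (ψ : G → ℂ) t = 1 := by
      have b1 : e * (θ : G → ℂ) t = 3 - d * (ψ : G → ℂ) t := by linear_combination ht1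
      have b2 : e' * (η : G → ℂ) t = -1 - d * (ψ : G → ℂ) t := by linear_combination ht2
      rw [b1, b2] at hsq
      linear_combination (-1 / 8 : ℂ) * hsq
    refine ⟨l, ψ, θ, hl, hψ, hθ, hne, hψ1, hθ1, h0', hval, by linear_combination ht1 - hval, ?_⟩
    intro m hm
    by_cases hml : l * m = 1 ∨ l * m⁻¹ = 1
    · exact hsym m hml ψ
    push Not at hml
    rcases S.common_one hl hm hml.1 hml.2 hψ hθ hne hψ1 hθ1 h0' with ⟨h, -⟩ | ⟨hmθ, hmψ⟩
    · exact h
    exfalso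
    have hm1 : m ≠ 1 := hom_ne_one hm
    by_cases hml2 : l2 * m = 1 ∨ l2 * m⁻¹ = 1
    · have : S.ci m ψ = S.ci l2 ψ := by
        rcases hml2 with e | e
        · rw [hom_eq_inv e, S.ci_inv]
        · rw [hom_eq_of_mul_inv e]
      rw [hmψ, hc] at this
      rw [← this] at hψ1
      norm_num at hψ1
    push Not at hml2
    have hψ12 : S.ci l2 ψ * S.ci l2 ψ = 1 := by rw [hc, hψ1]
    rcases S.common_one hl2 hm hml2.1 hml2.2 hψ hη hηψ.symm hψ12 hη1 h02 with
      ⟨h, -⟩ | ⟨hmη, -⟩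
    · rw [hmψ, hc] at h
      rw [← h] at hψ1
      norm_num at hψ1
    -- a triangle
    have hθη : θ ≠ η := by
      intro h
      rw [← h, hc0] at hη1
      norm_num at hη1
    have h0m : ∀ χ, χ ≠ triv G → χ ≠ θ → χ ≠ η → S.ci m χ = 0 := by
      obtain ⟨a3, b3, -, -, -, -, -, h3⟩ := S.support_two hm
      intro χ h1 h2 h4
      have hθm : θ = a3 ∨ θ = b3 := by
        by_contra hh
        push Not at hh
        have := h3 θ hθ hh.1 hh.2
        rw [hmθ] at this
        rw [this] at hθ1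
        norm_num at hθ1
      have hηm : η = a3 ∨ η = b3 := by
        by_contra hh
        push Not at hh
        have := h3 η hη hh.1 hh.2
        rw [hmη] at this
        rw [this] at hη1
        norm_num at hη1
      refine h3 χ h1 ?_ ?_
      · rintro rfl
        rcases hθm with e | e
        · exact h2 e.symm
        · rcases hηm with e' | e'
          · exact h4 e'.symm
          · exact hθη (e.trans e'.symm)
      · rintro rfl
        rcases hθm with e | e
        · rcases hηm with e' | e'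
          · exact hθη (e.trans e'.symm)
          · exact h4 e'.symm
        · exact h2 e.symm
    obtain ⟨hy3, -, -⟩ := S.equations hm1 hθ hη hθη h0m
    have e3 := hy3 1 S.one_not_kParts
    rw [hmθ, hmη] at e3
    obtain ⟨n, hn⟩ := char_apply_one_eq_nat (irr_isCharacter ψ.2)
    have hfin : ((2 * (S.ci l ψ * n) : ℤ) : ℂ) = ((-1 : ℤ) : ℂ) := by
      push_cast
      rw [← hn]
      linear_combination e1 + e2 - e3
    have : 2 * (S.ci l ψ * n) = -1 := by exact_mod_cast hfin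
    omega

open scoped Classical in
/-- The exceptional character is constant on `K#`. -/
theorem exists_exc (hk : 4 ≤ Nat.card ↥K) :
    ∃ (ψ θ : Cfsg.IrrCharacter G) (d e : ℤ), d * d = 1 ∧ e * e = 1 ∧ ψ ≠ θ ∧
      (∀ x ∈ K, x ≠ 1 → (ψ : G → ℂ) x = d) ∧
      (∀ y, y ∉ kParts K → 1 + (d : ℂ) * (ψ : G → ℂ) y + (e : ℂ) * (θ : G → ℂ) y = 0) ∧
      (Nat.card G : ℂ) * (1 + (d : ℂ) / (ψ : G → ℂ) 1 + (e : ℂ) * 4 / (θ : G → ℂ) 1) =
        4 * (Nat.card ↥K : ℂ) ^ 3 := by
  haveI := Fintype.ofFinite (Cfsg.IrrCharacter G)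
  haveI : Fintype ↥K := Fintype.ofFinite _
  haveI := S.finite_lin
  haveI : Fintype (↥K →* ℂˣ) := Fintype.ofFinite _
  obtain ⟨l, ψ, θ, hl, hψ, hθ, hne, hd, he, h0, hψt, hθt, hall⟩ := S.exists_core hk
  have hl1 : l ≠ 1 := hom_ne_one hl
  set d := S.ci l ψ with hdd
  set e := S.ci l θ with hee
  obtain ⟨hy, -, hp⟩ := S.equations hl1 hψ hθ hne h0
  have hdC : (d : ℂ) * (d : ℂ) = 1 := by rw [← Int.cast_mul, hd, Int.cast_one]
  have heC : (e : ℂ) * (e : ℂ) = 1 := by rw [← Int.cast_mul, he, Int.cast_one]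
  have hψt' : (ψ : G → ℂ) t = d := by linear_combination (d : ℂ) * hψt - (ψ : G → ℂ) t * hdC
  -- Fourier inversion on `K`
  have hfour : ∀ x : ↥K, x ≠ 1 →
      (ψ : G → ℂ) x = -∑ m : ↥K →* ℂˣ, cf K m ψ * (m x : ℂ) := by
    intro x hx
    have hk0 : (Nat.card ↥K : ℂ) ≠ 0 := natCard_ne_zero
    rw [Finset.sum_congr rfl fun m _ => by rw [S.cf_eq m ψ, mul_sub, sub_mul, Finset.mul_sum
      (a := ((Nat.card ↥K : ℂ))⁻¹) (f := fun z : ↥K => (m z : ℂ) * (ψ : G → ℂ) z), Finset.sum_mul],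
      Finset.sum_sub_distrib, ← Finset.mul_sum, S.sum_lin_apply, if_neg hx, mul_zero, zero_sub,
      neg_neg, Finset.sum_comm]
    have hterm : ∀ z : ↥K, ∑ m : ↥K →* ℂˣ, ((Nat.card ↥K : ℂ))⁻¹ *
        ((m z : ℂ) * (ψ : G → ℂ) z) * (m x : ℂ) =
        if z = x⁻¹ then (ψ : G → ℂ) z else 0 := by
      intro z
      rw [Finset.sum_congr rfl fun m _ => (show _ = ((Nat.card ↥K : ℂ))⁻¹ * (ψ : G → ℂ) z *
        (m (z * x) : ℂ) by rw [map_mul, Units.val_mul]; ring), ← Finset.mul_sum, S.sum_lin_apply]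
      by_cases hz : z = x⁻¹
      · rw [if_pos hz, if_pos (by rw [hz, inv_mul_cancel])]
        field_simp
      · rw [if_neg hz, if_neg (fun h => hz (eq_inv_of_mul_eq_one_left h)), mul_zero]
    rw [Finset.sum_congr rfl fun z _ => hterm z, Finset.sum_ite_eq' Finset.univ x⁻¹,
      if_pos (Finset.mem_univ _), Subgroup.coe_inv, S.real_on_K ψ x.2]
  -- all coefficients agree
  have hcf : ∀ m : ↥K →* ℂˣ, m ≠ 1 → cf K m ψ = (d : ℂ) := by
    intro r hr1
    by_cases hr : r * r = 1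
    · have ht1 : (⟨t, S.htK⟩ : ↥K) ≠ 1 := fun e => invol_ne_one S.ht (congrArg Subtype.val e)
      have h1 := hfour _ ht1
      have hone : cf K (1 : ↥K →* ℂˣ) ψ = 0 := by
        rw [S.cf_eq]; simp
      have h2 : ∀ m : ↥K →* ℂˣ, cf K m ψ * (m ⟨t, S.htK⟩ : ℂ) = (d : ℂ) * (m ⟨t, S.htK⟩ : ℂ) +
          (if m = 1 then -(d : ℂ) else 0) +
          (if m = r then (cf K r ψ - d) * (r ⟨t, S.htK⟩ : ℂ) else 0) := by
        intro m
        by_cases h : m = 1
        · subst h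
          rw [if_pos rfl, if_neg hr1.symm, hone]
          simp
        · rw [if_neg h]
          by_cases h' : m = r
          · subst h'
            rw [if_pos rfl]; ring
          · rw [if_neg h', S.ci_spec, hall m fun hm => h' (S.real_lin_unique hm h hr hr1)]
            ring
      simp only [h2, Finset.sum_add_distrib, ← Finset.mul_sum, S.sum_lin_apply, if_neg ht1,
        Finset.sum_ite_eq', Finset.mem_univ, if_true, hψt', mul_zero, zero_add] at h1
      have h3 : (cf K r ψ - d) * (r ⟨t, S.htK⟩ : ℂ) = 0 := by linear_combination h1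
      exact sub_eq_zero.1 ((mul_eq_zero.1 h3).resolve_right (Units.ne_zero _))
    · rw [S.ci_spec, hall r hr]
  refine ⟨ψ, θ, d, e, hd, he, hne, fun x hx hx1 => ?_, hy, ?_⟩
  · have hx1' : (⟨x, hx⟩ : ↥K) ≠ 1 := fun e => hx1 (congrArg Subtype.val e)
    have hone : cf K (1 : ↥K →* ℂˣ) ψ = 0 := by
      rw [S.cf_eq]; simp
    rw [show (ψ : G → ℂ) x = (ψ : G → ℂ) ((⟨x, hx⟩ : ↥K) : G) from rfl, hfour _ hx1']
    have h2 : ∀ m : ↥K →* ℂˣ, cf K m ψ * (m ⟨x, hx⟩ : ℂ) = (d : ℂ) * (m ⟨x, hx⟩ : ℂ) +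
        (if m = 1 then -(d : ℂ) else 0) := by
      intro m
      by_cases h : m = 1
      · subst h
        rw [if_pos rfl, hone]; simp
      · rw [if_neg h, hcf m h, add_zero]
    simp only [h2, Finset.sum_add_distrib, ← Finset.mul_sum, S.sum_lin_apply, if_neg hx1',
      Finset.sum_ite_eq', Finset.mem_univ, if_true, mul_zero, zero_add, neg_neg]
  · rw [hψt'] at hp
    have hθt' : (θ : G → ℂ) t = 2 * e := by linear_combination (e : ℂ) * hθt - (θ : G → ℂ) t * heC
    rw [hθt'] at hp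
    rw [← hp]
    congr 1
    have h4 : (e : ℂ) * (2 * e * (2 * e) / (θ : G → ℂ) 1) = (e : ℂ) * 4 / (θ : G → ℂ) 1 := by
      rw [show (2 : ℂ) * e * (2 * e) = 4 * (e * e) by ring, heC]; ring
    rw [h4, hdC]
    ring

/-- The order of `G` and the degrees of the exceptional characters. -/
theorem order_data (hk : 4 ≤ Nat.card ↥K) :
    ∃ (ψ θ : Cfsg.IrrCharacter G) (d : ℤ) (q m : ℕ),
      ((d = 1 ∧ q = 2 * Nat.card ↥K + 1 ∧ m = Nat.card ↥K + 1) ∨
        (d = -1 ∧ q + 1 = 2 * Nat.card ↥K ∧ m + 1 = Nat.card ↥K)) ∧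
      (invols G).card = q * m ∧ ψ ≠ θ ∧
      (ψ : G → ℂ) 1 = q ∧ (θ : G → ℂ) 1 = 2 * m ∧
      (∀ x ∈ K, x ≠ 1 → (ψ : G → ℂ) x = d) ∧
      (∀ y, y ∉ kParts K → (θ : G → ℂ) y = d + (ψ : G → ℂ) y) := by
  classical
  obtain ⟨ψ, θ, d, e, hd, he, hne, hK, hy, hp⟩ := S.exists_exc hk
  obtain ⟨f, hf⟩ := char_apply_one_eq_nat (irr_isCharacter ψ.2)
  obtain ⟨h', hh'⟩ := char_apply_one_eq_nat (irr_isCharacter θ.2)
  have hf0 : f ≠ 0 := fun h => irr_apply_one_ne_zero ψ.2 (by rw [hf, h, Nat.cast_zero])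
  have hh0 : h' ≠ 0 := fun h => irr_apply_one_ne_zero θ.2 (by rw [hh', h, Nat.cast_zero])
  have e1 := hy 1 S.one_not_kParts
  rw [hf, hh'] at e1
  have e1' : 1 + d * (f : ℤ) + e * (h' : ℤ) = 0 := by exact_mod_cast e1
  set k := Nat.card ↥K with hkdef
  set I := (invols G).card with hI
  set F := d * (f : ℤ) with hF
  -- the sum over `C(t)`
  obtain ⟨n, hn⟩ : ∃ n : ℕ, (f : ℤ) + d * (2 * (k : ℤ) - 1) = 2 * k * n := by
    haveI : Fintype ↥(Subgroup.centralizer ({t} : Set G)) := Fintype.ofFinite _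
    obtain ⟨n, hn⟩ := sum_subgroup_eq (Subgroup.centralizer ({t} : Set G)) ψ
    refine ⟨n, ?_⟩
    have hval : ∀ h : ↥(Subgroup.centralizer ({t} : Set G)),
        (ψ : G → ℂ) h = (d : ℂ) + (if h = 1 then (f : ℂ) - d else 0) := by
      intro h
      by_cases h1 : h = 1
      · rw [if_pos h1, h1, OneMemClass.coe_one, hf]; ring
      · rw [if_neg h1, add_zero]
        have h1' : (h : G) ≠ 1 := fun e => h1 (Subtype.ext e)
        rcases S.mem_H.1 h.2 with hh | hh
        · exact hK _ hh h1'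
        · have ho : orderOf (h : G) = 2 := by
            have := S.mul_s_invol hh
            rwa [mul_assoc, invol_mul_self S.hs, mul_one] at this
          rw [← hK t S.htK (invol_ne_one S.ht)]
          exact isClassFunction_isConj (irr_isClassFunction ψ.2) (S.hconj _ _ ho S.ht)
    rw [Finset.sum_congr rfl fun h _ => hval h, Finset.sum_add_distrib, Finset.sum_const,
      Finset.sum_ite_eq', if_pos (Finset.mem_univ _), Finset.card_univ, nsmul_eq_mul,
      ← Nat.card_eq_fintype_card, S.card_H, ← hkdef] at hn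
    push_cast at hn
    have : (((f : ℤ) + d * (2 * (k : ℤ) - 1) : ℤ) : ℂ) = ((2 * k * n : ℤ) : ℂ) := by
      push_cast
      linear_combination hn
    exact_mod_cast this
  -- the order equation
  have hord : (2 * (I : ℤ)) * (k : ℤ) * (F - 1) ^ 2 =
      4 * (k : ℤ) ^ 3 * (F * (F + 1)) := by
    have hg : (Nat.card G : ℂ) = 2 * (k : ℂ) * I := by
      rw [S.card_G, ← hkdef, ← hI]; push_cast; ring
    rw [hg, hf, hh'] at hp
    have hfC : (f : ℂ) ≠ 0 := Nat.cast_ne_zero.2 hf0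
    have hhC : (h' : ℂ) ≠ 0 := Nat.cast_ne_zero.2 hh0
    field_simp at hp
    have hdC : (d : ℂ) * (d : ℂ) = 1 := by rw [← Int.cast_mul, hd, Int.cast_one]
    have heC : (e : ℂ) * (e : ℂ) = 1 := by rw [← Int.cast_mul, he, Int.cast_one]
    have hz : (((2 * (I : ℤ)) * (k : ℤ) * (F - 1) ^ 2 : ℤ) : ℂ) =
        ((4 * (k : ℤ) ^ 3 * (F * (F + 1)) : ℤ) : ℂ) := by
      have hE : (e : ℂ) * h' = -1 - (d : ℂ) * f := by linear_combination e1
      rw [hF]
      push_cast
      grind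
    exact_mod_cast hz
  have hk0 : (k : ℤ) ≠ 0 := by omega
  have hFn : ∃ N : ℤ, F = 1 + 2 * k * N := by
    refine ⟨d * n - 1, ?_⟩
    have : F + (d * d) * (2 * (k : ℤ) - 1) = 2 * k * (d * n) := by
      rw [hF]; linear_combination d * hn
    rw [hd] at this
    linarith
  obtain ⟨N, hN⟩ := hFn
  have hIN : 2 * (I : ℤ) * (N * N) = F * (F + 1) := by
    have : (4 * (k : ℤ) ^ 3) * (2 * (I : ℤ) * (N * N)) = (4 * (k : ℤ) ^ 3) * (F * (F + 1)) := by
      rw [← hord, hN]; ring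
    exact mul_left_cancel₀ (mul_ne_zero (by norm_num) (pow_ne_zero 3 hk0)) this
  have hN0 : N ≠ 0 := by
    intro h
    rw [h] at hIN hN
    simp at hN
    rw [hN] at hIN
    norm_num at hIN
  -- `N = ±1`
  have hN1 : N = 1 ∨ N = -1 := by
    have h1 : N ∣ F * (F + 1) := ⟨2 * I * N, by rw [← hIN]; ring⟩
    have h2 : N ∣ 2 := by
      have h3 : F * (F + 1) = 2 + N * (2 * k * (3 + 2 * k * N)) := by rw [hN]; ring
      rw [h3] at h1
      exact (Int.dvd_add_left (dvd_mul_right N _)).1 h1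
    have h3 : N.natAbs ∣ 2 := by
      have := Int.natAbs_dvd_natAbs.2 h2
      simpa using this
    have h4 := Nat.le_of_dvd (by norm_num) h3
    by_contra hcon
    push Not at hcon
    have h5 : N = 2 ∨ N = -2 := by omega
    obtain ⟨j, hj⟩ := S.even_card
    have hkj : (k : ℤ) = 2 * j := by omega
    rcases h5 with h5 | h5 <;> rw [h5] at hIN hN <;> rw [hN, hkj] at hIN <;> ring_nf at hIN <;>
      omega
  have hdd : d = 1 ∨ d = -1 := mul_self_eq_one_iff.1 hd
  have heE : e = 1 ∨ e = -1 := mul_self_eq_one_iff.1 he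
  have hfpos : 0 < (f : ℤ) := by omega
  have hhpos : 0 < (h' : ℤ) := by omega
  rcases hN1 with h5 | h5 <;> rw [h5] at hN hIN
  · have hd1 : d = 1 := by
      rcases hdd with h | h
      · exact h
      · rw [h] at hF; omega
    have he1 : e = -1 := by
      rcases heE with h | h
      · rw [h] at e1'; omega
      · exact h
    rw [hd1] at hF
    rw [he1] at e1'
    have hfq : f = 2 * k + 1 := by omega
    have hIq : I = (2 * k + 1) * (k + 1) := by
      have : (I : ℤ) = (2 * k + 1) * (k + 1) := by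
        rw [hN] at hIN
        linarith
      exact_mod_cast this
    refine ⟨ψ, θ, d, 2 * k + 1, k + 1, Or.inl ⟨hd1, rfl, rfl⟩, hIq, hne, by rw [hf, hfq], ?_,
      hK, fun y hy' => ?_⟩
    · have hhq : h' = 2 * (k + 1) := by omega
      rw [hh', hhq]
      push_cast
      ring
    · have := hy y hy'
      rw [hd1, he1] at this
      rw [hd1]
      push_cast at this ⊢
      linear_combination -this
  · have hd1 : d = -1 := by
      rcases hdd with h | h
      · rw [h] at hF; omega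
      · exact h
    have he1 : e = 1 := by
      rcases heE with h | h
      · exact h
      · rw [h] at e1'; omega
    rw [hd1] at hF
    rw [he1] at e1'
    obtain ⟨j, hj⟩ : ∃ j, k = j + 1 := ⟨k - 1, by omega⟩
    have hfq : f = 2 * j + 1 := by omega
    have hIq : I = (2 * j + 1) * j := by
      have : (I : ℤ) = (2 * j + 1) * j := by
        rw [hN, hj] at hIN
        push_cast at hIN
        linarith
      exact_mod_cast this
    refine ⟨ψ, θ, d, 2 * j + 1, j, Or.inr ⟨hd1, by omega, by omega⟩, hIq, hne, by rw [hf, hfq],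
      ?_, hK, fun y hy' => ?_⟩
    · have hhq : h' = 2 * j := by omega
      rw [hh', hhq]
      push_cast
      ring
    · have := hy y hy'
      rw [hd1, he1] at this
      rw [hd1]
      push_cast at this ⊢
      linear_combination this

end Setup

end CfsgLib.InvChar.BSW
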