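import Cfsg.Agent.Lib.Invol.Basic

/-!
Counting the conjugates of TI subgroups, and groups of odd order partitioned by self-normalising
abelian centralizers.
-/

set_option autoImplicit false
set_option linter.unusedSectionVars false

namespace CfsgLib.InvChar.BSW

universe u

variable {G : Type u} [Group G]

/-- The number of conjugates of the non-identity elements of a TI subgroup. -/
theorem card_TI_union [Finite G] (B N : Subgroup G) (hN : ∀ g ∈ N, ∀ b ∈ B, g * b * g⁻¹ ∈ B)
    (hTI : ∀ g : G, ∀ b ∈ B, b ≠ 1 → g * b * g⁻¹ ∈ B → g ∈ N) :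
    Nat.card {x : G // x ≠ 1 ∧ ∃ g : G, g * x * g⁻¹ ∈ B} = N.index * (Nat.card ↥B - 1) := by
  classical
  haveI := Fintype.ofFinite G
  rw [Subgroup.index_eq_card]
  have hBc : Nat.card {b : ↥B // b ≠ 1} = Nat.card ↥B - 1 := by
    rw [Nat.card_eq_fintype_card, Nat.card_eq_fintype_card, Fintype.card_subtype_compl,
      Fintype.card_subtype_eq]
  rw [← hBc, ← Nat.card_prod]
  refine (Nat.card_eq_of_bijective (fun p : (G ⧸ N) × {b : ↥B // b ≠ 1} =>
    (⟨p.1.out * (p.2.1 : G) * p.1.out⁻¹, fun e => p.2.2 (Subtype.ext (conj_eq_one_iff.1 e)),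
      p.1.out⁻¹, ?_⟩ : {x : G // x ≠ 1 ∧ ∃ g : G, g * x * g⁻¹ ∈ B})) ⟨?_, ?_⟩).symm
  · have e : p.1.out⁻¹ * (p.1.out * (p.2.1 : G) * p.1.out⁻¹) * p.1.out⁻¹⁻¹ = (p.2.1 : G) := by
      group
    rw [e]
    exact p.2.1.2
  · rintro ⟨a, b, hb⟩ ⟨a', b', hb'⟩ h
    simp only [Subtype.mk.injEq] at h
    have hmem : a'.out⁻¹ * a.out ∈ N := by
      refine hTI _ _ b.2 (fun e => hb (Subtype.ext e)) ?_
      have e : a'.out⁻¹ * a.out * (b : G) * (a'.out⁻¹ * a.out)⁻¹ = (b' : G) := by
        calc a'.out⁻¹ * a.out * (b : G) * (a'.out⁻¹ * a.out)⁻¹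
            = a'.out⁻¹ * (a.out * (b : G) * a.out⁻¹) * a'.out := by group
          _ = a'.out⁻¹ * (a'.out * (b' : G) * a'.out⁻¹) * a'.out := by rw [h]
          _ = (b' : G) := by group
      rw [e]
      exact b'.2
    have haa : a' = a := by
      rw [← Quotient.out_eq' a, ← Quotient.out_eq' a']
      exact QuotientGroup.eq.2 hmem
    subst haa
    have hbb : (b : G) = (b' : G) := mul_left_cancel (mul_right_cancel h)
    have : b = b' := Subtype.ext hbb
    subst this
    rfl
  · rintro ⟨x, hx1, g, hg⟩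
    set a : G ⧸ N := QuotientGroup.mk g⁻¹
    have hmem : a.out⁻¹ * g⁻¹ ∈ N := QuotientGroup.eq.1 (Quotient.out_eq' a)
    refine ⟨(a, ⟨⟨a.out⁻¹ * g⁻¹ * (g * x * g⁻¹) * (a.out⁻¹ * g⁻¹)⁻¹, hN _ hmem _ hg⟩, ?_⟩),
      Subtype.ext ?_⟩
    · intro e
      exact hx1 (conj_eq_one_iff.1 (conj_eq_one_iff.1 (congrArg Subtype.val e)))
    · show a.out * (a.out⁻¹ * g⁻¹ * (g * x * g⁻¹) * (a.out⁻¹ * g⁻¹)⁻¹) * a.out⁻¹ = x
      group

/-- The elements of `U` of a group of odd order with self-normalising abelian centralizers are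
all conjugate into one of these centralizers. -/
theorem partition_count [Finite G] (hodd : Odd (Nat.card G)) (U : G → Prop)
    (hU1 : ∀ x, U x → x ≠ 1) (hUc : ∀ x g, U x → U (g * x * g⁻¹))
    (ha : ∀ y, U y → ∀ z, z ≠ 1 → z * y = y * z → U z)
    (hb : ∀ y, U y → ∀ a b, a * y = y * a → b * y = y * b → a * b = b * a)
    (hc : ∀ y, U y → ∀ g, (g * y * g⁻¹) * y = y * (g * y * g⁻¹) → g * y = y * g)
    {y : G} (hy : U y) :
    (∀ x, U x → ∃ g : G, g * x * g⁻¹ ∈ Subgroup.centralizer ({y} : Set G)) ∧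
      Nat.card {x : G // U x} = (Subgroup.centralizer ({y} : Set G)).index *
        (Nat.card ↥(Subgroup.centralizer ({y} : Set G)) - 1) := by
  classical
  haveI := Fintype.ofFinite G
  -- the count for each centralizer
  have hcount : ∀ y, U y →
      Nat.card {x : G // x ≠ 1 ∧ ∃ g : G, g * x * g⁻¹ ∈ Subgroup.centralizer ({y} : Set G)} =
        (Subgroup.centralizer ({y} : Set G)).index *
          (Nat.card ↥(Subgroup.centralizer ({y} : Set G)) - 1) := by
    intro y hy
    refine card_TI_union _ _ (fun g hg b hb' => mul_mem (mul_mem hg hb') (inv_mem hg)) ?_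
    intro g b hb' hb1 hgb
    rw [Subgroup.mem_centralizer_singleton_iff] at hb' hgb
    have hUb : U b := ha y hy b hb1 hb'
    have h1 : g * b = b * g := hc b hUb g (hb y hy _ _ hgb hb')
    exact Subgroup.mem_centralizer_singleton_iff.2 (hb b hUb g y h1 hb'.symm)
  -- the conjugates lie in `U`
  have hin : ∀ y, U y → ∀ x, x ≠ 1 →
      (∃ g : G, g * x * g⁻¹ ∈ Subgroup.centralizer ({y} : Set G)) → U x := by
    rintro y hy x hx ⟨g, hg⟩
    have := hUc _ g⁻¹ (ha y hy _ (fun e => hx (conj_eq_one_iff.1 e))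
      (Subgroup.mem_centralizer_singleton_iff.1 hg))
    rwa [show g⁻¹ * (g * x * g⁻¹) * g⁻¹⁻¹ = x by group] at this
  -- each covers more than half of the group
  have hbig : ∀ y, U y → 2 * Nat.card G ≤
      3 * ((Subgroup.centralizer ({y} : Set G)).index *
          (Nat.card ↥(Subgroup.centralizer ({y} : Set G)) - 1)) := by
    intro y hy
    set B := Subgroup.centralizer ({y} : Set G)
    have hmem : y ∈ B := Subgroup.mem_centralizer_singleton_iff.2 rfl
    have h1 : Nat.card ↥B ≠ 1 := fun e => hU1 y hy (by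
      rw [Subgroup.card_eq_one] at e
      rw [e] at hmem
      exact Subgroup.mem_bot.1 hmem)
    have h2 : Odd (Nat.card ↥B) := hodd.of_dvd_nat (Subgroup.card_subgroup_dvd_card B)
    have h3 : 3 ≤ Nat.card ↥B := by
      have := Nat.card_pos (α := ↥B)
      obtain ⟨j, hj⟩ := h2
      omega
    rw [← B.index_mul_card]
    obtain ⟨j, hj⟩ : ∃ j, Nat.card ↥B = j + 3 := ⟨_, (Nat.sub_add_cancel h3).symm⟩
    rw [hj, show j + 3 - 1 = j + 2 by omega]
    nlinarith
  have hcov : ∀ x, U x → ∃ g : G, g * x * g⁻¹ ∈ Subgroup.centralizer ({y} : Set G) := by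
    intro x hx
    by_contra hcon
    push Not at hcon
    let S : G → Finset G := fun y => Finset.univ.filter fun z : G =>
      z ≠ 1 ∧ ∃ g : G, g * z * g⁻¹ ∈ Subgroup.centralizer ({y} : Set G)
    have hS : ∀ y, U y → 2 * Nat.card G ≤ 3 * (S y).card := by
      intro y hy
      have := hcount y hy
      rw [Nat.card_eq_fintype_card, Fintype.card_subtype] at this
      rw [show (S y).card = _ from this]
      exact hbig y hy
    have hdisj : Disjoint (S x) (S y) := by
      rw [Finset.disjoint_left]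
      intro z hzx hzy
      obtain ⟨hz1, a, ha'⟩ := (Finset.mem_filter.1 hzx).2
      obtain ⟨-, c, hc'⟩ := (Finset.mem_filter.1 hzy).2
      rw [Subgroup.mem_centralizer_singleton_iff] at ha' hc'
      -- `z' = c z c⁻¹ ∈ C(y)` and the conjugate of `x` centralises `z'`
      set g := c * a⁻¹ with hg
      apply hcon g
      have e : c * z * c⁻¹ = g * (a * z * a⁻¹) * g⁻¹ := by rw [hg]; group
      have h1 : (g * x * g⁻¹) * (c * z * c⁻¹) = (c * z * c⁻¹) * (g * x * g⁻¹) := by
        rw [e]
        calc g * x * g⁻¹ * (g * (a * z * a⁻¹) * g⁻¹) = g * (x * (a * z * a⁻¹)) * g⁻¹ := by group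
          _ = g * ((a * z * a⁻¹) * x) * g⁻¹ := by rw [ha']
          _ = g * (a * z * a⁻¹) * g⁻¹ * (g * x * g⁻¹) := by group
      have hz' : U (c * z * c⁻¹) := ha y hy _ (fun e => hz1 (conj_eq_one_iff.1 e)) hc'
      exact Subgroup.mem_centralizer_singleton_iff.2 (hb _ hz' _ y h1 hc'.symm)
    have h1 := hS x hx
    have h2 := hS y hy
    have h3 := Finset.card_le_univ (S x ∪ S y)
    rw [Finset.card_union_of_disjoint hdisj, ← Nat.card_eq_fintype_card] at h3
    have := Nat.card_pos (α := G)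
    omega
  refine ⟨hcov, ?_⟩
  rw [← hcount y hy]
  exact Nat.card_congr (Equiv.subtypeEquivRight fun x =>
    ⟨fun h => ⟨hU1 x h, hcov x h⟩, fun h => hin y hy x h.1 h.2⟩)

/-- In such a group the `p`-elements form a normal Sylow subgroup. -/
theorem normal_sylow_of_partition [Finite G] (hodd : Odd (Nat.card G)) {p : ℕ} [Fact p.Prime]
    (ha : ∀ y : G, (∀ n, y ^ p ^ n ≠ 1) → ∀ z, z ≠ 1 → z * y = y * z → ∀ n, z ^ p ^ n ≠ 1)
    (hb : ∀ y : G, (∀ n, y ^ p ^ n ≠ 1) →
      ∀ a b, a * y = y * a → b * y = y * b → a * b = b * a)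
    (hc : ∀ y : G, (∀ n, y ^ p ^ n ≠ 1) →
      ∀ g, (g * y * g⁻¹) * y = y * (g * y * g⁻¹) → g * y = y * g)
    (P : Sylow p G) (x : G) {n : ℕ} (hx : x ^ p ^ n = 1) : x ∈ P := by
  classical
  haveI := Fintype.ofFinite G
  have hp : p.Prime := Fact.out
  let U : G → Prop := fun y => ∀ n, y ^ p ^ n ≠ 1
  have hPsub : ∀ z ∈ (P : Subgroup G), ∃ n, z ^ p ^ n = 1 := fun z hz => by
    obtain ⟨k, hk⟩ := P.2 ⟨z, hz⟩
    exact ⟨k, congrArg Subtype.val hk⟩
  by_cases hne : ∃ y, U y
  · obtain ⟨y, hy⟩ := hne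
    obtain ⟨hcov, hcard⟩ := partition_count hodd U
      (fun z hz e => hz 0 (by rw [e, one_pow]))
      (fun z g hz m e => hz m (by rw [conj_pow, conj_eq_one_iff] at e; exact e))
      ha hb hc hy
    set B := Subgroup.centralizer ({y} : Set G) with hB
    -- the number of `p`-elements
    have hnum : (Finset.univ.filter fun z : G => ¬ U z).card = B.index := by
      have h1 := Finset.card_filter_add_card_filter_not (s := (Finset.univ : Finset G)) U
      rw [Finset.card_univ, ← Fintype.card_subtype, ← Nat.card_eq_fintype_card, hcard,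
        ← Nat.card_eq_fintype_card (α := G), ← B.index_mul_card] at h1
      have h2 : 1 ≤ Nat.card ↥B := Nat.card_pos
      obtain ⟨j, hj⟩ : ∃ j, Nat.card ↥B = j + 1 := ⟨_, (Nat.sub_add_cancel h2).symm⟩
      rw [hj, Nat.add_sub_cancel] at h1
      linarith
    -- the index is a power of `p`
    obtain ⟨j, hj⟩ : ∃ j, B.index = p ^ j := by
      refine ⟨_, Nat.eq_prime_pow_of_unique_prime_dvd Subgroup.index_ne_zero_of_finite ?_⟩
      intro r hr hrd
      by_contra hrp
      haveI : Fact r.Prime := ⟨hr⟩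
      obtain ⟨R⟩ := (Sylow.nonempty : Nonempty (Sylow r G))
      have hRne : (R : Subgroup G) ≠ ⊥ :=
        R.ne_bot_of_dvd_card (hrd.trans (Subgroup.index_dvd_card B))
      haveI : Nontrivial ↥(R : Subgroup G) := (Subgroup.nontrivial_iff_ne_bot _).2 hRne
      haveI := R.2.center_nontrivial
      obtain ⟨z, hz⟩ := exists_ne (1 : Subgroup.center ↥(R : Subgroup G))
      set w : G := ((z : ↥(R : Subgroup G)) : G) with hw
      have hw1 : w ≠ 1 := fun e => hz (Subtype.ext (Subtype.ext e))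
      have hwU : U w := by
        intro m e
        obtain ⟨i, hi⟩ := R.2 (z : ↥(R : Subgroup G))
        have hi' : w ^ r ^ i = 1 := congrArg Subtype.val hi
        apply hw1
        rw [← orderOf_eq_one_iff]
        exact Nat.eq_one_of_dvd_coprimes
          (((Nat.coprime_primes hp hr).2 (Ne.symm hrp)).pow m i)
          (orderOf_dvd_of_pow_eq_one e) (orderOf_dvd_of_pow_eq_one hi')
      obtain ⟨g, hg⟩ := hcov w hwU
      have hRle : (R : Subgroup G).map (MulAut.conj g).toMonoidHom ≤ B := by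
        rintro _ ⟨a, haR, rfl⟩
        have hab : a * w = w * a :=
          congrArg Subtype.val (Subgroup.mem_center_iff.1 z.2 ⟨a, haR⟩)
        have h1 : (g * a * g⁻¹) * (g * w * g⁻¹) = (g * w * g⁻¹) * (g * a * g⁻¹) := by
          calc g * a * g⁻¹ * (g * w * g⁻¹) = g * (a * w) * g⁻¹ := by group
            _ = g * (w * a) * g⁻¹ := by rw [hab]
            _ = g * w * g⁻¹ * (g * a * g⁻¹) := by group
        have hg' := Subgroup.mem_centralizer_singleton_iff.1 hg
        have hU' : U (g * w * g⁻¹) := fun m e =>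
          hwU m (by rw [conj_pow, conj_eq_one_iff] at e; exact e)
        show g * a * g⁻¹ ∈ B
        exact Subgroup.mem_centralizer_singleton_iff.2 (hb _ hU' _ y h1 hg'.symm)
      have h2 := Subgroup.card_dvd_of_le hRle
      rw [Subgroup.card_map_of_injective (MulAut.conj g).injective] at h2
      apply R.not_dvd_index
      have h3 := Nat.mul_dvd_mul hrd h2
      rw [B.index_mul_card, ← (R : Subgroup G).index_mul_card] at h3
      exact Nat.dvd_of_mul_dvd_mul_right Nat.card_pos h3
    -- so `P` consists of all `p`-elements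
    have hjP : B.index ≤ Nat.card ↥(P : Subgroup G) := by
      rw [hj, P.card_eq_multiplicity]
      refine Nat.pow_le_pow_right hp.pos ?_
      exact (hp.pow_dvd_iff_le_factorization Nat.card_pos.ne').1
        (hj ▸ Subgroup.index_dvd_card B)
    have hsub : (Finset.univ.filter fun z : G => z ∈ (P : Subgroup G)) ⊆
        Finset.univ.filter fun z : G => ¬ U z := by
      intro z hz
      simp only [Finset.mem_filter, Finset.mem_univ, true_and] at hz ⊢
      intro hU
      obtain ⟨m, hm⟩ := hPsub z hz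
      exact hU m hm
    have heq := Finset.eq_of_subset_of_card_le hsub (by
      rw [hnum, ← Fintype.card_subtype, ← Nat.card_eq_fintype_card]; exact hjP)
    have hxm : x ∈ Finset.univ.filter fun z : G => ¬ U z :=
      Finset.mem_filter.2 ⟨Finset.mem_univ x, fun h => h n hx⟩
    rw [← heq] at hxm
    exact (Finset.mem_filter.1 hxm).2
  · have hG : IsPGroup p G := fun g => by
      by_contra h
      push Not at h
      exact hne ⟨g, h⟩
    have : (⊤ : Subgroup G) = P := P.3 (hG.to_subgroup ⊤) le_top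
    have hxt : x ∈ (⊤ : Subgroup G) := Subgroup.mem_top x
    rw [this] at hxt
    exact hxt

end CfsgLib.InvChar.BSW
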