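import Cfsg.Agent.Lib.InvChar.BSWExc
import Cfsg.Agent.Lib.InvChar.BSWPartition
import Cfsg.Agent.Lib.BlockB.DefectZero

/-!
The elements outside the conjugates of `K` in the Brauer-Suzuki-Wall situation.
-/

set_option autoImplicit false
set_option linter.unusedSectionVars false

namespace CfsgLib.InvChar.BSW

open CfsgLib.Invol CfsgLib.Char
open scoped ComplexConjugate

universe u

variable {G : Type u} [Group G] {t s : G} {K : Subgroup G} [Fintype G]

/-- The numerical data coming from the exceptional characters. -/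
structure Data (K : Subgroup G) (ψ θ : Cfsg.IrrCharacter G) (d : ℤ) (q m : ℕ) : Prop where
  hcase : (d = 1 ∧ q = 2 * Nat.card ↥K + 1 ∧ m = Nat.card ↥K + 1) ∨
    (d = -1 ∧ q + 1 = 2 * Nat.card ↥K ∧ m + 1 = Nat.card ↥K)
  hI : (invols G).card = q * m
  hψ1 : (ψ : G → ℂ) 1 = q
  hθ1 : (θ : G → ℂ) 1 = 2 * m
  hψK : ∀ x ∈ K, x ≠ 1 → (ψ : G → ℂ) x = d
  hθ : ∀ y, y ∉ kParts K → (θ : G → ℂ) y = d + (ψ : G → ℂ) y
  hk : 4 ≤ Nat.card ↥K

theorem Setup.exists_data (S : Setup t K s) (hk : 4 ≤ Nat.card ↥K) :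
    ∃ (ψ θ : Cfsg.IrrCharacter G) (d : ℤ) (q m : ℕ), Data K ψ θ d q m := by
  obtain ⟨ψ, θ, d, q, m, h1, h2, -, h3, h4, h5, h6⟩ := S.order_data hk
  exact ⟨ψ, θ, d, q, m, h1, h2, h3, h4, h5, h6, hk⟩

namespace Data

variable {ψ θ : Cfsg.IrrCharacter G} {d : ℤ} {q m : ℕ}
variable (Dt : Data K ψ θ d q m) (S : Setup t K s)
include Dt S

theorem odd_q : Odd q := by
  rcases Dt.hcase with ⟨-, h, -⟩ | ⟨-, h, -⟩
  · exact ⟨Nat.card ↥K, h⟩
  · exact ⟨Nat.card ↥K - 1, by have := Dt.hk; omega⟩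

theorem odd_m : Odd m := by
  obtain ⟨j, hj⟩ := S.even_card
  rcases Dt.hcase with ⟨-, -, h⟩ | ⟨-, -, h⟩
  · exact ⟨j, by omega⟩
  · exact ⟨j - 1, by have := Dt.hk; omega⟩

theorem three_le_m : 3 ≤ m := by
  obtain ⟨j, hj⟩ := S.even_card
  have := Dt.hk
  rcases Dt.hcase with ⟨-, -, h⟩ | ⟨-, -, h⟩ <;> omega

theorem seven_le_q : 7 ≤ q := by
  have := Dt.hk
  rcases Dt.hcase with ⟨-, h, -⟩ | ⟨-, h, -⟩ <;> omega

theorem d_sq : d * d = 1 := by
  rcases Dt.hcase with ⟨h, -, -⟩ | ⟨h, -, -⟩ <;> rw [h] <;> norm_num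

theorem d_ne_zero : (d : ℂ) ≠ 0 := by
  rcases Dt.hcase with ⟨h, -, -⟩ | ⟨h, -, -⟩ <;> rw [h] <;> norm_num

theorem cop_q_two_k : Nat.Coprime q (2 * Nat.card ↥K) := by
  rcases Dt.hcase with ⟨-, h, -⟩ | ⟨-, h, -⟩
  · rw [h]; simp
  · refine Nat.Coprime.symm ?_
    rw [← h]; simp

theorem cop_m_two_k : Nat.Coprime m (2 * Nat.card ↥K) := by
  have hm2 : Nat.Coprime m 2 := (Nat.coprime_two_right).2 (Dt.odd_m S)
  refine Nat.Coprime.mul_right hm2 ?_
  rcases Dt.hcase with ⟨-, -, h⟩ | ⟨-, -, h⟩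
  · rw [h]; simp
  · refine Nat.Coprime.symm ?_
    rw [← h]; simp

theorem cop_q_m : Nat.Coprime q m := by
  rcases Dt.hcase with ⟨-, h, h'⟩ | ⟨-, h, h'⟩
  · have e : q + 1 = 2 * m := by omega
    refine (Nat.coprime_of_dvd' fun p hp hpq hpm => ?_)
    have h2 : p ∣ q + 1 := e ▸ Dvd.dvd.mul_left hpm 2
    exact (Nat.dvd_add_right hpq).1 h2
  · have e : q = 2 * m + 1 := by omega
    refine (Nat.coprime_of_dvd' fun p hp hpq hpm => ?_)
    rw [e] at hpq
    exact (Nat.dvd_add_right (Dvd.dvd.mul_left hpm 2)).1 hpq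

theorem card_G : Nat.card G = 2 * Nat.card ↥K * (q * m) := by rw [S.card_G, Dt.hI]

theorem sq_q : q * q = 4 * Nat.card ↥K * m + 1 := by
  rcases Dt.hcase with ⟨-, h, h'⟩ | ⟨-, h, h'⟩
  · rw [h, h']; ring
  · obtain ⟨j, hj⟩ : ∃ j, Nat.card ↥K = j + 1 := ⟨m, h'.symm⟩
    rw [hj] at h h' ⊢
    rw [show q = 2 * j + 1 by omega, show m = j by omega]
    ring

theorem not_dvd_two_k_q {p : ℕ} (hp : p.Prime) (h : p ∣ q) : ¬ p ∣ 2 * Nat.card ↥K := fun h' =>
  hp.not_dvd_one ((Dt.cop_q_two_k S) ▸ Nat.dvd_gcd h h')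

theorem not_dvd_two_k_m {p : ℕ} (hp : p.Prime) (h : p ∣ m) : ¬ p ∣ 2 * Nat.card ↥K := fun h' =>
  hp.not_dvd_one ((Dt.cop_m_two_k S) ▸ Nat.dvd_gcd h h')

theorem not_dvd_m_q {p : ℕ} (hp : p.Prime) (h : p ∣ q) : ¬ p ∣ m := fun h' =>
  hp.not_dvd_one ((Dt.cop_q_m S) ▸ Nat.dvd_gcd h h')

theorem kParts_order {y : G} (hy : y ∈ kParts K) : orderOf y ∣ Nat.card ↥K := by
  obtain ⟨-, g, hg⟩ := mem_kParts.1 hy
  rw [← orderOf_conj_eq g y]
  exact Subgroup.orderOf_dvd_natCard K hg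

/-- Elements of prime order dividing `2|K|` are conjugate into `K`. -/
theorem prime_mem_kParts {p : ℕ} (hp : p.Prime) (hpk : p ∣ 2 * Nat.card ↥K) {z : G}
    (hz : orderOf z = p) : z ∈ kParts K := by
  have hz1 : z ≠ 1 := fun e => by rw [e, orderOf_one] at hz; exact hp.one_lt.ne hz
  by_cases h2 : p = 2
  · exact S.invol_mem_kParts (hz.trans h2)
  haveI : Fact p.Prime := ⟨hp⟩
  have hp2 : ¬ p ∣ 2 := fun h => h2 ((Nat.prime_dvd_prime_iff_eq hp Nat.prime_two).1 h)
  obtain ⟨P⟩ := (Sylow.nonempty : Nonempty (Sylow p ↥K))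
  have hfac : (Nat.card G).factorization p = (Nat.card ↥K).factorization p := by
    have hnd : ¬ p ∣ 2 * (q * m) := fun h => by
      rcases hp.dvd_mul.1 h with h | h
      · exact hp2 h
      rcases hp.dvd_mul.1 h with h | h
      · exact Dt.not_dvd_two_k_q S hp h hpk
      · exact Dt.not_dvd_two_k_m S hp h hpk
    have hne : 2 * (q * m) ≠ 0 := fun h => hnd (h ▸ dvd_zero p)
    rw [Dt.card_G S, show 2 * Nat.card ↥K * (q * m) = Nat.card ↥K * (2 * (q * m)) by ring,
      Nat.factorization_mul Nat.card_pos.ne' hne, Finsupp.add_apply,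
      Nat.factorization_eq_zero_of_not_dvd hnd, add_zero]
  have hcard : Nat.card ↥((P : Subgroup ↥K).map K.subtype) =
      p ^ (Nat.card G).factorization p := by
    rw [Subgroup.card_map_of_injective K.subtype_injective, P.card_eq_multiplicity, hfac]
  obtain ⟨g, hg⟩ := exists_conj_mem_sylow (Sylow.ofCard _ hcard)
    (H := Subgroup.zpowers z) (IsPGroup.of_card (n := 1) (by rw [Nat.card_zpowers, hz, pow_one]))
  have : g * z * g⁻¹ ∈ ((Sylow.ofCard _ hcard : Sylow p G) : Subgroup G) :=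
    hg z (Subgroup.mem_zpowers z)
  rw [Sylow.coe_ofCard] at this
  exact mem_kParts.2 ⟨hz1, g, Subgroup.map_subtype_le _ this⟩

theorem coprime_order {y : G} (h1 : y ≠ 1) (hy : y ∉ kParts K) :
    Nat.Coprime (orderOf y) (2 * Nat.card ↥K) := by
  refine Nat.coprime_of_dvd fun p hp hpy hpk => hy ?_
  have hz : orderOf (y ^ (orderOf y / p)) = p := by
    rw [orderOf_pow_orderOf_div (orderOf_pos y).ne' hpy]
  exact S.mem_kParts_of_commute (Dt.prime_mem_kParts S hp hpk hz) h1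
    (Commute.self_pow y _).eq

theorem psi_zero {p : ℕ} (hp : p.Prime) (hpq : p ∣ q) {y : G} (hy : p ∣ orderOf y) :
    (ψ : G → ℂ) y = 0 := by
  haveI : Fact p.Prime := ⟨hp⟩
  refine CfsgLib.BlockB.irr_apply_eq_zero_of_defect_zero ψ ?_ hy
  have hdeg : Cfsg.charDegree (ψ : G → ℂ) = q := by
    have := CfsgLib.BlockB.irr_degree_cast ψ
    rw [Dt.hψ1] at this
    exact_mod_cast this
  rw [hdeg]
  refine Nat.Coprime.dvd_of_dvd_mul_right (k := p ^ (Nat.card G).factorization p) (n := 2 * Nat.card ↥K * m)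
    (Nat.Coprime.pow_left _ ((Nat.Prime.coprime_iff_not_dvd hp).2 fun h => ?_)) ?_
  · rcases hp.dvd_mul.1 h with h | h
    · exact Dt.not_dvd_two_k_q S hp hpq h
    · exact Dt.not_dvd_m_q S hp hpq h
  · have := Nat.ordProj_dvd (Nat.card G) p
    rw [show q * (2 * Nat.card ↥K * m) = Nat.card G by rw [Dt.card_G S]; ring]
    exact this

theorem theta_zero {p : ℕ} (hp : p.Prime) (hpm : p ∣ m) {y : G} (hy : p ∣ orderOf y) :
    (θ : G → ℂ) y = 0 := by
  haveI : Fact p.Prime := ⟨hp⟩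
  refine CfsgLib.BlockB.irr_apply_eq_zero_of_defect_zero θ ?_ hy
  have hdeg : Cfsg.charDegree (θ : G → ℂ) = 2 * m := by
    have := CfsgLib.BlockB.irr_degree_cast θ
    rw [Dt.hθ1] at this
    exact_mod_cast this
  rw [hdeg]
  refine Dvd.dvd.mul_left ?_ 2
  refine Nat.Coprime.dvd_of_dvd_mul_right (k := p ^ (Nat.card G).factorization p) (n := 2 * Nat.card ↥K * q)
    (Nat.Coprime.pow_left _ ((Nat.Prime.coprime_iff_not_dvd hp).2 fun h => ?_)) ?_
  · rcases hp.dvd_mul.1 h with h | h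
    · exact Dt.not_dvd_two_k_m S hp hpm h
    · exact Dt.not_dvd_m_q S hp h hpm
  · have := Nat.ordProj_dvd (Nat.card G) p
    rw [show m * (2 * Nat.card ↥K * q) = Nat.card G by rw [Dt.card_G S]; ring]
    exact this

theorem prime_dvd_order {y : G} (h1 : y ≠ 1) (hy : y ∉ kParts K) {p : ℕ} (hp : p.Prime)
    (hpy : p ∣ orderOf y) : p ∣ q ∨ p ∣ m := by
  have h := hpy.trans (orderOf_dvd_natCard y)
  rw [Dt.card_G S] at h
  rcases hp.dvd_mul.1 h with h | h
  · exact absurd (Dt.coprime_order S h1 hy ▸ Nat.dvd_gcd hpy h) hp.not_dvd_one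
  · exact hp.dvd_mul.1 h

/-- The two kinds of elements outside `kParts`. -/
theorem rest_cases {y : G} (h1 : y ≠ 1) (hy : y ∉ kParts K) :
    ((ψ : G → ℂ) y = 0 ∧ Nat.Coprime (orderOf y) m) ∨
      ((ψ : G → ℂ) y = -(d : ℂ) ∧ Nat.Coprime (orderOf y) q) := by
  have key : ∀ p, p.Prime → p ∣ orderOf y → p ∣ m → (ψ : G → ℂ) y = -(d : ℂ) := by
    intro p hp hpy hpm
    have := Dt.theta_zero S hp hpm hpy
    rw [Dt.hθ y hy] at this
    linear_combination this
  by_cases h : (ψ : G → ℂ) y = 0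
  · refine Or.inl ⟨h, Nat.coprime_of_dvd fun p hp hpy hpm => ?_⟩
    have := key p hp hpy hpm
    rw [h] at this
    exact Dt.d_ne_zero S (neg_eq_zero.1 this.symm)
  · have ho : orderOf y ≠ 1 := fun e => h1 (orderOf_eq_one_iff.1 e)
    obtain ⟨p, hp, hpy⟩ := Nat.exists_prime_and_dvd ho
    rcases Dt.prime_dvd_order S h1 hy hp hpy with hq | hm
    · exact absurd (Dt.psi_zero S hp hq hpy) h
    · exact Or.inr ⟨key p hp hpy hm,
        Nat.coprime_of_dvd fun r hr hry hrq => h (Dt.psi_zero S hr hrq hry)⟩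

theorem psi_kParts {y : G} (hy : y ∈ kParts K) : (ψ : G → ℂ) y = d := by
  obtain ⟨hy1, g, hg⟩ := mem_kParts.1 hy
  rw [← Dt.hψK _ hg (fun e => hy1 (conj_eq_one_iff.1 e))]
  exact (irr_isClassFunction ψ.2 y g).symm

end Data

/-- The elements outside the identity and the conjugates of `K` where `ψ` vanishes. -/
noncomputable def restQ (K : Subgroup G) (ψ : Cfsg.IrrCharacter G) : Finset G :=
  letI := Classical.decEq G
  letI : DecidablePred fun y : G => (ψ : G → ℂ) y = 0 := Classical.decPred _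
  Finset.univ.filter fun y => (y ≠ 1 ∧ y ∉ kParts K) ∧ (ψ : G → ℂ) y = 0

theorem mem_restQ {ψ : Cfsg.IrrCharacter G} {y : G} :
    y ∈ restQ K ψ ↔ (y ≠ 1 ∧ y ∉ kParts K) ∧ (ψ : G → ℂ) y = 0 := by
  classical
  simp [restQ]

/-- The elements outside the identity and the conjugates of `K` where `ψ` does not vanish. -/
noncomputable def restM (K : Subgroup G) (ψ : Cfsg.IrrCharacter G) : Finset G :=
  letI := Classical.decEq G
  letI : DecidablePred fun y : G => (ψ : G → ℂ) y = 0 := Classical.decPred _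
  Finset.univ.filter fun y => (y ≠ 1 ∧ y ∉ kParts K) ∧ ¬ (ψ : G → ℂ) y = 0

theorem mem_restM {ψ : Cfsg.IrrCharacter G} {y : G} :
    y ∈ restM K ψ ↔ (y ≠ 1 ∧ y ∉ kParts K) ∧ ¬ (ψ : G → ℂ) y = 0 := by
  classical
  simp [restM]

namespace Data

variable {ψ θ : Cfsg.IrrCharacter G} {d : ℤ} {q m : ℕ}
variable (Dt : Data K ψ θ d q m) (S : Setup t K s)
include Dt S

theorem psi_restM {y : G} (hy : y ∈ restM K ψ) :
    (ψ : G → ℂ) y = -(d : ℂ) ∧ Nat.Coprime (orderOf y) q := by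
  obtain ⟨⟨h1, h2⟩, h3⟩ := mem_restM.1 hy
  exact (Dt.rest_cases S h1 h2).resolve_left fun h => h3 h.1

theorem cop_restQ {y : G} (hy : y ∈ restQ K ψ) : Nat.Coprime (orderOf y) m := by
  obtain ⟨⟨h1, h2⟩, h3⟩ := mem_restQ.1 hy
  exact ((Dt.rest_cases S h1 h2).resolve_right fun h =>
    Dt.d_ne_zero S (neg_eq_zero.1 (h.1.symm.trans h3))).2

theorem counts :
    (restQ K ψ).card + 1 = q * q ∧ q * q + (kParts K).card + (restM K ψ).card = Nat.card G := by
  classical
  have h1 : ∀ y : G, (1 : ℕ) = (if y = 1 then 1 else 0) + (if y ∈ kParts K then 1 else 0) +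
      (if y ∈ restQ K ψ then 1 else 0) + (if y ∈ restM K ψ then 1 else 0) := by
    intro y
    by_cases e : y = 1
    · have hn : y ∉ kParts K := fun h => (mem_kParts.1 h).1 e
      simp [e, mem_restQ, mem_restM, S.one_not_kParts]
    · by_cases hk : y ∈ kParts K <;> by_cases h0 : (ψ : G → ℂ) y = 0 <;>
        simp [e, hk, h0, mem_restQ, mem_restM]
  have hG : Nat.card G =
      1 + (kParts K).card + (restQ K ψ).card + (restM K ψ).card := by
    rw [Nat.card_eq_fintype_card, ← Finset.card_univ, Finset.card_eq_sum_ones,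
      Finset.sum_congr rfl fun y _ => h1 y]
    simp [Finset.sum_add_distrib, Finset.sum_boole]
  have hn := irr_classInner_self ψ.2
  rw [classInner_def, inv_mul_eq_one₀ natCard_ne_zero] at hn
  have h2 : ∀ y : G, (ψ : G → ℂ) y * conj ((ψ : G → ℂ) y) =
      (if y = 1 then (q : ℂ) * q else 0) + (if y ∈ kParts K then 1 else 0) +
        (if y ∈ restM K ψ then 1 else 0) := by
    intro y
    by_cases e : y = 1
    · subst e
      simp [Dt.hψ1, mem_restM, S.one_not_kParts]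
    · by_cases hk : y ∈ kParts K
      · rw [Dt.psi_kParts S hk, map_intCast, ← Int.cast_mul, Dt.d_sq S, if_neg e, if_pos hk,
          if_neg fun h => (mem_restM.1 h).1.2 hk]
        simp
      · by_cases h0 : (ψ : G → ℂ) y = 0
        · simp [h0, e, hk, mem_restM]
        · have hM : y ∈ restM K ψ := mem_restM.2 ⟨⟨e, hk⟩, h0⟩
          rw [(Dt.psi_restM S hM).1, map_neg, map_intCast, neg_mul_neg, ← Int.cast_mul,
            Dt.d_sq S, if_neg e, if_neg hk, if_pos hM]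
          simp
  rw [Finset.sum_congr rfl fun y _ => h2 y, Finset.sum_add_distrib, Finset.sum_add_distrib,
    Finset.sum_ite_eq' Finset.univ (1 : G) (fun _ => (q : ℂ) * q), if_pos (Finset.mem_univ _),
    Finset.sum_boole, Finset.sum_boole, Finset.filter_univ_mem, Finset.filter_univ_mem] at hn
  have hn' : Nat.card G = q * q + (kParts K).card + (restM K ψ).card := by exact_mod_cast hn
  exact ⟨by omega, hn'.symm⟩

theorem card_restQ : (restQ K ψ).card = 4 * Nat.card ↥K * m := by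
  have h1 := (Dt.counts S).1
  rw [Dt.sq_q S] at h1
  omega

theorem card_restM :
    (restM K ψ).card + q * q + q * m * (Nat.card ↥K - 1) = 2 * Nat.card ↥K * (q * m) := by
  have h2 := (Dt.counts S).2
  rw [S.card_kParts, Dt.hI, Dt.card_G S] at h2
  omega

/-- Commuting elements are of the same kind. -/
theorem same_kind {y c : G} (h1 : y ≠ 1) (hy : y ∉ kParts K) (hc1 : c ≠ 1) (h : c * y = y * c) :
    c ∉ kParts K ∧ ((ψ : G → ℂ) c = 0 ↔ (ψ : G → ℂ) y = 0) := by
  have hc : c ∉ kParts K := fun hk => hy (S.mem_kParts_of_commute hk h1 h.symm)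
  have aux : ∀ a b : G, a ≠ 1 → a ∉ kParts K → b ≠ 1 → b ∉ kParts K → a * b = b * a →
      (ψ : G → ℂ) a = 0 → (ψ : G → ℂ) b = 0 := by
    intro a b ha1 ha hb1 hb hab h0
    by_contra hb0
    have hcop_a : Nat.Coprime (orderOf a) m := Dt.cop_restQ S (mem_restQ.2 ⟨⟨ha1, ha⟩, h0⟩)
    have hcop_b := (Dt.psi_restM S (mem_restM.2 ⟨⟨hb1, hb⟩, hb0⟩)).2
    have hcop : Nat.Coprime (orderOf a) (orderOf b) := by
      refine Nat.coprime_of_dvd fun p hp hpa hpb => ?_
      rcases Dt.prime_dvd_order S ha1 ha hp hpa with hq | hm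
      · exact hp.not_dvd_one (hcop_b ▸ Nat.dvd_gcd hpb hq)
      · exact hp.not_dvd_one (hcop_a ▸ Nat.dvd_gcd hpa hm)
    have ho := Commute.orderOf_mul_eq_mul_orderOf_of_coprime hab hcop
    have hab1 : a * b ≠ 1 := fun e => by
      rw [e, orderOf_one] at ho
      exact ha1 (orderOf_eq_one_iff.1 (Nat.eq_one_of_mul_eq_one_right ho.symm))
    have habk : a * b ∉ kParts K := fun hk => ha (S.mem_kParts_of_commute hk ha1
      (by rw [mul_assoc, hab]))
    obtain ⟨p, hp, hpa⟩ := Nat.exists_prime_and_dvd fun e => ha1 (orderOf_eq_one_iff.1 e)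
    obtain ⟨r, hr, hrb⟩ := Nat.exists_prime_and_dvd fun e => hb1 (orderOf_eq_one_iff.1 e)
    have hpq : p ∣ q := (Dt.prime_dvd_order S ha1 ha hp hpa).resolve_right
      fun hm => hp.not_dvd_one (hcop_a ▸ Nat.dvd_gcd hpa hm)
    have hrm : r ∣ m := (Dt.prime_dvd_order S hb1 hb hr hrb).resolve_left
      fun hq => hr.not_dvd_one (hcop_b ▸ Nat.dvd_gcd hrb hq)
    have e1 := Dt.psi_zero S hp hpq (y := a * b) (ho ▸ Dvd.dvd.mul_right hpa _)
    have e2 := Dt.theta_zero S hr hrm (y := a * b) (ho ▸ Dvd.dvd.mul_left hrb _)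
    rw [Dt.hθ _ habk, e1, add_zero] at e2
    exact Dt.d_ne_zero S e2
  exact ⟨hc, fun h0 => aux c y hc1 hc h1 hy h h0, fun h0 => aux y c h1 hy hc1 hc h.symm h0⟩

theorem cent_dvd {y : G} (h1 : y ≠ 1) (hy : y ∉ kParts K) :
    ((ψ : G → ℂ) y = 0 → Nat.card ↥(Subgroup.centralizer ({y} : Set G)) ∣ q) ∧
      (¬ (ψ : G → ℂ) y = 0 → Nat.card ↥(Subgroup.centralizer ({y} : Set G)) ∣ m) := by
  set C := Subgroup.centralizer ({y} : Set G) with hC
  have hdvd : Nat.card ↥C ∣ 2 * Nat.card ↥K * (q * m) :=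
    Dt.card_G S ▸ Subgroup.card_subgroup_dvd_card C
  have helt : ∀ p, p.Prime → p ∣ Nat.card ↥C → ∃ c : G, c ≠ 1 ∧ c * y = y * c ∧ orderOf c = p := by
    intro p hp hpC
    haveI : Fact p.Prime := ⟨hp⟩
    obtain ⟨c, hc⟩ := exists_prime_orderOf_dvd_card' (G := ↥C) p hpC
    rw [← Subgroup.orderOf_coe] at hc
    exact ⟨c, fun e => by rw [e, orderOf_one] at hc; exact hp.one_lt.ne hc,
      Subgroup.mem_centralizer_singleton_iff.1 c.2, hc⟩
  have hk2 : Nat.Coprime (Nat.card ↥C) (2 * Nat.card ↥K) := by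
    refine Nat.coprime_of_dvd fun p hp hpC hpk => ?_
    obtain ⟨c, hc1, hcy, hco⟩ := helt p hp hpC
    exact hp.not_dvd_one (Dt.coprime_order S hc1 (Dt.same_kind S h1 hy hc1 hcy).1 ▸
      Nat.dvd_gcd (hco ▸ dvd_rfl) hpk)
  have hqm : Nat.card ↥C ∣ q * m := hk2.dvd_of_dvd_mul_left hdvd
  refine ⟨fun h0 => ?_, fun h0 => ?_⟩
  · refine (Nat.Coprime.dvd_of_dvd_mul_right ?_ hqm)
    refine Nat.coprime_of_dvd fun p hp hpC hpm => ?_
    obtain ⟨c, hc1, hcy, hco⟩ := helt p hp hpC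
    obtain ⟨hck, hiff⟩ := Dt.same_kind S h1 hy hc1 hcy
    exact hp.not_dvd_one (Dt.cop_restQ S (mem_restQ.2 ⟨⟨hc1, hck⟩, hiff.2 h0⟩) ▸
      Nat.dvd_gcd (hco ▸ dvd_rfl) hpm)
  · refine (Nat.Coprime.dvd_of_dvd_mul_left ?_ hqm)
    refine Nat.coprime_of_dvd fun p hp hpC hpq => ?_
    obtain ⟨c, hc1, hcy, hco⟩ := helt p hp hpC
    obtain ⟨hck, hiff⟩ := Dt.same_kind S h1 hy hc1 hcy
    exact hp.not_dvd_one ((Dt.psi_restM S (mem_restM.2 ⟨⟨hc1, hck⟩, fun e => h0 (hiff.1 e)⟩)).2 ▸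
      Nat.dvd_gcd (hco ▸ dvd_rfl) hpq)

open scoped Classical in
theorem class_subset {z : G} (hz : z ∈ restQ K ψ) :
    (Finset.univ.filter fun x : G => IsConj z x) ⊆ restQ K ψ := by
  intro x hx
  obtain ⟨g, rfl⟩ := isConj_iff.1 (Finset.mem_filter.1 hx).2
  obtain ⟨⟨h1, h2⟩, h3⟩ := mem_restQ.1 hz
  refine mem_restQ.2 ⟨⟨fun e => h1 (conj_eq_one_iff.1 e), fun hk => h2 ?_⟩, ?_⟩
  · obtain ⟨-, a, ha⟩ := mem_kParts.1 hk
    refine mem_kParts.2 ⟨h1, a * g, ?_⟩
    rwa [show a * g * z * (a * g)⁻¹ = a * (g * z * g⁻¹) * a⁻¹ by group]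
  · rw [irr_isClassFunction ψ.2 z g, h3]

open scoped Classical in
theorem cent_restQ {z : G} (hz : z ∈ restQ K ψ) :
    Nat.card ↥(Subgroup.centralizer ({z} : Set G)) = q ∧
      (Finset.univ.filter fun x : G => IsConj z x).card = 2 * Nat.card ↥K * m := by
  obtain ⟨⟨h1, h2⟩, h3⟩ := mem_restQ.1 hz
  obtain ⟨a, ha⟩ := (Dt.cent_dvd S h1 h2).1 h3
  have hle := Finset.card_le_card (Dt.class_subset S hz)
  have hcl := card_class_mul_card_centralizer z
  rw [Nat.card_eq_fintype_card (α := {t : G // IsConj z t}), Fintype.card_subtype, Dt.card_G S] at hcl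
  set c := (Finset.univ.filter fun x : G => IsConj z x).card
  set n := Nat.card ↥(Subgroup.centralizer ({z} : Set G)) with hn
  have hnpos : 0 < n := Nat.card_pos
  have hc : c = 2 * Nat.card ↥K * m * a := by
    apply Nat.eq_of_mul_eq_mul_right hnpos
    rw [hcl, ha]; ring
  rw [Dt.card_restQ S, hc] at hle
  have hMpos : 0 < 2 * Nat.card ↥K * m := by
    have := Dt.three_le_m S
    have := Dt.hk
    positivity
  have ha2 : a ≤ 2 := by
    refine Nat.le_of_mul_le_mul_left ?_ hMpos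
    linarith
  have hodd : Odd a := (Nat.odd_mul.1 (show Odd (n * a) from ha ▸ Dt.odd_q S)).2
  obtain ⟨j, hj⟩ := hodd
  have ha1 : a = 1 := by omega
  exact ⟨by rw [ha, ha1, mul_one], by rw [hc, ha1, mul_one]⟩

theorem order_restQ {z : G} (hz : z ∈ restQ K ψ) : orderOf z ∣ q := by
  rw [← (Dt.cent_restQ S hz).1]
  exact Subgroup.orderOf_dvd_natCard _ (Subgroup.mem_centralizer_singleton_iff.2 rfl)

theorem mem_restQ_of_order {z : G} (h1 : z ≠ 1) {p : ℕ} (hp : p.Prime) (hpq : p ∣ q)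
    (hpz : p ∣ orderOf z) : z ∈ restQ K ψ :=
  mem_restQ.2 ⟨⟨h1, fun hk => Dt.not_dvd_two_k_q S hp hpq
    (Dvd.dvd.mul_left (hpz.trans (Dt.kParts_order S hk)) 2)⟩, Dt.psi_zero S hp hpq hpz⟩

theorem q_prime_pow : ∃ p v : ℕ, p.Prime ∧ v ≠ 0 ∧ q = p ^ v := by
  classical
  have hq := Dt.seven_le_q S
  obtain ⟨p, hp, hpq⟩ := Nat.exists_prime_and_dvd (by omega : q ≠ 1)
  refine ⟨p, q.factorization p, hp, (hp.factorization_pos_of_dvd (by omega) hpq).ne', ?_⟩
  obtain ⟨v, hv⟩ : ∃ v, q = p ^ v := ⟨_, Nat.eq_prime_pow_of_unique_prime_dvd (by omega) (by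
    intro r hr hrq
    by_contra hne
    haveI : Fact p.Prime := ⟨hp⟩
    haveI : Fact r.Prime := ⟨hr⟩
    have hqG : q ∣ Nat.card G := ⟨2 * Nat.card ↥K * m, by rw [Dt.card_G S]; ring⟩
    obtain ⟨z, hz⟩ := exists_prime_orderOf_dvd_card' (G := G) p (hpq.trans hqG)
    have hz1 : z ≠ 1 := fun e => by rw [e, orderOf_one] at hz; exact hp.one_lt.ne hz
    have hzR := Dt.mem_restQ_of_order S hz1 hp hpq (hz ▸ dvd_rfl)
    obtain ⟨⟨w, hwC⟩, hw⟩ := exists_prime_orderOf_dvd_card'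
      (G := ↥(Subgroup.centralizer ({z} : Set G))) r ((Dt.cent_restQ S hzR).1.symm ▸ hrq)
    rw [← Subgroup.orderOf_coe] at hw
    change orderOf w = r at hw
    have hw1 : w ≠ 1 := fun e => by rw [e, orderOf_one] at hw; exact hr.one_lt.ne hw
    have hwR := Dt.mem_restQ_of_order S hw1 hr hrq (hw ▸ dvd_rfl)
    have ho : orderOf (w * z) = r * p := by
      rw [Commute.orderOf_mul_eq_mul_orderOf_of_coprime
        (Subgroup.mem_centralizer_singleton_iff.1 hwC) (by
          rw [hw, hz]; exact (Nat.coprime_primes hr hp).2 hne), hw, hz]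
    have hwz1 : w * z ≠ 1 := fun e => by
      rw [e, orderOf_one] at ho
      exact hr.one_lt.ne (Nat.eq_one_of_mul_eq_one_right ho.symm).symm
    have hwzR := Dt.mem_restQ_of_order S hwz1 hp hpq (ho ▸ dvd_mul_left p r)
    set A := Finset.univ.filter fun x : G => IsConj z x
    set B := Finset.univ.filter fun x : G => IsConj w x
    set C := Finset.univ.filter fun x : G => IsConj (w * z) x
    have hdisj : ∀ a b : G, orderOf a ≠ orderOf b → Disjoint (Finset.univ.filter fun x : G => IsConj a x)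
        (Finset.univ.filter fun x : G => IsConj b x) := by
      intro a b hab
      rw [Finset.disjoint_left]
      intro x hxa hxb
      exact hab ((orderOf_eq_of_isConj (Finset.mem_filter.1 hxa).2).symm.trans
        (orderOf_eq_of_isConj (Finset.mem_filter.1 hxb).2))
    have hd1 : Disjoint A B := hdisj z w (by rw [hz, hw]; exact fun e => hne e.symm)
    have hd2 : Disjoint (A ∪ B) C := by
      rw [Finset.disjoint_union_left]
      refine ⟨hdisj z _ ?_, hdisj w _ ?_⟩ <;> rw [ho]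
      · rw [hz]; intro e
        exact hr.one_lt.ne' (Nat.eq_of_mul_eq_mul_right hp.pos ((one_mul p).trans e).symm)
      · rw [hw]; intro e
        exact hp.one_lt.ne' (Nat.eq_of_mul_eq_mul_left hr.pos ((mul_one r).trans e).symm)
    have hle := Finset.card_le_card (Finset.union_subset (Finset.union_subset
      (Dt.class_subset S hzR) (Dt.class_subset S hwR)) (Dt.class_subset S hwzR))
    rw [Finset.card_union_of_disjoint hd2, Finset.card_union_of_disjoint hd1, Dt.card_restQ S,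
      (Dt.cent_restQ S hzR).2, (Dt.cent_restQ S hwR).2, (Dt.cent_restQ S hwzR).2] at hle
    have : 0 < 2 * Nat.card ↥K * m := by
      have := Dt.three_le_m S
      have := Dt.hk
      positivity
    linarith)⟩
  rw [hv, hp.factorization_pow, Finsupp.single_eq_same]

/-- If no element of `restQ` is real, then `d = -1` and every element of `restM` is real with
centralizer of order `m`. -/
theorem count (hno : ∀ w ∈ restQ K ψ, ∀ u, orderOf u = 2 → orderOf (u * w) ≠ 2) :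
    d = -1 ∧ ∀ y ∈ restM K ψ, (∃ u, orderOf u = 2 ∧ orderOf (u * y) = 2) ∧
      Nat.card ↥(Subgroup.centralizer ({y} : Set G)) = m := by
  classical
  set k := Nat.card ↥K with hk
  let n : G → ℕ := fun y => ((invols G).filter fun u => orderOf (u * y) = 2).card
  let bd : G → ℕ := fun y => (if y = 1 then q * m else 0) + (if y ∈ kParts K then k else 0) +
    (if y ∈ restM K ψ then m else 0)
  have hM : ∀ y ∈ restM K ψ, n y ≤ m ∧ (n y = m → (∃ u, orderOf u = 2 ∧ orderOf (u * y) = 2) ∧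
      Nat.card ↥(Subgroup.centralizer ({y} : Set G)) = m) := by
    intro y hy
    obtain ⟨⟨h1, h2⟩, h3⟩ := mem_restM.1 hy
    have hm3 := Dt.three_le_m S
    by_cases hn : n y = 0
    · exact ⟨hn ▸ Nat.zero_le _, fun e => by omega⟩
    · obtain ⟨u, hu⟩ := Finset.card_pos.1 (Nat.pos_of_ne_zero hn)
      simp only [Finset.mem_filter, mem_invols] at hu
      have he : n y = Nat.card ↥(Subgroup.centralizer ({y} : Set G)) :=
        (S.real_facts h2 h1 hu.1 hu.2).2.2
      exact ⟨he ▸ Nat.le_of_dvd (by omega) ((Dt.cent_dvd S h1 h2).2 h3),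
        fun e => ⟨⟨u, hu⟩, he ▸ e⟩⟩
  have hle : ∀ y ∈ (Finset.univ : Finset G), n y ≤ bd y := by
    intro y _
    by_cases e : y = 1
    · subst e
      have : n 1 ≤ (invols G).card := Finset.card_filter_le _ _
      rw [Dt.hI] at this
      simp only [bd, if_true, if_neg S.one_not_kParts,
        if_neg (fun h : (1 : G) ∈ restM K ψ => (mem_restM.1 h).1.1 rfl)]
      omega
    · by_cases hyk : y ∈ kParts K
      · simp only [n, bd, if_neg e, if_pos hyk, S.card_pairs_kParts hyk]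
        omega
      · by_cases h0 : (ψ : G → ℂ) y = 0
        · have : n y = 0 := by
            rw [Finset.card_eq_zero, Finset.filter_eq_empty_iff]
            intro u hu
            exact hno y (mem_restQ.2 ⟨⟨e, hyk⟩, h0⟩) u (mem_invols.1 hu)
          rw [this]
          exact Nat.zero_le _
        · have hy : y ∈ restM K ψ := mem_restM.2 ⟨⟨e, hyk⟩, h0⟩
          simp only [bd, if_neg e, if_neg hyk, if_pos hy, zero_add]
          exact (hM y hy).1
  have hsum : ∑ y : G, bd y = q * m + (kParts K).card * k + (restM K ψ).card * m := by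
    simp only [bd, Finset.sum_add_distrib, Finset.sum_ite_eq', Finset.mem_univ, if_true]
    rw [← Finset.sum_filter, ← Finset.sum_filter, Finset.filter_univ_mem, Finset.filter_univ_mem,
      Finset.sum_const, Finset.sum_const, smul_eq_mul, smul_eq_mul]
  have hpc : (q * m) * (q * m) = ∑ y : G, n y := by rw [← Dt.hI]; exact S.pair_count
  have hkey := Finset.sum_le_sum hle
  rw [hsum, ← hpc, S.card_kParts, Dt.hI, ← hk] at hkey
  have hRM := Dt.card_restM S
  rw [← hk] at hRM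
  have hk4 : 4 ≤ k := Dt.hk
  obtain ⟨j, hj⟩ : ∃ j, k = j + 4 := ⟨k - 4, by omega⟩
  rcases Dt.hcase with ⟨hd, hq, hm'⟩ | ⟨hd, hq, hm'⟩
  · exfalso
    rw [← hk] at hq hm'
    rw [hq, hm', hj, show j + 4 - 1 = j + 3 by omega] at hkey hRM
    have hR : (restM K ψ).card = (2 * j + 9) * ((j + 4) * (j + 4)) := by nlinarith
    rw [hR] at hkey
    nlinarith
  · refine ⟨hd, fun y hy => (hM y hy).2 ?_⟩
    rw [← hk] at hq hm'
    have hq' : q = 2 * j + 7 := by omega
    have hm'' : m = j + 3 := by omega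
    rw [hq', hm'', hj, show j + 4 - 1 = j + 3 by omega] at hRM
    have hR : (restM K ψ).card = (2 * j + 7) * ((j + 4) * (j + 2)) := by nlinarith
    have heq : ∑ x : G, n x = ∑ x : G, bd x := by
      rw [hsum, ← hpc, S.card_kParts, Dt.hI, ← hk, hR, hq', hm'', hj,
        show j + 4 - 1 = j + 3 by omega]
      ring
    have := (Finset.sum_eq_sum_iff_of_le hle).1 heq y (Finset.mem_univ y)
    rw [this]
    obtain ⟨⟨h1, h2⟩, -⟩ := mem_restM.1 hy
    simp [bd, h1, h2, hy]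

end Data

end CfsgLib.InvChar.BSW
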