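import Cfsg.Agent.Lib.InvChar.BSWStruct
import Cfsg.Agent.Lib.Invol.CAInvol
import Cfsg.Agent.Lib.Classical.PSLTwoPerm

/-!
The Brauer-Suzuki-Wall situation with `|K| = 2`.
-/

set_option autoImplicit false
set_option linter.unusedSectionVars false

namespace CfsgLib.InvChar.BSW

open CfsgLib.Invol

universe u

variable {G : Type u} [Group G] {t s : G} {K : Subgroup G} [Fintype G]

namespace Setup

variable (S : Setup t K s)
include S

theorem K_eq_of_two (hk : Nat.card ↥K = 2) {x : G} (hx : x ∈ K) : x = 1 ∨ x = t := by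
  classical
  have hsub : ({1, t} : Finset G) ⊆ Finset.univ.filter fun x : G => x ∈ K := by
    intro y hy
    simp only [Finset.mem_insert, Finset.mem_singleton] at hy
    rcases hy with rfl | rfl
    · exact Finset.mem_filter.2 ⟨Finset.mem_univ _, one_mem K⟩
    · exact Finset.mem_filter.2 ⟨Finset.mem_univ _, S.htK⟩
  have heq := Finset.eq_of_subset_of_card_le hsub (by
    rw [← Fintype.card_subtype, ← Nat.card_eq_fintype_card, hk,
      Finset.card_pair (invol_ne_one S.ht).symm])
  have h : x ∈ Finset.univ.filter fun x : G => x ∈ K := Finset.mem_filter.2 ⟨Finset.mem_univ x, hx⟩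
  rw [← heq] at h
  simpa using h

theorem H_sq_of_two (hk : Nat.card ↥K = 2) {h : G} (hh : h ∈ Subgroup.centralizer ({t} : Set G)) :
    h * h = 1 := by
  rcases S.mem_H.1 hh with hK | hK
  · rcases S.K_eq_of_two hk hK with rfl | rfl
    · rw [one_mul]
    · exact invol_mul_self S.ht
  · have := S.mul_s_invol hK
    rw [mul_assoc, invol_mul_self S.hs, mul_one] at this
    exact invol_mul_self this

theorem cent_invol_of_two (hk : Nat.card ↥K = 2) {v : G} (hv : orderOf v = 2) :
    IsMulCommutative ↥(Subgroup.centralizer ({v} : Set G)) ∧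
      ∀ c ∈ Subgroup.centralizer ({v} : Set G), c ^ 2 = 1 := by
  obtain ⟨g, hg⟩ := isConj_iff.1 (S.hconj v t hv S.ht)
  have hsq : ∀ c ∈ Subgroup.centralizer ({v} : Set G), c * c = 1 := by
    intro c hc
    rw [Subgroup.mem_centralizer_singleton_iff] at hc
    have h := S.H_sq_of_two hk (h := g * c * g⁻¹) (Subgroup.mem_centralizer_singleton_iff.2 (by
      rw [← hg]
      calc g * c * g⁻¹ * (g * v * g⁻¹) = g * (c * v) * g⁻¹ := by group
        _ = g * (v * c) * g⁻¹ := by rw [hc]
        _ = g * v * g⁻¹ * (g * c * g⁻¹) := by group))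
    rw [show g * c * g⁻¹ * (g * c * g⁻¹) = g * (c * c) * g⁻¹ by group, conj_eq_one_iff] at h
    exact h
  refine ⟨isMulCommutative_of_cent fun a ha b hb => ?_, fun c hc => by rw [pow_two]; exact hsq c hc⟩
  have h1 := inv_eq_of_mul_eq_one_right (hsq a ha)
  have h2 := inv_eq_of_mul_eq_one_right (hsq b hb)
  have h3 := inv_eq_of_mul_eq_one_right (hsq _ (mul_mem ha hb))
  rw [_root_.mul_inv_rev, h1, h2] at h3
  exact h3.symm

theorem kParts_two (hk : Nat.card ↥K = 2) {y : G} (hy : y ∈ kParts K) : orderOf y = 2 := by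
  obtain ⟨hy1, g, hg⟩ := mem_kParts.1 hy
  rcases S.K_eq_of_two hk hg with e | e
  · exact absurd (conj_eq_one_iff.1 e) hy1
  · rw [← orderOf_conj_eq g y, e, S.ht]

/-- Centralizers of elements of odd prime order. -/
theorem cent_odd_of_two (hk : Nat.card ↥K = 2) {x : G} (hx1 : x ≠ 1) (hx : Odd (orderOf x)) :
    Odd (Nat.card ↥(Subgroup.centralizer ({x} : Set G))) := by
  by_contra h
  obtain ⟨v, hv, hv2⟩ := exists_invol_mem (Nat.not_odd_iff_even.1 h)
  have := S.kParts_two hk (S.mem_kParts_of_commute (S.invol_mem_kParts hv2) hx1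
    (Subgroup.mem_centralizer_singleton_iff.1 hv).symm)
  rw [this] at hx
  exact absurd hx (by decide)

theorem card_cases_of_two (hk : Nat.card ↥K = 2) :
    Nat.card G = 12 ∧ (∃ T : Sylow 2 G, (T : Subgroup G).Normal) ∨ Nat.card G = 60 := by
  classical
  set H := Subgroup.centralizer ({t} : Set G) with hH
  have hH4 : Nat.card ↥H = 4 := by rw [S.card_H, hk]
  obtain ⟨T, hT⟩ := (IsPGroup.of_card (p := 2) (n := 2) (by rw [hH4]; norm_num) :
    IsPGroup 2 ↥H).exists_le_sylow
  have hTne : (T : Subgroup G) ≠ ⊥ := fun e => invol_ne_one S.ht (Subgroup.mem_bot.1 (e ▸ hT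
    (Subgroup.mem_centralizer_singleton_iff.2 rfl)))
  haveI : Nontrivial ↥(T : Subgroup G) := (Subgroup.nontrivial_iff_ne_bot _).2 hTne
  haveI := T.2.center_nontrivial
  -- a central involution
  obtain ⟨z, hz, hz2⟩ : ∃ z ∈ (T : Subgroup G), orderOf z = 2 ∧ ∀ a ∈ (T : Subgroup G), a * z = z * a := by
    obtain ⟨n, hn0, hn⟩ := (T.2.to_subgroup (Subgroup.center ↥(T : Subgroup G))).nontrivial_iff_card.1
      inferInstance
    obtain ⟨c, hc⟩ := exists_prime_orderOf_dvd_card' (G := ↥(Subgroup.center ↥(T : Subgroup G))) 2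
      (hn ▸ dvd_pow_self 2 (by omega))
    rw [← Subgroup.orderOf_coe, ← Subgroup.orderOf_coe] at hc
    exact ⟨_, (c : ↥(T : Subgroup G)).2, hc, fun a ha =>
      congrArg Subtype.val (Subgroup.mem_center_iff.1 c.2 ⟨a, ha⟩)⟩
  have hTH : (T : Subgroup G) = H := by
    refine (Subgroup.eq_of_le_of_card_ge hT ?_).symm
    rw [hH4]
    calc Nat.card ↥(T : Subgroup G) ≤ Nat.card ↥(Subgroup.centralizer ({z} : Set G)) :=
          Nat.le_of_dvd Nat.card_pos (Subgroup.card_dvd_of_le fun a ha =>
            Subgroup.mem_centralizer_singleton_iff.2 (hz2.2 a ha))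
      _ = 4 := by rw [S.card_H_invol hz2.1, hk]
  have hT4 : Nat.card ↥(T : Subgroup G) = 4 := by rw [hTH, hH4]
  by_cases hn : (T : Subgroup G).Normal
  · left
    refine ⟨?_, T, hn⟩
    have hI : (invols G).card ≤ 3 := by
      have hsub : invols G ⊆ (Finset.univ.filter fun x : G => x ∈ (T : Subgroup G)).erase 1 := by
        intro v hv
        have hv2 := mem_invols.1 hv
        obtain ⟨g, hg⟩ := exists_conj_invol_mem_sylow T hv2
        refine Finset.mem_erase.2 ⟨invol_ne_one hv2, Finset.mem_filter.2 ⟨Finset.mem_univ _, ?_⟩⟩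
        have := hn.conj_mem _ hg g⁻¹
        rwa [show g⁻¹ * (g * v * g⁻¹) * g⁻¹⁻¹ = v by group] at this
      have h := Finset.card_le_card hsub
      rw [Finset.card_erase_of_mem (by simp), ← Fintype.card_subtype,
        ← Nat.card_eq_fintype_card] at h
      omega
    have h3 : 3 ≤ (invols G).card := by
      have hne : t * s ≠ t ∧ t * s ≠ s ∧ t ≠ s := ⟨fun e => invol_ne_one S.hs (mul_eq_left.1 e),
        fun e => invol_ne_one S.ht (mul_eq_right.1 e), fun e => S.hsK (e ▸ S.htK)⟩
      have hsub : ({t, s, t * s} : Finset G) ⊆ invols G := by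
        intro v hv
        simp only [Finset.mem_insert, Finset.mem_singleton] at hv
        rcases hv with rfl | rfl | rfl
        · exact mem_invols.2 S.ht
        · exact mem_invols.2 S.hs
        · exact mem_invols.2 (S.mul_s_invol S.htK)
      refine le_trans ?_ (Finset.card_le_card hsub)
      rw [Finset.card_insert_of_notMem (by simp [hne.2.2, hne.1.symm]),
        Finset.card_pair hne.2.1.symm]
    rw [S.card_G, hk, show (invols G).card = 3 by omega]
  · right
    have hnc : ¬ IsCyclic ↥(T : Subgroup G) := by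
      intro hc
      obtain ⟨g, hg⟩ := hc.exists_generator
      have ho : orderOf g = 4 := by rw [orderOf_eq_card_of_forall_mem_zpowers hg, hT4]
      have h2 : g * g = 1 := Subtype.ext (S.H_sq_of_two hk (hTH ▸ g.2 : (g : G) ∈ H))
      have := Nat.le_of_dvd (by norm_num) (orderOf_dvd_of_pow_eq_one ((pow_two g).trans h2))
      omega
    obtain ⟨F, iF, iFt, hF, ⟨e⟩⟩ :=
      (⟨hnc, hn, fun v hv => S.cent_invol_of_two hk hv⟩ : CAHyp T).exists_psl
    rw [Nat.card_congr e.toEquiv,
      CfsgLib.Classical.card_psl_two_eq (hF.trans hT4) 60 (by norm_num)]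

theorem conclusion_of_two (hk : Nat.card ↥K = 2) : Conclusion G := by
  classical
  obtain ⟨q, r, hq, hqG, hcase⟩ : ∃ q r : ℕ, q.Prime ∧ (2 * r + 1 = q) ∧
      ((q = 3 ∧ Nat.card G = 12 ∧ (∃ T : Sylow 2 G, (T : Subgroup G).Normal)) ∨
        (q = 5 ∧ Nat.card G = 60)) := by
    rcases S.card_cases_of_two hk with h | h
    · exact ⟨3, 1, Nat.prime_three, rfl, Or.inl ⟨rfl, h⟩⟩
    · exact ⟨5, 2, by norm_num, rfl, Or.inr ⟨rfl, h⟩⟩
  haveI : Fact q.Prime := ⟨hq⟩
  have hfac : q ^ (Nat.card G).factorization q = q := by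
    have key : ∀ n, Nat.card G = q * n → ¬ q ∣ n → q ^ (Nat.card G).factorization q = q := by
      intro n hn hnd
      rw [hn, Nat.factorization_mul hq.ne_zero (fun h => hnd (by rw [h]; exact dvd_zero q)), Finsupp.add_apply,
        Nat.factorization_eq_zero_of_not_dvd hnd, add_zero, hq.factorization_self, pow_one]
    rcases hcase with ⟨rfl, hG, -⟩ | ⟨rfl, hG⟩
    · exact key 4 (by omega) (by norm_num)
    · exact key 12 (by omega) (by norm_num)
  have hPcard : ∀ P : Sylow q G, Nat.card ↥(P : Subgroup G) = q := fun P => by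
    rw [P.card_eq_multiplicity, hfac]
  have hodd : Odd q := ⟨r, hqG.symm⟩
  have hordQ : ∀ P : Sylow q G, ∀ x ∈ (P : Subgroup G), x ≠ 1 → orderOf x = q := by
    intro P x hx hx1
    have h := Subgroup.orderOf_dvd_natCard _ hx
    rw [hPcard P] at h
    exact (hq.eq_one_or_self_of_dvd _ h).resolve_left fun e => hx1 (orderOf_eq_one_iff.1 e)
  -- an involution normalising `P` inverts it
  have hinvP : ∀ P : Sylow q G, ∀ v, orderOf v = 2 →
      v ∈ Subgroup.normalizer ((P : Subgroup G) : Set G) →
      ∀ x ∈ (P : Subgroup G), x ≠ 1 → v * x * v⁻¹ = x⁻¹ := by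
    intro P v hv hvN x hx hx1
    have hgen : (P : Subgroup G) = Subgroup.zpowers x :=
      (Subgroup.eq_of_le_of_card_ge (Subgroup.zpowers_le.2 hx) (by
        rw [hPcard, Nat.card_zpowers, hordQ P x hx hx1])).symm
    set c := x⁻¹ * (v * x * v⁻¹) with hc
    have hcP : c ∈ (P : Subgroup G) :=
      mul_mem (inv_mem hx) ((Subgroup.mem_normalizer_iff.1 hvN x).1 hx)
    have hc1 : c ≠ 1 := by
      intro hc1
      have hcom : x * v = v * x := by
        rw [hc, inv_mul_eq_one, eq_mul_inv_iff_mul_eq] at hc1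
        exact hc1
      have := S.cent_odd_of_two hk hx1 (hordQ P x hx hx1 ▸ hodd)
      have h2 := Subgroup.orderOf_dvd_natCard (Subgroup.centralizer ({x} : Set G))
        (Subgroup.mem_centralizer_singleton_iff.2 hcom.symm)
      rw [hv] at h2
      exact (Nat.not_even_iff_odd.2 this) (even_iff_two_dvd.2 h2)
    have hinvc : v * c * v⁻¹ = c⁻¹ := by
      rw [hc, _root_.mul_inv_rev, inv_inv, invol_inv hv, _root_.mul_inv_rev, _root_.mul_inv_rev,
        invol_inv hv]
      calc v * (x⁻¹ * (v * x * v)) * v = v * x⁻¹ * v * x * (v * v) := by group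
        _ = v * (x⁻¹ * v) * x := by rw [invol_mul_self hv, mul_one]; group
    have hxc : x ∈ Subgroup.zpowers c := by
      have : (P : Subgroup G) = Subgroup.zpowers c :=
        (Subgroup.eq_of_le_of_card_ge (Subgroup.zpowers_le.2 hcP) (by
          rw [hPcard, Nat.card_zpowers, hordQ P c hcP hc1])).symm
      exact this ▸ hx
    obtain ⟨i, hi⟩ := hxc
    rw [← (hi : c ^ i = x)]
    exact conj_zpow_inv hinvc i
  -- no normal Sylow `q`-subgroup
  have hnn : ∀ P : Sylow q G, ¬ Subgroup.normalizer ((P : Subgroup G) : Set G) = ⊤ := by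
    intro P hP
    obtain ⟨⟨x, hxP⟩, hx⟩ := exists_prime_orderOf_dvd_card' (G := ↥(P : Subgroup G)) q
      (dvd_of_eq (hPcard P).symm)
    rw [← Subgroup.orderOf_coe] at hx
    change orderOf x = q at hx
    have hx1 : x ≠ 1 := fun e => by rw [e, orderOf_one] at hx; exact hq.one_lt.ne hx
    have hv : ∀ v, orderOf v = 2 → v * x * v⁻¹ = x⁻¹ := fun v hv =>
      hinvP P v hv (hP ▸ Subgroup.mem_top v) x hxP hx1
    have h1 := hv t S.ht
    have h2 := hv s S.hs
    have h3 := hv (t * s) (S.mul_s_invol S.htK)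
    have h4 : t * s * x * (t * s)⁻¹ = x := by
      calc t * s * x * (t * s)⁻¹ = t * (s * x * s⁻¹) * t⁻¹ := by group
        _ = (t * x * t⁻¹)⁻¹ := by rw [h2]; group
        _ = x := by rw [h1, inv_inv]
    have h5 : x = x⁻¹ := h4.symm.trans h3
    have h6 := orderOf_dvd_of_pow_eq_one (n := 2) (show x ^ 2 = 1 by
      rw [pow_two]; exact eq_inv_iff_mul_eq_one.1 h5)
    rw [hx] at h6
    have := Nat.le_of_dvd (by norm_num) h6
    obtain ⟨j, hj⟩ := hodd
    have := hq.two_le
    omega
  have hcent : ∀ P : Sylow q G, ∀ x ∈ (P : Subgroup G), x ≠ 1 →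
      Subgroup.centralizer ({x} : Set G) = P := by
    intro P x hx hx1
    have hgen : (P : Subgroup G) = Subgroup.zpowers x :=
      (Subgroup.eq_of_le_of_card_ge (Subgroup.zpowers_le.2 hx) (by
        rw [hPcard, Nat.card_zpowers, hordQ P x hx hx1])).symm
    have hle : (P : Subgroup G) ≤ Subgroup.centralizer ({x} : Set G) := hgen ▸
      Subgroup.zpowers_le.2 (Subgroup.mem_centralizer_singleton_iff.2 rfl)
    refine (Subgroup.eq_of_le_of_card_ge hle ?_).symm
    set c := Nat.card ↥(Subgroup.centralizer ({x} : Set G)) with hc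
    have hcodd : Odd c := S.cent_odd_of_two hk hx1 (hordQ P x hx hx1 ▸ hodd)
    have hcd : c ∣ Nat.card G := Subgroup.card_subgroup_dvd_card _
    rw [hPcard]
    rcases hcase with ⟨hq3, hG, -⟩ | ⟨hq5, hG⟩
    · rw [hG] at hcd
      have : c ∣ 3 := ((Nat.coprime_two_right.2 hcodd).pow_right 2).dvd_of_dvd_mul_left
        (show c ∣ 2 ^ 2 * 3 from hcd)
      have := Nat.le_of_dvd (by norm_num) this
      omega
    · rw [hG] at hcd
      have h15 : c ∣ 15 := ((Nat.coprime_two_right.2 hcodd).pow_right 2).dvd_of_dvd_mul_left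
        (show c ∣ 2 ^ 2 * 15 from hcd)
      have hq' : q ∣ c := hPcard P ▸ Subgroup.card_dvd_of_le hle
      have hle15 := Nat.le_of_dvd (by norm_num) h15
      have hc' : c = 5 ∨ c = 15 := by
        obtain ⟨a, ha⟩ := hq'
        rw [hq5] at ha
        have ha3 : a ≤ 3 := by omega
        have : a = 1 ∨ a = 3 := by
          obtain ⟨j, hj⟩ := hcodd
          omega
        omega
      rcases hc' with h | h
      · omega
      · -- the centralizer would normalise `P`, so `P` would be normal
        exfalso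
        refine hnn P ?_
        have hCN : Subgroup.centralizer ({x} : Set G) ≤
            Subgroup.normalizer ((P : Subgroup G) : Set G) := by
          intro a ha
          rw [hgen]
          rw [Subgroup.mem_centralizer_singleton_iff] at ha
          refine Subgroup.mem_normalizer_iff.2 fun b => ⟨?_, ?_⟩
          · rintro ⟨i, rfl⟩
            refine ⟨i, ?_⟩
            show x ^ i = a * x ^ i * a⁻¹
            rw [(Commute.zpow_right (show Commute a x from ha) i).eq, mul_inv_cancel_right]
          · rintro ⟨i, hi⟩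
            refine ⟨i, ?_⟩
            show x ^ i = b
            have hi' : x ^ i = a * b * a⁻¹ := hi
            have := (Commute.zpow_right (show Commute a x from ha) i).eq
            rw [hi'] at this
            calc x ^ i = a⁻¹ * (a * (a * b * a⁻¹)) := by rw [hi']; group
              _ = a⁻¹ * (a * b * a⁻¹ * a) := by rw [this]
              _ = b := by group
        have h1 := Subgroup.card_dvd_of_le hCN
        rw [← hc, h] at h1
        have hidxeq : Nat.card (Sylow q G) =
            (Subgroup.normalizer ((P : Subgroup G) : Set G)).index :=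
          Sylow.card_eq_index_normalizer P
        have h2 : Nat.card (Sylow q G) ∣ 4 := by
          rw [hidxeq]
          have h3 := (Subgroup.normalizer ((P : Subgroup G) : Set G)).card_mul_index
          rw [hG] at h3
          obtain ⟨a, ha⟩ := h1
          refine ⟨a, ?_⟩
          rw [ha, mul_assoc] at h3
          linarith
        have h4 := card_sylow_modEq_one q G
        rw [hq5] at h4
        have h6 := Nat.le_of_dvd (by norm_num) h2
        have h5 : Nat.card (Sylow q G) = 1 := by
          unfold Nat.ModEq at h4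
          subst hq5
          omega
        rw [hidxeq, Subgroup.index_eq_one] at h5
        exact h5
  obtain ⟨P⟩ := (Sylow.nonempty : Nonempty (Sylow q G))
  set N := Subgroup.normalizer ((P : Subgroup G) : Set G) with hN
  have hidx : Nat.card (Sylow q G) = N.index := Sylow.card_eq_index_normalizer P
  have hidxne : N.index ≠ 1 := fun e => hnn P (Subgroup.index_eq_one.1 e)
  have hmod : N.index % q = 1 := by
    have := card_sylow_modEq_one q G
    unfold Nat.ModEq at this
    rw [hidx, Nat.mod_eq_of_lt hq.one_lt] at this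
    exact this
  have hPN : q ∣ Nat.card ↥N := hPcard P ▸ Subgroup.card_dvd_of_le Subgroup.le_normalizer
  have hmul := N.card_mul_index
  rcases hcase with ⟨rfl, hG, T, hT⟩ | ⟨rfl, hG⟩
  · -- `q = 3`
    have hN3 : Nat.card ↥N = 3 := by
      obtain ⟨a, ha⟩ := hPN
      rw [ha, hG, mul_assoc] at hmul
      have hai : a * N.index = 4 := by linarith
      have hNi : N.index ∣ 4 := Dvd.intro_left _ hai
      have hle := Nat.le_of_dvd (by norm_num) hNi
      have h4 : N.index = 4 := by omega
      rw [h4] at hai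
      omega
    refine ⟨P, ⊥, ?_, hcent P, ?_, ?_, ?_, ?_, ?_⟩
    · rw [hPcard, hG]
    · exact isMulCommutative_of_cent fun a ha b hb => by
        rw [Subgroup.mem_bot.1 ha, Subgroup.mem_bot.1 hb]
    · rw [hPcard, Subgroup.card_bot]
    · exact inf_bot_eq _
    · rw [sup_bot_eq]
      exact (Subgroup.eq_of_le_of_card_ge Subgroup.le_normalizer (by rw [hPcard, hN3])).symm
    · exact fun X hX hX1 => absurd (le_bot_iff.1 hX) hX1
  · -- `q = 5`
    have hN10 : Nat.card ↥N = 10 := by
      obtain ⟨a, ha⟩ := hPN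
      rw [ha, hG, mul_assoc] at hmul
      have hai : a * N.index = 12 := by linarith
      have hle := Nat.le_of_dvd (by norm_num) (Dvd.intro_left _ hai : N.index ∣ 12)
      have h6 : N.index = 6 ∨ N.index = 11 := by omega
      rcases h6 with h6 | h6 <;> rw [h6] at hai <;> omega
    obtain ⟨v, hvN, hv⟩ := exists_invol_mem (H := N) (by rw [hN10]; decide)
    obtain ⟨g, hg⟩ := isConj_iff.1 (S.hconj v t hv S.ht)
    have hN2 : Subgroup.normalizer (((g • P : Sylow 5 G) : Subgroup G) : Set G) =
        N.map (MulAut.conj g).toMonoidHom := by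
      rw [Sylow.coe_subgroup_smul, hN]
      exact (Subgroup.map_equiv_normalizer_eq _ (MulAut.conj g)).symm
    have hKne : K ≠ ⊥ := fun e => by
      have h := S.htK
      rw [e] at h
      exact invol_ne_one S.ht (Subgroup.mem_bot.1 h)
    have hKN : K ≤ Subgroup.normalizer (((g • P : Sylow 5 G) : Subgroup G) : Set G) := by
      intro x hx
      rcases S.K_eq_of_two hk hx with rfl | rfl
      · exact one_mem _
      · rw [hN2, ← hg]
        exact Subgroup.mem_map_of_mem (MulAut.conj g).toMonoidHom hvN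
    refine ⟨(g • P : Sylow 5 G), K, ?_, hcent _, isMulCommutative_of_cent S.hcomm, ?_, ?_, ?_,
      fun X hX hX1 => ?_⟩
    · rw [hPcard, hG]
    · rw [hPcard, hk]
    · exact Subgroup.inf_eq_bot_of_coprime (by rw [hPcard, hk]; decide)
    · symm
      refine Subgroup.eq_of_le_of_card_ge (sup_le Subgroup.le_normalizer hKN) ?_
      rw [hN2, Subgroup.card_map_of_injective (MulAut.conj g).injective, hN10]
      refine Nat.le_of_dvd Nat.card_pos ((by decide : Nat.Coprime 5 2).mul_dvd_of_dvd_of_dvd ?_ ?_)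
      · have := Subgroup.card_dvd_of_le (le_sup_left : ((g • P : Sylow 5 G) : Subgroup G) ≤ _ ⊔ K)
        rwa [hPcard] at this
      · rw [← hk]; exact Subgroup.card_dvd_of_le le_sup_right
    · exact ⟨(S.normalizer_sub_K hX hX1).trans (S.normalizer_sub_K le_rfl hKne).symm,
        s, S.hs, S.hsK, S.hinv, by rw [S.normalizer_sub_K le_rfl hKne, S.hH]⟩

/-- The Brauer-Suzuki-Wall theorem. -/
theorem main : Conclusion G := by
  obtain ⟨j, hj⟩ := S.even_card
  by_cases hk : Nat.card ↥K = 2
  · exact S.conclusion_of_two hk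
  · obtain ⟨ψ, θ, d, q, m, Dt⟩ := S.exists_data (by have := Nat.card_pos (α := ↥K); omega)
    exact Dt.conclusion S

end Setup

end CfsgLib.InvChar.BSW
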