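import Cfsg.Agent.Lib.InvChar.BSWRest
import Mathlib.GroupTheory.SchurZassenhaus

/-!
The TI Sylow subgroup and its normalizer in the Brauer-Suzuki-Wall situation.
-/

set_option autoImplicit false
set_option linter.unusedSectionVars false

namespace CfsgLib.InvChar.BSW

open CfsgLib.Invol CfsgLib.Char

universe u

/-- The conclusion of the Brauer-Suzuki-Wall theorem. -/
def Conclusion (G : Type u) [Group G] : Prop :=
  ∃ Q D : Subgroup G, 2 * Nat.card G = Nat.card ↥Q * (Nat.card ↥Q + 1) * (Nat.card ↥Q - 1) ∧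
      (∀ x ∈ Q, x ≠ 1 → Subgroup.centralizer ({x} : Set G) = Q) ∧
      IsMulCommutative ↥D ∧ 2 * Nat.card ↥D + 1 = Nat.card ↥Q ∧ Q ⊓ D = ⊥ ∧
      Subgroup.normalizer (Q : Set G) = Q ⊔ D ∧
      ∀ X : Subgroup G, X ≤ D → X ≠ ⊥ →
        Subgroup.normalizer (X : Set G) = Subgroup.normalizer (D : Set G) ∧
        ∃ u : G, orderOf u = 2 ∧ u ∉ D ∧ (∀ d ∈ D, u * d * u⁻¹ = d⁻¹) ∧
          Subgroup.normalizer (D : Set G) = D ⊔ Subgroup.zpowers u

variable {G : Type u} [Group G]

/-- A proper subgroup of a `p`-group is properly contained in its normalizer. -/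
theorem exists_normalizing_not_mem [Finite G] {p : ℕ} [Fact p.Prime] {P D : Subgroup G}
    (hP : IsPGroup p ↥P) (hle : D ≤ P) (hne : D ≠ P) :
    ∃ a ∈ P, a ∉ D ∧ a ∈ Subgroup.normalizer (D : Set G) := by
  haveI := hP.isNilpotent
  have h : D.subgroupOf P < ⊤ := by
    rw [lt_top_iff_ne_top, Ne, Subgroup.subgroupOf_eq_top]
    exact fun h => hne (le_antisymm hle h)
  obtain ⟨a, ha, ha'⟩ := SetLike.exists_of_lt (Group.normalizerCondition_of_isNilpotent _ h)
  refine ⟨a, a.2, fun e => ha' (Subgroup.mem_subgroupOf.2 e), Subgroup.mem_normalizer_iff.2 fun x => ?_⟩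
  rw [Subgroup.mem_normalizer_iff] at ha
  by_cases hx : x ∈ P
  · have := ha ⟨x, hx⟩
    simpa [Subgroup.mem_subgroupOf] using this
  · constructor
    · exact fun h => absurd (hle h) hx
    · intro h
      refine absurd ?_ hx
      have := mul_mem (mul_mem (inv_mem a.2) (hle h)) a.2
      simpa [mul_assoc] using this

theorem invol_comm_sq {u b : G} (huu : u * u = 1) :
    u * (b⁻¹ * (u * b * u)) * (u * (b⁻¹ * (u * b * u))) = 1 := by
  calc u * (b⁻¹ * (u * b * u)) * (u * (b⁻¹ * (u * b * u)))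
      = u * b⁻¹ * u * b * (u * u) * b⁻¹ * u * b * u := by group
    _ = 1 := by
      rw [huu, mul_one, mul_inv_cancel_right, mul_assoc (u * b⁻¹) u u, huu, mul_one,
        inv_mul_cancel_right, huu]

theorem isMulCommutative_of_cent {H : Subgroup G}
    (h : ∀ a ∈ H, ∀ b ∈ H, a * b = b * a) : IsMulCommutative ↥H :=
  ⟨⟨fun a b => Subtype.ext (h a a.2 b b.2)⟩⟩

theorem mem_of_sq_mem {A : Subgroup G} {g : G} (h : g * g ∈ A) (hodd : Odd (orderOf g)) : g ∈ A := by
  obtain ⟨j, hj⟩ := hodd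
  have e : (g * g) ^ (j + 1) = g := by
    rw [← pow_two, ← pow_mul, show 2 * (j + 1) = orderOf g + 1 by omega, pow_succ,
      pow_orderOf_eq_one, one_mul]
  exact e ▸ pow_mem h (j + 1)

variable {t s : G} {K : Subgroup G} [Fintype G]

namespace Setup

variable (S : Setup t K s)
include S

/-- Odd order elements of `kParts` have abelian self-normalising centralizers in odd order. -/
theorem odd_kParts {y : G} (hy : y ∈ kParts K) (hodd : Odd (orderOf y)) :
    (∀ a b, a * y = y * a → b * y = y * b → a * b = b * a) ∧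
      ∀ h, Odd (orderOf h) → (h * y * h⁻¹) * y = y * (h * y * h⁻¹) → h * y = y * h := by
  obtain ⟨hy1, g, hg⟩ := mem_kParts.1 hy
  set x := g * y * g⁻¹ with hx
  have hx2 : x * x ≠ 1 := fun e => hy1 (by
    have := eq_one_of_sq_of_odd e (by rw [hx, orderOf_conj_eq]; exact hodd)
    exact conj_eq_one_iff.1 this)
  have hx1 : x ≠ 1 := fun e => hy1 (conj_eq_one_iff.1 e)
  have hmem : ∀ a, a * y = y * a → g * a * g⁻¹ ∈ K := by
    intro a ha
    refine S.cent_eq hg hx2 ?_
    calc g * a * g⁻¹ * (g * y * g⁻¹) = g * (a * y) * g⁻¹ := by group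
      _ = g * (y * a) * g⁻¹ := by rw [ha]
      _ = g * y * g⁻¹ * (g * a * g⁻¹) := by group
  refine ⟨fun a b ha hb => ?_, fun h hh hc => ?_⟩
  · have := S.hcomm _ (hmem a ha) _ (hmem b hb)
    calc a * b = g⁻¹ * ((g * a * g⁻¹) * (g * b * g⁻¹)) * g := by group
      _ = g⁻¹ * ((g * b * g⁻¹) * (g * a * g⁻¹)) * g := by rw [this]
      _ = b * a := by group
  · set h' := g * h * g⁻¹ with hh'
    have hK : h' * x * h'⁻¹ ∈ K := by
      have := hmem _ hc
      rwa [show h' * x * h'⁻¹ = g * (h * y * h⁻¹) * g⁻¹ by rw [hh', hx]; group]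
    have hH := S.mem_H_of_conj hg hx1 hK
    rcases S.mem_H.1 hH with hk | hk
    · have e := S.hcomm _ hk _ hg
      calc h * y = g⁻¹ * (h' * x) * g := by rw [hh', hx]; group
        _ = g⁻¹ * (x * h') * g := by rw [e]
        _ = y * h := by rw [hh', hx]; group
    · exfalso
      have := S.mul_s_invol hk
      rw [mul_assoc, invol_mul_self S.hs, mul_one, hh', orderOf_conj_eq] at this
      rw [this] at hh
      exact absurd hh (by decide)

theorem sup_K_zpowers_le {X : Subgroup G} (hX : X ≤ K) :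
    Subgroup.centralizer ({t} : Set G) ≤ Subgroup.normalizer (X : Set G) := by
  intro h hh
  refine Subgroup.mem_normalizer_iff.2 fun x => ⟨fun hx => ?_, fun hx => ?_⟩
  · rcases (S.conj_mem hh (hX hx)).2 with e | e <;> rw [e]
    · exact hx
    · exact inv_mem hx
  · rcases (S.conj_mem (inv_mem hh) (hX hx)).2 with e | e
    · rw [show x = h⁻¹ * (h * x * h⁻¹) * h⁻¹⁻¹ by group, e]; exact hx
    · rw [show x = h⁻¹ * (h * x * h⁻¹) * h⁻¹⁻¹ by group, e]; exact inv_mem hx

theorem normalizer_sub_K {X : Subgroup G} (hX : X ≤ K) (hX1 : X ≠ ⊥) :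
    Subgroup.normalizer (X : Set G) = Subgroup.centralizer ({t} : Set G) := by
  refine le_antisymm (fun g hg => ?_) (S.sup_K_zpowers_le hX)
  obtain ⟨x, hx, hx1⟩ := (Subgroup.ne_bot_iff_exists_ne_one.1 hX1).imp fun a ha => (⟨a.2, ha⟩ : _ ∧ _)
  exact S.mem_H_of_conj (hX hx) (fun e => hx1 (Subtype.ext e))
    (hX ((Subgroup.mem_normalizer_iff.1 hg _).1 hx))

end Setup

namespace Data

variable {ψ θ : Cfsg.IrrCharacter G} {d : ℤ} {q m : ℕ}
variable (Dt : Data K ψ θ d q m) (S : Setup t K s)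
include Dt S

theorem factorization_eq {p v : ℕ} (hp : p.Prime) (hv : v ≠ 0) (hq : q = p ^ v) :
    (Nat.card G).factorization p = v := by
  have hpq : p ∣ q := hq ▸ dvd_pow_self p hv
  have hnd : ¬ p ∣ 2 * Nat.card ↥K * m := fun h => (hp.dvd_mul.1 h).elim
    (Dt.not_dvd_two_k_q S hp hpq) (Dt.not_dvd_m_q S hp hpq)
  have hne : 2 * Nat.card ↥K * m ≠ 0 := fun h => hnd (h ▸ dvd_zero p)
  rw [Dt.card_G S, show 2 * Nat.card ↥K * (q * m) = q * (2 * Nat.card ↥K * m) by ring,
    Nat.factorization_mul (by rw [hq]; exact pow_ne_zero _ hp.ne_zero) hne, Finsupp.add_apply,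
    Nat.factorization_eq_zero_of_not_dvd hnd, add_zero, hq, hp.factorization_pow,
    Finsupp.single_eq_same]

/-- The centralizer of an element of `restM` when `d = -1`. -/
theorem restM_facts (hd : d = -1)
    (hM : ∀ y ∈ restM K ψ, (∃ u, orderOf u = 2 ∧ orderOf (u * y) = 2) ∧
      Nat.card ↥(Subgroup.centralizer ({y} : Set G)) = m)
    {y : G} (hy : y ∈ restM K ψ) :
    (∀ a b, a * y = y * a → b * y = y * b → a * b = b * a) ∧
      (∀ g : G, ∀ b ∈ Subgroup.centralizer ({y} : Set G), b ≠ 1 →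
        g * b * g⁻¹ ∈ Subgroup.centralizer ({y} : Set G) →
        g ∈ Subgroup.normalizer ((Subgroup.centralizer ({y} : Set G) : Subgroup G) : Set G)) ∧
      Nat.card ↥(Subgroup.normalizer
        ((Subgroup.centralizer ({y} : Set G) : Subgroup G) : Set G)) = 2 * m := by
  classical
  obtain ⟨⟨u, hu, huy⟩, hcard⟩ := hM y hy
  obtain ⟨⟨hy1, hyk⟩, hy0⟩ := mem_restM.1 hy
  obtain ⟨hinv, hcomm, -⟩ := S.real_facts hyk hy1 hu huy
  set A := Subgroup.centralizer ({y} : Set G) with hA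
  -- the non-identity elements of `A`
  have hmemM : ∀ c ∈ A, c ≠ 1 → c ∈ restM K ψ ∧ Subgroup.centralizer ({c} : Set G) = A := by
    intro c hc hc1
    rw [Subgroup.mem_centralizer_singleton_iff] at hc
    obtain ⟨hck, hiff⟩ := Dt.same_kind S hy1 hyk hc1 hc
    have hcM : c ∈ restM K ψ := mem_restM.2 ⟨⟨hc1, hck⟩, fun e => hy0 (hiff.1 e)⟩
    refine ⟨hcM, (Subgroup.eq_of_le_of_card_ge (fun a ha => ?_) ?_).symm⟩
    · exact Subgroup.mem_centralizer_singleton_iff.2
        (hcomm a c (Subgroup.mem_centralizer_singleton_iff.1 ha) hc)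
    · rw [(hM c hcM).2, hcard]
  -- every element of `restM` is conjugate into `A`
  have hcov : ∀ y' ∈ restM K ψ, ∃ g : G, g * y' * g⁻¹ ∈ A := by
    intro y' hy'
    obtain ⟨p, hp, hpm⟩ := Nat.exists_prime_and_dvd
      (by have := Dt.three_le_m S; omega : m ≠ 1)
    haveI : Fact p.Prime := ⟨hp⟩
    obtain ⟨P⟩ := (Sylow.nonempty : Nonempty (Sylow p ↥A))
    have hnd : ¬ p ∣ 2 * Nat.card ↥K * q := fun h => (hp.dvd_mul.1 h).elim
      (Dt.not_dvd_two_k_m S hp hpm) (fun h' => Dt.not_dvd_m_q S hp h' hpm)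
    have hfac : (Nat.card G).factorization p = m.factorization p := by
      rw [Dt.card_G S, show 2 * Nat.card ↥K * (q * m) = m * (2 * Nat.card ↥K * q) by ring,
        Nat.factorization_mul (by have := Dt.three_le_m S; omega)
          (fun h => hnd (by rw [h]; exact dvd_zero p)),
        Finsupp.add_apply, Nat.factorization_eq_zero_of_not_dvd hnd, add_zero]
    have hPc : Nat.card ↥((P : Subgroup ↥A).map A.subtype) =
        p ^ (Nat.card G).factorization p := by
      rw [Subgroup.card_map_of_injective A.subtype_injective, P.card_eq_multiplicity, hfac, hcard]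
    obtain ⟨⟨z, hzC⟩, hz⟩ := exists_prime_orderOf_dvd_card'
      (G := ↥(Subgroup.centralizer ({y'} : Set G))) p ((hM y' hy').2.symm ▸ hpm)
    rw [← Subgroup.orderOf_coe] at hz
    change orderOf z = p at hz
    obtain ⟨g, hg⟩ := exists_conj_mem_sylow (Sylow.ofCard _ hPc)
      (H := Subgroup.zpowers z) (IsPGroup.of_card (n := 1) (by rw [Nat.card_zpowers, hz, pow_one]))
    have hg' : g * z * g⁻¹ ∈ ((Sylow.ofCard _ hPc : Sylow p G) : Subgroup G) :=
      hg z (Subgroup.mem_zpowers z)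
    rw [Sylow.coe_ofCard] at hg'
    have hzA : g * z * g⁻¹ ∈ A := Subgroup.map_subtype_le _ hg'
    refine ⟨g, ?_⟩
    rw [← (hmemM _ hzA fun e => ?_).2, Subgroup.mem_centralizer_singleton_iff]
    · have h1 := Subgroup.mem_centralizer_singleton_iff.1 hzC
      calc g * y' * g⁻¹ * (g * z * g⁻¹) = g * (y' * z) * g⁻¹ := by group
        _ = g * (z * y') * g⁻¹ := by rw [h1]
        _ = g * z * g⁻¹ * (g * y' * g⁻¹) := by group
    · rw [conj_eq_one_iff] at e
      rw [e, orderOf_one] at hz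
      exact hp.one_lt.ne hz
  set N := Subgroup.normalizer (A : Set G) with hN
  have hTI : ∀ g : G, ∀ b ∈ A, b ≠ 1 → g * b * g⁻¹ ∈ A → g ∈ N := by
    intro g b hb hb1 hgb
    have h1 := (hmemM b hb hb1).2
    have h2 := (hmemM _ hgb fun e => hb1 (conj_eq_one_iff.1 e)).2
    refine Subgroup.mem_normalizer_iff.2 fun a => ?_
    rw [← h1, Subgroup.mem_centralizer_singleton_iff]
    rw [h1]
    rw [← h2, Subgroup.mem_centralizer_singleton_iff]
    constructor
    · intro h
      calc g * a * g⁻¹ * (g * b * g⁻¹) = g * (a * b) * g⁻¹ := by group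
        _ = g * (b * a) * g⁻¹ := by rw [h]
        _ = g * b * g⁻¹ * (g * a * g⁻¹) := by group
    · intro h
      calc a * b = g⁻¹ * (g * a * g⁻¹ * (g * b * g⁻¹)) * g := by group
        _ = g⁻¹ * (g * b * g⁻¹ * (g * a * g⁻¹)) * g := by rw [h]
        _ = b * a := by group
  have hcount := card_TI_union A N (fun g hg b hb => (Subgroup.mem_normalizer_iff.1 hg b).1 hb) hTI
  have hsub : Nat.card {x : G // x ≠ 1 ∧ ∃ g : G, g * x * g⁻¹ ∈ A} = (restM K ψ).card := by
    rw [Nat.card_eq_fintype_card, Fintype.card_subtype]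
    congr 1
    ext x
    simp only [Finset.mem_filter, Finset.mem_univ, true_and]
    refine ⟨?_, fun hx => ⟨(mem_restM.1 hx).1.1, hcov x hx⟩⟩
    rintro ⟨hx1, g, hg⟩
    obtain ⟨⟨-, hgk⟩, hg0⟩ :=
      mem_restM.1 (hmemM _ hg fun e => hx1 (conj_eq_one_iff.1 e)).1
    refine mem_restM.2 ⟨⟨hx1, fun hk => hgk ?_⟩, fun h0 => hg0 ?_⟩
    · obtain ⟨-, a, ha⟩ := mem_kParts.1 hk
      refine mem_kParts.2 ⟨fun e => hx1 (conj_eq_one_iff.1 e), a * g⁻¹, ?_⟩
      rwa [show a * g⁻¹ * (g * x * g⁻¹) * (a * g⁻¹)⁻¹ = a * x * a⁻¹ by group]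
    · rw [irr_isClassFunction ψ.2 x g, h0]
  rw [hsub, hcard] at hcount
  obtain ⟨-, hqk, hmk⟩ : d = -1 ∧ q + 1 = 2 * Nat.card ↥K ∧ m + 1 = Nat.card ↥K := by
    rcases Dt.hcase with ⟨h, -, -⟩ | h
    · rw [h] at hd; norm_num at hd
    · exact h
  have hNidx : N.index = q * Nat.card ↥K := by
    have hRM := Dt.card_restM S
    obtain ⟨j, hj⟩ : ∃ j, Nat.card ↥K = j + 4 := ⟨_, (Nat.sub_add_cancel Dt.hk).symm⟩
    rw [hj, show m = j + 3 by omega, show q = 2 * j + 7 by omega,
      show j + 4 - 1 = j + 3 by omega] at hRM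
    rw [show m = j + 3 by omega, show j + 3 - 1 = j + 2 by omega] at hcount
    rw [hj, show q = 2 * j + 7 by omega]
    have hR : (restM K ψ).card = (2 * j + 7) * (j + 4) * (j + 2) := by nlinarith
    exact Nat.eq_of_mul_eq_mul_right (by omega) (hcount.symm.trans hR)
  have hNcard : Nat.card ↥N = 2 * m := by
    have := N.card_mul_index
    rw [hNidx, Dt.card_G S] at this
    have hpos : 0 < q * Nat.card ↥K := Nat.mul_pos (by omega) Nat.card_pos
    exact Nat.eq_of_mul_eq_mul_right hpos (by rw [this]; ring)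
  exact ⟨hcomm, hTI, hNcard⟩

/-- The centralizer of an element of `restM` when `d = -1` is self-normalising in odd order. -/
theorem restM_piece (hd : d = -1)
    (hM : ∀ y ∈ restM K ψ, (∃ u, orderOf u = 2 ∧ orderOf (u * y) = 2) ∧
      Nat.card ↥(Subgroup.centralizer ({y} : Set G)) = m)
    {y : G} (hy : y ∈ restM K ψ) :
    (∀ a b, a * y = y * a → b * y = y * b → a * b = b * a) ∧
      ∀ h, Odd (orderOf h) → (h * y * h⁻¹) * y = y * (h * y * h⁻¹) → h * y = y * h := by
  obtain ⟨hcomm, hTI, hNcard⟩ := Dt.restM_facts S hd hM hy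
  obtain ⟨⟨hy1, -⟩, -⟩ := mem_restM.1 hy
  have hcard := (hM y hy).2
  refine ⟨hcomm, ?_⟩
  set A := Subgroup.centralizer ({y} : Set G) with hA
  set N := Subgroup.normalizer (A : Set G) with hN
  intro h hh hhc
  have hyA : y ∈ A := Subgroup.mem_centralizer_singleton_iff.2 rfl
  have hhN : h ∈ N := hTI h y hyA hy1 (Subgroup.mem_centralizer_singleton_iff.2 hhc)
  have hidx2 : (A.subgroupOf N).index = 2 := by
    have h1 := (A.subgroupOf N).card_mul_index
    rw [Nat.card_congr (Subgroup.subgroupOfEquivOfLe Subgroup.le_normalizer).toEquiv, hcard,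
      hNcard, mul_comm 2 m] at h1
    exact Nat.eq_of_mul_eq_mul_left (by have := Dt.three_le_m S; omega) h1
  have hsq : h * h ∈ A := by
    have := Subgroup.mul_self_mem_of_index_two hidx2 ⟨h, hhN⟩
    simpa [Subgroup.mem_subgroupOf] using this
  exact Subgroup.mem_centralizer_singleton_iff.1 (mem_of_sq_mem hsq hh)

/-- Distinct Sylow subgroups meet trivially. -/
theorem trivial_inter {p v : ℕ} (hp : p.Prime) (hv : v ≠ 0) (hq : q = p ^ v) (hd : d = -1)
    (hno : ∀ w ∈ restQ K ψ, ∀ u, orderOf u = 2 → orderOf (u * w) ≠ 2)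
    (hM : ∀ y ∈ restM K ψ, (∃ u, orderOf u = 2 ∧ orderOf (u * y) = 2) ∧
      Nat.card ↥(Subgroup.centralizer ({y} : Set G)) = m) :
    ∀ P P' : Sylow p G, P ≠ P' → ∀ a ∈ (P : Subgroup G), a ∈ (P' : Subgroup G) → a = 1 := by
  classical
  haveI : Fact p.Prime := ⟨hp⟩
  have hpq : p ∣ q := hq ▸ dvd_pow_self p hv
  by_contra hcon
  push Not at hcon
  obtain ⟨P₀, P₀', hne₀, a₀, ha₀, ha₀', ha₀1⟩ := hcon
  haveI : Fintype (Sylow p G) := Fintype.ofFinite _
  set T := (Finset.univ : Finset (Sylow p G × Sylow p G)).filter fun x =>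
    x.1 ≠ x.2 ∧ ((x.1 : Subgroup G) ⊓ (x.2 : Subgroup G)) ≠ ⊥ with hT
  have hTne : T.Nonempty := ⟨(P₀, P₀'), Finset.mem_filter.2 ⟨Finset.mem_univ _, hne₀,
    fun e => ha₀1 (Subgroup.mem_bot.1 (e ▸ Subgroup.mem_inf.2 ⟨ha₀, ha₀'⟩))⟩⟩
  obtain ⟨⟨P, P'⟩, hPP, hmax⟩ := Finset.exists_max_image T
    (fun x => Nat.card ↥((x.1 : Subgroup G) ⊓ (x.2 : Subgroup G))) hTne
  obtain ⟨hne, hDne⟩ : P ≠ P' ∧ (P : Subgroup G) ⊓ (P' : Subgroup G) ≠ ⊥ :=
    (Finset.mem_filter.1 hPP).2
  set D := (P : Subgroup G) ⊓ (P' : Subgroup G) with hD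
  set L := Subgroup.normalizer (D : Set G) with hL
  have hDq : ∀ a ∈ D, a ≠ 1 → a ∈ restQ K ψ ∧ Odd (orderOf a) := by
    intro a ha ha1
    obtain ⟨i, hi⟩ := P.2 ⟨a, (Subgroup.mem_inf.1 ha).1⟩
    have hdvd := orderOf_dvd_of_pow_eq_one (congrArg Subtype.val hi : a ^ p ^ i = 1)
    obtain ⟨j, -, hj⟩ := (Nat.dvd_prime_pow hp).1 hdvd
    have hj0 : j ≠ 0 := fun e => ha1 (by rw [e, pow_zero] at hj; exact orderOf_eq_one_iff.1 hj)
    refine ⟨Dt.mem_restQ_of_order S ha1 hp hpq (hj ▸ dvd_pow_self p hj0), hj ▸ ?_⟩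
    exact ((Dt.odd_q S).of_dvd_nat hpq).pow
  -- `L` has odd order
  have hodd : Odd (Nat.card ↥L) := by
    by_contra h
    rw [Nat.not_odd_iff_even] at h
    obtain ⟨u, huL, hu⟩ := exists_invol_mem h
    obtain ⟨b, hb⟩ := Subgroup.ne_bot_iff_exists_ne_one.1 hDne
    have hb1 : (b : G) ≠ 1 := fun e => hb (Subtype.ext e)
    set c := (b : G)⁻¹ * (u * b * u⁻¹) with hc
    have hcD : c ∈ D := mul_mem (inv_mem b.2) ((Subgroup.mem_normalizer_iff.1 huL _).1 b.2)
    by_cases hc1 : c = 1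
    · have hcom : (b : G) * u = u * b := by
        rw [hc, inv_mul_eq_one, eq_mul_inv_iff_mul_eq] at hc1
        exact hc1
      exact ((mem_restQ.1 (hDq b b.2 hb1).1).1.2)
        (S.mem_kParts_of_commute (S.invol_mem_kParts hu) hb1 hcom)
    · refine hno c (hDq c hcD hc1).1 u hu (invol_of_mul_self ?_ fun e => ?_)
      · rw [hc, invol_inv hu]
        exact invol_comm_sq (invol_mul_self hu)
      · have : c = u := by rw [← invol_inv hu]; exact eq_inv_of_mul_eq_one_right e
        have hco := (hDq c hcD hc1).2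
        rw [this, hu] at hco
        exact absurd hco (by decide)
  have holdd : ∀ a ∈ L, Odd (orderOf a) := fun a ha =>
    hodd.of_dvd_nat (Subgroup.orderOf_dvd_natCard L ha)
  -- the elements of `L` which are not `p`-elements
  have hcases : ∀ y : G, y ∈ L → (∀ n, y ^ p ^ n ≠ 1) → y ∈ kParts K ∨ y ∈ restM K ψ := by
    intro y _ hy
    by_contra h
    push Not at h
    have hy1 : y ≠ 1 := fun e => hy 0 (by rw [e, one_pow])
    have : y ∈ restQ K ψ := mem_restQ.2 ⟨⟨hy1, h.1⟩, by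
      by_contra h0
      exact h.2 (mem_restM.2 ⟨⟨hy1, h.1⟩, h0⟩)⟩
    exact hy v (hq ▸ orderOf_dvd_iff_pow_eq_one.1 (Dt.order_restQ S this))
  have hA : ∀ y ∈ restM K ψ, (∀ a b, a * y = y * a → b * y = y * b → a * b = b * a) ∧
      ∀ h, Odd (orderOf h) → (h * y * h⁻¹) * y = y * (h * y * h⁻¹) → h * y = y * h :=
    fun y hy => Dt.restM_piece S hd hM hy
  have hkey : ∀ x : ↥L, ∀ n : ℕ, x ^ p ^ n = 1 → ∀ R : Sylow p ↥L, x ∈ R := by
    intro x n hx R
    have cast : ∀ y : ↥L, (∀ n, y ^ p ^ n ≠ 1) → ∀ n, (y : G) ^ p ^ n ≠ 1 :=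
      fun y hy n e => hy n (Subtype.ext (by rw [Subgroup.coe_pow]; exact e))
    refine normal_sylow_of_partition hodd ?_ ?_ ?_ R x hx
    · intro y hy z hz1 hzy i hzi
      have hy' := cast y hy
      have hz1' : (z : G) ≠ 1 := fun e => hz1 (Subtype.ext e)
      obtain ⟨j, -, hj⟩ := (Nat.dvd_prime_pow hp).1
        (orderOf_dvd_of_pow_eq_one (congrArg Subtype.val hzi : (z : G) ^ p ^ i = 1))
      have hj0 : j ≠ 0 := fun e => hz1' (by rw [e, pow_zero] at hj; exact orderOf_eq_one_iff.1 hj)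
      have hzR := Dt.mem_restQ_of_order S hz1' hp hpq (hj ▸ dvd_pow_self p hj0)
      have hyC : (y : G) ∈ Subgroup.centralizer ({(z : G)} : Set G) :=
        Subgroup.mem_centralizer_singleton_iff.2 (congrArg Subtype.val hzy).symm
      refine hy' v (orderOf_dvd_iff_pow_eq_one.1 ?_)
      rw [← hq, ← (Dt.cent_restQ S hzR).1]
      exact Subgroup.orderOf_dvd_natCard _ hyC
    · intro y hy a b ha hb
      refine Subtype.ext ?_
      rcases hcases y y.2 (cast y hy) with h | h
      · exact (S.odd_kParts h (holdd y y.2)).1 a b (congrArg Subtype.val ha) (congrArg Subtype.val hb)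
      · exact (hA y h).1 a b (congrArg Subtype.val ha) (congrArg Subtype.val hb)
    · intro y hy g hg
      refine Subtype.ext ?_
      rcases hcases y y.2 (cast y hy) with h | h
      · exact (S.odd_kParts h (holdd y y.2)).2 g (holdd g g.2) (congrArg Subtype.val hg)
      · exact (hA y h).2 g (holdd g g.2) (congrArg Subtype.val hg)
  obtain ⟨R⟩ := (Sylow.nonempty : Nonempty (Sylow p ↥L))
  obtain ⟨P2, hP2⟩ := (R.2.map L.subtype).exists_le_sylow
  have hboth : ∀ X : Sylow p G, D ≤ (X : Subgroup G) → D ≠ (X : Subgroup G) → X = P2 := by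
    intro X hDX hDX'
    obtain ⟨a, haX, haD, haL⟩ := exists_normalizing_not_mem X.2 hDX hDX'
    have hsub : ∀ b ∈ (X : Subgroup G), b ∈ L → b ∈ (P2 : Subgroup G) := by
      intro b hbX hbL
      obtain ⟨i, hi⟩ := X.2 ⟨b, hbX⟩
      exact hP2 ⟨⟨b, hbL⟩, hkey ⟨b, hbL⟩ i
        (Subtype.ext (by rw [Subgroup.coe_pow]; exact congrArg Subtype.val hi)) R, rfl⟩
    by_contra hXP
    have hlt : D < (X : Subgroup G) ⊓ (P2 : Subgroup G) := by
      refine lt_of_le_of_ne (fun b hb => Subgroup.mem_inf.2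
        ⟨hDX hb, hsub b (hDX hb) (Subgroup.le_normalizer hb)⟩) fun e => haD ?_
      rw [e]
      exact Subgroup.mem_inf.2 ⟨haX, hsub a haX haL⟩
    have hmem : (X, P2) ∈ T := Finset.mem_filter.2 ⟨Finset.mem_univ _, hXP,
      fun e => hDne (le_bot_iff.1 (e ▸ hlt.le))⟩
    have h1 := hmax _ hmem
    exact hlt.ne (Subgroup.eq_of_le_of_card_ge hlt.le h1)
  apply hne
  have e1 : D ≠ (P : Subgroup G) := fun e => hne (Sylow.ext (Subgroup.eq_of_le_of_card_ge
    (e ▸ inf_le_right) (by rw [P.card_eq_multiplicity, P'.card_eq_multiplicity])))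
  have e2 : D ≠ (P' : Subgroup G) := fun e => hne (Sylow.ext (Subgroup.eq_of_le_of_card_ge
    (e ▸ inf_le_left) (by rw [P.card_eq_multiplicity, P'.card_eq_multiplicity])).symm)
  exact (hboth P inf_le_left e1).trans (hboth P' inf_le_right e2).symm
/-- The Sylow `p`-subgroup is the centralizer of each of its non-identity elements. -/
theorem sylow_cent {p v : ℕ} (hp : p.Prime) (hv : v ≠ 0) (hq : q = p ^ v) (P : Sylow p G)
    {x : G} (hx : x ∈ P) (hx1 : x ≠ 1) :
    Subgroup.centralizer ({x} : Set G) = P := by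
  classical
  haveI : Fact p.Prime := ⟨hp⟩
  have hpq : p ∣ q := hq ▸ dvd_pow_self p hv
  have hfac := Dt.factorization_eq S hp hv hq
  have hPcard : ∀ P : Sylow p G, Nat.card ↥(P : Subgroup G) = q := fun P => by
    rw [P.card_eq_multiplicity, hfac, hq]
  have hpel : ∀ P : Sylow p G, ∀ a ∈ (P : Subgroup G), a ≠ 1 → a ∈ restQ K ψ := by
    intro P a ha ha1
    refine Dt.mem_restQ_of_order S ha1 hp hpq ?_
    have h := Subgroup.orderOf_dvd_natCard _ ha
    rw [hPcard, hq] at h
    obtain ⟨i, -, hi⟩ := (Nat.dvd_prime_pow hp).1 h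
    refine hi ▸ dvd_pow_self p fun e => ha1 ?_
    rw [e, pow_zero] at hi
    exact orderOf_eq_one_iff.1 hi
  have hcentcard : ∀ a ∈ restQ K ψ, Nat.card ↥(Subgroup.centralizer ({a} : Set G)) =
      p ^ (Nat.card G).factorization p := fun a ha => by rw [(Dt.cent_restQ S ha).1, hfac, hq]
  -- it is enough that centralizers of elements of `P` contain `P`
  suffices hab : ∀ P : Sylow p G, ∀ a ∈ (P : Subgroup G), ∀ b ∈ (P : Subgroup G), a * b = b * a by
    refine (Subgroup.eq_of_le_of_card_ge (fun a ha => ?_) ?_).symm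
    · exact Subgroup.mem_centralizer_singleton_iff.2 (hab P a ha x hx)
    · rw [hPcard, (Dt.cent_restQ S (hpel P x hx hx1)).1]
  by_cases hreal : ∃ w ∈ restQ K ψ, ∃ u, orderOf u = 2 ∧ orderOf (u * w) = 2
  · obtain ⟨w, hw, u, hu, huw⟩ := hreal
    obtain ⟨⟨hw1, hwk⟩, -⟩ := mem_restQ.1 hw
    obtain ⟨-, hcomm, -⟩ := S.real_facts hwk hw1 hu huw
    intro P a ha b hb
    obtain ⟨g, hg⟩ := exists_conj_mem_sylow (Sylow.ofCard _ (hcentcard w hw)) P.2
    have ha' : g * a * g⁻¹ ∈ ((Sylow.ofCard _ (hcentcard w hw) : Sylow p G) : Subgroup G) := hg a ha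
    have hb' : g * b * g⁻¹ ∈ ((Sylow.ofCard _ (hcentcard w hw) : Sylow p G) : Subgroup G) := hg b hb
    rw [Sylow.coe_ofCard, Subgroup.mem_centralizer_singleton_iff] at ha' hb'
    have := hcomm _ _ ha' hb'
    calc a * b = g⁻¹ * ((g * a * g⁻¹) * (g * b * g⁻¹)) * g := by group
      _ = g⁻¹ * ((g * b * g⁻¹) * (g * a * g⁻¹)) * g := by rw [this]
      _ = b * a := by group
  · have hno : ∀ w ∈ restQ K ψ, ∀ u, orderOf u = 2 → orderOf (u * w) ≠ 2 :=
      fun w hw u hu huw => hreal ⟨w, hw, u, hu, huw⟩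
    obtain ⟨hd, hM⟩ := Dt.count S hno
    have hTIsyl := Dt.trivial_inter S hp hv hq hd hno hM
    intro P a ha b hb
    by_cases ha1 : a = 1
    · rw [ha1, one_mul, mul_one]
    have haR := hpel P a ha ha1
    have haC : a ∈ Subgroup.centralizer ({a} : Set G) := Subgroup.mem_centralizer_singleton_iff.2 rfl
    have hP' : P = Sylow.ofCard _ (hcentcard a haR) := by
      by_contra hne
      exact ha1 (hTIsyl P _ hne a ha (by
        show a ∈ ((Sylow.ofCard _ (hcentcard a haR) : Sylow p G) : Subgroup G)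
        rw [Sylow.coe_ofCard]; exact haC))
    rw [hP', Sylow.coe_ofCard, Subgroup.mem_centralizer_singleton_iff] at hb
    exact hb.symm
/-- The theorem when `|K| ≥ 4`. -/
theorem conclusion : Conclusion G := by
  classical
  obtain ⟨p, v, hp, hv, hq⟩ := Dt.q_prime_pow S
  haveI : Fact p.Prime := ⟨hp⟩
  have hpq : p ∣ q := hq ▸ dvd_pow_self p hv
  have hfac := Dt.factorization_eq S hp hv hq
  have hPcard : ∀ P : Sylow p G, Nat.card ↥(P : Subgroup G) = q := fun P => by
    rw [P.card_eq_multiplicity, hfac, hq]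
  have hcent : ∀ P : Sylow p G, ∀ x ∈ (P : Subgroup G), x ≠ 1 →
      Subgroup.centralizer ({x} : Set G) = P := fun P x hx hx1 => Dt.sylow_cent S hp hv hq P hx hx1
  obtain ⟨Q⟩ := (Sylow.nonempty : Nonempty (Sylow p G))
  have hqpos : 7 ≤ q := Dt.seven_le_q S
  have hpel : ∀ a ∈ (Q : Subgroup G), a ≠ 1 → a ∈ restQ K ψ := by
    intro a ha ha1
    obtain ⟨i, -, hi⟩ := (Nat.dvd_prime_pow hp).1
      (hq ▸ hPcard Q ▸ Subgroup.orderOf_dvd_natCard _ ha)
    exact Dt.mem_restQ_of_order S ha1 hp hpq (hi ▸ dvd_pow_self p fun e => ha1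
      (by rw [e, pow_zero] at hi; exact orderOf_eq_one_iff.1 hi))
  set N := Subgroup.normalizer ((Q : Subgroup G) : Set G) with hN
  have hQN : (Q : Subgroup G) ≤ N := Subgroup.le_normalizer
  have hmemc : ∀ x ∈ (Q : Subgroup G), x ≠ 1 → ∀ a, a ∈ (Q : Subgroup G) ↔ a * x = x * a :=
    fun x hx hx1 a => by
      conv_lhs => rw [← hcent Q x hx hx1]
      exact Subgroup.mem_centralizer_singleton_iff
  have hTI : ∀ g : G, ∀ x ∈ (Q : Subgroup G), x ≠ 1 → g * x * g⁻¹ ∈ (Q : Subgroup G) → g ∈ N := by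
    intro g x hx hx1 hgx
    refine Subgroup.mem_normalizer_iff.2 fun a => ?_
    rw [hmemc _ hgx (fun e => hx1 (conj_eq_one_iff.1 e)) (g * a * g⁻¹), hmemc x hx hx1 a]
    constructor
    · intro h
      calc g * a * g⁻¹ * (g * x * g⁻¹) = g * (a * x) * g⁻¹ := by group
        _ = g * (x * a) * g⁻¹ := by rw [h]
        _ = g * x * g⁻¹ * (g * a * g⁻¹) := by group
    · intro h
      calc a * x = g⁻¹ * (g * a * g⁻¹ * (g * x * g⁻¹)) * g := by group
        _ = g⁻¹ * (g * x * g⁻¹ * (g * a * g⁻¹)) * g := by rw [h]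
        _ = x * a := by group
  have hidx : N.index = q + 1 := by
    have hcount := card_TI_union (Q : Subgroup G) N
      (fun g hg b hb => (Subgroup.mem_normalizer_iff.1 hg b).1 hb) hTI
    have hsub : Nat.card {x : G // x ≠ 1 ∧ ∃ g : G, g * x * g⁻¹ ∈ (Q : Subgroup G)} =
        (restQ K ψ).card := by
      rw [Nat.card_eq_fintype_card, Fintype.card_subtype]
      congr 1
      ext x
      simp only [Finset.mem_filter, Finset.mem_univ, true_and]
      constructor
      · rintro ⟨hx1, g, hg⟩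
        refine Dt.class_subset S (hpel _ hg fun e => hx1 (conj_eq_one_iff.1 e))
          (Finset.mem_filter.2 ⟨Finset.mem_univ x, (isConj_iff.2 ⟨g, rfl⟩ : IsConj x _).symm⟩)
      · intro hx
        refine ⟨(mem_restQ.1 hx).1.1, ?_⟩
        have hpg : IsPGroup p ↥(Subgroup.zpowers x) := by
          obtain ⟨i, -, hi⟩ := (Nat.dvd_prime_pow hp).1 (hq ▸ Dt.order_restQ S hx)
          exact IsPGroup.of_card (n := i) (by rw [Nat.card_zpowers, hi])
        obtain ⟨g, hg⟩ := exists_conj_mem_sylow Q hpg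
        exact ⟨g, hg x (Subgroup.mem_zpowers x)⟩
    rw [hsub, hPcard] at hcount
    have h1 := (Dt.counts S).1
    obtain ⟨j, hj⟩ : ∃ j, q = j + 7 := ⟨q - 7, by omega⟩
    rw [hj, show j + 7 - 1 = j + 6 by omega] at hcount
    rw [hj] at h1
    have : (restQ K ψ).card = (j + 8) * (j + 6) := by nlinarith
    rw [hj]
    exact Nat.eq_of_mul_eq_mul_right (by omega) (hcount.symm.trans this)
  obtain ⟨r, hr, hrk⟩ : ∃ r, 2 * r + 1 = q ∧
      ((d = 1 ∧ r = Nat.card ↥K) ∨ (d = -1 ∧ r = m)) := by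
    rcases Dt.hcase with ⟨h, h1, h2⟩ | ⟨h, h1, h2⟩
    · exact ⟨_, h1.symm, Or.inl ⟨h, rfl⟩⟩
    · exact ⟨m, by omega, Or.inr ⟨h, rfl⟩⟩
  have hNcard : Nat.card ↥N = q * r := by
    have h := N.card_mul_index
    rw [hidx, Dt.card_G S] at h
    apply Nat.eq_of_mul_eq_mul_right (show 0 < q + 1 by omega)
    rw [h]
    rcases Dt.hcase with ⟨hd', h1, h2⟩ | ⟨hd', h1, h2⟩ <;> rcases hrk with ⟨hd, h3⟩ | ⟨hd, h3⟩
    · rw [h3, h2, h1]; ring
    · exact absurd (hd'.symm.trans hd) (by norm_num)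
    · exact absurd (hd'.symm.trans hd) (by norm_num)
    · rw [h3, h1]; ring
  have h2G : 2 * Nat.card G = q * (q + 1) * (q - 1) := by
    have := N.card_mul_index
    rw [hidx, hNcard] at this
    rw [← this, show q - 1 = 2 * r by omega]
    ring
  -- a complement
  set Q' := (Q : Subgroup G).subgroupOf N with hQ'
  have hQ'card : Nat.card ↥Q' = q := by
    rw [Nat.card_congr (Subgroup.subgroupOfEquivOfLe hQN).toEquiv, hPcard]
  have hQ'idx : Q'.index = r := by
    have := Q'.card_mul_index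
    rw [hQ'card, hNcard] at this
    exact Nat.eq_of_mul_eq_mul_left (by omega) this
  haveI : Q'.Normal := Subgroup.normal_in_normalizer
  obtain ⟨C, hC⟩ := Subgroup.exists_right_complement'_of_coprime (N := Q') (by
    rw [hQ'card, hQ'idx, ← hr]; simp)
  set D₀ := C.map N.subtype with hD₀
  have hD₀card : Nat.card ↥D₀ = r := by
    rw [hD₀, Subgroup.card_map_of_injective N.subtype_injective]
    have := hC.card_mul_card
    rw [hQ'card, hNcard] at this
    exact Nat.eq_of_mul_eq_mul_left (by omega) this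
  have hD₀N : D₀ ≤ N := Subgroup.map_subtype_le C
  -- assembling, given a complement in a suitable position
  have hfinish : ∀ (Q : Sylow p G) (D : Subgroup G),
      D ≤ Subgroup.normalizer ((Q : Subgroup G) : Set G) → Nat.card ↥D = r →
      (∀ a ∈ D, ∀ b ∈ D, a * b = b * a) →
      (∀ X : Subgroup G, X ≤ D → X ≠ ⊥ →
        Subgroup.normalizer (X : Set G) = Subgroup.normalizer (D : Set G) ∧
        ∃ u : G, orderOf u = 2 ∧ u ∉ D ∧ (∀ d ∈ D, u * d * u⁻¹ = d⁻¹) ∧
          Subgroup.normalizer (D : Set G) = D ⊔ Subgroup.zpowers u) →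
      Nat.card ↥(Subgroup.normalizer ((Q : Subgroup G) : Set G)) = q * r →
      Conclusion G := by
    intro Q D hDN hDc hDab hX hNc
    have hcop : Nat.Coprime (Nat.card ↥(Q : Subgroup G)) (Nat.card ↥D) := by
      rw [hPcard, hDc, ← hr]; simp
    refine ⟨Q, D, by rw [hPcard]; exact h2G, hcent Q, isMulCommutative_of_cent hDab,
      by rw [hPcard, hDc]; exact hr, ?_, ?_, hX⟩
    · exact Subgroup.inf_eq_bot_of_coprime hcop
    · symm
      refine Subgroup.eq_of_le_of_card_ge (sup_le Subgroup.le_normalizer hDN) ?_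
      rw [hNc]
      refine Nat.le_of_dvd Nat.card_pos (Nat.Coprime.mul_dvd_of_dvd_of_dvd
        (by rwa [hPcard, hDc] at hcop) ?_ ?_)
      · exact hPcard Q ▸ Subgroup.card_dvd_of_le le_sup_left
      · exact hDc ▸ Subgroup.card_dvd_of_le le_sup_right
  rcases hrk with ⟨hd, hrk⟩ | ⟨hd, hrm⟩
  · -- `d = 1`
    obtain ⟨t0, ht0D, ht0⟩ := exists_invol_mem (H := D₀) (by rw [hD₀card, hrk]; exact S.even_card)
    have hinvQ : ∀ u, orderOf u = 2 → u ∈ N → ∀ a ∈ (Q : Subgroup G), u * a * u⁻¹ = a⁻¹ := by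
      intro u hu huN
      obtain ⟨⟨b, hbQ⟩, hb⟩ := exists_prime_orderOf_dvd_card' (G := ↥(Q : Subgroup G)) p
        (hPcard Q ▸ hpq)
      rw [← Subgroup.orderOf_coe] at hb
      change orderOf b = p at hb
      have hb1 : b ≠ 1 := fun e => by rw [e, orderOf_one] at hb; exact hp.one_lt.ne hb
      set c := b⁻¹ * (u * b * u⁻¹) with hc
      have hcQ : c ∈ (Q : Subgroup G) :=
        mul_mem (inv_mem hbQ) ((Subgroup.mem_normalizer_iff.1 huN b).1 hbQ)
      have hc1 : c ≠ 1 := by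
        intro hc1
        have hcom : b * u = u * b := by
          rw [hc, inv_mul_eq_one, eq_mul_inv_iff_mul_eq] at hc1
          exact hc1
        exact (mem_restQ.1 (hpel b hbQ hb1)).1.2
          (S.mem_kParts_of_commute (S.invol_mem_kParts hu) hb1 hcom)
      obtain ⟨⟨-, hck⟩, -⟩ := mem_restQ.1 (hpel c hcQ hc1)
      have huc : orderOf (u * c) = 2 := by
        refine invol_of_mul_self ?_ fun e => hck ?_
        · rw [hc, invol_inv hu]
          exact invol_comm_sq (invol_mul_self hu)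
        · rw [eq_inv_of_mul_eq_one_right e, invol_inv hu]
          exact S.invol_mem_kParts hu
      intro a ha
      refine (S.real_facts hck hc1 hu huc).1 a ?_
      rw [← hcent Q c hcQ hc1] at ha
      exact Subgroup.mem_centralizer_singleton_iff.1 ha
    -- `t0` is the only involution of `D₀`
    have huniq : ∀ v ∈ D₀, orderOf v = 2 → v = t0 := by
      intro v hv hv2
      obtain ⟨⟨b, hbQ⟩, hb⟩ := exists_prime_orderOf_dvd_card' (G := ↥(Q : Subgroup G)) p
        (hPcard Q ▸ hpq)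
      rw [← Subgroup.orderOf_coe] at hb
      change orderOf b = p at hb
      have hb1 : b ≠ 1 := fun e => by rw [e, orderOf_one] at hb; exact hp.one_lt.ne hb
      have h1 := hinvQ v hv2 (hD₀N hv) b hbQ
      have h2 := hinvQ t0 ht0 (hD₀N ht0D) b hbQ
      have h3 : (v⁻¹ * t0) * b = b * (v⁻¹ * t0) := by
        calc v⁻¹ * t0 * b = v⁻¹ * (t0 * b * t0⁻¹) * t0 := by group
          _ = v⁻¹ * (v * b * v⁻¹) * t0 := by rw [h2, h1]
          _ = b * (v⁻¹ * t0) := by group
      have h4 : v⁻¹ * t0 ∈ (Q : Subgroup G) := by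
        rw [← hcent Q b hbQ hb1]
        exact Subgroup.mem_centralizer_singleton_iff.2 h3
      have h5 : v⁻¹ * t0 ∈ (Q : Subgroup G) ⊓ D₀ :=
        Subgroup.mem_inf.2 ⟨h4, D₀.mul_mem (D₀.inv_mem hv) ht0D⟩
      rw [Subgroup.inf_eq_bot_of_coprime (by rw [hPcard, hD₀card, ← hr]; simp),
        Subgroup.mem_bot, inv_mul_eq_one] at h5
      exact h5
    obtain ⟨g, hg⟩ := isConj_iff.1 (S.hconj t0 t ht0 S.ht)
    have hDK : D₀.map (MulAut.conj g).toMonoidHom = K := by
      refine Subgroup.eq_of_le_of_card_ge ?_ (by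
        rw [Subgroup.card_map_of_injective (MulAut.conj g).injective, hD₀card, hrk])
      rintro _ ⟨a, ha, rfl⟩
      change g * a * g⁻¹ ∈ K
      have hat : a * t0 * a⁻¹ = t0 :=
        huniq _ (mul_mem (mul_mem ha ht0D) (inv_mem ha)) (by rw [orderOf_conj_eq, ht0])
      have hH : g * a * g⁻¹ ∈ Subgroup.centralizer ({t} : Set G) := by
        refine Subgroup.mem_centralizer_singleton_iff.2 ?_
        rw [← hg]
        calc g * a * g⁻¹ * (g * t0 * g⁻¹) = g * (a * t0 * a⁻¹) * a * g⁻¹ := by group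
          _ = g * t0 * g⁻¹ * (g * a * g⁻¹) := by rw [hat]; group
      rcases S.mem_H.1 hH with h | h
      · exact h
      · have h2 : orderOf a = 2 := by
          have := S.mul_s_invol h
          rwa [mul_assoc, invol_mul_self S.hs, mul_one, orderOf_conj_eq] at this
        rw [huniq a ha h2, hg]
        exact S.htK
    have hN2 : Subgroup.normalizer (((g • Q : Sylow p G) : Subgroup G) : Set G) =
        N.map (MulAut.conj g).toMonoidHom := by
      rw [Sylow.coe_subgroup_smul, hN]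
      exact (Subgroup.map_equiv_normalizer_eq _ (MulAut.conj g)).symm
    refine hfinish (g • Q) K ?_ (hrk.symm) S.hcomm (fun X hX hX1 => ?_) ?_
    · rw [hN2, ← hDK]
      exact Subgroup.map_mono hD₀N
    · have hKne : K ≠ ⊥ := fun e => by
        have h := S.htK
        rw [e] at h
        exact invol_ne_one S.ht (Subgroup.mem_bot.1 h)
      refine ⟨(S.normalizer_sub_K hX hX1).trans (S.normalizer_sub_K le_rfl hKne).symm,
        s, S.hs, S.hsK, S.hinv, ?_⟩
      rw [S.normalizer_sub_K le_rfl hKne, S.hH]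
    · rw [hN2, Subgroup.card_map_of_injective (MulAut.conj g).injective, hNcard]
  · -- `d = -1`
    have hNodd : Odd (Nat.card ↥N) := by
      rw [hNcard, hrm]; exact (Dt.odd_q S).mul (Dt.odd_m S)
    have hno : ∀ w ∈ restQ K ψ, ∀ u, orderOf u = 2 → orderOf (u * w) ≠ 2 := by
      intro w hw u hu huw
      obtain ⟨⟨hw1, hwk⟩, -⟩ := mem_restQ.1 hw
      have hC' : Nat.card ↥(Subgroup.centralizer ({w} : Set G)) = p ^ (Nat.card G).factorization p := by
        rw [(Dt.cent_restQ S hw).1, hfac, hq]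
      obtain ⟨g, hg⟩ := MulAction.exists_smul_eq G (Sylow.ofCard _ hC' : Sylow p G) Q
      have hmem : ∀ a, (a ∈ (Q : Subgroup G) ↔ g⁻¹ * a * g ∈ Subgroup.centralizer ({w} : Set G)) := by
        intro a
        rw [← hg, Sylow.coe_subgroup_smul, Subgroup.mem_pointwise_smul_iff_inv_smul_mem,
          Sylow.coe_ofCard, ← map_inv, MulAut.smul_def, MulAut.conj_apply, inv_inv]
      obtain ⟨hinv, -, -⟩ := S.real_facts hwk hw1 hu huw
      have hu' : g * u * g⁻¹ ∈ N := by
        refine Subgroup.mem_normalizer_iff.2 fun a => ?_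
        rw [hmem, hmem, show g⁻¹ * (g * u * g⁻¹ * a * (g * u * g⁻¹)⁻¹) * g =
          u * (g⁻¹ * a * g) * u⁻¹ by group]
        constructor
        · intro h
          rw [hinv _ (Subgroup.mem_centralizer_singleton_iff.1 h)]
          exact inv_mem h
        · intro h
          have h' := hinv _ (Subgroup.mem_centralizer_singleton_iff.1 h)
          have huu : u * (u * (g⁻¹ * a * g) * u⁻¹) * u⁻¹ = g⁻¹ * a * g := by
            rw [invol_inv hu]
            calc u * (u * (g⁻¹ * a * g) * u) * u = (u * u) * (g⁻¹ * a * g) * (u * u) := by group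
              _ = g⁻¹ * a * g := by rw [invol_mul_self hu, one_mul, mul_one]
          rw [← huu, h']
          exact inv_mem h
      have : orderOf (g * u * g⁻¹) ∣ Nat.card ↥N := Subgroup.orderOf_dvd_natCard N hu'
      rw [orderOf_conj_eq, hu] at this
      exact (Nat.not_even_iff_odd.2 hNodd) (even_iff_two_dvd.2 this)
    obtain ⟨-, hM⟩ := Dt.count S hno
    have hDM : ∀ a ∈ D₀, a ≠ 1 → a ∈ restM K ψ := by
      intro a ha ha1
      have hdvd := Subgroup.orderOf_dvd_natCard D₀ ha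
      rw [hD₀card, hrm] at hdvd
      have hne1 : orderOf a ≠ 1 := fun e => ha1 (orderOf_eq_one_iff.1 e)
      refine mem_restM.2 ⟨⟨ha1, fun hk => hne1 ?_⟩, fun h0 => hne1 ?_⟩
      · exact Nat.eq_one_of_dvd_coprimes (Dt.cop_m_two_k S) hdvd
          ((Dt.kParts_order S hk).trans (dvd_mul_left _ 2))
      · have hk : a ∉ kParts K := fun hk => hne1 (Nat.eq_one_of_dvd_coprimes (Dt.cop_m_two_k S) hdvd
          ((Dt.kParts_order S hk).trans (dvd_mul_left _ 2)))
        exact Nat.eq_one_of_dvd_coprimes (Dt.cop_q_m S)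
          (Dt.order_restQ S (mem_restQ.2 ⟨⟨ha1, hk⟩, h0⟩)) hdvd
    have hpiece : ∀ a ∈ D₀, a ≠ 1 → _ := fun a ha ha1 =>
      Dt.restM_piece S hd hM (hDM a ha ha1)
    have hDodd : Odd (Nat.card ↥D₀) := by rw [hD₀card, hrm]; exact Dt.odd_m S
    obtain ⟨y, hy⟩ : ∃ y : ↥D₀, y ≠ 1 := by
      have : Nontrivial ↥D₀ := Finite.one_lt_card_iff_nontrivial.1 (by
        rw [hD₀card, hrm]; have := Dt.three_le_m S; omega)
      exact exists_ne 1
    have hy1 : (y : G) ≠ 1 := fun e => hy (Subtype.ext e)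
    obtain ⟨-, hcnt⟩ := partition_count hDodd (fun x : ↥D₀ => x ≠ 1) (fun x hx => hx)
      (fun x g hx e => hx (conj_eq_one_iff.1 e)) (fun _ _ z hz _ => hz)
      (fun x hx a b ha hb => Subtype.ext ((hpiece x x.2 fun e => hx (Subtype.ext e)).1 a b
        (congrArg Subtype.val ha) (congrArg Subtype.val hb)))
      (fun x hx a ha => Subtype.ext ((hpiece x x.2 fun e => hx (Subtype.ext e)).2 a
        (hDodd.of_dvd_nat (Subgroup.orderOf_dvd_natCard D₀ a.2)) (congrArg Subtype.val ha)))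
      hy
    set B := Subgroup.centralizer ({y} : Set ↥D₀) with hB
    have hB1 : B.index = 1 := by
      rw [Nat.card_eq_fintype_card, Fintype.card_subtype_compl, Fintype.card_subtype_eq,
        ← Nat.card_eq_fintype_card, ← B.index_mul_card] at hcnt
      have h1 : 1 ≤ Nat.card ↥B := Nat.card_pos
      have h2 : 1 ≤ B.index := Nat.one_le_iff_ne_zero.2 Subgroup.index_ne_zero_of_finite
      obtain ⟨i, hi⟩ : ∃ i, Nat.card ↥B = i + 1 := ⟨_, (Nat.sub_add_cancel h1).symm⟩
      rw [hi, Nat.add_sub_cancel, mul_add, mul_one] at hcnt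
      omega
    set A := Subgroup.centralizer ({(y : G)} : Set G) with hA
    have hDA : D₀ = A := by
      refine Subgroup.eq_of_le_of_card_ge (fun a ha => ?_) ?_
      · have : (⟨a, ha⟩ : ↥D₀) ∈ B := by rw [Subgroup.index_eq_one.1 hB1]; trivial
        exact Subgroup.mem_centralizer_singleton_iff.2
          (congrArg Subtype.val (Subgroup.mem_centralizer_singleton_iff.1 this))
      · rw [hD₀card, (hM _ (hDM y y.2 hy1)).2, hrm]
    obtain ⟨u, hu, huy⟩ := (hM _ (hDM y y.2 hy1)).1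
    obtain ⟨⟨-, hyk⟩, -⟩ := mem_restM.1 (hDM y y.2 hy1)
    obtain ⟨hinv, hcomm, -⟩ := S.real_facts hyk hy1 hu huy
    have hDab : ∀ a ∈ D₀, ∀ b ∈ D₀, a * b = b * a := by
      intro a ha b hb
      rw [hDA] at ha hb
      exact hcomm a b (Subgroup.mem_centralizer_singleton_iff.1 ha)
        (Subgroup.mem_centralizer_singleton_iff.1 hb)
    have hinvD : ∀ a ∈ D₀, u * a * u⁻¹ = a⁻¹ := by
      intro a ha
      rw [hDA] at ha
      exact hinv a (Subgroup.mem_centralizer_singleton_iff.1 ha)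
    have huD : u ∉ D₀ := fun h => by
      have := hDodd.of_dvd_nat (Subgroup.orderOf_dvd_natCard D₀ h)
      rw [hu] at this
      exact absurd this (by decide)
    obtain ⟨-, hTIA, hNA⟩ := Dt.restM_facts S hd hM (hDM y y.2 hy1)
    rw [← hA, ← hDA] at hTIA hNA
    have hNsup : Subgroup.normalizer (D₀ : Set G) = D₀ ⊔ Subgroup.zpowers u := by
      have huN : u ∈ Subgroup.normalizer (D₀ : Set G) := by
        refine Subgroup.mem_normalizer_iff.2 fun x => ⟨fun h => ?_, fun h => ?_⟩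
        · rw [hinvD x h]; exact inv_mem h
        · have h' := hinvD _ h
          have e : u * (u * x * u⁻¹) * u⁻¹ = x := by
            rw [invol_inv hu]
            calc u * (u * x * u) * u = (u * u) * x * (u * u) := by group
              _ = x := by rw [invol_mul_self hu, one_mul, mul_one]
          rw [← e, h']
          exact inv_mem h
      symm
      refine Subgroup.eq_of_le_of_card_ge (sup_le Subgroup.le_normalizer
        (Subgroup.zpowers_le.2 huN)) ?_
      rw [hNA]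
      refine Nat.le_of_dvd Nat.card_pos (Nat.Coprime.mul_dvd_of_dvd_of_dvd
        (Nat.coprime_two_left.2 (Dt.odd_m S)) ?_ ?_)
      · have h2 : Nat.card ↥(Subgroup.zpowers u) = 2 := by rw [Nat.card_zpowers, hu]
        exact h2 ▸ Subgroup.card_dvd_of_le le_sup_right
      · exact (hD₀card.trans hrm) ▸ Subgroup.card_dvd_of_le le_sup_left
    have hnorm : ∀ g x : G, x ∈ D₀ → x ≠ 1 → g * x * g⁻¹ ∈ D₀ → g ∈ D₀ ⊔ Subgroup.zpowers u :=
      fun g x hx hx1 hgx => hNsup ▸ hTIA g x hx hx1 hgx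
    refine hfinish Q D₀ hD₀N hD₀card hDab (fun X hX hX1 => ?_) hNcard
    have hkeyX : ∀ Y : Subgroup G, Y ≤ D₀ → Y ≠ ⊥ →
        Subgroup.normalizer (Y : Set G) = D₀ ⊔ Subgroup.zpowers u := by
      intro Y hY hY1
      refine le_antisymm (fun g hg => ?_) (sup_le (fun a ha => ?_) (Subgroup.zpowers_le.2 ?_))
      · obtain ⟨x, hx⟩ := Subgroup.ne_bot_iff_exists_ne_one.1 hY1
        exact hnorm g x (hY x.2) (fun e => hx (Subtype.ext e))
          (hY ((Subgroup.mem_normalizer_iff.1 hg _).1 x.2))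
      · refine Subgroup.mem_normalizer_iff.2 fun x => ⟨fun h => ?_, fun h => ?_⟩
        · rwa [hDab a ha x (hY h), mul_inv_cancel_right]
        · have hx : x ∈ D₀ := by
            have := mul_mem (mul_mem (inv_mem ha) (hY h)) ha
            rwa [show a⁻¹ * (a * x * a⁻¹) * a = x by group] at this
          rwa [hDab a ha x hx, mul_inv_cancel_right] at h
      · refine Subgroup.mem_normalizer_iff.2 fun x => ⟨fun h => ?_, fun h => ?_⟩
        · rw [hinvD x (hY h)]; exact inv_mem h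
        · have h' := hinvD _ (hY h)
          have e : u * (u * x * u⁻¹) * u⁻¹ = x := by
            rw [invol_inv hu]
            calc u * (u * x * u) * u = (u * u) * x * (u * u) := by group
              _ = x := by rw [invol_mul_self hu, one_mul, mul_one]
          rw [← e, h']
          exact inv_mem h
    have hD₀ne : D₀ ≠ ⊥ := fun e => by
      rw [e, Subgroup.card_bot] at hD₀card
      have := Dt.three_le_m S
      omega
    exact ⟨(hkeyX X hX hX1).trans (hkeyX D₀ le_rfl hD₀ne).symm, u, hu, huD, hinvD,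
      hkeyX D₀ le_rfl hD₀ne⟩

end Data

end CfsgLib.InvChar.BSW
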