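import Cfsg.Agent.Lib.Comp.BalanceReduce
import Cfsg.Agent.Lib.Comp.Signalizer
import Cfsg.Agent.Lib.Coprime.CentralizerGeneration
import Cfsg.Agent.Lib.FT.OddOrder
import Cfsg.Prelude.Def_Balance
import Cfsg.Prelude.Def_CaseTheorems

/-!
Core-separated four-groups `A₁, A₂`: the functor `a ↦ ⋂ᵢ [O(C(a)), Aᵢ] (O(C(a)) ∩ O(C(Aᵢ)))` is an
`A₁A₂`-signalizer functor (Goldschmidt).

The key observation is that `[O(C(a)) ∩ C(c), Aᵢ] ≤ O(C(c))` for `c ∈ A₁A₂` outside the other
four-group. Consequently `[O(C(a)), Aᵢ] ∩ C(Aᵢ) ≤ O(C(Aᵢ))`, and balance follows.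
-/

set_option autoImplicit false
set_option linter.style.haveILetI false
set_option linter.unusedSectionVars false

namespace CfsgLib.InvChar.CoreSep

open Subgroup
open scoped commutatorElement

universe u

local instance : Fact (Nat.Prime 2) := ⟨Nat.prime_two⟩

variable {G : Type u} [Group G] [Finite G]

/-- Elements centralizing a `2`-group modulo a normal subgroup of odd order lift to its centralizer. -/
theorem exists_lift_centralizer {X : Type*} [Group X] [Finite X] {A N : Subgroup X} [N.Normal]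
    (hA : IsPGroup 2 A) (hN : (Nat.card N).Coprime 2) {g : X}
    (h : ∀ a ∈ A, g⁻¹ * a * g * a⁻¹ ∈ N) : ∃ n ∈ N, g * n ∈ centralizer (A : Set X) := by
  have hAN : A ≤ normalizer (N : Set X) := Comp.le_normalizer_of_normal' N A
  set B : Subgroup X := A.map (MulAut.conj g⁻¹).toMonoidHom with hB
  have hBN : B ≤ normalizer (N : Set X) := Comp.le_normalizer_of_normal' N B
  have hcop : (Nat.card A).Coprime (Nat.card N) := by
    obtain ⟨k, hk⟩ := IsPGroup.iff_card.1 hA
    rw [hk]; exact Nat.Coprime.pow_left k hN.symm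
  have hsup : N ⊔ A = N ⊔ B := by
    refine le_antisymm (sup_le le_sup_left fun a ha => ?_) (sup_le le_sup_left ?_)
    · have h2 := mul_mem (inv_mem (mem_sup_left (T := B) (h a ha)))
        (mem_sup_right (S := N) (⟨a, ha, by simp⟩ : g⁻¹ * a * g ∈ B))
      rwa [show (g⁻¹ * a * g * a⁻¹)⁻¹ * (g⁻¹ * a * g) = a by group] at h2
    · rintro _ ⟨a, ha, rfl⟩
      have e : (MulAut.conj g⁻¹).toMonoidHom a = g⁻¹ * a * g * a⁻¹ * a := by simp [mul_assoc]
      rw [e]
      exact mul_mem (mem_sup_left (h a ha)) (mem_sup_right ha)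
  haveI := hA.isNilpotent
  obtain ⟨n, hn, hnB⟩ := Coprime.exists_conj_eq_of_coprime hAN hBN hsup hcop
    (by rwa [hB, Coprime.card_map_conj]) (Or.inl inferInstance)
  refine ⟨n, hn, mem_centralizer_iff.2 fun a ha => ?_⟩
  have hB' : n * a * n⁻¹ ∈ B := hnB ▸ ⟨a, ha, by simp⟩
  obtain ⟨a', ha', e⟩ := hB'
  replace e : g⁻¹ * a' * g = n * a * n⁻¹ := by simpa using e
  have e2 : a' = (g * n) * a * (g * n)⁻¹ := by
    calc a' = g * (g⁻¹ * a' * g) * g⁻¹ := by group
      _ = _ := by rw [e]; group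
  have hN' : a' * a⁻¹ ∈ N := by
    have h1 : n * a * n⁻¹ * a⁻¹ ∈ N := by
      rw [show n * a * n⁻¹ * a⁻¹ = n * (a * n⁻¹ * a⁻¹) by group]
      exact mul_mem hn (Normal.conj_mem inferInstance _ (inv_mem hn) a)
    have h2 : g * (n * a * n⁻¹ * a⁻¹) * g⁻¹ ∈ N := Normal.conj_mem inferInstance _ h1 g
    have h3 : g * (g⁻¹ * a * g * a⁻¹)⁻¹ * g⁻¹ ∈ N :=
      Normal.conj_mem inferInstance _ (inv_mem (h a ha)) g
    rw [show a' * a⁻¹ = g * (n * a * n⁻¹ * a⁻¹) * g⁻¹ * (g * (g⁻¹ * a * g * a⁻¹)⁻¹ * g⁻¹) by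
      rw [e2]; group]
    exact mul_mem h2 h3
  have hone : a' * a⁻¹ = 1 := by
    rw [← mem_bot, ← Coprime.inf_eq_bot_of_coprime hcop]
    exact mem_inf.2 ⟨mul_mem ha' (inv_mem ha), hN'⟩
  rw [mul_inv_eq_one] at hone
  calc a * (g * n) = a' * (g * n) := by rw [hone]
    _ = g * n * a := by rw [e2]; group

/-- The core of the centralizer of a subgroup. -/
abbrev coreCent (B : Subgroup G) : Subgroup G :=
  (Cfsg.oddCore ↥(centralizer (B : Set G))).map (centralizer (B : Set G)).subtype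

/-- `[O(C(a)), B] (O(C(a)) ∩ O(C(B)))`. -/
abbrev part (B : Subgroup G) (a : G) : Subgroup G :=
  ⁅Cfsg.centralizerPPrimeCore 2 a, B⁆ ⊔ (Cfsg.centralizerPPrimeCore 2 a ⊓ coreCent B)

theorem le_normalizer_coreCent (B : Subgroup G) :
    normalizer ((centralizer (B : Set G) : Subgroup G) : Set G) ≤
      normalizer ((coreCent B : Subgroup G) : Set G) :=
  Comp.normalizer_le_normalizer_pPrimeCore (p := 2) _

theorem coprime_card_coreCent (B : Subgroup G) : (Nat.card (coreCent B)).Coprime 2 := by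
  rw [coreCent, card_map_of_injective (centralizer (B : Set G)).subtype_injective]
  exact Comp.coprime_card_pPrimeCore 2 _

/-- A subgroup of `C(B)` of odd order normalized by `C(B)` lies in `O(C(B))`. -/
theorem le_coreCent {B K : Subgroup G} (hK : K ≤ centralizer (B : Set G))
    (hn : centralizer (B : Set G) ≤ normalizer (K : Set G)) (hc : (Nat.card K).Coprime 2) :
    K ≤ coreCent B := by
  rw [coreCent, ← map_subgroupOf_eq_of_le hK]
  refine map_mono (le_sSup ⟨normal_subgroupOf_of_le_normalizer hn, ?_⟩)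
  rwa [Nat.card_congr (subgroupOfEquivOfLe hK).toEquiv]

theorem core_inf_centralizer_le {B : Subgroup G} {c : G} (hc : c ∈ B) :
    Cfsg.centralizerPPrimeCore 2 c ⊓ centralizer (B : Set G) ≤ coreCent B := by
  refine le_coreCent inf_le_right (Comp.le_normalizer_inf ?_ le_normalizer) ?_
  · exact le_trans (centralizer_le (Set.singleton_subset_iff.2 hc))
      (Comp.centralizer_le_normalizer_centralizerPPrimeCore c)
  · exact (Comp.coprime_card_centralizerPPrimeCore c).coprime_dvd_left (card_dvd_of_le inf_le_left)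

/-- The image of a subgroup of `G` in `C(c)/O(C(c))`. -/
abbrev img (c : G) (Y : Subgroup G) :
    Subgroup (↥(centralizer ({c} : Set G)) ⧸ Cfsg.pPrimeCore 2 ↥(centralizer ({c} : Set G))) :=
  (Y.subgroupOf (centralizer ({c} : Set G))).map (Comp.toModCore 2 ↥(centralizer ({c} : Set G)))

theorem le_core_of_img_eq_bot {c : G} {Y : Subgroup G} (hY : Y ≤ centralizer ({c} : Set G))
    (h : img c Y = ⊥) : Y ≤ Cfsg.centralizerPPrimeCore 2 c := by
  rw [img, Subgroup.map_eq_bot_iff, Comp.ker_toModCore] at h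
  rw [← map_subgroupOf_eq_of_le hY]
  exact map_mono h

theorem img_mono (c : G) {Y Z : Subgroup G} (h : Y ≤ Z) : img c Y ≤ img c Z :=
  map_mono fun _ hy => h hy

theorem coprime_card_img {c : G} {Y : Subgroup G} (h : (Nat.card Y).Coprime 2)
    (hY : Y ≤ centralizer ({c} : Set G)) : (Nat.card (img c Y)).Coprime 2 :=
  h.coprime_dvd_left (by
    refine (card_map_dvd _ _).trans ?_
    rw [Nat.card_congr (subgroupOfEquivOfLe hY).toEquiv])

variable {c : G}

/-- The image of `O(C(a)) ∩ C(c)` lies in the core of the centralizer of the image of `a`. -/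
theorem img_core_le {a : G} (haC : a ∈ centralizer ({c} : Set G)) (ha : orderOf a = 2) :
    img c (Cfsg.centralizerPPrimeCore 2 a ⊓ centralizer ({c} : Set G)) ≤ Cfsg.centralizerPPrimeCore 2 ((Comp.toModCore 2 ↥(centralizer ({c} : Set G))) ⟨a, haC⟩) := by
  haveI := Cfsg.pPrimeCore_normal 2 ↥(centralizer ({c} : Set G))
  refine Comp.le_centralizerPPrimeCore ?_ ?_ (coprime_card_img
    ((Comp.coprime_card_centralizerPPrimeCore a).coprime_dvd_left (card_dvd_of_le inf_le_left))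
    inf_le_right)
  · rintro _ ⟨y, hy, rfl⟩
    rw [mem_centralizer_singleton_iff, ← map_mul, ← map_mul]
    congr 1
    exact Subtype.ext (mem_centralizer_singleton_iff.1 (Comp.centralizerPPrimeCore_le a hy.1))
  · intro z hz
    obtain ⟨g, rfl⟩ := Comp.toModCore_surjective z
    have hz' : (Comp.toModCore 2 ↥(centralizer ({c} : Set G))) g * (Comp.toModCore 2 ↥(centralizer ({c} : Set G))) ⟨a, haC⟩ = (Comp.toModCore 2 ↥(centralizer ({c} : Set G))) ⟨a, haC⟩ * (Comp.toModCore 2 ↥(centralizer ({c} : Set G))) g := mem_centralizer_singleton_iff.1 hz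
    obtain ⟨n, hn, hgn⟩ := exists_lift_centralizer (X := ↥(centralizer ({c} : Set G))) (A := zpowers ⟨a, haC⟩)
      (N := Cfsg.pPrimeCore 2 ↥(centralizer ({c} : Set G)))
      (Comp.isPGroup_zpowers_of_orderOf (p := 2) (k := 1) (by rw [← orderOf_coe, pow_one]; exact ha))
      (Comp.coprime_card_pPrimeCore 2 _) (g := g) (by
        rintro _ ⟨k, rfl⟩
        rw [← QuotientGroup.eq_one_iff]
        have hk : Commute ((Comp.toModCore 2 ↥(centralizer ({c} : Set G))) g) ((Comp.toModCore 2 ↥(centralizer ({c} : Set G))) ⟨a, haC⟩ ^ k) := Commute.zpow_right hz' k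
        show (Comp.toModCore 2 ↥(centralizer ({c} : Set G))) (g⁻¹ * (⟨a, haC⟩ : ↥(centralizer ({c} : Set G))) ^ k * g * ((⟨a, haC⟩ : ↥(centralizer ({c} : Set G))) ^ k)⁻¹) = 1
        rw [map_mul, map_mul, map_mul, map_inv, map_inv, map_zpow, mul_assoc ((Comp.toModCore 2 ↥(centralizer ({c} : Set G))) g)⁻¹,
          ← hk.eq, inv_mul_cancel_left, mul_inv_cancel])
    have hq : (Comp.toModCore 2 ↥(centralizer ({c} : Set G))) g = (Comp.toModCore 2 ↥(centralizer ({c} : Set G))) (g * n) := by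
      rw [map_mul, show (Comp.toModCore 2 ↥(centralizer ({c} : Set G))) n = 1 from (QuotientGroup.eq_one_iff n).2 hn, mul_one]
    have hga : ((g * n : ↥(centralizer ({c} : Set G))) : G) ∈ centralizer ({a} : Set G) := by
      rw [Comp.centralizer_zpowers] at hgn
      exact mem_centralizer_singleton_iff.2
        (congrArg Subtype.val (mem_centralizer_singleton_iff.1 hgn))
    have hN : ((g * n : ↥(centralizer ({c} : Set G))) : G) ∈
        normalizer ((Cfsg.centralizerPPrimeCore 2 a ⊓ centralizer ({c} : Set G) : Subgroup G) : Set G) :=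
      Comp.le_normalizer_inf (M := centralizer ({a} : Set G) ⊓ centralizer ({c} : Set G))
        (inf_le_left.trans (Comp.centralizer_le_normalizer_centralizerPPrimeCore a))
        (inf_le_right.trans le_normalizer) (mem_inf.2 ⟨hga, (g * n).2⟩)
    rw [hq]
    refine le_normalizer_map (Comp.toModCore 2 ↥(centralizer ({c} : Set G))) ⟨g * n, ?_, rfl⟩
    rw [SetLike.mem_coe, mem_normalizer_iff]
    intro y
    simp only [mem_subgroupOf, Subgroup.coe_mul, InvMemClass.coe_inv]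
    exact mem_normalizer_iff.1 hN y

/-- Each component of `C(c)/O(C(c))` is centralized by the image of one of two core-separated groups. -/
theorem component_side {A₁ A₂ : Subgroup G} (hcs : Cfsg.IsCoreSeparated A₁ A₂) (hc : c ∈ A₁ ⊔ A₂)
    (hc1 : c ≠ 1) (hA₁ : A₁ ≤ centralizer ({c} : Set G)) (hA₂ : A₂ ≤ centralizer ({c} : Set G))
    {L : Subgroup (↥(centralizer ({c} : Set G)) ⧸ Cfsg.pPrimeCore 2 ↥(centralizer ({c} : Set G)))} (hL : Cfsg.IsComponent L) :
    img c A₁ ≤ centralizer (L : Set (↥(centralizer ({c} : Set G)) ⧸ Cfsg.pPrimeCore 2 ↥(centralizer ({c} : Set G)))) ∨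
      img c A₂ ≤ centralizer (L : Set (↥(centralizer ({c} : Set G)) ⧸ Cfsg.pPrimeCore 2 ↥(centralizer ({c} : Set G)))) := by
  obtain ⟨hE, hEL⟩ := Comp.isPComponent_pElemClosure_comap hL
  set E := Comp.pElemClosure 2 (L.comap (Comp.toModCore 2 ↥(centralizer ({c} : Set G))))
  have key : ∀ B : Subgroup G, B ≤ centralizer ({c} : Set G) →
      ⁅E.map (Subgroup.subtype (centralizer ({c} : Set G))), B⁆ ≤ Cfsg.centralizerPPrimeCore 2 c →
      img c B ≤ centralizer (L : Set (↥(centralizer ({c} : Set G)) ⧸ Cfsg.pPrimeCore 2 ↥(centralizer ({c} : Set G)))) := by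
    intro B hB hle
    rintro _ ⟨⟨b, hbC⟩, hb, rfl⟩
    rw [mem_centralizer_iff]
    intro l hl
    rw [← hEL] at hl
    obtain ⟨e, he, rfl⟩ := hl
    have h := hle (commutator_mem_commutator (⟨e, he, rfl⟩ : (e : G) ∈ E.map (Subgroup.subtype (centralizer ({c} : Set G)))) hb)
    obtain ⟨w, hw, hwe⟩ := h
    have h2 : (w : ↥(centralizer ({c} : Set G))) = ⁅e, ⟨b, hbC⟩⁆ := Subtype.ext (hwe.trans rfl)
    have h3 : (Comp.toModCore 2 ↥(centralizer ({c} : Set G))) ⁅e, ⟨b, hbC⟩⁆ = 1 := (QuotientGroup.eq_one_iff _).2 (h2 ▸ hw)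
    rw [map_commutatorElement, commutatorElement_eq_one_iff_mul_comm] at h3
    exact h3
  exact (hcs.2.2.2.2.2.2.2 c hc hc1 E hE).imp (key A₁ hA₁) (key A₂ hA₂)

/-- `[y, α]` centralizes `L` when `y` normalizes `L` and `α` centralizes `L`. -/
theorem commutatorElement_mem_centralizer {X : Type*} [Group X] {L : Subgroup X} {y α : X}
    (hy : y ∈ normalizer (L : Set X)) (hα : α ∈ centralizer (L : Set X)) :
    ⁅y, α⁆ ∈ centralizer (L : Set X) := by
  rw [commutatorElement_def]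
  exact mul_mem ((mem_normalizer_iff.1 (Comp.le_normalizer_centralizer le_rfl hy) α).1 hα) (inv_mem hα)

/-- Data of a core-separated pair, symmetric in the two groups. -/
structure Pair (B B' : Subgroup G) : Prop where
  sep : ∀ a ∈ B ⊔ B', a ≠ 1 → ∀ L : Subgroup (↥(centralizer ({a} : Set G)) ⧸
    Cfsg.pPrimeCore 2 ↥(centralizer ({a} : Set G))), Cfsg.IsComponent L →
      img a B ≤ centralizer (L : Set (↥(centralizer ({a} : Set G)) ⧸
        Cfsg.pPrimeCore 2 ↥(centralizer ({a} : Set G)))) ∨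
      img a B' ≤ centralizer (L : Set (↥(centralizer ({a} : Set G)) ⧸
        Cfsg.pPrimeCore 2 ↥(centralizer ({a} : Set G))))
  comm : IsMulCommutative ↥(B ⊔ B' : Subgroup G)
  sq : ∀ a ∈ B ⊔ B', a ^ 2 = 1
  card : Nat.card B = 4
  disj : B ⊓ B' = ⊥

variable {B B' : Subgroup G}

theorem Pair.commute (h : Pair B B') {x y : G} (hx : x ∈ B ⊔ B') (hy : y ∈ B ⊔ B') : x * y = y * x :=
  congrArg Subtype.val (h.comm.is_comm.comm (⟨x, hx⟩ : ↥(B ⊔ B')) ⟨y, hy⟩)

theorem Pair.orderOf_eq (h : Pair B B') {a : G} (ha : a ∈ B ⊔ B') (ha1 : a ≠ 1) : orderOf a = 2 :=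
  orderOf_eq_prime (h.sq a ha) ha1

theorem Pair.le_centralizer (h : Pair B B') {a : G} (ha : a ∈ B ⊔ B') :
    B ⊔ B' ≤ centralizer ({a} : Set G) :=
  fun _ hx => mem_centralizer_singleton_iff.2 (h.commute hx ha)

theorem Pair.elemAb (h : Pair B B') : Cfsg.IsElementaryAbelian 2 B :=
  Comp.elemAb_mono (p := 2) (⟨h.comm, h.sq⟩ : Cfsg.IsElementaryAbelian 2 (B ⊔ B')) le_sup_left

theorem Pair.sup_le_normalizer (h : Pair B B') : B ⊔ B' ≤ normalizer (B : Set G) := by
  refine le_trans ?_ (centralizer_le_normalizer _)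
  exact fun x hx => mem_centralizer_iff.2 fun y hy => h.commute (mem_sup_left hy) hx

/-- Four-group bookkeeping: `B = ⟨x, y⟩` for distinct non-identity `x, y`. -/
theorem Pair.eq_or (h : Pair B B') {x y z : G} (hx : x ∈ B) (hy : y ∈ B) (hz : z ∈ B) (hx1 : x ≠ 1)
    (hy1 : y ≠ 1) (hxy : x ≠ y) : z = 1 ∨ z = x ∨ z = y ∨ z = x * y := by
  classical
  haveI := Fintype.ofFinite ↥B
  let s : Finset ↥B := {1, ⟨x, hx⟩, ⟨y, hy⟩, ⟨x * y, mul_mem hx hy⟩}
  have hxy1 : x * y ≠ 1 := by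
    intro e
    have e2 := h.sq x (mem_sup_left hx)
    rw [pow_two] at e2
    exact hxy (mul_left_cancel (a := x) (e2.trans e.symm))
  have hs : s.card = 4 := by
    rw [Finset.card_eq_four.2]
    exact ⟨_, _, _, _, by simp [Subtype.ext_iff, Ne.symm hx1], by simp [Subtype.ext_iff, Ne.symm hy1],
      by simp [Subtype.ext_iff, Ne.symm hxy1], by simp [Subtype.ext_iff, hxy],
      by simp [Subtype.ext_iff, hy1],
      by simp [Subtype.ext_iff, hx1], rfl⟩
  have hu : s = Finset.univ := Finset.eq_univ_of_card s (by rw [hs, ← Nat.card_eq_fintype_card, h.card])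
  have := hu ▸ Finset.mem_univ (⟨z, hz⟩ : ↥B)
  simpa [s, Subtype.ext_iff] using this

/-- The key lemma: `[O(C(a)) ∩ C(c), B] ≤ O(C(c))` for `c` outside `B'`. -/
theorem Pair.key (h : Pair B B') {a c : G} (ha : a ∈ B ⊔ B') (ha1 : a ≠ 1) (hc : c ∈ B ⊔ B')
    (hcB' : c ∉ B') :
    ⁅Cfsg.centralizerPPrimeCore 2 a ⊓ centralizer ({c} : Set G), B⁆ ≤
      Cfsg.centralizerPPrimeCore 2 c := by
  set U := Cfsg.centralizerPPrimeCore 2 a ⊓ centralizer ({c} : Set G)
  have hc1 : c ≠ 1 := fun e => hcB' (e ▸ one_mem _)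
  have hAC := h.le_centralizer hc
  have hBU : B ≤ normalizer (U : Set G) := Comp.le_normalizer_inf
    ((le_sup_left.trans (h.le_centralizer ha)).trans
      (Comp.centralizer_le_normalizer_centralizerPPrimeCore a))
    ((le_sup_left.trans hAC).trans le_normalizer)
  have hWU : ⁅U, B⁆ ≤ U := Comp.commutator_le_of_le_normalizer hBU
  refine le_core_of_img_eq_bot (hWU.trans inf_le_right) ?_
  set C := centralizer ({c} : Set G)
  haveI := Cfsg.pPrimeCore_normal 2 ↥C
  set q := Comp.toModCore 2 ↥C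
  have haC : a ∈ C := hAC ha
  by_contra hne
  set ā := q ⟨a, haC⟩ with hā
  have hā2 : orderOf ā = 2 := by
    refine orderOf_eq_prime ?_ ?_
    · rw [hā, ← map_pow, show (⟨a, haC⟩ : ↥C) ^ 2 = 1 from Subtype.ext (h.sq a ha), map_one]
    · intro e
      have hmem : (⟨a, haC⟩ : ↥C) ∈ Cfsg.pPrimeCore 2 ↥C := (QuotientGroup.eq_one_iff _).1 e
      have hd := orderOf_dvd_natCard (⟨_, hmem⟩ : ↥(Cfsg.pPrimeCore 2 ↥C))
      rw [orderOf_mk, orderOf_mk, h.orderOf_eq ha ha1] at hd
      exact Nat.prime_two.coprime_iff_not_dvd.1 (Comp.coprime_card_pPrimeCore 2 ↥C).symm hd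
  have hxp := Comp.isPGroup_zpowers_of_orderOf (p := 2) (k := 1) (hā2.trans (pow_one 2).symm)
  have hO := Comp.pPrimeCore_quotient_eq_bot 2 ↥C
  have hUle : img c U ≤ Cfsg.centralizerPPrimeCore 2 ā := img_core_le haC (h.orderOf_eq ha ha1)
  obtain ⟨L, hL, hYL⟩ := Comp.exists_component_not_le_centralizer hxp hO
    ((img_mono c hWU).trans hUle) hne
  apply hYL
  have hUN : img c U ≤ normalizer (L : Set _) :=
    hUle.trans (Comp.centralizerPPrimeCore_le_normalizer_component hxp hO hL)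
  -- it is enough that `[u, b]` centralizes `L` on generators
  suffices hgen : ∀ u : G, ∀ hu : u ∈ U, ∀ b : G, ∀ hb : b ∈ B,
      ⁅q ⟨u, hu.2⟩, q ⟨b, hAC (mem_sup_left hb)⟩⁆ ∈ centralizer (L : Set _) by
    rw [img, map_le_iff_le_comap]
    intro w hw
    have hw' : (w : G) ∈ ((centralizer (L : Set (↥C ⧸ Cfsg.pPrimeCore 2 ↥C))).comap q).map C.subtype := by
      refine (commutator_le.2 fun u hu b hb => ?_ : ⁅U, B⁆ ≤ _) hw
      refine ⟨⁅(⟨u, hu.2⟩ : ↥C), (⟨b, hAC (mem_sup_left hb)⟩ : ↥C)⁆, ?_, rfl⟩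
      rw [SetLike.mem_coe, mem_comap, map_commutatorElement]
      exact hgen u hu b hb
    obtain ⟨w', hw', e⟩ := hw'
    rwa [show w' = w from Subtype.ext e] at hw'
  intro u hu b hb
  have huq : q ⟨u, hu.2⟩ ∈ img c U := ⟨⟨u, hu.2⟩, hu, rfl⟩
  rcases h.sep c hc hc1 L hL with hs | hs
  · exact commutatorElement_mem_centralizer (hUN huq) (hs ⟨_, hb, rfl⟩)
  by_cases haL : ā ∈ normalizer (L : Set _)
  swap
  · have hU' := hUle.trans (Comp.centralizerPPrimeCore_le_centralizer_of_moved hxp hO hā2 hL haL)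
    exact absurd ((img_mono c hWU).trans hU') hYL
  by_cases haL' : ā ∈ centralizer (L : Set _)
  · have hLa : L ≤ centralizer ({ā} : Set _) := fun l hl =>
      mem_centralizer_singleton_iff.2 (mem_centralizer_iff.1 haL' l hl)
    exact absurd ((img_mono c hWU).trans
      (hUle.trans (Comp.centralizerPPrimeCore_le_centralizer_of_le hO ā hL hLa))) hYL
  obtain ⟨c₁, hc₁, c₂, hc₂, hcc⟩ := Comp.exists_mul_of_mem_sup
    (H := B) (K := B') (le_sup_right.trans h.sup_le_normalizer) hc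
  obtain ⟨a₁, ha₁, a₂, ha₂, haa⟩ := Comp.exists_mul_of_mem_sup
    (H := B) (K := B') (le_sup_right.trans h.sup_le_normalizer) ha
  have hcC : c ∈ C := hAC hc
  -- the image of `c` is central and that of `B'` centralizes `L`
  have hqc : q ⟨c, hcC⟩ ∈ centralizer (L : Set _) := mem_centralizer_iff.2 fun l _ => by
    obtain ⟨g, rfl⟩ := Comp.toModCore_surjective (p := 2) l
    rw [← map_mul, ← map_mul]
    congr 1
    exact Subtype.ext (mem_centralizer_singleton_iff.1 g.2)
  have hB'L : ∀ x : G, ∀ hx : x ∈ B', q ⟨x, hAC (mem_sup_right hx)⟩ ∈ centralizer (L : Set _) :=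
    fun x hx => hs ⟨_, hx, rfl⟩
  have hc₁L : q ⟨c₁, hAC (mem_sup_left hc₁)⟩ ∈ centralizer (L : Set _) := by
    have e : (⟨c₁, hAC (mem_sup_left hc₁)⟩ : ↥C) = ⟨c, hcC⟩ * (⟨c₂, hAC (mem_sup_right hc₂)⟩)⁻¹ :=
      Subtype.ext (by simp [← hcc])
    rw [e, map_mul, map_inv]
    exact mul_mem hqc (inv_mem (hB'L _ hc₂))
  have ha₁eq : q ⟨a₁, hAC (mem_sup_left ha₁)⟩ = ā * (q ⟨a₂, hAC (mem_sup_right ha₂)⟩)⁻¹ := by
    rw [hā, ← map_inv, ← map_mul]
    congr 1
    exact Subtype.ext (by simp [← haa])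
  have hc₁1 : c₁ ≠ 1 := by rintro rfl; exact hcB' (by rwa [← hcc, one_mul])
  have ha₁L : q ⟨a₁, hAC (mem_sup_left ha₁)⟩ ∉ centralizer (L : Set _) := fun hm => haL' (by
    have := mul_mem hm (hB'L _ ha₂)
    rwa [ha₁eq, inv_mul_cancel_right] at this)
  have ha₁1 : a₁ ≠ 1 := by
    rintro rfl
    exact ha₁L (by rw [show (⟨(1 : G), _⟩ : ↥C) = 1 from rfl, map_one]; exact one_mem _)
  have hne1 : c₁ ≠ a₁ := by rintro rfl; exact ha₁L hc₁L
  -- the commutator with `ā` vanishes
  have hua : Commute (q ⟨u, hu.2⟩) ā :=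
    (mem_centralizer_singleton_iff.1 (Comp.centralizerPPrimeCore_le ā (hUle huq)))
  have ha₁c : ⁅q ⟨u, hu.2⟩, q ⟨a₁, hAC (mem_sup_left ha₁)⟩⁆ ∈ centralizer (L : Set _) := by
    rw [ha₁eq]
    have hm := commutatorElement_mem_centralizer (hUN huq) (inv_mem (hB'L _ ha₂))
    generalize (q ⟨a₂, hAC (mem_sup_right ha₂)⟩)⁻¹ = γ at hm ⊢
    have e : ⁅q ⟨u, hu.2⟩, ā * γ⁆ = ā * ⁅q ⟨u, hu.2⟩, γ⁆ * ā⁻¹ := by
      rw [commutatorElement_def, commutatorElement_def]
      calc q ⟨u, hu.2⟩ * (ā * γ) * (q ⟨u, hu.2⟩)⁻¹ * (ā * γ)⁻¹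
          = q ⟨u, hu.2⟩ * ā * γ * (q ⟨u, hu.2⟩)⁻¹ * γ⁻¹ * ā⁻¹ := by group
        _ = _ := by rw [hua.eq]; group
    rw [e]
    exact (mem_normalizer_iff.1 (Comp.le_normalizer_centralizer le_rfl haL) _).1 hm
  rcases h.eq_or hc₁ ha₁ hb hc₁1 ha₁1 hne1 with rfl | rfl | rfl | rfl
  · rw [show (⟨(1 : G), _⟩ : ↥C) = 1 from rfl, map_one, commutatorElement_one_right]; exact one_mem _
  · exact commutatorElement_mem_centralizer (hUN huq) hc₁L
  · exact ha₁c
  · have hm := commutatorElement_mem_centralizer (hUN huq) hc₁L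
    rw [show (⟨c₁ * a₁, hAC (mem_sup_left hb)⟩ : ↥C) = ⟨c₁, hAC (mem_sup_left hc₁)⟩ *
      ⟨a₁, hAC (mem_sup_left ha₁)⟩ from rfl, map_mul]
    generalize q ⟨c₁, hAC (mem_sup_left hc₁)⟩ = γ at hm hc₁L ⊢
    generalize q ⟨a₁, hAC (mem_sup_left ha₁)⟩ = δ at ha₁c ⊢
    have e : ⁅q ⟨u, hu.2⟩, γ * δ⁆ = ⁅q ⟨u, hu.2⟩, γ⁆ * (γ * ⁅q ⟨u, hu.2⟩, δ⁆ * γ⁻¹) := by
      rw [commutatorElement_def, commutatorElement_def, commutatorElement_def]; group
    rw [e]
    exact mul_mem hm (mul_mem (mul_mem hc₁L ha₁c) (inv_mem hc₁L))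

theorem Pair.inf_centralizer_le (h : Pair B B') {a : G} (ha : a ∈ B ⊔ B') (ha1 : a ≠ 1) :
    part B a ⊓ centralizer (B : Set G) ≤ coreCent B := by
  set O' := Cfsg.centralizerPPrimeCore 2 a
  set M := ⁅O', B⁆
  set N := O' ⊓ coreCent B
  have hBO : B ≤ normalizer (O' : Set G) := (le_sup_left.trans (h.le_centralizer ha)).trans
    (Comp.centralizer_le_normalizer_centralizerPPrimeCore a)
  have hOc := Comp.coprime_card_centralizerPPrimeCore (p := 2) a
  have hBab := h.elemAb.1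
  haveI := (Comp.isPGroup_of_elemAb h.elemAb).isNilpotent
  have hBs : Group.IsSolvable B := inferInstance
  have hcop : (Nat.card B).Coprime (Nat.card O') :=
    Comp.coprime_card_elemAb h.elemAb (Nat.prime_two.coprime_iff_not_dvd.1 hOc.symm)
  have hMO : M ≤ O' := Comp.commutator_le_of_le_normalizer hBO
  have hMn : O' ≤ normalizer (M : Set G) := normalizer_commutator_ge_left O' B
  have hBM : B ≤ normalizer (M : Set G) := normalizer_commutator_ge_right O' B
  have hModd : Odd (Nat.card M) := Nat.coprime_two_right.1 (hOc.coprime_dvd_left (card_dvd_of_le hMO))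
  have hMsol : Group.IsSolvable M := FT.odd_order_solvable hModd
  have hMB : M ⊓ centralizer (B : Set G) ≤ coreCent B := by
    refine (Coprime.centJoin_eq hBab le_rfl hBM hMsol (hcop.coprime_dvd_right (card_dvd_of_le hMO))
      (Coprime.commutator_commutator_eq hBO hcop (Or.inl hBs))).trans (iSup_le ?_)
    rintro ⟨B₀, hB₀, b, hb, hsup⟩
    have hB₀ne : B₀ ≠ ⊥ := fun e => Comp.not_isCyclic_elemAb h.elemAb (by rw [h.card]; norm_num)
      (by rw [← hsup, e, bot_sup_eq]; infer_instance)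
    obtain ⟨c, hc, hc1⟩ := Comp.exists_mem_ne_one hB₀ne
    have hcB : c ∈ B := hB₀ hc
    have hcB' : c ∉ B' := fun hm => hc1 (mem_bot.1 (h.disj ▸ mem_inf.2 ⟨hcB, hm⟩))
    intro x hx
    obtain ⟨hx1, hx2⟩ := mem_inf.1 hx
    refine core_inf_centralizer_le hcB (mem_inf.2 ⟨?_, (mem_inf.1 hx1).2⟩)
    refine h.key ha ha1 (mem_sup_left hcB) hcB' (commutator_mono ?_ le_rfl hx2)
    exact le_inf (inf_le_left.trans hMO)
      (inf_le_right.trans (centralizer_le (Set.singleton_subset_iff.2 hc)))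
  intro y hy
  obtain ⟨hy1, hy2⟩ := mem_inf.1 hy
  obtain ⟨m, hm, n, hn, rfl⟩ := Comp.exists_mul_of_mem_sup (inf_le_left.trans hMn : N ≤ _) hy1
  have hnC : n ∈ centralizer (B : Set G) := map_subtype_le _ (mem_inf.1 hn).2
  refine mul_mem (hMB (mem_inf.2 ⟨hm, ?_⟩)) (mem_inf.1 hn).2
  have := mul_mem hy2 (inv_mem hnC)
  rwa [mul_inv_cancel_right] at this

theorem part_le (B : Subgroup G) {a : G} (hBC : B ≤ centralizer ({a} : Set G)) :
    part B a ≤ Cfsg.centralizerPPrimeCore 2 a :=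
  sup_le (Comp.commutator_le_of_le_normalizer
    (hBC.trans (Comp.centralizer_le_normalizer_centralizerPPrimeCore a))) inf_le_left

theorem Pair.le_normalizer_part (h : Pair B B') {a : G} (ha : a ∈ B ⊔ B') :
    B ⊔ B' ≤ normalizer ((part B a : Subgroup G) : Set G) := by
  intro x hx
  have h1 : x ∈ normalizer ((Cfsg.centralizerPPrimeCore 2 a : Subgroup G) : Set G) :=
    Comp.centralizer_le_normalizer_centralizerPPrimeCore a (h.le_centralizer ha hx)
  have h2 : B.map (MulAut.conj x).toMonoidHom = B :=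
    Comp.map_conj_eq_iff.2 (h.sup_le_normalizer hx)
  have h3 : x ∈ normalizer ((coreCent B : Subgroup G) : Set G) :=
    le_normalizer_coreCent B (Comp.le_normalizer_centralizer le_rfl
      (h.sup_le_normalizer hx))
  rw [← Comp.map_conj_eq_iff, part, Subgroup.map_sup, Subgroup.map_commutator, h2,
    Comp.map_conj_eq_iff.2 h1, Comp.map_conj_eq_iff.2 (Comp.le_normalizer_inf
      (M := normalizer ((Cfsg.centralizerPPrimeCore 2 a : Subgroup G) : Set G) ⊓
        normalizer ((coreCent B : Subgroup G) : Set G)) inf_le_left inf_le_right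
      (mem_inf.2 ⟨h1, h3⟩))]

/-- The functor of a core-separated pair is a signalizer functor. -/
theorem isSignalizerFunctor (A₁ A₂ : Subgroup G) (hcs : Cfsg.IsCoreSeparated A₁ A₂) :
    Cfsg.IsSignalizerFunctor 2 (A₁ ⊔ A₂) (fun a => part A₁ a ⊓ part A₂ a) := by
  set A := A₁ ⊔ A₂
  obtain ⟨hA₁, hA₂, hc₁, hc₂, -, hdis, hcomm, -⟩ := id hcs
  have hn : A₂ ≤ normalizer (A₁ : Set G) := by
    refine le_trans ?_ (centralizer_le_normalizer _)
    exact fun y hy => mem_centralizer_iff.2 fun x hx => hcomm x hx y hy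
  have hAc : IsMulCommutative ↥A := ⟨⟨fun x y => Subtype.ext (by
    obtain ⟨p, hp, q, hq, hx⟩ := Comp.exists_mul_of_mem_sup hn x.2
    obtain ⟨r, hr, s, hs, hy⟩ := Comp.exists_mul_of_mem_sup hn y.2
    show (x : G) * y = y * x
    rw [← hx, ← hy]
    have e1 : Commute p r := congrArg Subtype.val (hA₁.1.is_comm.comm ⟨p, hp⟩ ⟨r, hr⟩)
    have e2 : Commute q s := congrArg Subtype.val (hA₂.1.is_comm.comm ⟨q, hq⟩ ⟨s, hs⟩)
    have e3 : Commute p s := hcomm p hp s hs
    have e4 : Commute q r := (hcomm r hr q hq).symm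
    exact ((e1.mul_right e3).mul_left (e4.mul_right e2)).eq)⟩⟩
  have hsq : ∀ a ∈ A, a ^ 2 = 1 := fun a ha => by
    obtain ⟨p, hp, q, hq, rfl⟩ := Comp.exists_mul_of_mem_sup hn ha
    have e : Commute p q := hcomm p hp q hq
    rw [e.mul_pow, hA₁.2 p hp, hA₂.2 q hq, mul_one]
  have hP₁ : Pair A₁ A₂ := ⟨fun a ha ha1 L hL => component_side hcs ha ha1
    (fun x hx => mem_centralizer_singleton_iff.2 (congrArg Subtype.val
      (hAc.is_comm.comm (⟨x, mem_sup_left hx⟩ : ↥A) ⟨a, ha⟩)))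
    (fun x hx => mem_centralizer_singleton_iff.2 (congrArg Subtype.val
      (hAc.is_comm.comm (⟨x, mem_sup_right hx⟩ : ↥A) ⟨a, ha⟩))) hL, hAc, hsq, hc₁, hdis⟩
  have hP₂ : Pair A₂ A₁ := by
    have e : A₂ ⊔ A₁ = A := sup_comm _ _
    exact ⟨fun a ha ha1 L hL => (hP₁.sep a (e.le ha) ha1 L hL).symm, by rw [e]; exact hAc,
      fun a ha => hsq a (e.le ha), hc₂,
      by rw [inf_comm]; exact hdis⟩
  have hle : ∀ a ∈ A, part A₁ a ⊓ part A₂ a ≤ Cfsg.centralizerPPrimeCore 2 a := fun a ha =>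
    inf_le_left.trans (part_le A₁ (le_sup_left.trans (hP₁.le_centralizer ha)))
  have hinv : ∀ a ∈ A, A ≤ normalizer ((part A₁ a ⊓ part A₂ a : Subgroup G) : Set G) := fun a ha =>
    Comp.le_normalizer_inf (hP₁.le_normalizer_part ha)
      ((sup_comm A₁ A₂).le.trans (hP₂.le_normalizer_part (by rwa [sup_comm])))
  refine ⟨fun a ha _ => (hle a ha).trans (Comp.centralizerPPrimeCore_le a), fun a ha _ hd => ?_,
    fun a ha _ b hb => Comp.conj_mem_of_le_normalizer (hinv a ha) b hb, ?_⟩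
  · exact Nat.prime_two.coprime_iff_not_dvd.1 (Comp.coprime_card_centralizerPPrimeCore a).symm
      (hd.trans (card_dvd_of_le (hle a ha)))
  intro a ha ha1 b hb hb1
  set D := (part A₁ a ⊓ part A₂ a) ⊓ centralizer ({b} : Set G)
  have hAC := hP₁.le_centralizer hb
  have hAD : A ≤ normalizer (D : Set G) :=
    Comp.le_normalizer_inf (hinv a ha) (hAC.trans le_normalizer)
  have hDa : D ≤ Cfsg.centralizerPPrimeCore 2 a ⊓ centralizer ({b} : Set G) :=
    inf_le_inf_right _ (hle a ha)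
  have hDc : (Nat.card D).Coprime 2 :=
    (Comp.coprime_card_centralizerPPrimeCore a).coprime_dvd_left (card_dvd_of_le (hDa.trans inf_le_left))
  have hsplit : ∀ B B' : Subgroup G, Pair B B' → B ≤ A → D ≤ part B a → a ∈ B ⊔ B' →
      D = ⁅D, B⁆ ⊔ (D ⊓ centralizer (B : Set G)) ∧ D ⊓ centralizer (B : Set G) ≤ coreCent B := by
    intro B B' hP hBA hDp haB
    haveI := (Comp.isPGroup_of_elemAb hP.elemAb).isNilpotent
    refine ⟨(Coprime.commutator_sup_centralizer (hBA.trans hAD)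
      (Comp.coprime_card_elemAb hP.elemAb (Nat.prime_two.coprime_iff_not_dvd.1 hDc.symm))
      (Or.inl inferInstance)).symm, ?_⟩
    exact (inf_le_inf_right _ hDp).trans (hP.inf_centralizer_le haB ha1)
  have hDp₁ : D ≤ part A₁ a := inf_le_left.trans inf_le_left
  have hDp₂ : D ≤ part A₂ a := inf_le_left.trans inf_le_right
  have hs₁ := hsplit A₁ A₂ hP₁ le_sup_left hDp₁ ha
  have hs₂ := hsplit A₂ A₁ hP₂ le_sup_right hDp₂ (by rwa [sup_comm])
  -- first step: `D ≤ O(C(b))`
  have hDb : D ≤ Cfsg.centralizerPPrimeCore 2 b := by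
    refine le_core_of_img_eq_bot inf_le_right ?_
    set C := centralizer ({b} : Set G)
    haveI := Cfsg.pPrimeCore_normal 2 ↥C
    set q := Comp.toModCore 2 ↥C
    have haC : a ∈ C := hAC ha
    have ha2 := hP₁.orderOf_eq ha ha1
    by_contra hne
    set ā := q ⟨a, haC⟩ with hā
    have hā2 : orderOf ā = 2 := by
      refine orderOf_eq_prime ?_ ?_
      · rw [hā, ← map_pow, show (⟨a, haC⟩ : ↥C) ^ 2 = 1 from Subtype.ext (hsq a ha), map_one]
      · intro e
        have hmem : (⟨a, haC⟩ : ↥C) ∈ Cfsg.pPrimeCore 2 ↥C := (QuotientGroup.eq_one_iff _).1 e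
        have hd := orderOf_dvd_natCard (⟨_, hmem⟩ : ↥(Cfsg.pPrimeCore 2 ↥C))
        rw [orderOf_mk, orderOf_mk, ha2] at hd
        exact Nat.prime_two.coprime_iff_not_dvd.1 (Comp.coprime_card_pPrimeCore 2 ↥C).symm hd
    have hxp := Comp.isPGroup_zpowers_of_orderOf (p := 2) (k := 1) (hā2.trans (pow_one 2).symm)
    have hO := Comp.pPrimeCore_quotient_eq_bot 2 ↥C
    have hDle : img b D ≤ Cfsg.centralizerPPrimeCore 2 ā :=
      (img_mono b hDa).trans (img_core_le (c := b) haC ha2)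
    obtain ⟨L, hL, hYL⟩ := Comp.exists_component_not_le_centralizer hxp hO hDle hne
    apply hYL
    have hDN : img b D ≤ normalizer (L : Set _) :=
      hDle.trans (Comp.centralizerPPrimeCore_le_normalizer_component hxp hO hL)
    have key : ∀ B B' : Subgroup G, Pair B B' → B ≤ A →
        img b B ≤ centralizer (L : Set (↥C ⧸ Cfsg.pPrimeCore 2 ↥C)) →
        (D = ⁅D, B⁆ ⊔ (D ⊓ centralizer (B : Set G)) ∧ D ⊓ centralizer (B : Set G) ≤ coreCent B) →
        img b D ≤ centralizer (L : Set (↥C ⧸ Cfsg.pPrimeCore 2 ↥C)) := by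
      intro B B' hP hBA hBL hs
      have hBC : B ≤ C := hBA.trans hAC
      rw [img, map_le_iff_le_comap]
      intro w hw
      suffices hw' : (w : G) ∈
          ((centralizer (L : Set (↥C ⧸ Cfsg.pPrimeCore 2 ↥C))).comap q).map C.subtype by
        obtain ⟨w', hw', e⟩ := hw'
        rwa [show w' = w from Subtype.ext e] at hw'
      refine (hs.1.le.trans (sup_le (commutator_le.2 fun u hu x hx => ?_) fun y hy => ?_)) hw
      · refine ⟨⁅(⟨u, hu.2⟩ : ↥C), (⟨x, hBC hx⟩ : ↥C)⁆, ?_, rfl⟩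
        rw [SetLike.mem_coe, mem_comap, map_commutatorElement]
        exact commutatorElement_mem_centralizer (hDN (⟨⟨u, hu.2⟩, hu, rfl⟩ : q ⟨u, hu.2⟩ ∈ img b D)) (hBL ⟨_, hx, rfl⟩)
      · obtain ⟨hyD, hyB⟩ := mem_inf.1 hy
        have hyC : y ∈ C := hyD.2
        refine ⟨⟨y, hyC⟩, ?_, rfl⟩
        rw [SetLike.mem_coe, mem_comap]
        set K := coreCent B ⊓ C
        have hyK : q ⟨y, hyC⟩ ∈ img b K := ⟨⟨y, hyC⟩, mem_inf.2 ⟨hs.2 hy, hyC⟩, rfl⟩
        have hLK : L ≤ normalizer ((img b K : Subgroup _) : Set _) := by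
          intro l hl
          obtain ⟨g, rfl⟩ := Comp.toModCore_surjective (p := 2) l
          obtain ⟨n, hn, hgn⟩ := exists_lift_centralizer (X := ↥C) (A := B.subgroupOf C)
            (N := Cfsg.pPrimeCore 2 ↥C)
            ((Comp.isPGroup_of_elemAb hP.elemAb).of_equiv (subgroupOfEquivOfLe hBC).symm)
            (Comp.coprime_card_pPrimeCore 2 _) (g := g) (by
              intro x hx
              rw [← QuotientGroup.eq_one_iff]
              show q (g⁻¹ * x * g * x⁻¹) = 1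
              have hc : Commute (q g) (q x) := mem_centralizer_iff.1 (hBL ⟨x, hx, rfl⟩) _ hl
              rw [map_mul, map_mul, map_mul, map_inv, map_inv, mul_assoc (q g)⁻¹,
                ← hc.eq, inv_mul_cancel_left, mul_inv_cancel])
          have hq : q g = q (g * n) := by
            rw [map_mul, show q n = 1 from (QuotientGroup.eq_one_iff n).2 hn, mul_one]
          have hgB : ((g * n : ↥C) : G) ∈ centralizer (B : Set G) := mem_centralizer_iff.2 fun x hx =>
            congrArg Subtype.val (mem_centralizer_iff.1 hgn ⟨x, hBC hx⟩ hx)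
          have hN : ((g * n : ↥C) : G) ∈ normalizer ((K : Subgroup G) : Set G) :=
            Comp.le_normalizer_inf (M := centralizer (B : Set G) ⊓ C)
              (inf_le_left.trans (le_normalizer.trans (le_normalizer_coreCent B)))
              (inf_le_right.trans le_normalizer) (mem_inf.2 ⟨hgB, (g * n).2⟩)
          rw [hq]
          refine le_normalizer_map q ⟨g * n, ?_, rfl⟩
          rw [SetLike.mem_coe, mem_normalizer_iff]
          intro z
          simp only [mem_subgroupOf, Subgroup.coe_mul, InvMemClass.coe_inv]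
          exact mem_normalizer_iff.1 hN z
        set T := L ⊓ img b K
        have hTc : (Nat.card T).Coprime 2 := (coprime_card_img
          ((coprime_card_coreCent B).coprime_dvd_left (card_dvd_of_le inf_le_left))
          inf_le_right).coprime_dvd_left (card_dvd_of_le inf_le_right)
        haveI : (T.subgroupOf L).Normal := normal_subgroupOf_of_le_normalizer
          (Comp.le_normalizer_inf le_normalizer hLK)
        have hTcen : T ≤ centralizer (L : Set _) := by
          rcases Comp.normal_eq_top_or_le_center hL.2 (T.subgroupOf L) with htop | hcen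
          · exact absurd ((Comp.dvd_card_of_isComponent hO hL).trans
              (card_dvd_of_le (subgroupOf_eq_top.1 htop)))
              (Nat.prime_two.coprime_iff_not_dvd.1 hTc.symm)
          · intro t ht
            exact mem_centralizer_iff.2 fun l hl => congrArg Subtype.val
              (mem_center_iff.1 (hcen (x := ⟨t, ht.1⟩) ht) ⟨l, hl⟩)
        have hyN : q ⟨y, hyC⟩ ∈ normalizer (L : Set _) := hDN ⟨⟨y, hyC⟩, hyD, rfl⟩
        refine Comp.mem_centralizer_component hL.2 hyN fun l hl => hTcen (mem_inf.2 ⟨?_, ?_⟩)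
        · rw [commutatorElement_def]
          exact mul_mem ((mem_normalizer_iff.1 hyN l).1 hl) (inv_mem hl)
        · rw [commutatorElement_def, mul_assoc, mul_assoc, ← mul_assoc l]
          exact mul_mem hyK ((mem_normalizer_iff.1 (hLK hl) _).1 (inv_mem hyK))
    rcases hP₁.sep b hb hb1 L hL with hB | hB
    · exact key A₁ A₂ hP₁ le_sup_left hB hs₁
    · exact key A₂ A₁ hP₂ le_sup_right hB hs₂
  -- second step
  refine le_inf ?_ ?_
  · refine hs₁.1.le.trans ?_
    exact sup_le_sup (commutator_mono hDb le_rfl) (le_inf (inf_le_left.trans hDb) hs₁.2)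
  · refine hs₂.1.le.trans ?_
    exact sup_le_sup (commutator_mono hDb le_rfl) (le_inf (inf_le_left.trans hDb) hs₂.2)

end CfsgLib.InvChar.CoreSep
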