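import Cfsg.Agent.Lib.InvChar.CommutingPairs
import Cfsg.Agent.Lib.InvChar.CoreSeparated

/-!
Goldschmidt's commutation theorem: the simple case, by the signalizer functor of core-separated
four-groups, and the theorem itself (given the solvable signalizer functor theorem).
-/

set_option autoImplicit false
set_option linter.style.haveILetI false
set_option linter.unusedSectionVars false

namespace CfsgLib.InvChar.ComClosed

open Subgroup Invol
open scoped commutatorElement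

universe u

local instance : Fact (Nat.Prime 2) := ⟨Nat.prime_two⟩

variable {G : Type u} [Group G] [Finite G] {S : Sylow 2 G} {S₁ S₂ : Subgroup G}

/-- The solvable signalizer functor theorem at the prime two. -/
def SignalizerTwo (G : Type u) [Group G] [Finite G] : Prop :=
  ∀ (A : Subgroup G), (∀ a ∈ A, ∀ b ∈ A, a * b = b * a) → (∀ a ∈ A, a ^ 2 = 1) →
    2 ^ 3 ≤ Nat.card A → ∀ θ : G → Subgroup G,
    (∀ a ∈ A, a ≠ 1 → θ a ≤ centralizer {a}) → (∀ a ∈ A, a ≠ 1 → ¬ 2 ∣ Nat.card (θ a)) →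
    (∀ a ∈ A, a ≠ 1 → ∀ b ∈ A, ∀ x ∈ θ a, b * x * b⁻¹ ∈ θ a) →
    (∀ a ∈ A, a ≠ 1 → Group.IsSolvable (θ a)) →
    (∀ a ∈ A, a ≠ 1 → ∀ b ∈ A, b ≠ 1 → θ a ⊓ centralizer {b} ≤ θ b) →
    ¬ 2 ∣ Nat.card ↥(⨆ a : {a : G // a ∈ A ∧ a ≠ 1}, θ a) ∧
      ∀ a ∈ A, a ≠ 1 → (⨆ b : {a : G // a ∈ A ∧ a ≠ 1}, θ b) ⊓ centralizer {a} = θ a

/-- The four-group generated by two commuting involutions. -/
theorem four_spec {x y : G} (hx : orderOf x = 2) (hy : orderOf y = 2) (hne : x ≠ y)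
    (hc : Commute x y) :
    Cfsg.IsElementaryAbelian 2 (closure ({x, y} : Set G)) ∧
      Nat.card ↥(closure ({x, y} : Set G)) = 4 := by
  have hxy2 : (x * y) ^ 2 = 1 := by
    rw [hc.mul_pow, pow_two, pow_two, invol_mul_self hx, invol_mul_self hy, one_mul]
  set V := closure ({x, y} : Set G)
  have hmem : (V : Set G) = {1, x, y, x * y} := by
    ext v
    constructor
    · intro hv
      obtain ⟨i, hi⟩ := (mem_closure_pair hx hy).1 hv
      have hi' : (x * y) ^ i = 1 ∨ (x * y) ^ i = x * y := by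
        obtain ⟨j, rfl⟩ | ⟨j, rfl⟩ := Int.even_or_odd i
        · left; rw [← two_mul, zpow_mul, zpow_two, ← pow_two, hxy2, one_zpow]
        · right; rw [zpow_add, zpow_mul, zpow_two, ← pow_two, hxy2, one_zpow, one_mul, zpow_one]
      rcases hi with rfl | rfl <;> rcases hi' with e | e <;> rw [e]
      · simp
      · simp
      · simp
      · rw [hc.eq, mul_assoc, invol_mul_self hx, mul_one]; simp
    · rintro (rfl | rfl | rfl | rfl)
      exacts [one_mem V, subset_closure (by simp), subset_closure (by simp),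
        mul_mem (subset_closure (by simp)) (subset_closure (by simp))]
  have h1 : closure ({x, y} : Set G) ≤ centralizer ({x, y} : Set G) := by
    refine (closure_le _).2 fun v hv => mem_centralizer_iff.2 fun w hw => ?_
    rcases hv with rfl | rfl <;> rcases hw with rfl | rfl
    exacts [rfl, hc.symm.eq, hc.eq, rfl]
  have hcen : V ≤ centralizer ((V : Subgroup G) : Set G) :=
    (closure_le _).2 fun v hv => mem_centralizer_iff.2 fun w hw =>
      (mem_centralizer_iff.1 (h1 hw) v hv).symm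
  refine ⟨⟨⟨⟨fun v w => Subtype.ext (mem_centralizer_iff.1 (hcen w.2) v v.2)⟩⟩, fun v hv => ?_⟩, ?_⟩
  · have : v ∈ (V : Set G) := hv
    rw [hmem] at this
    rcases this with rfl | rfl | rfl | rfl
    · exact one_pow 2
    · rw [pow_two, invol_mul_self hx]
    · rw [pow_two, invol_mul_self hy]
    · exact hxy2
  · show Nat.card (V : Set G) = 4
    rw [hmem, Nat.card_coe_set_eq]
    have n1 : x * y ≠ 1 := fun e => hne (by rw [mul_eq_one_iff_eq_inv.1 e, invol_inv hy])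
    have n2 : x * y ≠ x := fun e => invol_ne_one hy (mul_eq_left.1 e)
    have n3 : x * y ≠ y := fun e => invol_ne_one hx (mul_eq_right.1 e)
    rw [Set.ncard_insert_of_notMem (by
        simp [(invol_ne_one hx).symm, (invol_ne_one hy).symm, n1.symm]),
      Set.ncard_insert_of_notMem (by simp [hne, n2.symm]),
      Set.ncard_insert_of_notMem (by simp [n3.symm]), Set.ncard_singleton]

/-- Four-groups in simultaneous conjugates of the two subgroups. -/
structure IsFrame (S₁ S₂ A₁ A₂ : Subgroup G) : Prop where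
  el₁ : Cfsg.IsElementaryAbelian 2 A₁
  el₂ : Cfsg.IsElementaryAbelian 2 A₂
  card₁ : Nat.card A₁ = 4
  card₂ : Nat.card A₂ = 4
  conj : ∃ g : G, (∀ x ∈ A₁, g * x * g⁻¹ ∈ S₁) ∧ ∀ x ∈ A₂, g * x * g⁻¹ ∈ S₂

theorem mem_four {A V : Subgroup G} (g : G) (h : V ≤ A.comap (MulAut.conj g).toMonoidHom) :
    ∀ x ∈ V, g * x * g⁻¹ ∈ A := fun x hx => by simpa using h hx

/-- A four-group through a given involution inside a conjugate of a strongly closed subgroup. -/
theorem exists_four {A : Subgroup G} (hA : Cfsg.IsStronglyClosed A (S : Subgroup G))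
    (hns : ∀ u : G, ¬ Cfsg.IsIsolatedInvolution u) {g a : G} (hao : orderOf a = 2)
    (ha : g * a * g⁻¹ ∈ A) :
    ∃ V : Subgroup G, Cfsg.IsElementaryAbelian 2 V ∧ Nat.card V = 4 ∧ a ∈ V ∧
      ∀ x ∈ V, g * x * g⁻¹ ∈ A := by
  obtain ⟨u, hu, huo, hune, huc⟩ := exists_partner hA hns ha (by rw [orderOf_conj_eq, hao])
  have hc : Commute a (g⁻¹ * u * g) := by
    simpa [mul_assoc] using huc.map (MulAut.conj g⁻¹).toMonoidHom
  have hne : a ≠ g⁻¹ * u * g := fun e => hune (by rw [e]; group)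
  obtain ⟨h1, h2⟩ := four_spec hao ((orderOf_conj_inv_eq g u).trans huo) hne hc
  refine ⟨_, h1, h2, subset_closure (by simp), mem_four g ((closure_le _).2 ?_)⟩
  rintro v (rfl | rfl)
  · simpa using ha
  · simpa [mul_assoc] using hu

section Frame

variable {A₁ A₂ : Subgroup G}

theorem frame_comm (h : CPair S S₁ S₂) (hF : IsFrame S₁ S₂ A₁ A₂) :
    ∀ x ∈ A₁, ∀ y ∈ A₂, x * y = y * x := by
  intro x hx y hy
  obtain ⟨g, h1, h2⟩ := hF.conj
  have := (show Commute (g * x * g⁻¹) (g * y * g⁻¹) from h.comm _ (h1 x hx) _ (h2 y hy)).map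
    (MulAut.conj g⁻¹).toMonoidHom
  simp [mul_assoc] at this
  exact this.eq

theorem frame_disj (h : CPair S S₁ S₂) (hF : IsFrame S₁ S₂ A₁ A₂) : A₁ ⊓ A₂ = ⊥ := by
  refine (eq_bot_iff_forall _).2 fun x hx => ?_
  obtain ⟨g, h1, h2⟩ := hF.conj
  exact conj_eq_one_iff.1 (mem_bot.1 (h.disj ▸ mem_inf.2 ⟨h1 x hx.1, h2 x hx.2⟩))

theorem frame_invols₁ (hF : IsFrame S₁ S₂ A₁ A₂) {x : G} (hx : x ∈ A₁) (h1 : x ≠ 1) :
    x ∈ invols S₁ :=
  ⟨orderOf_eq_prime (hF.el₁.2 x hx) h1, hF.conj.choose, hF.conj.choose_spec.1 x hx⟩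

theorem frame_invols₂ (hF : IsFrame S₁ S₂ A₁ A₂) {x : G} (hx : x ∈ A₂) (h1 : x ≠ 1) :
    x ∈ invols S₂ :=
  ⟨orderOf_eq_prime (hF.el₂.2 x hx) h1, hF.conj.choose, hF.conj.choose_spec.2 x hx⟩

theorem frame_sup (h : CPair S S₁ S₂) (hF : IsFrame S₁ S₂ A₁ A₂) :
    (∀ a ∈ A₁ ⊔ A₂, ∀ b ∈ A₁ ⊔ A₂, a * b = b * a) ∧ (∀ a ∈ A₁ ⊔ A₂, a ^ 2 = 1) ∧
      2 ^ 3 ≤ Nat.card ↥(A₁ ⊔ A₂) := by
  have hn : A₂ ≤ normalizer (A₁ : Set G) := le_trans
    (fun y hy => mem_centralizer_iff.2 fun x hx => frame_comm h hF x hx y hy)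
    (centralizer_le_normalizer _)
  refine ⟨fun a ha b hb => ?_, fun a ha => ?_, ?_⟩
  · obtain ⟨p, hp, q, hq, rfl⟩ := Comp.exists_mul_of_mem_sup hn ha
    obtain ⟨r, hr, s, hs, rfl⟩ := Comp.exists_mul_of_mem_sup hn hb
    have e1 : Commute p r := congrArg Subtype.val (hF.el₁.1.is_comm.comm ⟨p, hp⟩ ⟨r, hr⟩)
    have e2 : Commute q s := congrArg Subtype.val (hF.el₂.1.is_comm.comm ⟨q, hq⟩ ⟨s, hs⟩)
    have e3 : Commute p s := frame_comm h hF p hp s hs
    have e4 : Commute q r := (frame_comm h hF r hr q hq).symm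
    exact ((e1.mul_right e3).mul_left (e4.mul_right e2)).eq
  · obtain ⟨p, hp, q, hq, rfl⟩ := Comp.exists_mul_of_mem_sup hn ha
    rw [(show Commute p q from frame_comm h hF p hp q hq).mul_pow, hF.el₁.2 p hp, hF.el₂.2 q hq,
      one_mul]
  · refine le_trans (by norm_num : 2 ^ 3 ≤ 4 * 4) ?_
    rw [← hF.card₁]
    nth_rewrite 2 [show Nat.card A₁ = Nat.card A₂ from hF.card₁.trans hF.card₂.symm]
    rw [← Nat.card_prod]
    refine Nat.card_le_card_of_injective
      (fun p : A₁ × A₂ => (⟨(p.1 : G) * p.2, mul_mem_sup p.1.2 p.2.2⟩ : ↥(A₁ ⊔ A₂))) ?_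
    rintro ⟨p, q⟩ ⟨p', q'⟩ e
    have e' : (p : G) * q = p' * q' := congrArg Subtype.val e
    have h2 : (p' : G)⁻¹ * p ∈ A₁ ⊓ A₂ := mem_inf.2 ⟨mul_mem (inv_mem p'.2) p.2, by
      rw [show (p' : G)⁻¹ * p = q' * (q : G)⁻¹ by
        rw [eq_mul_inv_iff_mul_eq, mul_assoc, e', inv_mul_cancel_left]]
      exact mul_mem q'.2 (inv_mem q.2)⟩
    rw [frame_disj h hF, mem_bot, inv_mul_eq_one] at h2
    have : p' = p := Subtype.ext h2
    subst this
    exact Prod.ext rfl (Subtype.ext (mul_left_cancel e'))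

/-- Frames of a simple group are core-separated. -/
theorem frame_coreSeparated [IsSimpleGroup G] (hG : ¬ IsMulCommutative G)
    (hrec : ∀ H : Subgroup G, H ≠ ⊤ → Commutes ↥H) (h : CPair S S₁ S₂)
    (hF : IsFrame S₁ S₂ A₁ A₂) : Cfsg.IsCoreSeparated A₁ A₂ := by
  obtain ⟨hcomm, hsq, -⟩ := frame_sup h hF
  refine ⟨hF.el₁, hF.el₂, hF.card₁, hF.card₂, fun e => ?_, frame_disj h hF, frame_comm h hF,
    fun a ha ha1 E hE => ?_⟩
  · have h1 := frame_disj h hF
    rw [← e, inf_idem] at h1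
    have h2 := hF.card₁
    rw [h1, card_bot] at h2
    exact absurd h2 (by norm_num)
  let C := centralizer ({a} : Set G)
  have hC : C ≠ ⊤ := fun e => by
    rcases (inferInstance : (center G).Normal).eq_bot_or_eq_top with hb | ht
    · refine ha1 (mem_bot.1 (hb ▸ mem_center_iff.2 fun g => ?_))
      exact mem_centralizer_singleton_iff.1 (e ▸ mem_top g : g ∈ C)
    · exact hG ⟨⟨fun x y => (mem_center_iff.1 (ht ▸ mem_top x) y).symm⟩⟩
  have hAC : A₁ ⊔ A₂ ≤ C := fun x hx => mem_centralizer_singleton_iff.2 (hcomm x hx a ha)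
  obtain ⟨R, hR⟩ := (IsPGroup.comap_subtype (K := C) (H := A₁ ⊔ A₂)
    (fun x => ⟨1, Subtype.ext (by simpa using hsq x x.2)⟩)).exists_le_sylow
  obtain ⟨T, hT⟩ := (R.2.map C.subtype).exists_le_sylow
  obtain ⟨k, rfl⟩ := MulAction.exists_smul_eq G S T
  have hpair := (h.conj k).restrict C R hT
  have hin : ∀ A B : Subgroup G, Cfsg.IsStronglyClosed B (S : Subgroup G) → A ≤ A₁ ⊔ A₂ →
      (∀ x ∈ A, x ≠ 1 → x ∈ invols B) →
      A.subgroupOf C ≤ (B.map (MulAut.conj k).toMonoidHom).subgroupOf C ⊓ (R : Subgroup C) := by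
    intro A B hB hA hinv x hx
    have hxR : x ∈ (R : Subgroup C) := hR (hA hx)
    refine mem_inf.2 ⟨?_, hxR⟩
    by_cases hx1 : (x : G) = 1
    · rw [mem_subgroupOf, hx1]; exact one_mem _
    have hxS := mem_smul_sylow.1 (hT ⟨x, hxR, rfl⟩)
    have := mem_of_invols hB (g := k⁻¹) (hinv _ hx hx1) (by rwa [inv_inv])
    rw [inv_inv] at this
    exact ⟨_, this, by simp [mul_assoc]⟩
  have h1 := hin A₁ S₁ h.cl₁ le_sup_left fun x hx => frame_invols₁ hF hx
  have h2 := hin A₂ S₂ h.cl₂ le_sup_right fun x hx => frame_invols₂ hF hx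
  set q := Comp.toModCore 2 ↥C
  set M₁ := normalClosure (((S₁.map (MulAut.conj k).toMonoidHom).subgroupOf C ⊓ R : Subgroup C) : Set C)
  set M₂ := normalClosure (((S₂.map (MulAut.conj k).toMonoidHom).subgroupOf C ⊓ R : Subgroup C) : Set C)
  have hM : ⁅M₁, M₂⁆ ≤ Cfsg.pPrimeCore 2 ↥C := hrec C hC R _ _ hpair
  have hM' : M₁.map q ≤ centralizer ((M₂.map q : Subgroup _) : Set _) := by
    rw [← commutator_eq_bot_iff_le_centralizer, ← map_commutator, Subgroup.map_eq_bot_iff,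
      Comp.ker_toModCore]
    exact hM
  have hL : Cfsg.IsComponent (E.map q) := hE.2.1
  have key : ∀ B : Subgroup G, B ≤ C →
      (B.subgroupOf C).map q ≤ centralizer ((E.map q : Subgroup _) : Set _) →
      ⁅E.map C.subtype, B⁆ ≤ Cfsg.centralizerPPrimeCore 2 a := by
    intro B hB hcen
    refine commutator_le.2 ?_
    rintro _ ⟨e, he, rfl⟩ b hb
    refine ⟨⁅e, ⟨b, hB hb⟩⁆, ?_, rfl⟩
    rw [SetLike.mem_coe, ← Comp.ker_toModCore (p := 2) (G := ↥C), MonoidHom.mem_ker,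
      map_commutatorElement, commutatorElement_eq_one_iff_mul_comm]
    exact mem_centralizer_iff.1 (hcen ⟨⟨b, hB hb⟩, hb, rfl⟩) _ ⟨e, he, rfl⟩
  haveI : (M₁.map q).Normal := normalClosure_normal.map q Comp.toModCore_surjective
  rcases Comp.component_le_or_le_centralizer hL (inferInstance : (M₁.map q).Normal).isSubnormal
    with hle | hcen
  · refine Or.inr (key A₂ (le_sup_right.trans hAC) ?_)
    refine (Subgroup.map_mono (h2.trans ?_ : A₂.subgroupOf C ≤ M₂)).trans ?_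
    · exact fun x hx => subset_normalClosure hx
    · exact le_centralizer_iff.1 (hle.trans hM')
  · refine Or.inl (key A₁ (le_sup_left.trans hAC) ?_)
    refine (Subgroup.map_mono (h1.trans ?_ : A₁.subgroupOf C ≤ M₁)).trans ?_
    · exact fun x hx => subset_normalClosure hx
    · exact le_centralizer_iff.1 hcen

/-- The functor of a frame. -/
abbrev theta (A₁ A₂ : Subgroup G) (a : G) : Subgroup G :=
  CoreSep.part A₁ a ⊓ CoreSep.part A₂ a

/-- Its closure. -/
abbrev W (A₁ A₂ : Subgroup G) : Subgroup G :=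
  ⨆ a : {a : G // a ∈ A₁ ⊔ A₂ ∧ a ≠ 1}, theta A₁ A₂ a

/-- A subgroup of `O(C(a))` whose fixed points under `z ∈ B` lie in `O(C(z))` lies in `part B a`. -/
theorem le_part {B : Subgroup G} (hB : Cfsg.IsElementaryAbelian 2 B) {a z : G} (hz : z ∈ B)
    (hBa : B ≤ centralizer ({a} : Set G)) {X : Subgroup G}
    (hX : X ≤ Cfsg.centralizerPPrimeCore 2 a) (hzX : zpowers z ≤ normalizer (X : Set G))
    (hXz : X ⊓ centralizer ({z} : Set G) ≤ Cfsg.centralizerPPrimeCore 2 z) :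
    X ≤ CoreSep.part B a := by
  have hBz : B ≤ centralizer ({z} : Set G) := fun x hx =>
    mem_centralizer_singleton_iff.2 (congrArg Subtype.val (hB.1.is_comm.comm ⟨x, hx⟩ ⟨z, hz⟩))
  set U := Cfsg.centralizerPPrimeCore 2 a ⊓ Cfsg.centralizerPPrimeCore 2 z
  have hoddO := Comp.coprime_card_centralizerPPrimeCore (p := 2) a
  have hBU : B ≤ normalizer (U : Set G) := Comp.le_normalizer_inf
    (hBa.trans (Comp.centralizer_le_normalizer_centralizerPPrimeCore a))
    (hBz.trans (Comp.centralizer_le_normalizer_centralizerPPrimeCore z))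
  haveI := (Comp.isPGroup_of_elemAb hB).isNilpotent
  have hzB : zpowers z ≤ B := zpowers_le.2 hz
  have hcopX : (Nat.card (zpowers z)).Coprime (Nat.card X) :=
    Comp.coprime_card_elemAb (Comp.elemAb_mono hB hzB) (Nat.prime_two.coprime_iff_not_dvd.1
      (hoddO.coprime_dvd_left (card_dvd_of_le hX)).symm)
  have hcopU : (Nat.card B).Coprime (Nat.card U) :=
    Comp.coprime_card_elemAb hB (Nat.prime_two.coprime_iff_not_dvd.1
      (hoddO.coprime_dvd_left (card_dvd_of_le inf_le_left)).symm)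
  haveI := (Comp.isPGroup_of_elemAb (Comp.elemAb_mono hB hzB)).isNilpotent
  refine (Coprime.commutator_sup_centralizer hzX hcopX (Or.inl inferInstance)).ge.trans
    (sup_le ((commutator_mono hX hzB).trans le_sup_left) ?_)
  have hXU : X ⊓ centralizer ((zpowers z : Subgroup G) : Set G) ≤ U := by
    rw [Comp.centralizer_zpowers]
    exact le_inf (inf_le_left.trans hX) hXz
  refine hXU.trans ((Coprime.commutator_sup_centralizer hBU hcopU (Or.inl inferInstance)).ge.trans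
    (sup_le ((commutator_mono inf_le_left le_rfl).trans le_sup_left) ?_))
  refine le_trans ?_ le_sup_right
  exact le_inf (inf_le_left.trans inf_le_left)
    (le_trans (inf_le_inf_right _ inf_le_right) (CoreSep.core_inf_centralizer_le hz))

variable {A₁' A₂' : Subgroup G}

/-- Frames sharing an involution from each side have the same closure. -/
theorem W_le [IsSimpleGroup G] (hG : ¬ IsMulCommutative G)
    (hrec : ∀ H : Subgroup G, H ≠ ⊤ → Commutes ↥H) (hsft : SignalizerTwo G) (h : CPair S S₁ S₂)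
    (hF : IsFrame S₁ S₂ A₁ A₂) (hF' : IsFrame S₁ S₂ A₁' A₂') {a z : G} (ha : a ∈ A₁) (ha' : a ∈ A₁')
    (ha1 : a ≠ 1) (hz : z ∈ A₂) (hz' : z ∈ A₂') (hz1 : z ≠ 1) : W A₁' A₂' ≤ W A₁ A₂ := by
  obtain ⟨hcomm, hsq, h8⟩ := frame_sup h hF'
  obtain ⟨hcommA, -, -⟩ := frame_sup h hF
  obtain ⟨hθC, hθp, hθinv, hθbal⟩ :=
    CoreSep.isSignalizerFunctor A₁' A₂' (frame_coreSeparated hG hrec h hF')
  obtain ⟨hWodd, hWC⟩ := hsft (A₁' ⊔ A₂') hcomm hsq h8 (theta A₁' A₂') hθC hθp hθinv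
    (fun x hx hx1 => FT.odd_order_solvable (Nat.coprime_two_right.1
      (Nat.prime_two.coprime_iff_not_dvd.2 (hθp x hx hx1)).symm)) hθbal
  have haA' : a ∈ A₁' ⊔ A₂' := mem_sup_left ha'
  have hzA' : z ∈ A₁' ⊔ A₂' := mem_sup_right hz'
  have hne : a ≠ z := fun e => ha1 (mem_bot.1 (frame_disj h hF ▸ mem_inf.2 ⟨ha, e ▸ hz⟩))
  have hao : orderOf a = 2 := orderOf_eq_prime (hF.el₁.2 a ha) ha1
  have hzo : orderOf z = 2 := orderOf_eq_prime (hF.el₂.2 z hz) hz1
  have haz : Commute a z := hcomm a haA' z hzA'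
  have hw1 : a * z ≠ 1 := fun e => hne (by rw [mul_eq_one_iff_eq_inv.1 e, invol_inv hzo])
  have hwA' : a * z ∈ A₁' ⊔ A₂' := mul_mem haA' hzA'
  have hwA : a * z ∈ A₁ ⊔ A₂ := mul_mem_sup ha hz
  have hC : ∀ {B : Subgroup G} {x : G}, B ≤ A₁ ⊔ A₂ → x ∈ A₁ ⊔ A₂ → B ≤ centralizer ({x} : Set G) :=
    fun hB hx y hy => mem_centralizer_singleton_iff.2 (hcommA y (hB hy) _ hx)
  have hCB' : ∀ {B : Subgroup G} {x : G}, B ≤ A₁' ⊔ A₂' → x ∈ A₁' ⊔ A₂' →
      B ≤ centralizer ({x} : Set G) :=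
    fun hB hx y hy => mem_centralizer_singleton_iff.2 (hcomm y (hB hy) _ hx)
  have hθle : ∀ x ∈ A₁' ⊔ A₂', theta A₁' A₂' x ≤ Cfsg.centralizerPPrimeCore 2 x := fun x hx =>
    inf_le_left.trans (CoreSep.part_le A₁' (hCB' le_sup_left hx))
  have hnorm : ∀ x ∈ A₁' ⊔ A₂', x ≠ 1 → A₁' ⊔ A₂' ≤ normalizer ((theta A₁' A₂' x : Subgroup G) : Set G) :=
    fun x hx hx1 => Comp.le_normalizer_of_conj_mem fun b hb u hu => hθinv x hx hx1 b hb u hu
  -- the values at `a` and `z`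
  have hval : ∀ x y : G, x ∈ A₁' ⊔ A₂' → y ∈ A₁' ⊔ A₂' → x ≠ 1 → y ≠ 1 → x ∈ A₁ ⊔ A₂ →
      ∀ B B' : Subgroup G, B ≤ A₁ ⊔ A₂ → B' ≤ A₁ ⊔ A₂ → Cfsg.IsElementaryAbelian 2 B →
      Cfsg.IsElementaryAbelian 2 B' → x ∈ B → y ∈ B' →
      theta A₁' A₂' x ≤ CoreSep.part B x ⊓ CoreSep.part B' x := by
    intro x y hx hy hx1 hy1 hxA B B' hB hB' heB heB' hxB hyB'
    refine le_inf ?_ ?_
    · exact le_part heB hxB (hC hB hxA) (hθle x hx)
        (zpowers_le.2 (hnorm x hx hx1 hx)) (inf_le_left.trans (hθle x hx))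
    · exact le_part heB' hyB' (hC hB' hxA) (hθle x hx) (zpowers_le.2 (hnorm x hx hx1 hy))
        ((hθbal x hx hx1 y hy hy1).trans (hθle y hy))
  have hleW : ∀ x ∈ A₁ ⊔ A₂, x ≠ 1 → theta A₁ A₂ x ≤ W A₁ A₂ := fun x hx hx1 =>
    le_iSup (fun b : {b : G // b ∈ A₁ ⊔ A₂ ∧ b ≠ 1} => theta A₁ A₂ b) ⟨x, hx, hx1⟩
  have hva : theta A₁' A₂' a ≤ W A₁ A₂ := le_trans
    (hval a z haA' hzA' ha1 hz1 (mem_sup_left ha) A₁ A₂ le_sup_left le_sup_right hF.el₁ hF.el₂ ha hz)
    (hleW a (mem_sup_left ha) ha1)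
  have hvz : theta A₁' A₂' z ≤ W A₁ A₂ := by
    refine le_trans
      (hval z a hzA' haA' hz1 ha1 (mem_sup_right hz) A₂ A₁ le_sup_right le_sup_left hF.el₂ hF.el₁ hz ha)
      ?_
    rw [inf_comm]
    exact hleW z (mem_sup_right hz) hz1
  have hvw : theta A₁' A₂' (a * z) ≤ W A₁ A₂ := by
    set X := theta A₁' A₂' (a * z)
    have hXO := hθle (a * z) hwA'
    have hXodd : (Nat.card X).Coprime 2 :=
      (Comp.coprime_card_centralizerPPrimeCore (a * z)).coprime_dvd_left (card_dvd_of_le hXO)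
    have hzp : Cfsg.IsElementaryAbelian 2 (zpowers a) :=
      Comp.elemAb_mono hF.el₁ (zpowers_le.2 ha)
    haveI := (Comp.isPGroup_of_elemAb hzp).isNilpotent
    refine (Coprime.commutator_sup_centralizer (zpowers_le.2 (hnorm _ hwA' hw1 haA'))
      (Comp.coprime_card_elemAb hzp (Nat.prime_two.coprime_iff_not_dvd.1 hXodd.symm))
      (Or.inl inferInstance)).ge.trans (sup_le ?_ ?_)
    · refine le_trans ?_ (hleW _ hwA hw1)
      refine commutator_le.2 fun x hx v hv => ?_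
      obtain ⟨n, rfl⟩ := hv
      have hcase : a ^ n = 1 ∨ a ^ n = a := by
        obtain ⟨j, rfl⟩ | ⟨j, rfl⟩ := Int.even_or_odd n
        · left; rw [← two_mul, zpow_mul, zpow_two, invol_mul_self hao, one_zpow]
        · right; rw [zpow_add, zpow_mul, zpow_two, invol_mul_self hao, one_zpow, one_mul, zpow_one]
      show ⁅x, a ^ n⁆ ∈ _
      rcases hcase with e | e <;> rw [e]
      · rw [commutatorElement_one_right]; exact one_mem _
      have hxO := hXO hx
      refine mem_inf.2 ⟨mem_sup_left (commutator_mem_commutator hxO ha),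
        mem_sup_left (?_ : ⁅x, a⁆ ∈ ⁅Cfsg.centralizerPPrimeCore 2 (a * z), A₂⁆)⟩
      have hzmem := commutator_mem_commutator hxO hz
      have hzO : ⁅x, z⁆ ∈ Cfsg.centralizerPPrimeCore 2 (a * z) :=
        Comp.commutator_le_of_le_normalizer ((hC le_sup_right hwA).trans
          (Comp.centralizer_le_normalizer_centralizerPPrimeCore _)) hzmem
      have hxw : Commute x (a * z) :=
        mem_centralizer_singleton_iff.1 (Comp.centralizerPPrimeCore_le _ hxO)
      have hzw : Commute ⁅x, z⁆ (a * z) :=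
        mem_centralizer_singleton_iff.1 (Comp.centralizerPPrimeCore_le _ hzO)
      have e1 : ⁅x, a⁆ = a * z * ⁅x, z⁆ * (a * z)⁻¹ := by
        have ea : a = a * z * z := by rw [mul_assoc, invol_mul_self hzo, mul_one]
        conv_lhs => rw [ea]
        rw [commutatorElement_def, commutatorElement_def]
        calc x * (a * z * z) * x⁻¹ * (a * z * z)⁻¹
            = x * (a * z) * z * x⁻¹ * z⁻¹ * (a * z)⁻¹ := by group
          _ = a * z * x * z * x⁻¹ * z⁻¹ * (a * z)⁻¹ := by rw [hxw.eq]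
          _ = _ := by group
      rw [e1, ← hzw.eq, mul_inv_cancel_right]
      exact hzmem
    · rw [Comp.centralizer_zpowers]
      exact ((hθbal _ hwA' hw1 a haA' ha1).trans le_rfl).trans hva
  -- generation
  have hWn : A₁' ⊔ A₂' ≤ normalizer ((W A₁' A₂' : Subgroup G) : Set G) := by
    intro b hb
    rw [← Comp.map_conj_eq_iff, Subgroup.map_iSup]
    refine iSup_congr fun x => ?_
    exact Comp.map_conj_eq_iff.2 (hnorm x x.2.1 x.2.2 hb)
  refine le_of_four (Nat.coprime_two_right.1 (Nat.prime_two.coprime_iff_not_dvd.2 hWodd).symm)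
    hao hzo hne haz (hWn haA') (hWn hzA') ?_ ?_ ?_
  · exact (hWC a haA' ha1).le.trans hva
  · exact (hWC z hzA' hz1).le.trans hvz
  · exact (hWC _ hwA' hw1).le.trans hvw

end Frame

/-- The simple case of the commutation theorem. -/
theorem simple_false [IsSimpleGroup G] (hG : ¬ IsMulCommutative G)
    (hrec : ∀ H : Subgroup G, H ≠ ⊤ → Commutes ↥H) (hsft : SignalizerTwo G) (h : CPair S S₁ S₂)
    (h₁ : S₁ ≠ ⊥) (h₂ : S₂ ≠ ⊥) : False := by
  classical
  have hns : ∀ u : G, ¬ Cfsg.IsIsolatedInvolution u := fun u => not_isolated_of_simple hG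
  have hinv : ∀ A : Subgroup G, A ≤ (S : Subgroup G) → A ≠ ⊥ → ∃ x, x ∈ invols A := by
    intro A hA hne
    obtain ⟨j, hj⟩ := IsPGroup.iff_card.1 (S.2.to_le hA)
    have h1 := (one_lt_card_iff_ne_bot A).2 hne
    obtain ⟨x, hx, hxo⟩ := Invol.exists_invol_mem (H := A) (by
      rw [hj] at h1 ⊢
      rcases Nat.eq_zero_or_pos j with rfl | hj0
      · simp at h1
      · exact even_two.pow_of_ne_zero hj0.ne')
    exact ⟨x, invols_of_mem hx hxo⟩
  obtain ⟨x₁, hx₁⟩ := hinv S₁ h.cl₁.1 h₁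
  obtain ⟨x₂, hx₂⟩ := hinv S₂ h.cl₂.1 h₂
  -- frames through a pair
  have hframe : ∀ p : G × G, IsPair S₁ S₂ p →
      ∃ A : Subgroup G × Subgroup G, IsFrame S₁ S₂ A.1 A.2 ∧ p.1 ∈ A.1 ∧ p.2 ∈ A.2 := by
    intro p hp
    obtain ⟨g, hg⟩ := exists_conj_set S {p.1, p.2} (by
      rintro y (rfl | rfl)
      exacts [invols_sq hp.1, invols_sq hp.2.1]) (by
      rintro y (rfl | rfl) z (rfl | rfl)
      exacts [Commute.refl _, hp.2.2, hp.2.2.symm, Commute.refl _])
    obtain ⟨A, a1, a2, a3, a4⟩ := exists_four h.cl₁ hns hp.1.1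
      (mem_of_invols h.cl₁ hp.1 (hg p.1 (by simp)))
    obtain ⟨B, b1, b2, b3, b4⟩ := exists_four h.cl₂ hns hp.2.1.1
      (mem_of_invols h.cl₂ hp.2.1 (hg p.2 (by simp)))
    exact ⟨(A, B), ⟨a1, b1, a2, b2, g, a4, b4⟩, a3, b3⟩
  let Wp : G × G → Subgroup G := fun p =>
    if hp : IsPair S₁ S₂ p then W (hframe p hp).choose.1 (hframe p hp).choose.2 else ⊥
  have hWp : ∀ p A₁ A₂, IsPair S₁ S₂ p → IsFrame S₁ S₂ A₁ A₂ → p.1 ∈ A₁ → p.2 ∈ A₂ →
      Wp p = W A₁ A₂ := by
    intro p A₁ A₂ hp hF h1 h2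
    simp only [Wp, dif_pos hp]
    obtain ⟨hF', h1', h2'⟩ := (hframe p hp).choose_spec
    exact le_antisymm
      (W_le hG hrec hsft h hF hF' h1 h1' (invol_ne_one hp.1.1) h2 h2' (invol_ne_one hp.2.1.1))
      (W_le hG hrec hsft h hF' hF h1' h1 (invol_ne_one hp.1.1) h2' h2 (invol_ne_one hp.2.1.1))
  have hedge : ∀ p q, Adj₂ S₁ S₂ p q → Wp p = Wp q := by
    rintro p q ⟨hp, hq, hc⟩
    obtain ⟨g, hg⟩ := exists_conj_set S {p.1, p.2, q.1, q.2} (by
      rintro y (rfl | rfl | rfl | rfl)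
      exacts [invols_sq hp.1, invols_sq hp.2.1, invols_sq hq.1, invols_sq hq.2.1]) (by
      rcases hc with ⟨e, hc⟩ | ⟨e, hc⟩
      · have c1 : Commute p.1 q.2 := e ▸ hq.2.2
        rintro y (rfl | rfl | rfl | rfl) z (rfl | rfl | rfl | rfl)
        exacts [Commute.refl _, hp.2.2, e ▸ Commute.refl _, c1, hp.2.2.symm, Commute.refl _,
          e ▸ hp.2.2.symm, hc, e ▸ Commute.refl _, e ▸ hp.2.2, Commute.refl _, hq.2.2, c1.symm,
          hc.symm, hq.2.2.symm, Commute.refl _]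
      · have c1 : Commute q.1 p.2 := e ▸ hq.2.2
        rintro y (rfl | rfl | rfl | rfl) z (rfl | rfl | rfl | rfl)
        exacts [Commute.refl _, hp.2.2, hc, e ▸ hp.2.2, hp.2.2.symm, Commute.refl _, c1.symm,
          e ▸ Commute.refl _, hc.symm, c1, Commute.refl _, hq.2.2, e ▸ hp.2.2.symm,
          e ▸ Commute.refl _, hq.2.2.symm, Commute.refl _])
    have g1 := mem_of_invols h.cl₁ hp.1 (hg p.1 (by simp))
    have g2 := mem_of_invols h.cl₂ hp.2.1 (hg p.2 (by simp))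
    have g3 := mem_of_invols h.cl₁ hq.1 (hg q.1 (by simp))
    have g4 := mem_of_invols h.cl₂ hq.2.1 (hg q.2 (by simp))
    have hside : ∀ (A : Subgroup G), Cfsg.IsStronglyClosed A (S : Subgroup G) → ∀ x y : G,
        orderOf x = 2 → orderOf y = 2 → Commute x y → g * x * g⁻¹ ∈ A → g * y * g⁻¹ ∈ A →
        ∃ V : Subgroup G, Cfsg.IsElementaryAbelian 2 V ∧ Nat.card V = 4 ∧ x ∈ V ∧ y ∈ V ∧
          ∀ v ∈ V, g * v * g⁻¹ ∈ A := by
      intro A hA x y hx hy hxy hgx hgy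
      by_cases hne : x = y
      · obtain ⟨V, v1, v2, v3, v4⟩ := exists_four hA hns hx hgx
        exact ⟨V, v1, v2, v3, hne ▸ v3, v4⟩
      obtain ⟨v1, v2⟩ := four_spec hx hy hne hxy
      refine ⟨_, v1, v2, subset_closure (by simp), subset_closure (by simp),
        mem_four g ((closure_le _).2 ?_)⟩
      rintro v (rfl | rfl)
      · simpa using hgx
      · simpa using hgy
    have c1 : Commute p.1 q.1 := by
      rcases hc with ⟨e, -⟩ | ⟨-, hc⟩
      exacts [e ▸ Commute.refl _, hc]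
    have c2 : Commute p.2 q.2 := by
      rcases hc with ⟨-, hc⟩ | ⟨e, -⟩
      exacts [hc, e ▸ Commute.refl _]
    obtain ⟨A, a1, a2, a3, a4, a5⟩ := hside S₁ h.cl₁ _ _ hp.1.1 hq.1.1 c1 g1 g3
    obtain ⟨B, b1, b2, b3, b4, b5⟩ := hside S₂ h.cl₂ _ _ hp.2.1.1 hq.2.1.1 c2 g2 g4
    have hF : IsFrame S₁ S₂ A B := ⟨a1, b1, a2, b2, g, a5, b5⟩
    rw [hWp p A B hp hF a3 b3, hWp q A B hq hF a4 b4]
  have hconst : ∀ p q, IsPair S₁ S₂ p → IsPair S₁ S₂ q → Wp p = Wp q := by
    intro p q hp hq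
    have hr := h.connected₂ hns p q hp hq
    clear hp hq
    induction hr with
    | rel x y hxy => exact hedge x y hxy
    | refl => rfl
    | symm x y _ ih => exact ih.symm
    | trans x y z _ _ ih1 ih2 => exact ih1.trans ih2
  -- the commutators `[O(C(ab)), a]` generate a normal subgroup of odd order
  let gens : Set G :=
    {y | ∃ a b x, IsPair S₁ S₂ (a, b) ∧ x ∈ Cfsg.centralizerPPrimeCore 2 (a * b) ∧ y = ⁅x, a⁆}
  haveI hYn : (closure gens).Normal := ⟨fun n hn g => by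
    have hle : (closure gens).map (MulAut.conj g).toMonoidHom ≤ closure gens := by
      rw [MonoidHom.map_closure]
      refine closure_mono ?_
      rintro _ ⟨y, ⟨a, b, x, hp, hx, rfl⟩, rfl⟩
      refine ⟨g * a * g⁻¹, g * b * g⁻¹, g * x * g⁻¹, isPair_cj hp g, ?_, ?_⟩
      · rw [show g * a * g⁻¹ * (g * b * g⁻¹) = g * (a * b) * g⁻¹ by group]
        exact ConstrainedSignalizer.map_core_conj g (a * b) ⟨x, hx, rfl⟩
      · rw [map_commutatorElement]; rfl
    exact hle ⟨n, hn, rfl⟩⟩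
  have hone : ∀ a b x, IsPair S₁ S₂ (a, b) → x ∈ Cfsg.centralizerPPrimeCore 2 (a * b) →
      ⁅x, a⁆ = 1 := by
    by_cases hgen : ∀ p, ¬ IsPair S₁ S₂ p
    · exact fun a b x hp => absurd hp (hgen _)
    obtain ⟨p₀, hp₀⟩ := not_forall_not.1 hgen
    obtain ⟨hFrame₀, m1, m2⟩ := (hframe p₀ hp₀).choose_spec
    obtain ⟨hcomm, hsq, h8⟩ := frame_sup h hFrame₀
    obtain ⟨hθC, hθp, hθinv, hθbal⟩ :=
      CoreSep.isSignalizerFunctor _ _ (frame_coreSeparated hG hrec h hFrame₀)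
    obtain ⟨hWodd, -⟩ := hsft _ hcomm hsq h8 (theta _ _) hθC hθp hθinv
      (fun x hx hx1 => FT.odd_order_solvable (Nat.coprime_two_right.1
        (Nat.prime_two.coprime_iff_not_dvd.2 (hθp x hx hx1)).symm)) hθbal
    have hY : closure gens ≤ Wp p₀ := by
      refine (closure_le _).2 ?_
      rintro _ ⟨a, b, x, hp, hx, rfl⟩
      obtain ⟨⟨A, B⟩, hF, ha, hb⟩ := hframe _ hp
      rw [SetLike.mem_coe, hconst p₀ (a, b) hp₀ hp, hWp _ A B hp hF ha hb]
      have hab : Commute a b := hp.2.2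
      have hne : a * b ≠ 1 := invol_ne_one (h.orderOf_mul hp.1 hp.2.1 hab)
      refine le_iSup (fun y : {y : G // y ∈ A ⊔ B ∧ y ≠ 1} => theta A B y)
        ⟨a * b, mul_mem_sup ha hb, hne⟩ ?_
      refine mem_inf.2 ⟨mem_sup_left (commutator_mem_commutator hx ha),
        mem_sup_left (?_ : ⁅x, a⁆ ∈ ⁅Cfsg.centralizerPPrimeCore 2 (a * b), B⁆)⟩
      obtain ⟨hAB, -, -⟩ := frame_sup h hF
      have hzmem := commutator_mem_commutator hx hb
      have hzO : ⁅x, b⁆ ∈ Cfsg.centralizerPPrimeCore 2 (a * b) :=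
        Comp.commutator_le_of_le_normalizer (fun y hy =>
          Comp.centralizer_le_normalizer_centralizerPPrimeCore _ (mem_centralizer_singleton_iff.2
            (hAB y (mem_sup_right hy) _ (mul_mem_sup ha hb)))) hzmem
      have hxw : Commute x (a * b) :=
        mem_centralizer_singleton_iff.1 (Comp.centralizerPPrimeCore_le _ hx)
      have hzw : Commute ⁅x, b⁆ (a * b) :=
        mem_centralizer_singleton_iff.1 (Comp.centralizerPPrimeCore_le _ hzO)
      have e1 : ⁅x, a⁆ = a * b * ⁅x, b⁆ * (a * b)⁻¹ := by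
        have ea : a = a * b * b := by rw [mul_assoc, invols_sq hp.2.1, mul_one]
        conv_lhs => rw [ea]
        rw [commutatorElement_def, commutatorElement_def]
        calc x * (a * b * b) * x⁻¹ * (a * b * b)⁻¹
            = x * (a * b) * b * x⁻¹ * b⁻¹ * (a * b)⁻¹ := by group
          _ = a * b * x * b * x⁻¹ * b⁻¹ * (a * b)⁻¹ := by rw [hxw.eq]
          _ = _ := by group
      rw [e1, ← hzw.eq, mul_inv_cancel_right]
      exact hzmem
    have hY' : closure gens = ⊥ := by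
      refine hYn.eq_bot_or_eq_top.resolve_right fun e => hWodd ?_
      rw [e, top_le_iff] at hY
      simp only [Wp, dif_pos hp₀] at hY
      show 2 ∣ Nat.card ↥(W (hframe p₀ hp₀).choose.1 (hframe p₀ hp₀).choose.2)
      have hdiv : 2 ∣ Nat.card ↥(⊤ : Subgroup G) := by
        rw [card_top]; exact hx₁.1 ▸ orderOf_dvd_natCard x₁
      exact (congrArg (fun H : Subgroup G => 2 ∣ Nat.card ↥H) hY).mpr hdiv
    intro a b x hp hx
    have : ⁅x, a⁆ ∈ closure gens := subset_closure ⟨a, b, x, hp, hx, rfl⟩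
    rwa [hY', mem_bot] at this
  -- so the two classes commute
  have hall : ∀ a ∈ invols S₁, ∀ c ∈ invols S₂, Commute a c := by
    intro a ha c hc
    obtain ⟨b, hb, k, hab, hk, hkb, -⟩ := h.exists_core_conj ha hc
    have hka : Commute k a := commutatorElement_eq_one_iff_mul_comm.1 (hone a b k ⟨ha, hb, hab⟩ hk)
    rw [← hkb]
    exact (hka.symm.mul_right hab).mul_right hka.symm.inv_right
  haveI hCn : (centralizer (invols S₁)).Normal := ⟨fun n hn g => mem_centralizer_iff.2 fun y hy => by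
    have h1 := mem_centralizer_iff.1 hn _ (invols_conj hy g⁻¹)
    have h2 := congrArg (fun w => g * w * g⁻¹) h1
    simpa [mul_assoc] using h2⟩
  have htop : centralizer (invols S₁) = ⊤ := hCn.eq_bot_or_eq_top.resolve_left fun e =>
    invol_ne_one hx₂.1 (mem_bot.1 (e ▸ mem_centralizer_iff.2 fun y hy => hall y hy x₂ hx₂))
  have hcen : x₁ ∈ center G := mem_center_iff.2 fun g =>
    (mem_centralizer_iff.1 (htop ▸ mem_top g : g ∈ centralizer (invols S₁)) x₁ hx₁).symm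
  rcases (inferInstance : (center G).Normal).eq_bot_or_eq_top with hb | ht
  · exact invol_ne_one hx₁.1 (mem_bot.1 (hb ▸ hcen))
  · exact hG ⟨⟨fun x y => (mem_center_iff.1 (ht ▸ mem_top x) y).symm⟩⟩

/-- Goldschmidt's commutation theorem for strongly closed 2-subgroups. -/
theorem commutes (hsft : ∀ (G : Type u) [Group G] [Finite G], SignalizerTwo G) :
    ∀ (G : Type u) [Group G] [Finite G], Commutes G :=
  commutes_of_simple fun G _ _ _ hG hrec _ _ _ h h₁ h₂ => simple_false hG hrec (hsft G) h h₁ h₂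

end CfsgLib.InvChar.ComClosed
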