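import Cfsg.Agent.Lib.InvChar.CommutingClosed
import Cfsg.Agent.Lib.InvChar.ConstrainedSignalizer
import Cfsg.Agent.Lib.InvChar.SimpleInvol

/-!
Commuting strongly closed pairs in a simple group: the dihedral lemma and connectivity of the
commuting graphs on involutions and on pairs of involutions.
-/

set_option autoImplicit false
set_option linter.style.haveILetI false
set_option linter.unusedSectionVars false

namespace CfsgLib.InvChar.ComClosed

open Subgroup Invol

universe u

local instance : Fact (Nat.Prime 2) := ⟨Nat.prime_two⟩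

variable {G : Type u} [Group G] [Finite G] {S : Sylow 2 G} {S₁ S₂ : Subgroup G}

/-- The involutions conjugate into `A`. -/
def invols (A : Subgroup G) : Set G := {x | orderOf x = 2 ∧ ∃ g, g * x * g⁻¹ ∈ A}

theorem invols_conj {A : Subgroup G} {x : G} (hx : x ∈ invols A) (g : G) :
    g * x * g⁻¹ ∈ invols A := by
  obtain ⟨h2, k, hk⟩ := hx
  exact ⟨(Invol.orderOf_conj_eq g x).trans h2, k * g⁻¹, by simpa [mul_assoc] using hk⟩

theorem invols_sq {A : Subgroup G} {x : G} (hx : x ∈ invols A) : x * x = 1 := invol_mul_self hx.1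

theorem mem_of_invols {A : Subgroup G} (hA : Cfsg.IsStronglyClosed A (S : Subgroup G)) {x g : G}
    (hx : x ∈ invols A) (hg : g * x * g⁻¹ ∈ S) : g * x * g⁻¹ ∈ A := by
  obtain ⟨k, hk⟩ := hx.2
  have := hA.2 _ hk (g * k⁻¹) (by simp [mul_assoc] at hg ⊢; exact hg)
  simpa [mul_assoc] using this

theorem CPair.invols_disjoint (h : CPair S S₁ S₂) {x : G} (h1 : x ∈ invols S₁) (h2 : x ∈ invols S₂) :
    False := by
  obtain ⟨g, hg⟩ := h1.2
  exact invol_ne_one (orderOf_conj_eq g x ▸ h1.1 : orderOf (g * x * g⁻¹) = 2)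
    (mem_bot.1 (h.disj ▸ mem_inf.2 ⟨hg, mem_of_invols h.cl₂ h2 (h.cl₁.1 hg)⟩))

/-- Pairwise commuting involutions lie in a common conjugate of `S`. -/
theorem exists_conj_set (S : Sylow 2 G) (s : Set G) (h2 : ∀ x ∈ s, x * x = 1)
    (hc : ∀ x ∈ s, ∀ y ∈ s, Commute x y) : ∃ g : G, ∀ x ∈ s, g * x * g⁻¹ ∈ S := by
  have h1 : closure s ≤ centralizer s :=
    (closure_le _).2 fun x hx => mem_centralizer_iff.2 fun y hy => hc y hy x hx
  have hcen : closure s ≤ centralizer ((closure s : Subgroup G) : Set G) :=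
    (closure_le _).2 fun x hx => mem_centralizer_iff.2 fun y hy =>
      (mem_centralizer_iff.1 (h1 hy) x hx).symm
  have hp : IsPGroup 2 (closure s) := fun ⟨x, hx⟩ => ⟨1, Subtype.ext (by
    simp only [pow_one, SubmonoidClass.mk_pow, OneMemClass.coe_one]
    induction hx using closure_induction with
    | mem y hy => rw [pow_two]; exact h2 y hy
    | one => rw [one_pow]
    | mul y z hy hz ihy ihz =>
      rw [(show Commute y z from (mem_centralizer_iff.1 (hcen hy) z hz).symm).mul_pow, ihy, ihz,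
        one_mul]
    | inv y _ ih => rw [inv_pow, ih, inv_one])⟩
  obtain ⟨g, hg⟩ := Invol.exists_conj_mem_sylow S hp
  exact ⟨g, fun x hx => hg x (subset_closure hx)⟩

/-- A strongly closed subgroup with an involution contains a central involution of `S`. -/
theorem exists_central_invol {A : Subgroup G} (hA : Cfsg.IsStronglyClosed A (S : Subgroup G))
    {a : G} (ha : a ∈ A) (hao : orderOf a = 2) :
    ∃ z ∈ A, orderOf z = 2 ∧ ∀ v ∈ (S : Subgroup G), Commute z v := by
  haveI hnorm : (A.subgroupOf (S : Subgroup G)).Normal := ⟨fun x hx g =>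
    hA.2 _ hx g (mul_mem (mul_mem g.2 x.2) (inv_mem g.2))⟩
  have hne : A.subgroupOf (S : Subgroup G) ≠ ⊥ := fun e => by
    have h1 : (⟨a, hA.1 ha⟩ : ↥(S : Subgroup G)) ∈ A.subgroupOf (S : Subgroup G) := ha
    rw [e, mem_bot] at h1
    exact invol_ne_one hao (congrArg Subtype.val h1)
  set C := A.subgroupOf (S : Subgroup G) ⊓ center ↥(S : Subgroup G) with hC
  have hCne : C ≠ ⊥ := ConstrainedSignalizer.meets_center S.2 hne
  have heven : Even (Nat.card ↥C) := by
    obtain ⟨j, hj⟩ := IsPGroup.iff_card.1 (S.2.to_subgroup C)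
    have := (one_lt_card_iff_ne_bot C).2 hCne
    rw [hj] at this ⊢
    rcases Nat.eq_zero_or_pos j with rfl | hj0
    · simp at this
    · exact even_two.pow_of_ne_zero hj0.ne'
  obtain ⟨z, hz, hzo⟩ := Invol.exists_invol_mem heven
  exact ⟨z, hz.1, by rwa [Subgroup.orderOf_coe], fun v hv =>
    (congrArg Subtype.val (mem_center_iff.1 hz.2 ⟨v, hv⟩)).symm⟩

/-- Commuting elements of the two classes give an involution. -/
theorem CPair.orderOf_mul (h : CPair S S₁ S₂) {a b : G} (ha : a ∈ invols S₁) (hb : b ∈ invols S₂)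
    (hab : Commute a b) : orderOf (a * b) = 2 := by
  refine orderOf_eq_prime ?_ fun e => ?_
  · rw [hab.mul_pow, pow_two, pow_two, invols_sq ha, invols_sq hb, one_mul]
  · rw [mul_eq_one_iff_eq_inv, invol_inv hb.1] at e
    exact h.invols_disjoint ha (e ▸ hb)

/-- The dihedral lemma. -/
theorem CPair.exists_core_conj (h : CPair S S₁ S₂) {a c : G} (ha : a ∈ invols S₁)
    (hc : c ∈ invols S₂) :
    ∃ b ∈ invols S₂, ∃ k : G, Commute a b ∧ k ∈ Cfsg.centralizerPPrimeCore 2 (a * b) ∧
      k * b * k⁻¹ = c ∧ ∀ x, Commute x a → Commute x c → Commute x b ∧ Commute x k := by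
  have hao := ha.1
  have hco := hc.1
  have heven : Even (orderOf (a * c)) := by
    refine even_of_not_isConj hao hco fun hconj => ?_
    obtain ⟨d, hd⟩ := isConj_iff.1 hconj
    exact h.invols_disjoint (hd ▸ invols_conj ha d) hc
  set d := a * c with hd
  set m := orderOf d / 2 with hm
  set w := d ^ m with hw
  have hwo : orderOf w = 2 := orderOf_pow_half heven
  have hwa : Commute w a := commute_pow_half_left hao hco heven
  have hwc : Commute w c := commute_pow_half_right hao hco heven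
  have hwz : d ^ (m : ℤ) = w := zpow_natCast d m
  have hcd : c = d ^ (-1 : ℤ) * a := (right_eq hao hco).symm
  have hconjc : ∀ j : ℤ, d ^ j * c * (d ^ j)⁻¹ = d ^ (2 * j - 1) * a := by
    intro j
    rw [hcd, ← mul_assoc, ← zpow_add, mul_assoc, ← zpow_neg, left_mul_zpow hao hco, neg_neg,
      ← mul_assoc, ← zpow_add]
    congr 2
    omega
  have hmodd : Odd m := by
    rw [← Nat.not_even_iff_odd]
    rintro ⟨k, hk⟩
    have e2 : (2 * (k : ℤ)) = (m : ℤ) := by omega
    have h1 : w * a ∈ invols S₁ := by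
      have := invols_conj ha (d ^ (k : ℤ))
      rwa [zpow_conj_left hao hco, e2, hwz] at this
    have h2 : w * c ∈ invols S₂ := by
      have := invols_conj hc (d ^ (k : ℤ))
      rwa [hconjc, show (2 * (k : ℤ) - 1) = (m : ℤ) + -1 by omega, zpow_add, hwz, mul_assoc,
        ← hcd] at this
    have key : ∀ (A : Subgroup G), Cfsg.IsStronglyClosed A (S : Subgroup G) → ∀ x ∈ invols A,
        w * x ∈ invols A → Commute w x → w ∈ invols A := by
      intro A hA x hx hwx hcomm
      obtain ⟨g, hg⟩ := exists_conj_set S {x, w * x} (by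
        rintro y (rfl | rfl)
        · exact invols_sq hx
        · exact invols_sq hwx) (by
        rintro y (rfl | rfl) z (rfl | rfl)
        · exact Commute.refl _
        · exact (hcomm.symm.mul_right (Commute.refl _))
        · exact (hcomm.symm.mul_right (Commute.refl _)).symm
        · exact Commute.refl _)
      refine ⟨hwo, g, ?_⟩
      have := mul_mem (mem_of_invols hA hwx (hg _ (by simp))) (inv_mem (mem_of_invols hA hx (hg x (by simp))))
      simpa [mul_assoc] using this
    exact h.invols_disjoint (key S₁ h.cl₁ a ha h1 hwa) (key S₂ h.cl₂ c hc h2 hwc)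
  obtain ⟨k, hk⟩ := hmodd
  have hwa2 : w * a ∈ invols S₂ := by
    have := invols_conj hc (d ^ ((k : ℤ) + 1))
    rwa [hconjc, show (2 * ((k : ℤ) + 1) - 1) = (m : ℤ) by omega, hwz] at this
  obtain ⟨e, he, hec⟩ : ∃ e : ℤ, Even e ∧ d ^ e * (w * a) * (d ^ e)⁻¹ = c := by
    have h1 : d ^ (-((k : ℤ) + 1)) * (w * a) * (d ^ (-((k : ℤ) + 1)))⁻¹ = c := by
      have := hconjc ((k : ℤ) + 1)
      rw [show (2 * ((k : ℤ) + 1) - 1) = (m : ℤ) by omega, hwz] at this
      rw [← this]; group
    rcases Nat.even_or_odd k with hke | hko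
    · refine ⟨k, by exact_mod_cast hke, ?_⟩
      have hdk : d ^ (k : ℤ) = w * d ^ (-((k : ℤ) + 1)) := by
        rw [← hwz, ← zpow_add]; congr 1; omega
      rw [hdk, mul_inv_rev]
      calc w * d ^ (-((k : ℤ) + 1)) * (w * a) * ((d ^ (-((k : ℤ) + 1)))⁻¹ * w⁻¹)
          = w * (d ^ (-((k : ℤ) + 1)) * (w * a) * (d ^ (-((k : ℤ) + 1)))⁻¹) * w⁻¹ := by group
        _ = c := by rw [h1, hwc.eq, mul_inv_cancel_right]
    · refine ⟨-((k : ℤ) + 1), ?_, h1⟩
      obtain ⟨i, hi⟩ := hko
      exact ⟨-((i : ℤ) + 1), by omega⟩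
  have hab : Commute a (w * a) := hwa.symm.mul_right (Commute.refl a)
  have habw : a * (w * a) = w := by
    rw [← mul_assoc, ← hwa.eq, mul_assoc, invols_sq ha, mul_one]
  refine ⟨w * a, hwa2, d ^ e, hab, ?_, hec, fun x hxa hxc => ?_⟩
  · rw [habw]
    have haC : a ∈ centralizer ({w} : Set G) := mem_centralizer_singleton_iff.2 hwa.eq.symm
    have hiso : Cfsg.IsIsolatedInvolution (⟨a, haC⟩ : ↥(centralizer ({w} : Set G))) := by
      refine ⟨by rw [← Subgroup.orderOf_coe]; exact hao, fun g hg => Subtype.ext ?_⟩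
      set a' := (g : G) * a * (g : G)⁻¹ with ha'
      have hga : Commute a a' := congrArg Subtype.val hg
      have hgw : Commute (g : G) w := mem_centralizer_singleton_iff.1 g.2
      have hwa' : Commute w a' := (hgw.symm.mul_right hwa).mul_right hgw.symm.inv_right
      set b' := (g : G) * (w * a) * (g : G)⁻¹ with hb'
      have eb : b' = w * a' := by rw [hb', ha', ← mul_assoc, hgw.eq]; group
      have hb'2 : b' ∈ invols S₂ := invols_conj hwa2 g
      have ha'1 : a' ∈ invols S₁ := invols_conj ha g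
      obtain ⟨r, hr⟩ := exists_conj_set S {a, a', w * a, b'} (by
        rintro y (rfl | rfl | rfl | rfl)
        exacts [invols_sq ha, invols_sq ha'1, invols_sq hwa2, invols_sq hb'2]) (by
        have c1 : Commute a (w * a) := hab
        have c2 : Commute a b' := by rw [eb]; exact hwa.symm.mul_right hga
        have c3 : Commute a' (w * a) := hwa'.symm.mul_right hga.symm
        have c4 : Commute a' b' := by rw [eb]; exact hwa'.symm.mul_right (Commute.refl _)
        have c5 : Commute (w * a) b' := by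
          rw [eb]
          exact ((Commute.refl w).mul_right hwa').mul_left (hwa.symm.mul_right hga)
        rintro y (rfl | rfl | rfl | rfl) z (rfl | rfl | rfl | rfl)
        exacts [Commute.refl _, hga, c1, c2, hga.symm, Commute.refl _, c3, c4, c1.symm, c3.symm,
          Commute.refl _, c5, c2.symm, c4.symm, c5.symm, Commute.refl _])
      have m1 := mul_mem (mem_of_invols h.cl₁ ha'1 (hr a' (by simp)))
        (mem_of_invols h.cl₁ ha (hr a (by simp)))
      have m2 := mul_mem (mem_of_invols h.cl₂ hb'2 (hr b' (by simp)))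
        (mem_of_invols h.cl₂ hwa2 (hr (w * a) (by simp)))
      have e1 : a' * a = b' * (w * a) := by
        rw [eb]
        calc a' * a = w * w * (a' * a) := by rw [invol_mul_self hwo, one_mul]
          _ = w * (w * a') * a := by group
          _ = w * (a' * w) * a := by rw [hwa'.eq]
          _ = w * a' * (w * a) := by group
      have e2 : r * a' * r⁻¹ * (r * a * r⁻¹) = r * b' * r⁻¹ * (r * (w * a) * r⁻¹) :=
        calc _ = r * (a' * a) * r⁻¹ := by group
          _ = r * (b' * (w * a)) * r⁻¹ := by rw [e1]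
          _ = _ := by group
      have hone : r * a' * r⁻¹ * (r * a * r⁻¹) = 1 :=
        mem_bot.1 (h.disj ▸ mem_inf.2 ⟨m1, e2 ▸ m2⟩)
      have hone' : a' * a = 1 := by
        have := congrArg (fun v => r⁻¹ * v * r) hone
        simpa [mul_assoc] using this
      show a' = a
      rw [mul_eq_one_iff_eq_inv.1 hone', invol_inv hao]
    have hdC : d ∈ centralizer ({w} : Set G) :=
      mem_centralizer_singleton_iff.2 ((Commute.self_pow d m).eq)
    have hz := Invol.zstar _ hiso ⟨d, hdC⟩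
    have hz' : a * d * a⁻¹ * d⁻¹ ∈ Cfsg.centralizerPPrimeCore 2 w := ⟨_, hz, rfl⟩
    rw [conj_left_mul hao hco, ← mul_inv_rev] at hz'
    have hd2 : d * d ∈ Cfsg.centralizerPPrimeCore 2 w := by simpa using inv_mem hz'
    obtain ⟨i, rfl⟩ := he
    rw [← two_mul, zpow_mul, zpow_two]
    exact zpow_mem hd2 i
  · have hxd : Commute x d := hxa.mul_right hxc
    exact ⟨(hxd.pow_right m).mul_right hxa, hxd.zpow_right e⟩

/-- A second involution of a strongly closed subgroup commuting with a given one. -/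
theorem exists_partner {A : Subgroup G} (hA : Cfsg.IsStronglyClosed A (S : Subgroup G))
    (hns : ∀ u : G, ¬ Cfsg.IsIsolatedInvolution u) {a : G} (ha : a ∈ A) (hao : orderOf a = 2) :
    ∃ u ∈ A, orderOf u = 2 ∧ u ≠ a ∧ Commute a u := by
  obtain ⟨y, hyA, hyo', hcen⟩ := exists_central_invol hA ha hao
  by_cases hay : y = a
  · obtain ⟨g, hg, hne'⟩ : ∃ g : G, g * a * g⁻¹ ∈ S ∧ g * a * g⁻¹ ≠ a := by
      by_contra hcon
      exact hns a (Invol.isolated_of_sylow S hao (hA.1 ha) fun g hg => by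
        by_contra hne'; exact hcon ⟨g, hg, hne'⟩)
    exact ⟨g * a * g⁻¹, hA.2 a ha g hg, by rw [orderOf_conj_eq, hao], hne',
      by subst hay; exact hcen _ hg⟩
  · exact ⟨y, hyA, hyo', hay, (hcen a (hA.1 ha)).symm⟩

theorem invols_of_mem {A : Subgroup G} {x : G} (hx : x ∈ A) (ho : orderOf x = 2) : x ∈ invols A :=
  ⟨ho, 1, by simpa using hx⟩

/-- Commuting `a`, `b` of the two classes lie in commuting four-groups of the two classes. -/
theorem CPair.exists_frame (h : CPair S S₁ S₂) (hns : ∀ u : G, ¬ Cfsg.IsIsolatedInvolution u)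
    {a b : G} (ha : a ∈ invols S₁) (hb : b ∈ invols S₂) (hab : Commute a b) :
    ∃ a' ∈ invols S₁, ∃ b' ∈ invols S₂, a * a' ∈ invols S₁ ∧ b * b' ∈ invols S₂ ∧ a' ≠ a ∧ b' ≠ b ∧
      Commute a a' ∧ Commute b b' ∧ Commute a b' ∧ Commute a' b ∧ Commute a' b' := by
  obtain ⟨g, hg⟩ := exists_conj_set S {a, b} (by
    rintro y (rfl | rfl)
    exacts [invols_sq ha, invols_sq hb]) (by
    rintro y (rfl | rfl) z (rfl | rfl)
    exacts [Commute.refl _, hab, hab.symm, Commute.refl _])
  have hga := mem_of_invols h.cl₁ ha (hg a (by simp))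
  have hgb := mem_of_invols h.cl₂ hb (hg b (by simp))
  obtain ⟨u, hu, huo, hune, huc⟩ := exists_partner h.cl₁ hns hga (by rw [orderOf_conj_eq, ha.1])
  obtain ⟨v, hv, hvo, hvne, hvc⟩ := exists_partner h.cl₂ hns hgb (by rw [orderOf_conj_eq, hb.1])
  have back : ∀ x y : G, Commute x y → Commute (g⁻¹ * x * g) (g⁻¹ * y * g) := fun x y hxy => by
    simpa [mul_assoc] using hxy.map (MulAut.conj g⁻¹).toMonoidHom
  have ea : g⁻¹ * (g * a * g⁻¹) * g = a := by group
  have eb : g⁻¹ * (g * b * g⁻¹) * g = b := by group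
  have inA : ∀ (A : Subgroup G) (x : G), x ∈ A → orderOf x = 2 → g⁻¹ * x * g ∈ invols A :=
    fun A x hx ho => ⟨(orderOf_conj_inv_eq g x).trans ho, g, by simpa [mul_assoc] using hx⟩
  have prodOrd : ∀ x y : G, orderOf x = 2 → orderOf y = 2 → y ≠ x → Commute x y →
      orderOf (x * y) = 2 := by
    intro x y hx hy hne hc
    refine orderOf_eq_prime ?_ fun e => hne ?_
    · rw [hc.mul_pow, pow_two, pow_two, invol_mul_self hx, invol_mul_self hy, one_mul]
    · rw [mul_eq_one_iff_eq_inv, invol_inv hy] at e; exact e.symm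
  refine ⟨_, inA S₁ u hu huo, _, inA S₂ v hv hvo, ?_, ?_, fun e => hune ?_, fun e => hvne ?_,
    ea ▸ back _ _ huc, eb ▸ back _ _ hvc, ea ▸ back _ _ (h.comm _ hga _ hv),
    eb ▸ back _ _ (h.comm _ hu _ hgb), back _ _ (h.comm _ hu _ hv)⟩
  · have := inA S₁ _ (mul_mem hga hu) (prodOrd _ _ (by rw [orderOf_conj_eq, ha.1]) huo hune huc)
    simpa [mul_assoc] using this
  · have := inA S₂ _ (mul_mem hgb hv) (prodOrd _ _ (by rw [orderOf_conj_eq, hb.1]) hvo hvne hvc)
    simpa [mul_assoc] using this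
  · rw [← e]; group
  · rw [← e]; group

/-- A subgroup of odd order normalized by a four-group is generated by fixed points. -/
theorem le_of_four {X H : Subgroup G} (hX : Odd (Nat.card X)) {x y : G} (hx : orderOf x = 2)
    (hy : orderOf y = 2) (hne : x ≠ y) (hc : Commute x y) (hxN : x ∈ normalizer (X : Set G))
    (hyN : y ∈ normalizer (X : Set G)) (h1 : X ⊓ centralizer ({x} : Set G) ≤ H)
    (h2 : X ⊓ centralizer ({y} : Set G) ≤ H) (h3 : X ⊓ centralizer ({x * y} : Set G) ≤ H) :
    X ≤ H := by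
  set V := closure ({x, y} : Set G) with hV
  have hxy2 : (x * y) ^ 2 = 1 := by
    rw [hc.mul_pow, pow_two, pow_two, invol_mul_self hx, invol_mul_self hy, one_mul]
  have hmem : ∀ v ∈ V, v = 1 ∨ v = x ∨ v = y ∨ v = x * y := by
    intro v hv
    obtain ⟨i, hi⟩ := (mem_closure_pair hx hy).1 hv
    have hi' : (x * y) ^ i = 1 ∨ (x * y) ^ i = x * y := by
      obtain ⟨j, rfl⟩ | ⟨j, rfl⟩ := Int.even_or_odd i
      · left; rw [← two_mul, zpow_mul, zpow_two, ← pow_two, hxy2, one_zpow]
      · right; rw [zpow_add, zpow_mul, zpow_two, ← pow_two, hxy2, one_zpow, one_mul, zpow_one]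
    rcases hi with rfl | rfl <;> rcases hi' with e | e <;> rw [e]
    · exact Or.inl rfl
    · exact Or.inr (Or.inr (Or.inr rfl))
    · exact Or.inr (Or.inl (one_mul x))
    · exact Or.inr (Or.inr (Or.inl (by rw [hc.eq, mul_assoc, invol_mul_self hx, mul_one])))
  have hxy : ∀ v ∈ V, ∀ w ∈ V, Commute v w := by
    have base : Commute x (x * y) ∧ Commute y (x * y) :=
      ⟨(Commute.refl x).mul_right hc, hc.symm.mul_right (Commute.refl y)⟩
    intro v hv w hw
    rcases hmem v hv with rfl | rfl | rfl | rfl <;> rcases hmem w hw with rfl | rfl | rfl | rfl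
    all_goals first
      | exact Commute.one_left _
      | exact Commute.one_right _
      | exact Commute.refl _
      | exact hc
      | exact hc.symm
      | exact base.1
      | exact base.1.symm
      | exact base.2
      | exact base.2.symm
  have hEA : Cfsg.IsElementaryAbelian 2 V := ⟨⟨⟨fun v w => Subtype.ext (hxy v v.2 w w.2)⟩⟩,
    fun v hv => by
      rcases hmem v hv with rfl | rfl | rfl | rfl
      · exact one_pow 2
      · rw [pow_two, invol_mul_self hx]
      · rw [pow_two, invol_mul_self hy]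
      · exact hxy2⟩
  have hne' : V ≠ ⊥ := fun e => invol_ne_one hx (mem_bot.1 (e ▸ subset_closure (by simp)))
  rw [Comp.eq_iSup_centralizer_hyperplane (p := 2) hEA hne'
    (fun hd => Nat.not_even_iff_odd.2 hX (even_iff_two_dvd.2 hd))
    ((closure_le _).2 (by rintro v (rfl | rfl) <;> assumption))]
  refine iSup_le fun ⟨B, hB, hidx⟩ => ?_
  have hB1 : B ≠ ⊥ := by
    rintro rfl
    rw [relIndex_bot_left] at hidx
    have hle : Nat.card ({1, x, y} : Set G) ≤ Nat.card V := Nat.card_mono (Set.toFinite _) (by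
      rintro v (rfl | rfl | rfl)
      exacts [one_mem _, subset_closure (by simp), subset_closure (by simp)])
    rw [Nat.card_coe_set_eq, Set.ncard_eq_three.2 ⟨1, x, y, (invol_ne_one hx).symm,
      (invol_ne_one hy).symm, hne, rfl⟩] at hle
    omega
  obtain ⟨v, hv, hv1⟩ := Comp.exists_mem_ne_one hB1
  have hle : centralizer (B : Set G) ≤ centralizer ({v} : Set G) :=
    centralizer_le (Set.singleton_subset_iff.2 hv)
  rcases hmem v (hB hv) with rfl | rfl | rfl | rfl
  · exact absurd rfl hv1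
  · exact (inf_le_inf_left _ hle).trans h1
  · exact (inf_le_inf_left _ hle).trans h2
  · exact (inf_le_inf_left _ hle).trans h3

theorem le_normalizer_core' {w x : G} (hc : Commute x w) :
    x ∈ normalizer ((Cfsg.centralizerPPrimeCore 2 w : Subgroup G) : Set G) :=
  Comp.centralizer_le_normalizer_centralizerPPrimeCore w (mem_centralizer_singleton_iff.2 hc.eq)

theorem odd_core' (w : G) : Odd (Nat.card ↥(Cfsg.centralizerPPrimeCore 2 w)) :=
  Nat.coprime_two_right.1 (Comp.coprime_card_centralizerPPrimeCore w)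

/-- The elements of a simple group fixing every class of an equivariant relation. -/
theorem rel_all [IsSimpleGroup G] {α : Type*} (P : α → Prop) (act : G → α → α) (E : α → α → Prop)
    (hE : Equivalence E) (hP : ∀ g p, P p → P (act g p))
    (hact : ∀ g h p, act (g * h) p = act g (act h p)) (hone : ∀ p, act 1 p = p)
    (hequiv : ∀ g p q, E p q → E (act g p) (act g q)) {x : G} (hx1 : x ≠ 1)
    (hx : ∀ p, P p → E p (act x p)) : ∀ g p, P p → E p (act g p) := by
  let N : Subgroup G :=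
    { carrier := {g | ∀ p, P p → E p (act g p)}
      one_mem' := fun p _ => (hone p).symm ▸ hE.refl p
      mul_mem' := fun {g h} hg hh p hp => by
        rw [hact]
        exact hE.trans (hh p hp) (hg _ (hP h p hp))
      inv_mem' := fun {g} hg p hp => by
        have := hg _ (hP g⁻¹ p hp)
        rw [← hact, mul_inv_cancel, hone] at this
        exact hE.symm this }
  have hn : N.Normal := ⟨fun n hn g p hp => by
    have := hequiv g _ _ (hn _ (hP g⁻¹ p hp))
    rwa [← hact g g⁻¹, mul_inv_cancel, hone, ← hact, ← hact] at this⟩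
  rcases hn.eq_bot_or_eq_top with e | e
  · exact absurd (mem_bot.1 (e ▸ (show x ∈ N from hx))) hx1
  · exact fun g p hp => (e ▸ mem_top g : g ∈ N) p hp

/-- One step in the commuting graph of a class. -/
def Adj₁ (A : Subgroup G) (x y : G) : Prop := x ∈ invols A ∧ y ∈ invols A ∧ Commute x y

theorem adj₁_conj {A : Subgroup G} {x y : G} (g : G)
    (h : Relation.EqvGen (Adj₁ A) x y) : Relation.EqvGen (Adj₁ A) (g * x * g⁻¹) (g * y * g⁻¹) := by
  induction h with
  | rel x y h =>
    refine .rel _ _ ⟨invols_conj h.1 g, invols_conj h.2.1 g, ?_⟩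
    simpa using h.2.2.map (MulAut.conj g).toMonoidHom
  | refl x => exact .refl _
  | symm x y _ ih => exact .symm _ _ ih
  | trans x y z _ _ ih1 ih2 => exact .trans _ _ _ ih1 ih2

/-- The commuting graph of each class is connected. -/
theorem CPair.connected₁ [IsSimpleGroup G] (h : CPair S S₁ S₂)
    (hns : ∀ u : G, ¬ Cfsg.IsIsolatedInvolution u) {c : G} (hc : c ∈ invols S₂) :
    ∀ x ∈ invols S₁, ∀ y ∈ invols S₁, Relation.EqvGen (Adj₁ S₁) x y := by
  have hall : ∀ g : G, ∀ a ∈ invols S₁, Relation.EqvGen (Adj₁ S₁) a (g * a * g⁻¹) := by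
    refine rel_all (fun a => a ∈ invols S₁) (fun g a => g * a * g⁻¹) _ (Relation.EqvGen.is_equivalence _)
      (fun g a ha => invols_conj ha g) (fun g k a => by group) (fun a => by simp)
      (fun g _ _ => adj₁_conj g) (invol_ne_one hc.1) fun a ha => ?_
    obtain ⟨b, hb, k, hab, hk, hkb, -⟩ := h.exists_core_conj ha hc
    let St : Subgroup G :=
      { carrier := {g | Relation.EqvGen (Adj₁ S₁) a (g * a * g⁻¹)}
        one_mem' := by simpa using Relation.EqvGen.refl a
        mul_mem' := fun {g k} hg hk => by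
          have := adj₁_conj g hk
          show Relation.EqvGen (Adj₁ S₁) a (g * k * a * (g * k)⁻¹)
          rw [show g * k * a * (g * k)⁻¹ = g * (k * a * k⁻¹) * g⁻¹ by group]
          exact .trans _ _ _ hg this
        inv_mem' := fun {g} hg => by
          have := adj₁_conj g⁻¹ hg
          show Relation.EqvGen (Adj₁ S₁) a (g⁻¹ * a * g⁻¹⁻¹)
          rw [show g⁻¹ * (g * a * g⁻¹) * g⁻¹⁻¹ = a by group] at this
          exact .symm _ _ this }
    have hfix : ∀ g x, Relation.EqvGen (Adj₁ S₁) a x → Commute g x → g ∈ St := by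
      intro g x hx hgx
      have := adj₁_conj g hx
      rw [hgx.eq, mul_inv_cancel_right] at this
      exact Relation.EqvGen.trans _ _ _ hx (.symm _ _ this)
    have hbSt : b ∈ St := hfix b a (.refl _) hab.symm
    obtain ⟨a', ha', -, -, haa', -, hne, -, hc', -, -, hab', -⟩ := h.exists_frame hns ha hb hab
    have hk' : k ∈ St := by
      refine le_of_four (odd_core' (a * b)) ha.1 ha'.1 hne.symm hc'
        (le_normalizer_core' ((Commute.refl a).mul_right hab))
        (le_normalizer_core' (hc'.symm.mul_right hab'))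
        (fun g hg => hfix g a (.refl _) (mem_centralizer_singleton_iff.1 hg.2))
        (fun g hg => hfix g a' (.rel _ _ ⟨ha, ha', hc'⟩) (mem_centralizer_singleton_iff.1 hg.2))
        (fun g hg => hfix g (a * a') (.rel _ _ ⟨ha, haa', (Commute.refl a).mul_right hc'⟩)
          (mem_centralizer_singleton_iff.1 hg.2)) hk
    exact show c ∈ St from hkb ▸ mul_mem (mul_mem hk' hbSt) (inv_mem hk')
  intro x hx y hy
  obtain ⟨g₀, hg₀⟩ := hx.2
  obtain ⟨z, hz, hzo, hzS⟩ := exists_central_invol h.cl₁ hg₀ (by rw [orderOf_conj_eq, hx.1])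
  have hzc : ∀ g : G, ∀ v ∈ invols S₁, g * v * g⁻¹ ∈ S₁ →
      Relation.EqvGen (Adj₁ S₁) (g * v * g⁻¹) z := fun k v hv hk =>
    .rel _ _ ⟨invols_conj hv k, invols_of_mem hz hzo, (hzS _ (h.cl₁.1 hk)).symm⟩
  obtain ⟨g, hg⟩ := hx.2
  obtain ⟨k, hk⟩ := hy.2
  exact .trans _ _ _ (.trans _ _ _ (hall g x hx) (hzc g x hx hg))
    (.symm _ _ (.trans _ _ _ (hall k y hy) (hzc k y hy hk)))

/-- Commuting pairs from the two classes. -/
def IsPair (S₁ S₂ : Subgroup G) (p : G × G) : Prop :=
  p.1 ∈ invols S₁ ∧ p.2 ∈ invols S₂ ∧ Commute p.1 p.2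

/-- One step in the graph of commuting pairs. -/
def Adj₂ (S₁ S₂ : Subgroup G) (p q : G × G) : Prop :=
  IsPair S₁ S₂ p ∧ IsPair S₁ S₂ q ∧
    ((p.1 = q.1 ∧ Commute p.2 q.2) ∨ (p.2 = q.2 ∧ Commute p.1 q.1))

/-- Conjugation of pairs. -/
def cj (g : G) (p : G × G) : G × G := (g * p.1 * g⁻¹, g * p.2 * g⁻¹)

theorem isPair_cj {p : G × G} (hp : IsPair S₁ S₂ p) (g : G) : IsPair S₁ S₂ (cj g p) :=
  ⟨invols_conj hp.1 g, invols_conj hp.2.1 g,
    by simpa [cj] using hp.2.2.map (MulAut.conj g).toMonoidHom⟩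

theorem cj_mul (g k : G) (p : G × G) : cj (g * k) p = cj g (cj k p) :=
  Prod.ext (by simp [cj, mul_assoc]) (by simp [cj, mul_assoc])

theorem cj_one (p : G × G) : cj 1 p = p := Prod.ext (by simp [cj]) (by simp [cj])

theorem adj₂_cj {p q : G × G} (g : G) (h : Relation.EqvGen (Adj₂ S₁ S₂) p q) :
    Relation.EqvGen (Adj₂ S₁ S₂) (cj g p) (cj g q) := by
  induction h with
  | rel p q h =>
    refine .rel _ _ ⟨isPair_cj h.1 g, isPair_cj h.2.1 g, ?_⟩
    rcases h.2.2 with ⟨e, hc⟩ | ⟨e, hc⟩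
    · exact Or.inl ⟨by simp [cj, e], by simpa [cj] using hc.map (MulAut.conj g).toMonoidHom⟩
    · exact Or.inr ⟨by simp [cj, e], by simpa [cj] using hc.map (MulAut.conj g).toMonoidHom⟩
  | refl x => exact .refl _
  | symm x y _ ih => exact .symm _ _ ih
  | trans x y z _ _ ih1 ih2 => exact .trans _ _ _ ih1 ih2

/-- All commuting pairs form one connected component. -/
theorem CPair.connected₂ [IsSimpleGroup G] (h : CPair S S₁ S₂)
    (hns : ∀ u : G, ¬ Cfsg.IsIsolatedInvolution u) :
    ∀ p q : G × G, IsPair S₁ S₂ p → IsPair S₁ S₂ q → Relation.EqvGen (Adj₂ S₁ S₂) p q := by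
  intro p₁ q₁ hp₁ hq₁
  let E := Relation.EqvGen (Adj₂ S₁ S₂)
  -- central involutions of `S` in the two subgroups
  have hcen : ∀ A : Subgroup G, Cfsg.IsStronglyClosed A (S : Subgroup G) → ∀ x ∈ invols A,
      ∃ z ∈ A, orderOf z = 2 ∧ ∀ v ∈ (S : Subgroup G), Commute z v := by
    intro A hA x hx
    obtain ⟨g, hg⟩ := hx.2
    exact exists_central_invol hA hg (by rw [orderOf_conj_eq, hx.1])
  obtain ⟨z₁, hz₁, hz₁o, hz₁c⟩ := hcen S₁ h.cl₁ _ hp₁.1
  obtain ⟨z₂, hz₂, hz₂o, hz₂c⟩ := hcen S₂ h.cl₂ _ hp₁.2.1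
  have hz₁' := invols_of_mem hz₁ hz₁o
  have hz₂' := invols_of_mem hz₂ hz₂o
  -- pairs in `S` are connected to the central pair
  have hinS : ∀ p : G × G, IsPair S₁ S₂ p → p.1 ∈ S → p.2 ∈ S → E p (z₁, z₂) := by
    intro p hp h1 h2
    have h2' : p.2 ∈ S₂ := by
      simpa using mem_of_invols (g := 1) h.cl₂ hp.2.1 (by simpa using h2)
    have hp' : IsPair S₁ S₂ (z₁, p.2) := ⟨hz₁', hp.2.1, h.comm _ hz₁ _ h2'⟩
    exact .trans _ (z₁, p.2) _ (.rel _ _ ⟨hp, hp', Or.inr ⟨rfl, (hz₁c _ h1).symm⟩⟩)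
      (.rel _ _ ⟨hp', ⟨hz₁', hz₂', h.comm _ hz₁ _ hz₂⟩, Or.inl ⟨rfl, (hz₂c _ h2).symm⟩⟩)
  have hmap : ∀ p : G × G, IsPair S₁ S₂ p →
      ∃ g : G, g * p.1 * g⁻¹ ∈ S ∧ g * p.2 * g⁻¹ ∈ S := by
    intro p hp
    obtain ⟨g, hg⟩ := exists_conj_set S {p.1, p.2} (by
      rintro y (rfl | rfl)
      exacts [invols_sq hp.1, invols_sq hp.2.1]) (by
      rintro y (rfl | rfl) z (rfl | rfl)
      exacts [Commute.refl _, hp.2.2, hp.2.2.symm, Commute.refl _])
    exact ⟨g, hg _ (by simp), hg _ (by simp)⟩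
  -- stabilizers of classes
  let St : G × G → Subgroup G := fun p =>
    { carrier := {g | E p (cj g p)}
      one_mem' := by show E p (cj 1 p); rw [cj_one]; exact .refl _
      mul_mem' := fun {g k} hg hk => by
        show E p (cj (g * k) p)
        rw [cj_mul]
        exact .trans _ _ _ hg (adj₂_cj g hk)
      inv_mem' := fun {g} hg => by
        have := adj₂_cj g⁻¹ hg
        rw [← cj_mul, inv_mul_cancel, cj_one] at this
        exact .symm _ _ this }
  have hfix : ∀ (p q : G × G) (g : G), E p q → Commute g q.1 → Commute g q.2 → g ∈ St p := by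
    intro p q g hpq h1 h2
    have := adj₂_cj g hpq
    rw [show cj g q = q from Prod.ext (by simp [cj, h1.eq]) (by simp [cj, h2.eq])] at this
    exact Relation.EqvGen.trans _ _ _ hpq (.symm _ _ this)
  have hcore : ∀ a b : G, IsPair S₁ S₂ (a, b) →
      Cfsg.centralizerPPrimeCore 2 (a * b) ≤ St (a, b) := by
    rintro a b ⟨ha, hb, hab : Commute a b⟩
    obtain ⟨a', ha', b', hb', haa, hbb, hne1, hne2, c1, c2, c3, c4, c5⟩ :=
      h.exists_frame hns ha hb hab
    have ca : Commute a (a * b) := (Commute.refl a).mul_right hab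
    have ca' : Commute a' (a * b) := c1.symm.mul_right c4
    have cb : Commute b (a * b) := hab.symm.mul_right (Commute.refl b)
    have cb' : Commute b' (a * b) := c3.symm.mul_right c2.symm
    have inner : ∀ x ∈ invols S₁, Commute a x → Commute x b → Commute x b' →
        Cfsg.centralizerPPrimeCore 2 (a * b) ⊓ centralizer ({x} : Set G) ≤ St (a, b) := by
      intro x hx hax hxb hxb'
      have hX : Odd (Nat.card ↥(Cfsg.centralizerPPrimeCore 2 (a * b) ⊓ centralizer ({x} : Set G) :
          Subgroup G)) := (odd_core' _).of_dvd_nat (card_dvd_of_le inf_le_left)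
      have hn : ∀ y, Commute y (a * b) → Commute y x →
          y ∈ normalizer ((Cfsg.centralizerPPrimeCore 2 (a * b) ⊓ centralizer ({x} : Set G) :
            Subgroup G) : Set G) := fun y h1 h2 =>
        Comp.le_normalizer_inf (M := normalizer ((Cfsg.centralizerPPrimeCore 2 (a * b) : Subgroup G)
            : Set G) ⊓ centralizer ({x} : Set G)) inf_le_left (inf_le_right.trans le_normalizer)
          (mem_inf.2 ⟨le_normalizer_core' h1, mem_centralizer_singleton_iff.2 h2.eq⟩)
      have hy : ∀ y ∈ invols S₂, Commute b y → Commute x y →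
          Cfsg.centralizerPPrimeCore 2 (a * b) ⊓ centralizer ({x} : Set G) ⊓
            centralizer ({y} : Set G) ≤ St (a, b) := fun y hy hby hxy g hg =>
        hfix _ (x, y) g (.trans _ (x, b) _
          (.rel _ _ ⟨⟨ha, hb, hab⟩, ⟨hx, hb, hxb⟩, Or.inr ⟨rfl, hax⟩⟩)
          (.rel _ _ ⟨⟨hx, hb, hxb⟩, ⟨hx, hy, hxy⟩, Or.inl ⟨rfl, hby⟩⟩))
          (mem_centralizer_singleton_iff.1 hg.1.2) (mem_centralizer_singleton_iff.1 hg.2)
      exact le_of_four hX hb.1 hb'.1 hne2.symm c2 (hn b cb hxb.symm) (hn b' cb' hxb'.symm)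
        (hy b hb (Commute.refl b) hxb) (hy b' hb' c2 hxb')
        (hy _ hbb ((Commute.refl b).mul_right c2) (hxb.mul_right hxb'))
    exact le_of_four (odd_core' _) ha.1 ha'.1 hne1.symm c1 (le_normalizer_core' ca)
      (le_normalizer_core' ca') (inner a ha (Commute.refl a) hab c3) (inner a' ha' c1 c4 c5)
      (inner _ haa ((Commute.refl a).mul_right c1) (hab.mul_left c4) (c3.mul_left c5))
  -- an involution fixing a class occurs in it
  have hocc : ∀ p : G × G, IsPair S₁ S₂ p → ∀ x ∈ invols S₁, x ∈ St p →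
      ∃ b, IsPair S₁ S₂ (x, b) ∧ E p (x, b) := by
    intro p hp x hx hxp
    obtain ⟨g, hg1, hg2⟩ := hmap p hp
    have hbase := hinS _ (isPair_cj hp g) hg1 hg2
    set P : Sylow 2 G := g⁻¹ • S
    have hPSt : (P : Subgroup G) ≤ St p := by
      intro s hs
      have hs' := mem_smul_sylow.1 hs
      rw [inv_inv] at hs'
      have e : ∀ y : G, g * (s * y * s⁻¹) * g⁻¹ = (g * s * g⁻¹) * (g * y * g⁻¹) * (g * s * g⁻¹)⁻¹ :=
        fun y => by group
      have h1 : g * (cj s p).1 * g⁻¹ ∈ S := by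
        simp only [cj]; rw [e]; exact mul_mem (mul_mem hs' hg1) (inv_mem hs')
      have h2 : g * (cj s p).2 * g⁻¹ ∈ S := by
        simp only [cj]; rw [e]; exact mul_mem (mul_mem hs' hg2) (inv_mem hs')
      have h3 := hinS _ (isPair_cj (isPair_cj hp s) g) h1 h2
      have := adj₂_cj g⁻¹ (Relation.EqvGen.trans _ _ _ hbase (.symm _ _ h3))
      rwa [← cj_mul, ← cj_mul, inv_mul_cancel, cj_one, cj_one] at this
    obtain ⟨k, hk⟩ := Invol.exists_conj_mem_sylow (P.subtype hPSt)
      ((Invol.isPGroup_zpowers_of_invol hx.1).comap_subtype (K := St p))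
    have hkx : (k : G) * x * (k : G)⁻¹ ∈ P := hk ⟨x, hxp⟩ (mem_zpowers x)
    have hkS := mem_smul_sylow.1 hkx
    rw [inv_inv] at hkS
    have hgk : g * k * x * (g * k)⁻¹ = g * ((k : G) * x * (k : G)⁻¹) * g⁻¹ := by group
    have hkA := mem_of_invols h.cl₁ hx (hgk ▸ hkS : g * k * x * (g * k)⁻¹ ∈ S)
    set q : G × G := (x, (g * k)⁻¹ * z₂ * (g * k)) with hq
    have hq' : cj (g * k) q = (g * k * x * (g * k)⁻¹, z₂) :=
      Prod.ext (by simp [cj, hq]) (by simp [cj, hq, mul_assoc])
    have hqp : IsPair S₁ S₂ q := by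
      have := isPair_cj (p := (g * k * x * (g * k)⁻¹, z₂)) (S₁ := S₁) (S₂ := S₂)
        ⟨invols_conj hx _, hz₂', h.comm _ hkA _ hz₂⟩ (g * k)⁻¹
      rwa [← hq', ← cj_mul, inv_mul_cancel, cj_one] at this
    refine ⟨_, hqp, ?_⟩
    have h1 := hinS _ (isPair_cj hqp (g * k)) (by rw [hq']; exact h.cl₁.1 hkA)
      (by rw [hq']; exact h.cl₂.1 hz₂)
    have h2 : E (cj (g * k) q) (cj g p) := Relation.EqvGen.trans _ _ _ h1 (.symm _ _ hbase)
    have h3 := adj₂_cj (g * k)⁻¹ h2
    rw [← cj_mul, inv_mul_cancel, cj_one, ← cj_mul, mul_inv_rev, inv_mul_cancel_right] at h3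
    exact Relation.EqvGen.trans _ _ _ (inv_mem k.2 : E p (cj (k : G)⁻¹ p)) (.symm _ _ h3)
  -- commuting involutions fix the same classes
  have hsame : ∀ p : G × G, IsPair S₁ S₂ p → ∀ a a', Adj₁ S₁ a a' → a ∈ St p → a' ∈ St p := by
    rintro p hp a a' ⟨ha, ha', hc⟩ hap
    obtain ⟨c, hac, hpc⟩ := hocc p hp a ha hap
    obtain ⟨b, hb, k, hab, hk, hkb, hcom⟩ := h.exists_core_conj ha' hac.2.1
    obtain ⟨hab', hak⟩ := hcom a hc hac.2.2
    have e1 : E (a, b) (a', b) := .rel _ _ ⟨⟨ha, hb, hab'⟩, ⟨ha', hb, hab⟩, Or.inr ⟨rfl, hc⟩⟩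
    have e2 : E (a', b) (cj k (a', b)) := hcore a' b ⟨ha', hb, hab⟩ hk
    have e3 : E (cj k (a, b)) (cj k (a', b)) := adj₂_cj k e1
    have e4 : cj k (a, b) = (a, c) := Prod.ext (by simp [cj, hak.symm.eq]) (by simp [cj, hkb])
    rw [e4] at e3
    exact hfix p (a', b) a' (Relation.EqvGen.trans _ _ _ hpc (.trans _ _ _ e3 (.symm _ _ e2)))
      (Commute.refl _) hab
  have hall : ∀ g : G, ∀ p, IsPair S₁ S₂ p → E p (cj g p) := by
    refine rel_all (IsPair S₁ S₂) cj E (Relation.EqvGen.is_equivalence _) (fun g p hp => isPair_cj hp g)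
      cj_mul cj_one (fun g _ _ => adj₂_cj g) (invol_ne_one hp₁.1.1) fun p hp => ?_
    have hstep : ∀ x y, Relation.EqvGen (Adj₁ S₁) x y → (x ∈ St p ↔ y ∈ St p) := by
      intro x y hxy
      induction hxy with
      | rel x y hxy => exact ⟨hsame p hp x y hxy, hsame p hp y x ⟨hxy.2.1, hxy.1, hxy.2.2.symm⟩⟩
      | refl => exact Iff.rfl
      | symm x y _ ih => exact ih.symm
      | trans x y z _ _ ih1 ih2 => exact ih1.trans ih2
    exact (hstep _ _ (h.connected₁ hns hp.2.1 p.1 hp.1 p₁.1 hp₁.1)).1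
      (hfix p p p.1 (.refl _) (Commute.refl _) hp.2.2)
  have hbase : ∀ p, IsPair S₁ S₂ p → E p (z₁, z₂) := fun p hp => by
    obtain ⟨g, hg1, hg2⟩ := hmap p hp
    exact Relation.EqvGen.trans _ _ _ (hall g p hp) (hinS _ (isPair_cj hp g) hg1 hg2)
  exact .trans _ _ _ (hbase p₁ hp₁) (.symm _ _ (hbase q₁ hq₁))

end CfsgLib.InvChar.ComClosed
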