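import Cfsg.Agent.Lib.InvChar.CommutingSimple
import Mathlib.GroupTheory.Transfer

/-!
Product fusion: if a Sylow 2-subgroup is the product of two strongly closed commuting subgroups, a
core-free group without proper normal subgroups of odd index is the product of the two closures.
-/

set_option autoImplicit false
set_option linter.style.haveILetI false
set_option linter.unusedSectionVars false

namespace CfsgLib.InvChar.ComClosed

open Subgroup
open scoped commutatorElement IsMulCommutative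

universe u

local instance : Fact (Nat.Prime 2) := ⟨Nat.prime_two⟩

/-- A central subgroup complemented in a Sylow subgroup by a strongly closed subgroup whose normal
closure is everything is trivial. -/
theorem central_eq_bot {H : Type*} [Group H] [Finite H] (P : Sylow 2 H) {A B : Subgroup H}
    (hA : A ≤ center H) (hB : Cfsg.IsStronglyClosed B (P : Subgroup H))
    (hsup : A ⊔ B = (P : Subgroup H)) (hdisj : A ⊓ B = ⊥)
    (hnc : normalClosure (B : Set H) = ⊤) : A = ⊥ := by
  classical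
  have hBA : B ≤ normalizer (A : Set H) := le_trans
    (fun b _ => mem_centralizer_iff.2 fun a ha => (mem_center_iff.1 (hA ha) b).symm)
    (centralizer_le_normalizer _)
  haveI hAc : IsMulCommutative ↥A :=
    ⟨⟨fun x y => Subtype.ext (mem_center_iff.1 (hA y.2) x)⟩⟩
  have hdec : ∀ p : ↥(P : Subgroup H), ∃ a : ↥A, (a : H)⁻¹ * p ∈ B := fun p => by
    obtain ⟨a, ha, b, hb, e⟩ := Comp.exists_mul_of_mem_sup hBA (hsup.ge p.2)
    exact ⟨⟨a, ha⟩, by rw [← e, inv_mul_cancel_left]; exact hb⟩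
  choose f hf using hdec
  have huniq : ∀ p : ↥(P : Subgroup H), ∀ a : ↥A, (a : H)⁻¹ * p ∈ B → f p = a := fun p a ha => by
    have hm : (f p : H)⁻¹ * a ∈ A ⊓ B := mem_inf.2 ⟨mul_mem (inv_mem (f p).2) a.2, by
      simpa [mul_assoc] using mul_mem (hf p) (inv_mem ha)⟩
    rw [hdisj, mem_bot, inv_mul_eq_one] at hm
    exact Subtype.ext hm
  let φ : ↥(P : Subgroup H) →* ↥A :=
    { toFun := f
      map_one' := huniq 1 1 (by simp)
      map_mul' := fun p q => huniq _ _ (by
        have e : ((f p * f q : ↥A) : H)⁻¹ * ((p * q : ↥(P : Subgroup H)) : H) =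
            ((f p : H)⁻¹ * p) * ((f q : H)⁻¹ * q) := by
          push_cast
          rw [mul_inv_rev]
          calc (f q : H)⁻¹ * (f p : H)⁻¹ * ((p : H) * q)
              = (f q : H)⁻¹ * ((f p : H)⁻¹ * p) * q := by group
            _ = ((f p : H)⁻¹ * p) * (f q : H)⁻¹ * q := by
              rw [mem_center_iff.1 (inv_mem (hA (f q).2)) ((f p : H)⁻¹ * p)]
            _ = _ := by group
        rw [e]
        exact mul_mem (hf p) (hf q)) }
  set V := MonoidHom.transfer φ
  have hBV : B ≤ V.ker := fun b hb => by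
    haveI := Fintype.ofFinite (Quotient (MulAction.orbitRel (zpowers b) (H ⧸ (P : Subgroup H))))
    rw [MonoidHom.mem_ker, MonoidHom.transfer_eq_prod_quotient_orbitRel_zpowers_quot]
    refine Finset.prod_eq_one fun q _ => huniq _ 1 ?_
    rw [OneMemClass.coe_one, inv_one, one_mul]
    have hmem := QuotientGroup.out_conj_pow_minimalPeriod_mem (P : Subgroup H) b q.out
    have := hB.2 _ (pow_mem hb (Function.minimalPeriod (b • ·) q.out)) q.out.out⁻¹
      (by rwa [inv_inv])
    rwa [inv_inv] at this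
  have hker : V.ker = ⊤ := top_le_iff.1 (hnc.ge.trans (normalClosure_le_normal hBV))
  rw [eq_bot_iff_forall]
  intro a ha
  have hkey : ∀ (k : ℕ) (g₀ : H), g₀⁻¹ * a ^ k * g₀ ∈ (P : Subgroup H) →
      g₀⁻¹ * a ^ k * g₀ = a ^ k := fun k g₀ _ => by
    rw [mul_assoc, ← mem_center_iff.1 (pow_mem (hA ha) k) g₀, inv_mul_cancel_left]
  have h1 : V a = 1 := MonoidHom.mem_ker.1 (hker ▸ mem_top a)
  rw [MonoidHom.transfer_eq_pow φ a hkey] at h1
  have hn : a ^ (P : Subgroup H).index = 1 := by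
    have h2 := huniq ⟨a ^ (P : Subgroup H).index, MonoidHom.transfer_eq_pow_aux a hkey⟩
      ⟨a ^ (P : Subgroup H).index, pow_mem ha _⟩ (by simp)
    rw [show φ ⟨a ^ (P : Subgroup H).index, MonoidHom.transfer_eq_pow_aux a hkey⟩ =
      ⟨a ^ (P : Subgroup H).index, pow_mem ha _⟩ from h2] at h1
    exact congrArg Subtype.val h1
  obtain ⟨k, hk⟩ := P.2 ⟨a, hsup.le (mem_sup_left ha)⟩
  have hk' : a ^ 2 ^ k = 1 := by simpa using congrArg Subtype.val hk
  exact orderOf_eq_one_iff.1 (Nat.eq_one_of_dvd_coprimes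
    (Nat.Coprime.pow_left k (Nat.prime_two.coprime_iff_not_dvd.2 P.not_dvd_index))
    (orderOf_dvd_of_pow_eq_one hk') (orderOf_dvd_of_pow_eq_one hn))

variable {G : Type u} [Group G] [Finite G] {S : Sylow 2 G} {S₁ S₂ : Subgroup G}

/-- A Sylow 2-subgroup of a closure is the corresponding factor. -/
theorem CPair.inter_closure (h : CPair S S₁ S₂) (hS : S₁ ⊔ S₂ = (S : Subgroup G))
    (hcom : ⁅normalClosure (S₁ : Set G), normalClosure (S₂ : Set G)⁆ = ⊥) :
    (S : Subgroup G) ⊓ normalClosure (S₂ : Set G) = S₂ := by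
  set K := normalClosure (S₂ : Set G) with hK
  have hS₁K : S₁ ⊓ K = ⊥ := by
    obtain ⟨R, hR⟩ := Transfer.exists_sylow_eq_subgroupOf S K
    have hle : S₂ ≤ K := fun x hx => subset_normalClosure hx
    have hcR : Cfsg.IsStronglyClosed (S₂.subgroupOf K) (R : Subgroup K) := by
      refine ⟨?_, fun x hx g hg => ?_⟩
      · rw [hR]; exact fun x hx => h.cl₂.1 hx
      · rw [hR] at hg; exact h.cl₂.2 x hx g hg
    have hcen : (S₁ ⊓ K).subgroupOf K ≤ center ↥K := fun x hx => mem_center_iff.2 fun g => by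
      have h1 := commutator_eq_bot_iff_le_centralizer.1 hcom (subset_normalClosure (mem_inf.1 hx).1)
      exact Subtype.ext (mem_centralizer_iff.1 h1 g g.2)
    have hsup : (S₁ ⊓ K).subgroupOf K ⊔ S₂.subgroupOf K = (R : Subgroup K) := by
      rw [hR]
      refine le_antisymm (sup_le (fun x hx => h.cl₁.1 (mem_inf.1 hx).1) fun x hx => h.cl₂.1 hx) ?_
      intro x hx
      have hn : S₂ ≤ normalizer (S₁ : Set G) := le_trans
        (fun y hy => mem_centralizer_iff.2 fun z hz => h.comm z hz y hy)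
        (centralizer_le_normalizer _)
      obtain ⟨a, ha, b, hb, e⟩ := Comp.exists_mul_of_mem_sup hn (hS.ge hx)
      have haK : a ∈ K := by
        rw [show a = (x : G) * b⁻¹ from eq_mul_inv_of_mul_eq e]
        exact mul_mem x.2 (inv_mem (hle hb))
      rw [show x = (⟨a, haK⟩ : K) * ⟨b, hle hb⟩ from Subtype.ext e.symm]
      exact mul_mem_sup (mem_inf.2 ⟨ha, haK⟩) hb
    have hdisj : (S₁ ⊓ K).subgroupOf K ⊓ S₂.subgroupOf K = ⊥ := (eq_bot_iff_forall _).2 fun x hx =>
      Subtype.ext (mem_bot.1 (h.disj ▸ mem_inf.2 ⟨hx.1.1, hx.2⟩))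
    have hnc : normalClosure ((S₂.subgroupOf K : Subgroup K) : Set K) = ⊤ := by
      apply Subgroup.map_injective (K.subtype_injective)
      rw [closure_map_eq h.cl₂ K hle, ← MonoidHom.range_eq_map, K.range_subtype]
    have := central_eq_bot R hcen hcR hsup hdisj hnc
    rwa [subgroupOf_eq_bot, disjoint_iff, inf_assoc, inf_idem] at this
  refine le_antisymm (fun x hx => ?_) (le_inf h.cl₂.1 fun x hx => subset_normalClosure hx)
  have hn : S₂ ≤ normalizer (S₁ : Set G) := le_trans
    (fun y hy => mem_centralizer_iff.2 fun z hz => h.comm z hz y hy) (centralizer_le_normalizer _)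
  obtain ⟨a, ha, b, hb, e⟩ := Comp.exists_mul_of_mem_sup hn (hS.ge hx.1)
  have haK : a ∈ K := by
    rw [show a = x * b⁻¹ by rw [← e, mul_inv_cancel_right]]
    exact mul_mem hx.2 (inv_mem (subset_normalClosure hb))
  have : a = 1 := mem_bot.1 (hS₁K ▸ mem_inf.2 ⟨ha, haK⟩)
  rw [← e, this, one_mul]
  exact hb

/-- A factor has odd index in its closure. -/
theorem CPair.odd_relIndex (h : CPair S S₁ S₂)
    (he : (S : Subgroup G) ⊓ normalClosure (S₂ : Set G) = S₂) :
    Odd (S₂.relIndex (normalClosure (S₂ : Set G))) := by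
  obtain ⟨R, hR⟩ := Transfer.exists_sylow_eq_subgroupOf S (normalClosure (S₂ : Set G))
  have h1 := R.not_dvd_index
  rw [hR] at h1
  rw [← inf_subgroupOf_right, he] at h1
  rw [Nat.odd_iff, Subgroup.relIndex, Nat.two_dvd_ne_zero.1 h1]

/-- Product fusion. -/
theorem CPair.product (h : CPair S S₁ S₂) (hS : S₁ ⊔ S₂ = (S : Subgroup G))
    (hcom : Commutes G) (hO : Cfsg.oddCore G = ⊥)
    (hO' : ∀ N : Subgroup G, N.Normal → Odd N.index → N = ⊤) :
    Cfsg.IsInternalDirectProduct (normalClosure (S₁ : Set G)) (normalClosure (S₂ : Set G)) ⊤ ∧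
      Odd (S₁.relIndex (normalClosure (S₁ : Set G))) ∧
      Odd (S₂.relIndex (normalClosure (S₂ : Set G))) := by
  set K₁ := normalClosure (S₁ : Set G)
  set K₂ := normalClosure (S₂ : Set G)
  have hD : ⁅K₁, K₂⁆ = ⊥ := le_bot_iff.1 (hO ▸ hcom S S₁ S₂ h)
  have hD' : ⁅K₂, K₁⁆ = ⊥ := by rw [commutator_comm]; exact hD
  have hcomm : ∀ a ∈ K₁, ∀ b ∈ K₂, a * b = b * a := fun a ha b hb =>
    (mem_centralizer_iff.1 (commutator_eq_bot_iff_le_centralizer.1 hD ha) b hb).symm
  have hi₂ := h.inter_closure hS hD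
  have hi₁ := h.symm.inter_closure (by rw [sup_comm]; exact hS) hD'
  have htop : K₁ ⊔ K₂ = ⊤ := by
    refine hO' _ (sup_normal K₁ K₂) ?_
    have hle : (S : Subgroup G) ≤ K₁ ⊔ K₂ := hS.ge.trans
      (sup_le_sup (fun x hx => subset_normalClosure hx) fun x hx => subset_normalClosure hx)
    rw [Nat.odd_iff, ← Nat.two_dvd_ne_zero]
    exact fun hd => S.not_dvd_index (hd.trans (index_dvd_of_le hle))
  have hint : K₁ ⊓ K₂ = ⊥ := by
    have hodd : Odd (Nat.card ↥(K₁ ⊓ K₂ : Subgroup G)) := by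
      haveI : (K₁ ⊓ K₂).Normal := normal_inf_normal _ _
      obtain ⟨R, hR⟩ := Transfer.exists_sylow_eq_subgroupOf S (K₁ ⊓ K₂)
      rw [Nat.odd_iff, ← Nat.two_dvd_ne_zero]
      intro hd
      refine R.ne_bot_of_dvd_card hd ?_
      rw [hR, subgroupOf_eq_bot, disjoint_iff, ← le_bot_iff, ← h.disj]
      exact le_inf ((inf_le_inf_left _ inf_le_left).trans hi₁.le)
        ((inf_le_inf_left _ inf_le_right).trans hi₂.le)
    exact le_bot_iff.1 (hO ▸ Invol.le_oddCore (normal_inf_normal _ _) hodd)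
  exact ⟨⟨le_top, le_top, hcomm, hint, htop⟩, h.symm.odd_relIndex hi₁, h.odd_relIndex hi₂⟩

end CfsgLib.InvChar.ComClosed
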