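import Mathlib.Data.List.GetD
import Mathlib.GroupTheory.Index
import Mathlib.GroupTheory.Perm.Basic
import Mathlib.Tactic

/-!
# Certified coset enumerations for groups generated by involutions

A certificate is a derivation list of *facts* `(a, x, b)` between node numbers, each claiming
`w a * s x * (w b)⁻¹ ∈ H`, together with a live table and a permutation table.  The Boolean checks
are written with recursors so that the kernel evaluates them (`decide +kernel`).
-/

set_option autoImplicit false

namespace CfsgLib.InvChar.Coset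

/-- Apply a function to the evaluated value of a numeral. -/
noncomputable def force {α : Type} (n : ℕ) (k : ℕ → α) : α :=
  Nat.rec (k 0) (fun m _ => k (Nat.succ m)) n

theorem force_eq {α : Type} (n : ℕ) (k : ℕ → α) : force n k = k n := by cases n <;> rfl

/-- A binary trie of natural numbers, addressed by the bits of the index, lowest first. -/
inductive Tr : Type
  | leaf (v : ℕ)
  | node (l r : Tr)

/-- Look up an index in a trie. -/
noncomputable def Tr.get (t : Tr) : ℕ → ℕ :=
  Tr.rec (fun v _ => v)
    (fun _ _ l r i => force (i / 2) fun j => Bool.rec (r j) (l j) (Nat.beq (i % 2) 0)) t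

/-- The `i`-th field of width `W` in a table packed `B` to a leaf. -/
noncomputable def field (t : Tr) (B W i : ℕ) : ℕ :=
  force i fun j => (t.get (j / B) >>> ((j % B) * W)) % 2 ^ W

/-- The letter standing for the identity. -/
def eps : ℕ := 15

/-- Prepend a letter unless it is the identity letter. -/
noncomputable def consX (x : ℕ) (L : List ℕ) : List ℕ := bif Nat.beq x 15 then L else x :: L

/-- Equality test of lists of numerals. -/
noncomputable def leq (L : List ℕ) : List ℕ → Bool :=
  List.rec (fun M => List.rec true (fun _ _ _ => false) M)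
    (fun a _ ih M => List.rec false (fun b M' _ => Nat.beq a b && ih M') M) L

theorem eq_of_leq : ∀ L M : List ℕ, leq L M = true → L = M := by
  intro L
  induction L with
  | nil => intro M h; cases M <;> simp_all [leq]
  | cons a L ih =>
    intro M h
    cases M with
    | nil => simp [leq] at h
    | cons b M =>
      have h' : (Nat.beq a b && leq L M) = true := h
      rw [Bool.and_eq_true] at h'
      rw [Nat.eq_of_beq_eq_true h'.1, ih M h'.2]

/-- A derivation certificate. -/
structure Cert where
  /-- number of generators -/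
  g : ℕ
  /-- number of facts -/
  nf : ℕ
  /-- number of defining facts (they come first) -/
  nd : ℕ
  /-- packed facts `(a, x, b)` -/
  facts : Tr
  /-- packed justifications, one stream for each block of 128 facts -/
  just : Tr
  /-- relators -/
  rels : List (List ℕ)
  /-- words generating the subgroup -/
  subs : List (List ℕ)

namespace Cert

variable (D : Cert)

/-- The packed fact `i`. -/
noncomputable def fact (i : ℕ) : ℕ := field D.facts 128 44 i

/-- Source of fact `i`. -/
noncomputable def fa (i : ℕ) : ℕ := D.fact i % 2 ^ 20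
/-- Letter of fact `i`. -/
noncomputable def fx (i : ℕ) : ℕ := (D.fact i >>> 20) % 16
/-- Target of fact `i`. -/
noncomputable def fb (i : ℕ) : ℕ := D.fact i >>> 24

/-- Follow `n` earlier facts from node `c`, reading their indices from the stream `s`; the letters
are accumulated in reverse. -/
noncomputable def walk (t : ℕ) (n : ℕ) :
    ℕ → ℕ → List ℕ → (ℕ → ℕ → List ℕ → Bool) → Bool :=
  Nat.rec (fun s c L k => k s c L)
    (fun _ ih s c L k =>
      force (s % 2 ^ 20) fun r => Nat.blt r t &&
        force (D.fa r) fun a => force (D.fx r) fun x => force (D.fb r) fun b =>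
          force (s >>> 20) fun s' =>
            bif Nat.beq c a then ih s' b (consX x L) k
            else Nat.beq c b && ih s' a (consX x L) k) n

/-- A relator of the list, rotated and possibly reversed. -/
noncomputable def relWord (rel rot rev : ℕ) : List ℕ :=
  bif Nat.beq rev 0 then (D.rels.getD rel []).drop rot ++ (D.rels.getD rel []).take rot
  else ((D.rels.getD rel []).drop rot ++ (D.rels.getD rel []).take rot).reverse

/-- The test applied at the end of the two walks justifying fact `(a, x, b)`. -/
noncomputable def concl (a x kind rel rot rev c₁ : ℕ) (L₁ : List ℕ) (c₂ : ℕ) (L₂ : List ℕ) : Bool :=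
  Nat.beq c₂ a &&
    bif Nat.beq kind 0 then leq (consX x (L₁.reverse ++ L₂.reverse)) (D.relWord rel rot rev)
    else Nat.beq c₁ 0 && leq (L₂.reverse ++ consX x L₁.reverse) (D.subs.getD rel [])

/-- Check the derived fact `t` whose justification starts the stream `s`. -/
noncomputable def chkFact (t s : ℕ) (k : ℕ → Bool) : Bool :=
  force (s % 2 ^ 12) fun n₁ => force ((s >>> 12) % 2 ^ 12) fun n₂ =>
  force ((s >>> 24) % 2 ^ 8) fun rel => force ((s >>> 32) % 2 ^ 8) fun rot =>
  force ((s >>> 40) % 2) fun rev => force ((s >>> 41) % 2) fun kind =>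
  force (s >>> 42) fun s₁ =>
  D.walk t n₁ s₁ (D.fb t) [] fun s₂ c₁ L₁ =>
    D.walk t n₂ s₂ c₁ [] fun s₃ c₂ L₂ =>
      D.concl (D.fa t) (D.fx t) kind rel rot rev c₁ L₁ c₂ L₂ && k s₃

/-- Check the defining fact `t`, which defines node `t + 1`. -/
noncomputable def chkDef (t : ℕ) : Bool :=
  Nat.ble (D.fa t) t && Nat.beq (D.fb t) (t + 1)

/-- Check `n` facts starting from fact `t`, reading the stream `s`. -/
noncomputable def chkRun (n : ℕ) : ℕ → ℕ → Bool :=
  Nat.rec (fun _ _ => true)
    (fun _ ih t s =>
      bif Nat.blt t D.nf then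
        force (t + 1) fun t' =>
          bif Nat.blt t D.nd then D.chkDef t && ih t' s else D.chkFact t s (ih t')
      else true) n

/-- Check `cnt` blocks starting from block `j`. -/
noncomputable def chkBlocks (cnt : ℕ) : ℕ → Bool :=
  Nat.rec (fun _ => true)
    (fun _ ih j => force (D.just.get j) (fun s => D.chkRun 128 (j * 128) s) && force (j + 1) ih) cnt

/-- Check a walk from node `0` back to node `0` spelling the word `w`. -/
noncomputable def chkGoal (t n s : ℕ) (w : List ℕ) : Bool :=
  D.walk t n s 0 [] fun _ c L => Nat.beq c 0 && leq L.reverse w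

end Cert

/-- Value of a letter. -/
def val {G : Type*} [One G] (s : ℕ → G) (x : ℕ) : G := if x = 15 then 1 else s x

/-- Value of a word. -/
def wprod {G : Type*} [Monoid G] (s : ℕ → G) (L : List ℕ) : G := (L.map s).prod

section Sound

variable {G : Type*} [Group G] (D : Cert) (s : ℕ → G) (H : Subgroup G)

theorem wprod_append (L M : List ℕ) : wprod s (L ++ M) = wprod s L * wprod s M := by
  simp [wprod]

theorem wprod_consX (x : ℕ) (L : List ℕ) : wprod s (consX x L) = val s x * wprod s L := by
  rcases eq_or_ne x 15 with rfl | h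
  · simp [consX, val]
  · have : Nat.beq x 15 = false := by
      cases hb : Nat.beq x 15
      · rfl
      · exact absurd (Nat.eq_of_beq_eq_true hb) h
    simp [consX, val, this, h, wprod]

theorem wprod_reverse_consX (x : ℕ) (L : List ℕ) :
    wprod s (consX x L).reverse = wprod s L.reverse * val s x := by
  rcases eq_or_ne x 15 with rfl | h
  · simp [consX, val]
  · have : Nat.beq x 15 = false := by
      cases hb : Nat.beq x 15
      · rfl
      · exact absurd (Nat.eq_of_beq_eq_true hb) h
    simp [consX, val, this, h, wprod, List.reverse_cons]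

theorem val_mul_self (hs : ∀ x, s x * s x = 1) (x : ℕ) : val s x * val s x = 1 := by
  unfold val; split <;> simp [hs]

theorem wprod_reverse (hs : ∀ x, s x * s x = 1) (L : List ℕ) :
    wprod s L.reverse = (wprod s L)⁻¹ := by
  induction L with
  | nil => simp [wprod]
  | cons a L ih =>
    rw [List.reverse_cons, wprod_append, ih]
    simp [wprod, inv_eq_of_mul_eq_one_right (hs a)]

theorem wprod_rotate (L : List ℕ) (k : ℕ) (h : wprod s L = 1) :
    wprod s (L.drop k ++ L.take k) = 1 := by
  have e : wprod s (L.take k) * wprod s (L.drop k) = 1 := by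
    rw [← wprod_append, List.take_append_drop, h]
  rw [wprod_append]
  exact mul_eq_one_comm.1 e

/-- Representative of a node, read off the defining facts. -/
noncomputable def nodeRep : ℕ → G
  | 0 => 1
  | k + 1 => if D.fa k ≤ k then nodeRep (D.fa k) * val s (D.fx k) else 1
  termination_by k => k
  decreasing_by omega

/-- The claim of fact `i`. -/
def Holds (i : ℕ) : Prop :=
  nodeRep D s (D.fa i) * val s (D.fx i) * (nodeRep D s (D.fb i))⁻¹ ∈ H

variable {D s H}

theorem walk_sound (hs : ∀ x, s x * s x = 1) {t : ℕ} (hold : ∀ r < t, Holds D s H r) :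
    ∀ (n st c : ℕ) (L : List ℕ) (k : ℕ → ℕ → List ℕ → Bool), D.walk t n st c L k = true →
      ∃ st' c' L', k st' c' L' = true ∧
        ∀ u : G, u * wprod s L.reverse * (nodeRep D s c)⁻¹ ∈ H →
          u * wprod s L'.reverse * (nodeRep D s c')⁻¹ ∈ H := by
  intro n
  induction n with
  | zero => intro st c L k h; exact ⟨st, c, L, h, fun _ hu => hu⟩
  | succ n ih =>
    intro st c L k h
    have h' : (force (st % 2 ^ 20) fun r => Nat.blt r t &&
        force (D.fa r) fun a => force (D.fx r) fun x => force (D.fb r) fun b =>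
          force (st >>> 20) fun s' =>
            bif Nat.beq c a then D.walk t n s' b (consX x L) k
            else Nat.beq c b && D.walk t n s' a (consX x L) k) = true := h
    simp only [force_eq, Bool.and_eq_true] at h'
    obtain ⟨hr, h'⟩ := h'
    have hr' : st % 2 ^ 20 < t := by simpa [Nat.blt] using hr
    have hH := hold _ hr'
    set r := st % 2 ^ 20
    cases hb : Nat.beq c (D.fa r) with
    | true =>
      rw [hb] at h'
      have hc : c = D.fa r := Nat.eq_of_beq_eq_true hb
      obtain ⟨st', c', L', hk, hi⟩ := ih _ _ _ _ h'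
      refine ⟨st', c', L', hk, fun u hu => hi u ?_⟩
      rw [wprod_reverse_consX]
      have := mul_mem hu hH
      rw [hc] at this
      simpa [mul_assoc] using this
    | false =>
      rw [hb] at h'
      simp only [cond_false, Bool.and_eq_true] at h'
      have hc : c = D.fb r := Nat.eq_of_beq_eq_true h'.1
      obtain ⟨st', c', L', hk, hi⟩ := ih _ _ _ _ h'.2
      refine ⟨st', c', L', hk, fun u hu => hi u ?_⟩
      rw [wprod_reverse_consX]
      have := mul_mem hu (inv_mem hH)
      rw [hc] at this
      simpa [mul_assoc, inv_eq_of_mul_eq_one_right (val_mul_self s hs _)] using this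

theorem chkFact_sound (hs : ∀ x, s x * s x = 1) (hR : ∀ r ∈ D.rels, wprod s r = 1)
    (hS : ∀ r ∈ D.subs, wprod s r ∈ H) {t st : ℕ} {k : ℕ → Bool}
    (hold : ∀ r < t, Holds D s H r) (h : D.chkFact t st k = true) :
    Holds D s H t ∧ ∃ st', k st' = true := by
  unfold Cert.chkFact at h
  simp only [force_eq] at h
  obtain ⟨s₂, c₁, L₁, h₂, i₁⟩ := walk_sound hs hold _ _ _ _ _ h
  obtain ⟨s₃, c₂, L₂, h₃, i₂⟩ := walk_sound hs hold _ _ _ _ _ h₂
  rw [Bool.and_eq_true] at h₃
  obtain ⟨hc, hk⟩ := h₃
  refine ⟨?_, s₃, hk⟩
  simp only [Cert.concl, Bool.and_eq_true] at hc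
  obtain ⟨hca, hc⟩ := hc
  have hca := Nat.eq_of_beq_eq_true hca
  have j₁ : nodeRep D s (D.fb t) * wprod s L₁.reverse * (nodeRep D s c₁)⁻¹ ∈ H :=
    i₁ _ (by simp [wprod])
  have j₂ : nodeRep D s c₁ * wprod s L₂.reverse * (nodeRep D s c₂)⁻¹ ∈ H :=
    i₂ _ (by simp [wprod])
  rw [hca] at j₂
  unfold Holds
  generalize nodeRep D s (D.fb t) = B at *
  generalize nodeRep D s (D.fa t) = A at *
  generalize (st >>> 41) % 2 = kind at hc
  cases hb : Nat.beq kind 0 with
  | true =>
    rw [hb] at hc
    have hw := congrArg (wprod s) (eq_of_leq _ _ hc)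
    have hone : ∀ rel rot rev, wprod s (D.relWord rel rot rev) = 1 := by
      intro rel rot rev
      have h1 : wprod s (D.rels.getD rel []) = 1 := by
        rcases lt_or_ge rel D.rels.length with hl | hl
        · rw [List.getD_eq_getElem _ _ hl]; exact hR _ (List.getElem_mem hl)
        · rw [List.getD_eq_default _ _ hl]; simp [wprod]
      cases hv : Nat.beq rev 0 <;> simp only [Cert.relWord, hv, cond_true, cond_false]
      · rw [wprod_reverse s hs, wprod_rotate s _ _ h1, inv_one]
      · exact wprod_rotate s _ _ h1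
    rw [hone, wprod_consX, wprod_append] at hw
    have key : wprod s L₁.reverse * wprod s L₂.reverse = val s (D.fx t) := by
      have := inv_eq_of_mul_eq_one_right hw
      rw [← this, inv_eq_of_mul_eq_one_right (val_mul_self s hs _)]
    have hBA : B * val s (D.fx t) * A⁻¹ ∈ H := by
      rw [← key]; simpa [mul_assoc] using mul_mem j₁ j₂
    simpa [mul_assoc, inv_eq_of_mul_eq_one_right (val_mul_self s hs _)] using inv_mem hBA
  | false =>
    rw [hb] at hc
    simp only [cond_false, Bool.and_eq_true] at hc
    have h0 := Nat.eq_of_beq_eq_true hc.1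
    rw [h0, nodeRep] at j₁ j₂
    have hw := congrArg (wprod s) (eq_of_leq _ _ hc.2)
    rw [wprod_append, wprod_consX] at hw
    have hin : wprod s L₂.reverse * (val s (D.fx t) * wprod s L₁.reverse) ∈ H := by
      rw [hw]
      generalize (st >>> 24) % 2 ^ 8 = rel
      rcases lt_or_ge rel D.subs.length with hl | hl
      · rw [List.getD_eq_getElem _ _ hl]; exact hS _ (List.getElem_mem hl)
      · rw [List.getD_eq_default _ _ hl]; simp [wprod]
    simpa [mul_assoc] using mul_mem (mul_mem (inv_mem j₂) hin) (inv_mem j₁)

theorem chkRun_sound (hs : ∀ x, s x * s x = 1) (hR : ∀ r ∈ D.rels, wprod s r = 1)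
    (hS : ∀ r ∈ D.subs, wprod s r ∈ H) :
    ∀ (n t st : ℕ), D.chkRun n t st = true → (∀ r < t, Holds D s H r) →
      ∀ r, r < t + n → r < D.nf → Holds D s H r := by
  intro n
  induction n with
  | zero => intro t st _ hold r hr _; exact hold r (by omega)
  | succ n ih =>
    intro t st h hold r hr hrn
    rcases lt_or_ge r t with hrt | hrt
    · exact hold r hrt
    have htn : t < D.nf := lt_of_le_of_lt hrt hrn
    have h' : (bif Nat.blt t D.nf then
        force (t + 1) fun t' =>
          bif Nat.blt t D.nd then D.chkDef t && D.chkRun n t' st else D.chkFact t st (D.chkRun n t')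
      else true) = true := h
    rw [show Nat.blt t D.nf = true by simpa [Nat.blt] using htn, cond_true, force_eq] at h'
    suffices hh : Holds D s H t ∧ ∃ st', D.chkRun n (t + 1) st' = true by
      obtain ⟨ht, st', hst⟩ := hh
      refine ih _ _ hst (fun r' hr' => ?_) r (by omega) hrn
      rcases lt_or_eq_of_le (Nat.lt_succ_iff.1 hr') with h1 | h1
      · exact hold r' h1
      · rw [h1]; exact ht
    cases hd : Nat.blt t D.nd with
    | true =>
      rw [hd] at h'
      simp only [cond_true, Bool.and_eq_true, Cert.chkDef] at h'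
      refine ⟨?_, st, h'.2⟩
      unfold Holds
      rw [Nat.eq_of_beq_eq_true h'.1.2, nodeRep.eq_2, if_pos (Nat.le_of_ble_eq_true h'.1.1),
        mul_inv_cancel]
      exact one_mem H
    | false =>
      rw [hd] at h'
      exact chkFact_sound hs hR hS hold h'

theorem chkBlocks_get : ∀ (cnt j : ℕ), D.chkBlocks cnt j = true →
    ∀ i < cnt, D.chkRun 128 ((j + i) * 128) (D.just.get (j + i)) = true := by
  intro cnt
  induction cnt with
  | zero => intro j _ i hi; omega
  | succ cnt ih =>
    intro j h i hi
    have h' : (force (D.just.get j) (fun s => D.chkRun 128 (j * 128) s) &&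
      force (j + 1) (fun j' => D.chkBlocks cnt j')) = true := h
    simp only [force_eq, Bool.and_eq_true] at h'
    rcases i with _ | i
    · exact h'.1
    · have := ih _ h'.2 i (by omega)
      rwa [show j + 1 + i = j + (i + 1) by omega] at this

/-- All facts hold once every block has been checked. -/
theorem holds_of_blocks (hs : ∀ x, s x * s x = 1) (hR : ∀ r ∈ D.rels, wprod s r = 1)
    (hS : ∀ r ∈ D.subs, wprod s r ∈ H) (nb : ℕ) (hnb : D.nf ≤ nb * 128)
    (h : ∀ j < nb, D.chkRun 128 (j * 128) (D.just.get j) = true) :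
    ∀ r < D.nf, Holds D s H r := by
  suffices ∀ j ≤ nb, ∀ r < D.nf, r < j * 128 → Holds D s H r from
    fun r hr => this nb le_rfl r hr (lt_of_lt_of_le hr hnb)
  intro j
  induction j with
  | zero => intro _ r _ hr; omega
  | succ j ih =>
    intro hj r hrn hr
    rcases lt_or_ge r (j * 128) with h1 | h1
    · exact ih (by omega) r hrn h1
    · refine chkRun_sound hs hR hS 128 _ _ (h j (by omega)) (fun r' hr' => ?_) r (by omega) hrn
      exact ih (by omega) r' (by omega) hr'

end Sound

/-- A checked goal: the word lies in the subgroup. -/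
theorem mem_of_goal {G : Type*} [Group G] {D : Cert} {s : ℕ → G} {H : Subgroup G}
    (hs : ∀ x, s x * s x = 1) {t n st : ℕ} {w : List ℕ} (hold : ∀ r < t, Holds D s H r)
    (h : D.chkGoal t n st w = true) : wprod s w ∈ H := by
  obtain ⟨_, c, L, hc, hi⟩ := walk_sound hs hold _ _ _ _ _ h
  rw [Bool.and_eq_true] at hc
  rw [← eq_of_leq _ _ hc.2]
  have := hi 1 (by simp [wprod, nodeRep])
  rwa [Nat.eq_of_beq_eq_true hc.1, nodeRep, one_mul, inv_one, mul_one] at this

/-- A table of the images of `n` points under `g` letters. -/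
structure Table where
  /-- number of points -/
  n : ℕ
  /-- number of letters -/
  g : ℕ
  /-- packed table, field `i * g + x` holds the image of `i` under `x` -/
  perm : Tr

namespace Table

variable (T : Table)

/-- Image of `i` under `x`. -/
noncomputable def app (i x : ℕ) : ℕ := field T.perm 128 20 (i * T.g + x)

/-- Follow a word. -/
noncomputable def follow (L : List ℕ) : ℕ → ℕ :=
  List.rec (fun i => i) (fun x _ ih i => force (T.app i x) ih) L

/-- One row of the link between the table and the facts. -/
noncomputable def chkRow (D : Cert) (live fin : Tr) (i : ℕ) (m : ℕ) : Bool :=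
  Nat.rec true
    (fun x ih =>
      force (field fin 128 20 (i * T.g + x)) (fun f => force (T.app i x) fun j =>
        Nat.blt j T.n && Nat.blt f D.nf && Nat.beq (D.fx f) x &&
          ((Nat.beq (D.fa f) (field live 128 20 i) && Nat.beq (D.fb f) (field live 128 20 j)) ||
            (Nat.beq (D.fb f) (field live 128 20 i) && Nat.beq (D.fa f) (field live 128 20 j)))) && ih) m

/-- The link for `cnt` rows from `i`. -/
noncomputable def chkRows (D : Cert) (live fin : Tr) (cnt : ℕ) : ℕ → Bool :=
  Nat.rec (fun _ => true)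
    (fun _ ih i => T.chkRow D live fin i T.g && force (i + 1) ih) cnt

end Table

section Cover

variable {D : Cert} {T : Table} {live fin : Tr}

/-- What a checked row says. -/
def RowOK (T : Table) (D : Cert) (live fin : Tr) (i : ℕ) : Prop :=
  ∀ x < T.g, T.app i x < T.n ∧ ∃ f < D.nf, D.fx f = x ∧
    ((D.fa f = field live 128 20 i ∧ D.fb f = field live 128 20 (T.app i x)) ∨
      (D.fb f = field live 128 20 i ∧ D.fa f = field live 128 20 (T.app i x)))

theorem chkRow_sound {i : ℕ} : ∀ m, T.chkRow D live fin i m = true →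
    ∀ x < m, T.app i x < T.n ∧ ∃ f < D.nf, D.fx f = x ∧
      ((D.fa f = field live 128 20 i ∧ D.fb f = field live 128 20 (T.app i x)) ∨
        (D.fb f = field live 128 20 i ∧ D.fa f = field live 128 20 (T.app i x))) := by
  intro m
  induction m with
  | zero => intro _ x hx; omega
  | succ m ih =>
    intro hm x hx
    have h' : (force (field fin 128 20 (i * T.g + m)) (fun f => force (T.app i m) fun j =>
        Nat.blt j T.n && Nat.blt f D.nf && Nat.beq (D.fx f) m &&
          ((Nat.beq (D.fa f) (field live 128 20 i) && Nat.beq (D.fb f) (field live 128 20 j)) ||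
            (Nat.beq (D.fb f) (field live 128 20 i) && Nat.beq (D.fa f) (field live 128 20 j)))) &&
        T.chkRow D live fin i m) = true := hm
    simp only [force_eq, Bool.and_eq_true, Bool.or_eq_true] at h'
    rcases Nat.lt_succ_iff_lt_or_eq.1 hx with h1 | h1
    · exact ih h'.2 x h1
    · subst h1
      obtain ⟨⟨⟨⟨a1, a2⟩, a3⟩, a4⟩, -⟩ := h'
      exact ⟨by simpa [Nat.blt] using a1, _, by simpa [Nat.blt] using a2, Nat.eq_of_beq_eq_true a3,
        a4.imp (fun h => ⟨Nat.eq_of_beq_eq_true h.1, Nat.eq_of_beq_eq_true h.2⟩)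
          fun h => ⟨Nat.eq_of_beq_eq_true h.1, Nat.eq_of_beq_eq_true h.2⟩⟩

theorem chkRows_get : ∀ (cnt i : ℕ), T.chkRows D live fin cnt i = true →
    ∀ j, i ≤ j → j < i + cnt → RowOK T D live fin j := by
  intro cnt
  induction cnt with
  | zero => intro i _ j h1 h2; omega
  | succ cnt ih =>
    intro i h j h1 h2
    have h' : (T.chkRow D live fin i T.g &&
      force (i + 1) (fun i' => T.chkRows D live fin cnt i')) = true := h
    rw [Bool.and_eq_true, force_eq] at h'
    rcases eq_or_lt_of_le h1 with rfl | h3
    · exact chkRow_sound _ h'.1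
    · exact ih _ h'.2 j h3 (by omega)

/-- A checked closed coset table. -/
structure Covered (D : Cert) (T : Table) (live fin : Tr) : Prop where
  hg15 : T.g ≤ 15
  hn : 0 < T.n
  facts : ∃ nb, D.nf ≤ nb * 128 ∧ ∀ j < nb, D.chkRun 128 (j * 128) (D.just.get j) = true
  rows : ∀ i < T.n, RowOK T D live fin i
  root : field live 128 20 0 = 0

variable (hC : Covered D T live fin) {G : Type*} [Group G] (s : ℕ → G) (H : Subgroup G)

/-- The coset with number `i`. -/
noncomputable def coset (D : Cert) (live : Tr) (i : ℕ) : G ⧸ H :=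
  QuotientGroup.mk (nodeRep D s (field live 128 20 i))⁻¹

include hC

theorem Covered.smul_coset (hs : ∀ x, s x * s x = 1) (hR : ∀ r ∈ D.rels, wprod s r = 1)
    (hS : ∀ r ∈ D.subs, wprod s r ∈ H) {x : ℕ} (hx : x < T.g) {i : ℕ} (hi : i < T.n) :
    s x • coset s H D live i = coset s H D live (T.app i x) := by
  obtain ⟨nb, hnb, hblk⟩ := hC.facts
  have hF := holds_of_blocks (D := D) (s := s) (H := H) hs hR hS nb hnb hblk
  obtain ⟨-, f, hf, hfx, hor⟩ := hC.rows i hi x hx
  have h := hF f hf
  unfold Holds at h
  have hval : val s x = s x := if_neg (by have := hC.hg15; omega)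
  show ((s x * (nodeRep D s (field live 128 20 i))⁻¹ : G) : G ⧸ H) = QuotientGroup.mk _
  rw [QuotientGroup.eq, mul_inv_rev, inv_inv, inv_eq_of_mul_eq_one_right (hs x)]
  rw [hfx, hval] at h
  rcases hor with ⟨ha, hb⟩ | ⟨hb, ha⟩
  · rwa [ha, hb] at h
  · rw [ha, hb] at h
    have h2 := inv_mem h
    rw [mul_inv_rev, inv_inv, mul_inv_rev, inv_eq_of_mul_eq_one_right (hs x), ← mul_assoc] at h2
    exact h2

theorem Covered.coset_zero : coset s H D live 0 = ((1 : G) : G ⧸ H) := by
  simp [coset, hC.root, nodeRep]

theorem Covered.exists_coset (hs : ∀ x, s x * s x = 1) (hR : ∀ r ∈ D.rels, wprod s r = 1)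
    (hS : ∀ r ∈ D.subs, wprod s r ∈ H) (hgen : Subgroup.closure (s '' Set.Iio T.g) = ⊤)
    (y : G ⧸ H) : ∃ i < T.n, coset s H D live i = y := by
  have key : ∀ g : G, ∀ i < T.n, ∃ j < T.n, g • coset s H D live i = coset s H D live j := by
    intro g
    induction (hgen ▸ Subgroup.mem_top g : g ∈ Subgroup.closure (s '' Set.Iio T.g))
      using Subgroup.closure_induction_left with
    | one => intro i hi; exact ⟨i, hi, one_smul _ _⟩
    | mul_left a ha b _ ih =>
      obtain ⟨x, hx, rfl⟩ := ha
      intro i hi
      obtain ⟨j, hj, e⟩ := ih i hi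
      exact ⟨_, (hC.rows j hj x hx).1, by rw [mul_smul, e, hC.smul_coset s H hs hR hS hx hj]⟩
    | inv_mul_cancel a ha b _ ih =>
      obtain ⟨x, hx, rfl⟩ := ha
      intro i hi
      obtain ⟨j, hj, e⟩ := ih i hi
      refine ⟨_, (hC.rows j hj x hx).1, ?_⟩
      rw [inv_eq_of_mul_eq_one_right (hs x), mul_smul, e, hC.smul_coset s H hs hR hS hx hj]
  obtain ⟨g, rfl⟩ := QuotientGroup.mk_surjective y
  obtain ⟨j, hj, e⟩ := key g 0 hC.hn
  refine ⟨j, hj, ?_⟩
  rw [← e, hC.coset_zero s H]
  show ((g * 1 : G) : G ⧸ H) = g
  rw [mul_one]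

/-- **Certified coset enumeration**, upper bound: the subgroup has index at most `n`. -/
theorem Covered.index_le (hs : ∀ x, s x * s x = 1) (hR : ∀ r ∈ D.rels, wprod s r = 1)
    (hS : ∀ r ∈ D.subs, wprod s r ∈ H) (hgen : Subgroup.closure (s '' Set.Iio T.g) = ⊤) :
    H.index ≠ 0 ∧ H.index ≤ T.n := by
  let f : Fin T.n → G ⧸ H := fun i => coset s H D live i
  have hf : Function.Surjective f := fun y => by
    obtain ⟨i, hi, rfl⟩ := hC.exists_coset s H hs hR hS hgen y
    exact ⟨⟨i, hi⟩, rfl⟩
  have : Finite (G ⧸ H) := Finite.of_surjective f hf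
  refine ⟨Subgroup.index_ne_zero_of_finite, ?_⟩
  rw [Subgroup.index]
  exact (Nat.card_le_card_of_surjective f hf).trans (Nat.card_fin _).le

end Cover

end CfsgLib.InvChar.Coset
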