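import Mathlib
import Cfsg.Agent.Lib.Clifford.DihedralEight
import Cfsg.Agent.Lib.Clifford.Quaternion
import Cfsg.Agent.Lib.Transfer.Thompson
import Cfsg.Agent.Lib.Char.Burnside

/-!
# Perfect groups of order 168 or 360 with an involution centraliser dihedral of order 8 are simple
-/

set_option autoImplicit false

namespace CfsgLib.InvChar.DihedralSylow

open scoped commutatorElement

theorem isSimpleGroup_of_centralizer {G : Type*} [Group G] [Finite G] (hperf : commutator G = ⊤) (t : G)
    (ht : orderOf t = 2) (e : Subgroup.centralizer ({t} : Set G) ≃* DihedralGroup 4)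
    (hord : Nat.card G = 168 ∨ Nat.card G = 360) : IsSimpleGroup G := by
  classical
  have := Fintype.ofFinite G
  set D := Subgroup.centralizer ({t} : Set G) with hDdef
  have : Fintype D := Fintype.ofFinite D
  have htD : t ∈ D := Subgroup.mem_centralizer_singleton_iff.mpr rfl
  have hcardD : Nat.card D = 8 := by rw [Nat.card_congr e.toEquiv, DihedralGroup.nat_card]
  have ht1 : t ≠ 1 := fun h => by rw [h, orderOf_one] at ht; norm_num at ht
  have htt : t * t = 1 := by rw [← pow_two, ← ht, pow_orderOf_eq_one]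
  have hcen : ∀ z : D, (∀ y : D, z * y = y * z) → z = 1 ∨ z = e.symm (.r 2) := fun z hz => by
    rcases CfsgLib.Clifford.DihedralEight.eq_center (e z) (fun y => by
      have := congr_arg e (hz (e.symm y)); simpa using this) with h | h
    · left; exact e.injective (by rw [h, map_one])
    · right; rw [← h, e.symm_apply_apply]
  have het : e ⟨t, htD⟩ = .r 2 := by
    rcases hcen ⟨t, htD⟩ (fun y => Subtype.ext
      (Subgroup.mem_centralizer_singleton_iff.mp y.2).symm) with h | h
    · exact absurd (congr_arg Subtype.val h) ht1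
    · rw [h, e.apply_symm_apply]
  -- Sylow
  have : Fact (Nat.Prime 2) := ⟨Nat.prime_two⟩
  obtain ⟨T, hT⟩ := (IsPGroup.of_card (n := 3) (by rw [hcardD]; norm_num) : IsPGroup 2 D).exists_le_sylow
  have hTD : (T : Subgroup G) = D := by
    refine le_antisymm (fun g hg => ?_) hT
    have : Nontrivial (T : Subgroup G) := ⟨⟨⟨t, hT htD⟩, 1, fun h => ht1 (congr_arg Subtype.val h)⟩⟩
    have := T.2.center_nontrivial
    obtain ⟨⟨z, hz⟩, hz1⟩ := exists_ne (1 : Subgroup.center (T : Subgroup G))
    have hcomm : ∀ y ∈ (T : Subgroup G), (z : G) * y = y * z := fun y hy =>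
      (congr_arg Subtype.val (Subgroup.mem_center_iff.mp hz ⟨y, hy⟩)).symm
    have hzD : (z : G) ∈ D := Subgroup.mem_centralizer_singleton_iff.mpr (hcomm t (hT htD))
    rcases hcen ⟨z, hzD⟩ (fun y => Subtype.ext (hcomm y (hT y.2))) with h | h
    · exact absurd (Subtype.ext (Subtype.ext (congr_arg Subtype.val h : (z : G) = 1))) hz1
    · have hzt : (z : G) = t := by
        have h2 : (⟨z, hzD⟩ : D) = ⟨t, htD⟩ := by rw [h, ← het, e.symm_apply_apply]
        exact congr_arg Subtype.val h2
      exact Subgroup.mem_centralizer_singleton_iff.mpr (by rw [← hzt]; exact (hcomm g hg).symm)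
  obtain ⟨m, hm, hGm⟩ : ∃ m, m % 2 = 1 ∧ Nat.card G = 8 * m := by
    refine ⟨D.index, ?_, by rw [← hcardD, mul_comm]; exact D.index_mul_card.symm⟩
    rw [← hTD]
    exact Nat.two_dvd_ne_zero.mp T.not_dvd_index
  -- one class of involutions
  have hconj : ∀ u : G, u * u = 1 → u ≠ 1 → IsConj t u := by
    intro u hu hu1
    obtain ⟨g, hg⟩ : ∃ g : G, g * u * g⁻¹ ∈ (T : Subgroup G) := by
      obtain ⟨g, hg⟩ := CfsgLib.Clifford.Quat.exists_conj_mem (S := T) (R := Subgroup.zpowers u)
        (IsPGroup.of_card_dvd_pow (n := 1) (by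
          rw [Nat.card_zpowers, pow_one]; exact orderOf_dvd_of_pow_eq_one (by rw [pow_two, hu])))
      exact ⟨g, hg u (Subgroup.mem_zpowers u)⟩
    set v := g * u * g⁻¹ with hv
    have hv2 : v ^ 2 = 1 := by rw [hv, conj_pow, pow_two, hu]; group
    let Q : Subgroup G := (Subgroup.zpowers (DihedralGroup.r 1 : DihedralGroup 4)).map
      (D.subtype.comp e.symm.toMonoidHom)
    have hQD : Q ≤ D := fun x ⟨y, _, hy⟩ => hy ▸ (e.symm y).2
    have hQT : Q ≤ (T : Subgroup G) := hTD.symm ▸ hQD
    have hQi : Q.relIndex (T : Subgroup G) = 2 := by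
      rw [hTD]
      have h := (Q.subgroupOf D).index_mul_card
      rw [Nat.card_congr (Subgroup.subgroupOfEquivOfLe hQD).toEquiv, hcardD,
        Subgroup.card_map_of_injective (f := D.subtype.comp e.symm.toMonoidHom)
          (D.subtype_injective.comp e.symm.injective), Nat.card_zpowers, DihedralGroup.orderOf_r_one] at h
      show (Q.subgroupOf D).index = 2
      omega
    rcases CfsgLib.Transfer.thompson_transfer_involution T hQT hQi hv2 hg with ⟨M, hM, hMi, hvM⟩ | ⟨k, hk⟩
    · exfalso
      have hle : commutator G ≤ M := by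
        rw [commutator_def, Subgroup.commutator_le]
        intro x _ y _
        rw [← QuotientGroup.eq_one_iff, commutatorElement_def]
        have : IsCyclic (G ⧸ M) := isCyclic_of_prime_card (p := 2) (by rw [← Subgroup.index_eq_card, hMi])
        obtain ⟨c, hc⟩ := this.exists_generator
        obtain ⟨i, hi⟩ := hc (x : G ⧸ M)
        obtain ⟨j, hj⟩ := hc (y : G ⧸ M)
        simp only at hi hj
        rw [QuotientGroup.mk_mul, QuotientGroup.mk_mul, QuotientGroup.mk_mul, QuotientGroup.mk_inv,
          QuotientGroup.mk_inv, ← hi, ← hj, ((Commute.refl c).zpow_zpow i j).eq]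
        group
      rw [hperf] at hle
      exact hvM (hle (Subgroup.mem_top v))
    · obtain ⟨y, hy, hye⟩ := hk
      obtain ⟨i, rfl⟩ := CfsgLib.Clifford.DihedralEight.mem_rot hy
      have hye2 : (e.symm (DihedralGroup.r i) : G) = k * v * k⁻¹ := hye
      have hw : k * v * k⁻¹ * (k * v * k⁻¹) = 1 := by
        rw [← pow_two, conj_pow, hv2]; group
      have hy2 : (DihedralGroup.r i : DihedralGroup 4) = .r 2 := by
        refine CfsgLib.Clifford.DihedralEight.eq_of_rot_invol i ?_ fun h => ?_
        · apply e.symm.injective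
          rw [map_mul, map_one]
          exact Subtype.ext (by simp [hye2, hw])
        · rw [h, map_one] at hye2
          exact hu1 (by simpa [hv] using hye2.symm)
      have h3 : k * v * k⁻¹ = t := by
        rw [← hye2, hy2, ← het, e.symm_apply_apply]
      exact (isConj_iff.mpr ⟨k * g, by rw [← h3, hv]; group⟩ : IsConj u t).symm
  haveI : Nontrivial G := ⟨⟨t, 1, ht1⟩⟩
  refine ⟨fun N hN => ?_⟩
  by_cases hev : 2 ∣ Nat.card N
  · right
    obtain ⟨v, hv⟩ := exists_prime_orderOf_dvd_card' (p := 2) hev
    have hvG : orderOf (v : G) = 2 := by rw [Subgroup.orderOf_coe, hv]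
    have hinv : ∀ u : G, u * u = 1 → u ≠ 1 → u ∈ N := by
      intro u hu hu1
      have h1 : IsConj t (v : G) := hconj _
        (by have := pow_orderOf_eq_one (v : G); rwa [hvG, pow_two] at this)
        (fun h => by rw [h, orderOf_one] at hvG; omega)
      obtain ⟨c, hc⟩ := isConj_iff.1 (h1.symm.trans (hconj u hu hu1))
      exact hc ▸ hN.conj_mem _ v.2 c
    have hDN : D ≤ N := by
      intro x hx
      have hinv' : ∀ i, ((e.symm (DihedralGroup.sr i) : D) : G) ∈ N := fun i => by
        refine hinv _ ?_ fun h => ?_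
        · rw [← Subgroup.coe_mul, ← map_mul]
          simp
        · have h' : e.symm (DihedralGroup.sr i) = 1 := Subtype.ext h
          rw [MulEquiv.map_eq_one_iff, DihedralGroup.one_def] at h'
          cases h'
      obtain ⟨d, hd⟩ := e.symm.surjective ⟨x, hx⟩
      rw [show x = ((e.symm d : D) : G) from (congrArg Subtype.val hd).symm]
      rcases d with i | i
      · rw [show DihedralGroup.r i = DihedralGroup.sr (0 : ZMod 4) * DihedralGroup.sr i by simp, map_mul,
          Subgroup.coe_mul]
        exact N.mul_mem (hinv' 0) (hinv' i)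
      · exact hinv' i
    have hdvd : N.index ∣ m := by
      have h1 : D.index = m := by
        have := D.card_mul_index
        rw [hcardD] at this
        omega
      exact h1 ▸ Subgroup.index_dvd_of_le hDN
    rw [← Subgroup.index_eq_one]
    rw [Subgroup.index_eq_card] at hdvd ⊢
    haveI := hN
    have hq : commutator (G ⧸ N) = ⊤ := by
      have h := congrArg (Subgroup.map (QuotientGroup.mk' N)) hperf
      rw [commutator_def, Subgroup.map_commutator,
        Subgroup.map_top_of_surjective _ (QuotientGroup.mk'_surjective N)] at h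
      exact h
    haveI hsol : Group.IsSolvable (G ⧸ N) := by
      rcases hord with h | h <;> rw [h] at hGm
      · obtain rfl : m = 21 := by omega
        obtain ⟨i, j, hij⟩ : ∃ i j, Nat.card (G ⧸ N) = 3 ^ i * 7 ^ j := by
          have : Nat.card (G ⧸ N) ∈ Nat.divisors 21 := Nat.mem_divisors.2 ⟨hdvd, by norm_num⟩
          rw [show Nat.divisors 21 = ({1, 3, 7, 21} : Finset ℕ) by decide] at this
          simp only [Finset.mem_insert, Finset.mem_singleton] at this
          rcases this with h | h | h | h
          · exact ⟨0, 0, h⟩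
          · exact ⟨1, 0, h⟩
          · exact ⟨0, 1, h⟩
          · exact ⟨1, 1, h⟩
        exact CfsgLib.Char.burnside_pq 3 7 (by norm_num) (by norm_num) i j _ hij
      · obtain rfl : m = 45 := by omega
        obtain ⟨i, j, hij⟩ : ∃ i j, Nat.card (G ⧸ N) = 3 ^ i * 5 ^ j := by
          have : Nat.card (G ⧸ N) ∈ Nat.divisors 45 := Nat.mem_divisors.2 ⟨hdvd, by norm_num⟩
          rw [show Nat.divisors 45 = ({1, 3, 5, 9, 15, 45} : Finset ℕ) by decide] at this
          simp only [Finset.mem_insert, Finset.mem_singleton] at this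
          rcases this with h | h | h | h | h | h
          · exact ⟨0, 0, h⟩
          · exact ⟨1, 0, h⟩
          · exact ⟨0, 1, h⟩
          · exact ⟨2, 0, h⟩
          · exact ⟨1, 1, h⟩
          · exact ⟨2, 1, h⟩
        exact CfsgLib.Char.burnside_pq 3 5 (by norm_num) (by norm_num) i j _ hij
    obtain ⟨k, hk⟩ := hsol.solvable
    have hds : ∀ j, derivedSeries (G ⧸ N) j = ⊤ := by
      intro j
      induction j with
      | zero => rfl
      | succ j ih => rw [derivedSeries_succ, ih, ← commutator_def, hq]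
    have : Subsingleton (G ⧸ N) := Subgroup.subsingleton_iff.1 (subsingleton_of_top_le_bot (hds k ▸ hk.le))
    exact Nat.card_unique
  · left
    have hfree : ∀ u : G, u * u = 1 → u ≠ 1 → ∀ n ∈ N, u * n = n * u → n = 1 := by
      intro u hu hu1 n hn hun
      obtain ⟨c, hc⟩ := isConj_iff.1 (hconj u hu hu1)
      have hcn : c⁻¹ * n * c ∈ D := by
        rw [Subgroup.mem_centralizer_singleton_iff]
        rw [← hc] at hun
        calc c⁻¹ * n * c * t = c⁻¹ * (n * (c * t * c⁻¹)) * c := by group
          _ = c⁻¹ * (c * t * c⁻¹ * n) * c := by rw [hun]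
          _ = t * (c⁻¹ * n * c) := by group
      have h8 : (c⁻¹ * n * c) ^ 8 = 1 := by
        have h := pow_card_eq_one' (x := (⟨_, hcn⟩ : D))
        rw [hcardD] at h
        exact congrArg Subtype.val h
      have h8' : n ^ 8 = 1 := by
        have : c⁻¹ * n ^ 8 * c = 1 := by rw [← h8]; simpa using (conj_pow (i := 8) (a := c⁻¹) (b := n)).symm
        have := congrArg (fun x => c * x * c⁻¹) this
        simpa [mul_assoc] using this
      have hcop : Nat.Coprime (Nat.card N) 8 :=
        (Nat.Coprime.pow_right 3 ((Nat.prime_two.coprime_iff_not_dvd.2 hev).symm) : _)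
      have := pow_gcd_eq_one.2 ⟨(pow_card_eq_one' : (⟨n, hn⟩ : N) ^ Nat.card N = 1),
        (Subtype.ext h8' : (⟨n, hn⟩ : N) ^ 8 = 1)⟩
      rw [hcop.gcd_eq_one, pow_one] at this
      exact congrArg Subtype.val this
    have hinvert : ∀ u : G, u * u = 1 → u ≠ 1 → ∀ n ∈ N, u * n * u⁻¹ = n⁻¹ := by
      intro u hu hu1 n hn
      have hmem : ∀ a : N, (a : G)⁻¹ * (u * a * u⁻¹) ∈ N := fun a =>
        N.mul_mem (N.inv_mem a.2) (hN.conj_mem _ a.2 u)
      let f : N → N := fun a => ⟨_, hmem a⟩
      have hinj : Function.Injective f := by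
        intro a b hab
        have h : (a : G)⁻¹ * (u * a * u⁻¹) = (b : G)⁻¹ * (u * b * u⁻¹) := congrArg Subtype.val hab
        have h2 := hfree u hu hu1 ((b : G) * (a : G)⁻¹) (N.mul_mem b.2 (N.inv_mem a.2)) (by
          calc u * ((b : G) * (a : G)⁻¹) = (u * b * u⁻¹) * (u * a * u⁻¹)⁻¹ * u := by group
            _ = (b : G) * ((b : G)⁻¹ * (u * b * u⁻¹)) * ((a : G) * ((a : G)⁻¹ * (u * a * u⁻¹)))⁻¹ * u := by group
            _ = (b : G) * (a : G)⁻¹ * u := by rw [h]; group)
        exact Subtype.ext (mul_inv_eq_one.1 h2).symm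
      obtain ⟨a, ha⟩ := Finite.injective_iff_surjective.1 hinj ⟨n, hn⟩
      have ha' : (a : G)⁻¹ * (u * a * u⁻¹) = n := congrArg Subtype.val ha
      have huu : u⁻¹ = u := inv_eq_of_mul_eq_one_left hu
      rw [← ha']
      simp only [mul_inv_rev, inv_inv, huu]
      calc u * ((a : G)⁻¹ * (u * a * u)) * u = u * (a : G)⁻¹ * u * a * (u * u) := by group
        _ = u * (a : G)⁻¹ * u * a := by rw [hu, mul_one]
        _ = u * ((a : G)⁻¹ * u) * a := by group
    let v : G := ((e.symm (DihedralGroup.sr 0) : D) : G)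
    let w : G := ((e.symm (DihedralGroup.sr 2) : D) : G)
    have hv2 : v * v = 1 := by simp only [v]; rw [← Subgroup.coe_mul, ← map_mul]; simp
    have hv1 : v ≠ 1 := fun h => by
      have h' : e.symm (DihedralGroup.sr 0) = 1 := Subtype.ext h
      rw [MulEquiv.map_eq_one_iff, DihedralGroup.one_def] at h'
      cases h'
    have hw2 : w * w = 1 := by simp only [w]; rw [← Subgroup.coe_mul, ← map_mul]; simp
    have hw1 : w ≠ 1 := fun h => by
      have h' : e.symm (DihedralGroup.sr 2) = 1 := Subtype.ext h
      rw [MulEquiv.map_eq_one_iff, DihedralGroup.one_def] at h'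
      cases h'
    have htvw : t = v * w := by
      simp only [v, w]
      rw [← Subgroup.coe_mul, ← map_mul, show DihedralGroup.sr (0 : ZMod 4) * DihedralGroup.sr 2 = DihedralGroup.r 2 by simp,
        ← het, e.symm_apply_apply]
    refine (Subgroup.eq_bot_iff_forall N).2 fun n hn => hfree t htt ht1 n hn ?_
    have h1 : t * n * t⁻¹ = n := by
      rw [htvw]
      calc v * w * n * (v * w)⁻¹ = v * (w * n * w⁻¹) * v⁻¹ := by group
        _ = n := by rw [hinvert w hw2 hw1 n hn, hinvert v hv2 hv1 _ (N.inv_mem hn), inv_inv]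
    exact mul_inv_eq_iff_eq_mul.1 h1

end CfsgLib.InvChar.DihedralSylow
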