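import Cfsg.Prelude.Def_CaseTheorems
import Cfsg.Prelude.Def_Local
import Cfsg.Agent.Lib.PLocal.Section
import Cfsg.Agent.Lib.Solvable.PCore
import Cfsg.Agent.Lib.StructC.BurnsideBasis
import Cfsg.Agent.Lib.Classical.ExcIsoPerm
import Cfsg.Agent.S0256

/-!
# `X / O₂(X)` embeds in `A₈` for 2-constrained `X` with small 2-core
-/

set_option autoImplicit false

namespace CfsgLib.InvChar.EmbedAltEight

open Subgroup

variable {X : Type*} [Group X] [Finite X]

theorem centralizer_pCore_le (hc : Cfsg.IsPConstrained 2 X) (hO : Cfsg.oddCore X = ⊥) :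
    centralizer (Cfsg.pCore 2 X : Set X) ≤ Cfsg.pCore 2 X := by
  haveI : Fact (Nat.Prime 2) := ⟨Nat.prime_two⟩
  haveI := CfsgLib.Solvable.pPrimeCore_normal 2 X
  set N := Cfsg.pPrimePCore 2 X with hN
  haveI hQn := CfsgLib.Solvable.pCore_normal 2 (X ⧸ Cfsg.pPrimeCore 2 X)
  have hNn : N.Normal := Subgroup.Normal.comap hQn _
  have hinj : Function.Injective (QuotientGroup.mk' (Cfsg.pPrimeCore 2 X)) := by
    rw [← MonoidHom.ker_eq_bot_iff, QuotientGroup.ker_mk']; exact hO
  have hNp : IsPGroup 2 N :=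
    (CfsgLib.Solvable.pCore_isPGroup 2).comap_of_injective _ hinj
  have hNQ : N ≤ Cfsg.pCore 2 X := CfsgLib.Solvable.le_pCore hNn hNp
  obtain ⟨P⟩ := (inferInstance : Nonempty (Sylow 2 ↥N))
  have hP : (P : Subgroup ↥N) = ⊤ := (P.is_maximal' (hNp.of_equiv Subgroup.topEquiv.symm) le_top).symm
  have hC := hc P
  rw [hP, ← MonoidHom.range_eq_map, Subgroup.range_subtype] at hC
  exact ((centralizer_le (fun x hx => hNQ hx)).trans hC).trans hNQ

theorem sq_one_two : ∀ a : Multiplicative (ZMod 2), a ^ 2 = 1 := by decide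

theorem exists_pad {V : Type*} [Group V] [Finite V] (hV : ∀ v : V, v ^ 2 = 1) (h16 : Nat.card V ≤ 16) :
    ∃ f : MulAut V →* MulAut (Multiplicative (Fin 4 → ZMod 2)), Function.Injective f := by
  haveI : Fact (Nat.Prime 2) := ⟨Nat.prime_two⟩
  have hp : IsPGroup 2 V := fun v => ⟨1, by simpa using hV v⟩
  obtain ⟨d, hd⟩ := IsPGroup.iff_card.1 hp
  have hd4 : d ≤ 4 := (Nat.pow_le_pow_iff_right (a := 2) (by norm_num)).1 (hd ▸ h16 : 2 ^ d ≤ 2 ^ 4)
  have hcomm : ∀ a b : V, a * b = b * a := fun a b => by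
    have hi : ∀ v : V, v⁻¹ = v := fun v => inv_eq_of_mul_eq_one_right (by rw [← pow_two]; exact hV v)
    rw [← hi (a * b), _root_.mul_inv_rev, hi, hi]
  letI : CommGroup V := { (inferInstance : Group V) with mul_comm := hcomm }
  let R := Fin (4 - d) → Multiplicative (ZMod 2)
  let W := V × R
  have hW : ∀ w : W, w ^ 2 = 1 := fun w => Prod.ext (hV _) (funext fun i => by
    exact sq_one_two _)
  letI : Module (ZMod 2) (Additive W) := AddCommGroup.zmodModule (n := 2) fun w => hW (Additive.toMul w)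
  have hcard : Nat.card (Additive W) = 16 := by
    show Nat.card W = 16
    rw [Nat.card_prod, hd, Nat.card_fun, Nat.card_eq_fintype_card (α := Multiplicative (ZMod 2)), Nat.card_fin,
      Fintype.card_multiplicative, ZMod.card, ← pow_add, Nat.add_sub_cancel' hd4]
    rfl
  have hr : Module.finrank (ZMod 2) (Additive W) = 4 := by
    have h := Module.natCard_eq_pow_finrank (K := ZMod 2) (V := Additive W)
    rw [hcard, Nat.card_zmod] at h
    exact (Nat.pow_right_injective (le_refl 2) (show 2 ^ 4 = 2 ^ _ from h)).symm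
  let e : Additive W ≃ₗ[ZMod 2] (Fin 4 → ZMod 2) := LinearEquiv.ofFinrankEq _ _ (by rw [hr, Module.finrank_fin_fun])
  let eW : W ≃* Multiplicative (Fin 4 → ZMod 2) :=
    { toFun := fun w => Multiplicative.ofAdd (e (Additive.ofMul w))
      invFun := fun m => Additive.toMul (e.symm (Multiplicative.toAdd m))
      left_inv := fun w => by simp
      right_inv := fun m => by simp
      map_mul' := fun a b => by simp [ofMul_mul, map_add, ofAdd_add] }
  let g : MulAut V →* MulAut W :=
    { toFun := fun a => a.prodCongr (MulEquiv.refl R)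
      map_one' := by ext w <;> rfl
      map_mul' := fun a b => by ext w <;> rfl }
  refine ⟨(MulAut.congr eW).toMonoidHom.comp g, (MulAut.congr eW).injective.comp fun a b h => ?_⟩
  ext v
  exact congrArg Prod.fst (MulEquiv.congr_fun h (v, 1))

theorem exists_to_alt :
    ∃ f : MulAut (Multiplicative (Fin 4 → ZMod 2)) →* alternatingGroup (Fin 8), Function.Injective f := by
  let a : MulAut (Multiplicative (Fin 4 → ZMod 2)) →* ((Fin 4 → ZMod 2) →ₗ[ZMod 2] (Fin 4 → ZMod 2)) :=
    { toFun := fun σ =>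
        (AddMonoidHom.toZModLinearMap 2 (AddMonoidHom.mk' (fun v : Fin 4 → ZMod 2 => Multiplicative.toAdd (σ (Multiplicative.ofAdd v))) fun v w => by simp [ofAdd_add, toAdd_mul]) :
          (Fin 4 → ZMod 2) →ₗ[ZMod 2] (Fin 4 → ZMod 2))
      map_one' := LinearMap.ext fun _ => rfl
      map_mul' := fun _ _ => LinearMap.ext fun _ => rfl }
  have ha : Function.Injective a := fun σ τ h => MulEquiv.ext fun v =>
    Multiplicative.toAdd.injective (LinearMap.congr_fun h (Multiplicative.toAdd v))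
  let b : MulAut (Multiplicative (Fin 4 → ZMod 2)) →* GL (Fin 4) (ZMod 2) :=
    ((LinearMap.toMatrixAlgEquiv' (R := ZMod 2) (n := Fin 4)).toMonoidHom.comp a).toHomUnits
  have hb : Function.Injective b := fun σ τ h => ha
    ((LinearMap.toMatrixAlgEquiv' (R := ZMod 2) (n := Fin 4)).injective (congrArg Units.val h))
  have hdet : ∀ g : GL (Fin 4) (ZMod 2), (g : Matrix (Fin 4) (Fin 4) (ZMod 2)).det = 1 := fun g => by
    have hne : (g : Matrix (Fin 4) (Fin 4) (ZMod 2)).det ≠ 0 :=
      ((Matrix.isUnit_iff_isUnit_det _).1 g.isUnit).ne_zero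
    revert hne
    generalize (g : Matrix (Fin 4) (Fin 4) (ZMod 2)).det = d
    revert d
    decide
  let c : GL (Fin 4) (ZMod 2) →* Matrix.SpecialLinearGroup (Fin 4) (ZMod 2) :=
    { toFun := fun g => ⟨g, hdet g⟩
      map_one' := rfl
      map_mul' := fun _ _ => rfl }
  have hc : Function.Injective c := fun g h e => Units.ext (congrArg Subtype.val e)
  obtain ⟨e⟩ := Cfsg.Agent.S0256.result (F := ZMod 2) (by rw [ZMod.card])
  let d : Matrix.SpecialLinearGroup (Fin 4) (ZMod 2) →* Matrix.ProjectiveSpecialLinearGroup (Fin 4) (ZMod 2) :=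
    QuotientGroup.mk' _
  have hd : Function.Injective d := by
    rw [← MonoidHom.ker_eq_bot_iff, QuotientGroup.ker_mk', Subgroup.eq_bot_iff_forall]
    intro A hA
    obtain ⟨r, hr, hA'⟩ := Matrix.SpecialLinearGroup.mem_center_iff.1 hA
    refine Subtype.ext ?_
    rw [← hA']
    have : ∀ r : ZMod 2, r ^ 4 = 1 → r = 1 := by decide
    rw [this r (by simpa using hr)]
    simp
  exact ⟨e.toMonoidHom.comp (d.comp (c.comp b)), e.injective.comp (hd.comp (hc.comp hb))⟩

theorem embeds (hc : Cfsg.IsPConstrained 2 X) (hO : Cfsg.oddCore X = ⊥)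
    (h4 : Cfsg.SectionalPRankLE 2 4 ↥(Cfsg.pCore 2 X)) :
    ∃ f : X ⧸ Cfsg.pCore 2 X →* ↥(alternatingGroup (Fin 8)), Function.Injective f := by
  classical
  haveI : Fact (Nat.Prime 2) := ⟨Nat.prime_two⟩
  set Q := Cfsg.pCore 2 X with hQdef
  haveI hQn : Q.Normal := CfsgLib.Solvable.pCore_normal 2 X
  have hQp : IsPGroup 2 Q := CfsgLib.Solvable.pCore_isPGroup 2
  set Φ := frattini ↥Q
  have hsq : ∀ v : ↥Q ⧸ Φ, v ^ 2 = 1 := fun v => by
    induction v using QuotientGroup.induction_on with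
    | _ x =>
      rw [← QuotientGroup.mk_pow, QuotientGroup.eq_one_iff]
      exact CfsgLib.StructC.pow_mem_frattini hQp x
  have hcard : Nat.card (↥Q ⧸ Φ) ≤ 16 := by
    let N : Subgroup (⊤ : Subgroup ↥Q) := Φ.comap (⊤ : Subgroup ↥Q).subtype
    haveI : N.Normal := Subgroup.Normal.comap inferInstance _
    let q : ↥(⊤ : Subgroup ↥Q) ⧸ N ≃* ↥Q ⧸ Φ :=
      QuotientGroup.congr N Φ Subgroup.topEquiv (by
        ext x
        simp only [Subgroup.mem_map, N, Subgroup.mem_comap]
        exact ⟨fun ⟨y, hy, e⟩ => e ▸ hy, fun h => ⟨⟨x, mem_top _⟩, h, rfl⟩⟩)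
    have hi : ∀ v : ↥(⊤ : Subgroup ↥Q) ⧸ N, v ^ 2 = 1 := fun v =>
      q.injective (by rw [map_pow, hsq, map_one])
    have h := h4 ⊤ N ⊤ ⟨⟨fun a b => by
      have h2 : ∀ v : ↥(⊤ : Subgroup (↥(⊤ : Subgroup ↥Q) ⧸ N)), v⁻¹ = v := fun v =>
        inv_eq_of_mul_eq_one_right (by rw [← pow_two]; exact Subtype.ext (by simpa using hi v.1))
      rw [← h2 (a * b), _root_.mul_inv_rev, h2, h2]⟩⟩ (fun v _ => hi v)
    rw [Subgroup.card_top, Nat.card_congr q.toEquiv] at h
    simpa using h
  let τ : MulAut ↥Q →* MulAut (↥Q ⧸ Φ) :=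
    { toFun := fun α => QuotientGroup.congr Φ Φ α (characteristic_iff_map_eq.1 inferInstance α)
      map_one' := MulEquiv.ext fun v => by induction v using QuotientGroup.induction_on; rfl
      map_mul' := fun a b => MulEquiv.ext fun v => by induction v using QuotientGroup.induction_on; rfl }
  let ρ : X →* MulAut (↥Q ⧸ Φ) := τ.comp MulAut.conjNormal
  have hρ : ∀ (g : X) (x : ↥Q), ρ g (x : ↥Q ⧸ Φ) = ((MulAut.conjNormal g x : ↥Q) : ↥Q ⧸ Φ) := fun g x => rfl
  have hker : ρ.ker = Q := by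
    refine le_antisymm (CfsgLib.Solvable.le_pCore inferInstance ?_) ?_
    · intro g
      obtain ⟨k, m, hm, hkm⟩ := Nat.exists_eq_pow_mul_and_not_dvd
        (orderOf_pos g).ne' 2 (by norm_num)
      refine ⟨k, Subtype.ext ?_⟩
      rw [Subgroup.coe_pow, Subgroup.coe_one]
      set h := (g : X) ^ 2 ^ k with hh
      have hord : (orderOf h).Coprime 2 := by
        have ho : orderOf h = m := by
          rw [hh, orderOf_pow', Subgroup.orderOf_coe, hkm, Nat.gcd_eq_right (Dvd.intro m rfl),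
            Nat.mul_div_cancel_left _ (by positivity)]
          positivity
        rw [ho]
        exact ((Nat.prime_two.coprime_iff_not_dvd).2 hm).symm
      have hker' : h ∈ ρ.ker := ρ.ker.pow_mem g.2 _
      have hcent : h ∈ centralizer (Q : Set X) := by
        refine CfsgLib.PLocal.centralizes_of_trivial_on_frattini_quotient hQp
          (by rw [Subgroup.normalizer_eq_top]; exact mem_top _) hord fun x hx => ?_
        have h1 := MulEquiv.congr_fun (MonoidHom.mem_ker.1 (ρ.ker.inv_mem hker')) ((⟨x, hx⟩ : ↥Q) : ↥Q ⧸ Φ)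
        rw [hρ, MulAut.one_apply, eq_comm, QuotientGroup.eq] at h1
        refine ⟨_, h1, ?_⟩
        simp [mul_assoc]
      obtain ⟨j, hj⟩ := hQp ⟨h, centralizer_pCore_le hc hO hcent⟩
      have hj' : h ^ 2 ^ j = 1 := congrArg Subtype.val hj
      rw [← orderOf_eq_one_iff]
      exact Nat.eq_one_of_dvd_coprimes (hord.pow_right j) dvd_rfl (orderOf_dvd_of_pow_eq_one hj')
    · intro g hg
      refine MonoidHom.mem_ker.2 (MulEquiv.ext fun v => ?_)
      induction v using QuotientGroup.induction_on with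
      | _ x =>
        rw [hρ, MulAut.one_apply]
        have e : (MulAut.conjNormal g x : ↥Q) = ⟨g, hg⟩ * x * (⟨g, hg⟩ : ↥Q)⁻¹ := Subtype.ext (by simp)
        have hcomm : ∀ a b : ↥Q ⧸ Φ, a * b = b * a := fun a b => by
          have h2 : ∀ v : ↥Q ⧸ Φ, v⁻¹ = v := fun v =>
            inv_eq_of_mul_eq_one_right (by rw [← pow_two]; exact hsq v)
          rw [← h2 (a * b), _root_.mul_inv_rev, h2, h2]
        rw [e, QuotientGroup.mk_mul, QuotientGroup.mk_mul, QuotientGroup.mk_inv, hcomm (_ : ↥Q ⧸ Φ) ((x : ↥Q) : ↥Q ⧸ Φ), mul_assoc,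
          mul_inv_cancel, mul_one]
  obtain ⟨p, hp⟩ := exists_pad hsq hcard
  obtain ⟨a, ha⟩ := exists_to_alt
  refine ⟨a.comp (p.comp (QuotientGroup.lift Q ρ hker.ge)), ha.comp (hp.comp ?_)⟩
  rw [← MonoidHom.ker_eq_bot_iff, Subgroup.eq_bot_iff_forall]
  intro y hy
  induction y using QuotientGroup.induction_on with
  | _ g => exact (QuotientGroup.eq_one_iff g).2 (show g ∈ Q from hker.le hy)

end CfsgLib.InvChar.EmbedAltEight
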