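import Mathlib
import Cfsg.Prelude.Def_Transfer
import Cfsg.Prelude.Def_Solvable
import Cfsg.Agent.Lib.Transfer.Extraspecial

/-!
# An extraspecial 2-core of an involution centraliser lies in its index two subgroups

If `G` has no index two subgroup, `H = C(z)` and `E = O₂(H)` is extraspecial of width at least two
with `C(E) ≤ E`, then the transfer to `H / K` of an involution of `E \ K` is nontrivial for every
subgroup `K` of index two of `H` not containing `E`.
-/

set_option autoImplicit false

namespace CfsgLib.InvChar.ExtraspecialIn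

open Subgroup MulAction
open scoped commutatorElement

variable {G : Type*} [Group G] [Finite G]

theorem hom_eq_one_of_pResidual {A : Type*} [Group A] (hA : ∀ a : A, a ^ 2 = 1)
    (hres : Cfsg.pResidual 2 G = ⊤) (f : G →* A) (g : G) : f g = 1 := by
  have h : Cfsg.pResidual 2 G ≤ f.ker := (Subgroup.closure_le _).2 fun x hx => by
    rw [SetLike.mem_coe, MonoidHom.mem_ker, ← orderOf_eq_one_iff]
    exact Nat.eq_one_of_dvd_coprimes hx (orderOf_map_dvd f x) (orderOf_dvd_of_pow_eq_one (hA _))
  rw [hres] at h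
  exact h (mem_top g)

/-- Parity of the fixed points of an involution contributing to the transfer. -/
theorem even_card_fixed (hres : Cfsg.pResidual 2 G = ⊤) (H K : Subgroup G) (hK : K ≤ H)
    (hi : K.relIndex H = 2) (u : G) (hu : u * u = 1) :
    Even (Nat.card {q : G ⧸ H // u • q = q ∧ q.out⁻¹ * u * q.out ∉ K}) := by
  classical
  letI := H.fintypeQuotientOfFiniteIndex
  have hmul : ∀ x y : H, (x : G) * y ∈ K ↔ ((x : G) ∈ K ↔ (y : G) ∈ K) := fun x y => by
    have h := Subgroup.mul_mem_iff_of_index_two (H := K.subgroupOf H) hi (a := x) (b := y)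
    simpa [Subgroup.mem_subgroupOf] using h
  let φ : H →* Multiplicative (ZMod 2) :=
    MonoidHom.mk' (fun x => if (x : G) ∈ K then 1 else Multiplicative.ofAdd 1) fun x y => by
      by_cases hx : (x : G) ∈ K <;> by_cases hy : (y : G) ∈ K <;> simp [hmul x y, hx, hy] <;> decide
  have hφ : ∀ x : H, φ x = if (x : G) ∈ K then 1 else Multiplicative.ofAdd 1 := fun x => rfl
  have hA : ∀ a : Multiplicative (ZMod 2), a ^ 2 = 1 := by decide
  have hinv : ∀ a : Multiplicative (ZMod 2), a * a = 1 := by decide
  let T : H.LeftTransversal := default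
  have htr := hom_eq_one_of_pResidual hA hres (MonoidHom.transfer φ) u
  rw [MonoidHom.transfer_def φ T] at htr
  let s : G ⧸ H → G := fun q => (T.2.leftQuotientEquiv q : G)
  have hs : ∀ q, ((s q : G) : G ⧸ H) = q := fun q =>
    T.2.leftQuotientEquiv.symm_apply_apply q
  have hmem : ∀ q, (s q)⁻¹ * (u * s (u • q)) ∈ H := fun q => by
    refine QuotientGroup.eq.1 ?_
    rw [hs, ← smul_eq_mul, ← MulAction.Quotient.smul_coe, hs, smul_smul, hu, one_smul]
  have huinv : u⁻¹ = u := inv_eq_of_mul_eq_one_right hu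
  have hprod : ∏ q : G ⧸ H, φ ⟨_, hmem q⟩ = 1 := by
    rw [← htr]
    refine Finset.prod_congr rfl fun q _ => congrArg φ (Subtype.ext ?_)
    show (s q)⁻¹ * (u * s (u • q)) = (s q)⁻¹ * _
    rw [Subgroup.smul_apply_eq_smul_apply_inv_smul, huinv, smul_eq_mul]
  rw [← Finset.prod_filter_mul_prod_filter_not Finset.univ (fun q => u • q = q)] at hprod
  rw [Finset.prod_involution (s := Finset.univ.filter fun q => ¬ u • q = q) (fun q _ => u • q)
    (fun q _ => ?_) (fun q hq _ => (Finset.mem_filter.1 hq).2)
    (fun q hq => Finset.mem_filter.2 ⟨Finset.mem_univ _, by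
      rw [smul_smul, hu, one_smul]; exact fun h => (Finset.mem_filter.1 hq).2 h.symm⟩)
    (fun q _ => by rw [smul_smul, hu, one_smul]), mul_one] at hprod
  · have hfix : ∀ q, u • q = q → φ ⟨_, hmem q⟩ =
        if q.out⁻¹ * u * q.out ∉ K then Multiplicative.ofAdd 1 else 1 := fun q hq => by
      rw [hφ]
      have hk : (s q)⁻¹ * q.out ∈ H := QuotientGroup.eq.1 (by rw [hs]; exact (QuotientGroup.out_eq' q).symm)
      have hm : q.out⁻¹ * u * q.out ∈ H := by
        rw [mul_assoc]
        exact QuotientGroup.eq.1 (by rw [← smul_eq_mul, ← MulAction.Quotient.smul_coe, QuotientGroup.out_eq', hq])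
      have hn : (K.subgroupOf H).Normal := Subgroup.normal_of_index_eq_two hi
      have hiff := hn.mem_comm_iff (a := (⟨_, hk⟩ : H)) (b := ⟨_, hm⟩ * (⟨_, hk⟩ : H)⁻¹)
      simp only [Subgroup.mem_subgroupOf, Subgroup.coe_mul, Subgroup.coe_inv] at hiff
      have e1 : (s q)⁻¹ * q.out * (q.out⁻¹ * u * q.out * ((s q)⁻¹ * q.out)⁻¹) = (s q)⁻¹ * (u * s q) := by
        group
      have e2 : q.out⁻¹ * u * q.out * ((s q)⁻¹ * q.out)⁻¹ * ((s q)⁻¹ * q.out) = q.out⁻¹ * u * q.out := by
        group
      rw [e1, e2] at hiff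
      simp only [hq, hiff]
      split_ifs <;> rfl
    rw [Finset.prod_congr rfl (fun q hq => hfix q (Finset.mem_filter.1 hq).2), ← Finset.prod_filter,
      Finset.prod_const, Finset.filter_filter, ← ofAdd_nsmul, ofAdd_eq_one, nsmul_one,
      ← Fintype.card_subtype, ← Nat.card_eq_fintype_card] at hprod
    exact (ZMod.natCast_eq_zero_iff_even).1 hprod
  · have h2 : (s q)⁻¹ * (u * s (u • q)) * ((s (u • q))⁻¹ * (u * s (u • u • q))) = 1 := by
      rw [smul_smul, hu, one_smul, show (s q)⁻¹ * (u * s (u • q)) * ((s (u • q))⁻¹ * (u * s q)) =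
        (s q)⁻¹ * (u * u) * s q by group, hu]
      group
    rw [← map_mul]
    convert map_one φ
    exact Subtype.ext h2

variable (E : Subgroup G)

/-- Centralisers in an extraspecial group of order at least 32 are not commutative. -/
theorem exists_not_commute (hext : Cfsg.IsExtraspecial 2 ↥E) (h32 : 32 ≤ Nat.card ↥E) (u : ↥E) :
    ∃ a b : ↥E, Commute u a ∧ Commute u b ∧ ¬ Commute a b := by
  classical
  by_contra hno
  push Not at hno
  obtain ⟨z, hz, hz1⟩ : ∃ z ∈ center ↥E, z ≠ 1 := by
    by_contra h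
    push Not at h
    have := hext.2
    rw [(Subgroup.eq_bot_iff_forall _).2 h, Subgroup.card_bot] at this
    omega
  have h2 : ∀ c : ↥E, c ∈ center ↥E → c = 1 ∨ c = z := fun c hc => by
    rw [CfsgLib.Transfer.extraspecial_center_eq_zpowers hext hz hz1] at hc
    have hoz : orderOf z = 2 := orderOf_eq_prime (CfsgLib.Transfer.special_center_pow hext.1 hz) hz1
    obtain ⟨k, rfl⟩ : ∃ k : ℕ, z ^ k = c := mem_zpowers_iff_mem_range_orderOf.1 hc |> fun h => by
      simp at h; exact ⟨_, h.choose_spec.2⟩
    rw [← pow_mod_orderOf, hoz]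
    rcases Nat.mod_two_eq_zero_or_one k with h | h <;> simp [h]
  have hcm : ∀ x y : ↥E, x * y * x⁻¹ * y⁻¹ = 1 ∨ x * y * x⁻¹ * y⁻¹ = z := fun x y =>
    h2 _ (CfsgLib.Transfer.special_commutatorElement_mem_center hext.1 x y)
  -- the centraliser of `u` has index at most two, and so does the centre in it
  have small : ∀ (S : Subgroup ↥E) (t : ↥E),
      Nat.card S ≤ 2 * Nat.card {x : ↥E // x ∈ S ∧ Commute x t} := fun S t => by
    by_cases hall : ∀ x ∈ S, Commute x t
    · have : Nat.card S ≤ Nat.card {x : ↥E // x ∈ S ∧ Commute x t} :=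
        Nat.card_le_card_of_injective (fun x : S => ⟨x.1, x.2, hall _ x.2⟩) fun a b h =>
          Subtype.ext (congrArg (fun w : {x : ↥E // x ∈ S ∧ Commute x t} => w.1) h)
      omega
    push Not at hall
    obtain ⟨r, hrS, hr⟩ := hall
    have key : ∀ x y : ↥E, ¬ Commute x t → ¬ Commute y t → Commute (y⁻¹ * x) t := fun x y hx hy => by
      have nc : ∀ w : ↥E, ¬ Commute w t → w * t = z * (t * w) := fun w hw => by
        rcases hcm w t with h | h
        · exact absurd (show w * t = t * w by
            calc w * t = w * t * w⁻¹ * t⁻¹ * (t * w) := by group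
              _ = t * w := by rw [h, one_mul]) hw
        · calc w * t = w * t * w⁻¹ * t⁻¹ * (t * w) := by group
            _ = z * (t * w) := by rw [h]
      have ex := nc x hx
      have ey := nc y hy
      have hzc : ∀ w : ↥E, w * z = z * w := fun w => mem_center_iff.1 hz w
      show y⁻¹ * x * t = t * (y⁻¹ * x)
      rw [← mul_right_inj y]
      calc y * (y⁻¹ * x * t) = x * t := by group
        _ = z * (t * y) * (y⁻¹ * x) := by rw [ex]; group
        _ = y * (t * (y⁻¹ * x)) := by rw [← ey]; group
    let f : S → {x : ↥E // x ∈ S ∧ Commute x t} × Bool := fun x =>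
      if h : Commute x.1 t then (⟨x.1, x.2, h⟩, true)
      else (⟨r⁻¹ * x.1, S.mul_mem (S.inv_mem hrS) x.2, key _ _ h hr⟩, false)
    have := Nat.card_le_card_of_injective f fun a b h => by
      simp only [f] at h
      split_ifs at h with ha hb hb <;> simp at h
      · exact h
      · exact h
    rw [Nat.card_prod, Nat.card_eq_fintype_card (α := Bool), Fintype.card_bool] at this
    omega
  have hS1 := small ⊤ u
  rw [Subgroup.card_top] at hS1
  let R : Subgroup ↥E := Subgroup.centralizer {u}
  have hR : ∀ x, x ∈ R ↔ Commute x u := fun x => Subgroup.mem_centralizer_singleton_iff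
  have hRc : Nat.card {x : ↥E // x ∈ (⊤ : Subgroup ↥E) ∧ Commute x u} = Nat.card R :=
    Nat.card_congr (Equiv.subtypeEquivRight fun x => by simp [hR])
  rw [hRc] at hS1
  obtain ⟨t, ht⟩ : ∃ t : ↥E, ∀ x ∈ R, Commute x t → x ∈ center ↥E := by
    by_cases hu : u ∈ center ↥E
    · exact ⟨1, fun x hx _ => mem_center_iff.2 fun y =>
        (hno x y ((hR x).1 hx).symm (show Commute u y from (mem_center_iff.1 hu y).symm)).eq.symm⟩
    · obtain ⟨t, ht⟩ : ∃ t, ¬ Commute t u := by
        by_contra h; push Not at h; exact hu (mem_center_iff.2 h)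
      refine ⟨t, fun x hx hxt => mem_center_iff.2 fun y => ?_⟩
      by_cases hy : Commute y u
      · exact (hno x y ((hR x).1 hx).symm hy.symm).eq.symm
      · have nc : ∀ w : ↥E, ¬ Commute w u → w * u = z * (u * w) := fun w hw => by
          rcases hcm w u with h | h
          · exact absurd (show w * u = u * w by
              calc w * u = w * u * w⁻¹ * u⁻¹ * (u * w) := by group
                _ = u * w := by rw [h, one_mul]) hw
          · calc w * u = w * u * w⁻¹ * u⁻¹ * (u * w) := by group
              _ = z * (u * w) := by rw [h]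
        have hty : Commute u (t⁻¹ * y) := by
          show u * (t⁻¹ * y) = t⁻¹ * y * u
          rw [← mul_right_inj t]
          calc t * (u * (t⁻¹ * y)) = t * u * t⁻¹ * y := by group
            _ = z * (u * y) := by rw [nc t ht]; group
            _ = y * u := (nc y hy).symm
            _ = t * (t⁻¹ * y * u) := by group
        have h1 := hno x (t⁻¹ * y) ((hR x).1 hx).symm hty
        have h3 : Commute x (t * (t⁻¹ * y)) := hxt.mul_right h1
        rw [mul_inv_cancel_left] at h3
        exact h3.eq.symm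
  have hS2 := small R t
  have hle : Nat.card {x : ↥E // x ∈ R ∧ Commute x t} ≤ 2 := by
    rw [← hext.2]
    exact Nat.card_le_card_of_injective (fun x => (⟨x.1, ht _ x.2.1 x.2.2⟩ : center ↥E)) fun a b h =>
      Subtype.ext (congrArg (fun w : center ↥E => (w : ↥E)) h)
  omega

/-- `O₂(C(z))` extraspecial of width at least two lies in every index two subgroup of `C(z)`. -/
theorem le_of_index_two (hres : Cfsg.pResidual 2 G = ⊤) (z : G) (hz : orderOf z = 2) (E K : Subgroup G)
    (hE : E = (Cfsg.pCore 2 ↥(centralizer ({z} : Set G))).map (centralizer ({z} : Set G)).subtype)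
    (hext : Cfsg.IsExtraspecial 2 ↥E) (hcent : centralizer (E : Set G) ≤ E) (h32 : 32 ≤ Nat.card ↥E)
    (hKH : K ≤ centralizer ({z} : Set G)) (hi : K.relIndex (centralizer ({z} : Set G)) = 2) : E ≤ K := by
  classical
  set H := centralizer ({z} : Set G) with hHdef
  have hmemH : ∀ x, x ∈ H ↔ x * z = z * x := fun x => mem_centralizer_singleton_iff
  have hEH : E ≤ H := hE ▸ Subgroup.map_subtype_le _
  have hnorm : ∀ h ∈ H, ∀ e ∈ E, h * e * h⁻¹ ∈ E := fun h hh e he => by
    rw [hE] at he ⊢
    obtain ⟨e', he', rfl⟩ := he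
    haveI : (Cfsg.pCore 2 ↥H).Normal := Subgroup.sSup_normal _ fun N hN => hN.1
    exact ⟨⟨h, hh⟩ * e' * (⟨h, hh⟩)⁻¹, Subgroup.Normal.conj_mem inferInstance e' he' ⟨h, hh⟩, rfl⟩
  have hzz : z * z = 1 := by rw [← pow_two, ← hz, pow_orderOf_eq_one]
  have hz1 : z ≠ 1 := fun h => by simp [h] at hz
  have hzc : ∀ x ∈ E, x * z = z * x := fun x hx => (hmemH x).1 (hEH hx)
  have hzE : z ∈ E := hcent (mem_centralizer_iff.2 fun x hx => hzc x hx)
  set ze : ↥E := ⟨z, hzE⟩ with hzedef
  have hzec : ze ∈ center ↥E := mem_center_iff.2 fun x => Subtype.ext (hzc x.1 x.2)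
  have hze1 : ze ≠ 1 := fun h => hz1 (congrArg Subtype.val h)
  have hZ : ∀ c ∈ center ↥E, c = 1 ∨ c = ze := fun c hc => by
    obtain ⟨w, -, hw⟩ := (Nat.card_eq_two_iff' (1 : center ↥E)).1 hext.2
    by_cases h : c = 1
    · exact Or.inl h
    · right
      have h1 := hw ⟨c, hc⟩ fun e => h (congrArg (fun v : center ↥E => (v : ↥E)) e)
      have h2 := hw ⟨ze, hzec⟩ fun e => hze1 (congrArg (fun v : center ↥E => (v : ↥E)) e)
      exact congrArg (fun v : center ↥E => (v : ↥E)) (h1.trans h2.symm)
  have hmul : ∀ x y : G, x ∈ H → y ∈ H → (x * y ∈ K ↔ (x ∈ K ↔ y ∈ K)) := fun x y hx hy => by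
    have h := Subgroup.mul_mem_iff_of_index_two (H := K.subgroupOf H) hi (a := ⟨x, hx⟩) (b := ⟨y, hy⟩)
    simpa [Subgroup.mem_subgroupOf] using h
  have hcommK : ∀ a b : G, a ∈ H → b ∈ H → a * b * a⁻¹ * b⁻¹ ∈ K := fun a b ha hb => by
    rw [hmul _ _ (H.mul_mem (H.mul_mem ha hb) (H.inv_mem ha)) (H.inv_mem hb),
      hmul _ _ (H.mul_mem ha hb) (H.inv_mem ha), hmul _ _ ha hb, K.inv_mem_iff, K.inv_mem_iff]
    tauto
  have hcz : ∀ a b : ↥E, ¬ Commute a b → a * b * a⁻¹ * b⁻¹ = ze := fun a b hab => by
    have hh : a * b * a⁻¹ * b⁻¹ = 1 ∨ a * b * a⁻¹ * b⁻¹ = ze :=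
      hZ _ (CfsgLib.Transfer.special_commutatorElement_mem_center hext.1 a b)
    refine hh.resolve_left fun h => hab ?_
    calc a * b = a * b * a⁻¹ * b⁻¹ * (b * a) := by group
      _ = b * a := by rw [h, one_mul]
  have hzK : z ∈ K := by
    obtain ⟨a, b, -, -, hab⟩ := exists_not_commute E hext h32 1
    have := congrArg Subtype.val (hcz a b hab)
    simp only [Subgroup.coe_mul, Subgroup.coe_inv] at this
    rw [show z = ze.1 from rfl, ← this]
    exact hcommK _ _ (hEH a.2) (hEH b.2)
  have hsq : ∀ x : ↥E, x * x = 1 ∨ x * x = ze := fun x => hZ _ (by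
    rw [← pow_two, ← hext.1.2.1]
    exact CfsgLib.Transfer.pow_mem_frattini hext.1.1 x)
  by_contra hEK
  obtain ⟨e, he, heK⟩ := SetLike.not_le_iff_exists.1 hEK
  obtain ⟨u, huE, huK, huu⟩ : ∃ u, ∃ huE : u ∈ E, u ∉ K ∧ u * u = 1 := by
    by_contra hno
    push Not at hno
    have hall : ∀ x : ↥E, (x : G) ∉ K → x * x = ze := fun x hx =>
      (hsq x).resolve_left fun h => hno _ x.2 hx (congrArg Subtype.val h)
    have hee := hall ⟨e, he⟩ heK
    have hin : ∀ a : ↥E, Commute (⟨e, he⟩ : ↥E) a → (a : G) ∈ K → a * a = 1 := fun a hea haK => by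
      refine (hsq a).resolve_right fun ha => ?_
      have hne : ((⟨e, he⟩ * a : ↥E) : G) ∉ K := by
        rw [Subgroup.coe_mul, hmul _ _ (hEH he) (hEH a.2)]; tauto
      have h := hall _ hne
      rw [hea.symm.mul_mul_mul_comm, hee, ha] at h
      exact hze1 (mul_eq_left.1 h)
    obtain ⟨a, b, hea, heb, hab⟩ := exists_not_commute E hext h32 ⟨e, he⟩
    have key : ∀ a b : ↥E, Commute (⟨e, he⟩ : ↥E) a → Commute (⟨e, he⟩ : ↥E) b →
        (a : G) ∈ K → (b : G) ∈ K → Commute a b := fun a b hea heb ha hb => by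
      have h1 := hin a hea ha
      have h2 := hin b heb hb
      have h3 := hin (a * b) (hea.mul_right heb) (by rw [Subgroup.coe_mul]; exact K.mul_mem ha hb)
      calc a * b = (a * b)⁻¹ := eq_inv_of_mul_eq_one_left h3
        _ = b * a := by rw [_root_.mul_inv_rev, inv_eq_of_mul_eq_one_right h1, inv_eq_of_mul_eq_one_right h2]
    have hfix : ∀ c : ↥E, Commute (⟨e, he⟩ : ↥E) c → (c : G) ∉ K →
        Commute (⟨e, he⟩ : ↥E) (⟨e, he⟩ * c) ∧ ((⟨e, he⟩ * c : ↥E) : G) ∈ K := fun c hec hc =>
      ⟨(Commute.refl _).mul_right hec, by rw [Subgroup.coe_mul, hmul _ _ (hEH he) (hEH c.2)]; tauto⟩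
    by_cases ha : (a : G) ∈ K <;> by_cases hb : (b : G) ∈ K
    · exact hab (key a b hea heb ha hb)
    · have h := key a _ hea (hfix b heb hb).1 ha (hfix b heb hb).2
      have h' := hea.symm.inv_right.mul_right h
      rw [inv_mul_cancel_left] at h'
      exact hab h'
    · have h := key _ b (hfix a hea ha).1 heb (hfix a hea ha).2 hb
      have h' := heb.inv_left.mul_left h
      rw [inv_mul_cancel_left] at h'
      exact hab h'
    · have h := key _ _ (hfix a hea ha).1 (hfix b heb hb).1 (hfix a hea ha).2 (hfix b heb hb).2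
      have h1 := ((Commute.refl (⟨e, he⟩ : ↥E)).mul_right hea).symm.inv_right.mul_right h
      rw [inv_mul_cancel_left] at h1
      have h2 := heb.inv_left.mul_left h1
      rw [inv_mul_cancel_left] at h2
      exact hab h2
  set ue : ↥E := ⟨u, huE⟩ with huedef
  have hueze : ue ∉ center ↥E := fun h => by
    rcases hZ _ h with h' | h' <;> have h'' : u = _ := congrArg Subtype.val h'
    · exact huK (h'' ▸ K.one_mem)
    · exact huK (h'' ▸ hzK)
  obtain ⟨t, htu⟩ : ∃ t : ↥E, ¬ Commute t ue := by
    by_contra h; push Not at h; exact hueze (mem_center_iff.2 h)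
  obtain ⟨a, b, hua, hub, hab⟩ := exists_not_commute E hext h32 ue
  let R : Subgroup ↥E := Subgroup.centralizer {ue}
  have hR : ∀ x, x ∈ R ↔ Commute x ue := fun x => mem_centralizer_singleton_iff
  let W := {q : G ⧸ H // u • q = q ∧ q.out⁻¹ * u * q.out ∉ K}
  letI : MulAction R W :=
    { smul := fun r q => ⟨((r : ↥E) : G) • q.1, by
        have hc : ((r : ↥E) : G) * u = u * ((r : ↥E) : G) := congrArg Subtype.val ((hR r.1).1 r.2).eq
        refine ⟨by rw [smul_smul, ← hc, ← smul_smul, q.2.1], ?_⟩
        intro hK'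
        apply q.2.2
        set g := q.1.out with hg
        set g' := (((r : ↥E) : G) • q.1).out with hg'
        have hh : g'⁻¹ * (((r : ↥E) : G) * g) ∈ H := QuotientGroup.eq.1 (by
          rw [← smul_eq_mul, ← MulAction.Quotient.smul_coe, QuotientGroup.out_eq', QuotientGroup.out_eq'])
        set h := g'⁻¹ * (((r : ↥E) : G) * g) with hhdef
        have hm : g⁻¹ * u * g ∈ H := by
          rw [mul_assoc]
          exact QuotientGroup.eq.1 (by
            rw [← smul_eq_mul, ← MulAction.Quotient.smul_coe, QuotientGroup.out_eq', q.2.1])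
        have he' : g'⁻¹ * u * g' = h * (g⁻¹ * u * g) * h⁻¹ := by
          rw [hhdef]
          have : ((r : ↥E) : G) * u * ((r : ↥E) : G)⁻¹ = u := by rw [hc]; group
          calc g'⁻¹ * u * g' = g'⁻¹ * (((r : ↥E) : G) * u * ((r : ↥E) : G)⁻¹) * g' := by rw [this]
            _ = _ := by group
        rw [he', hmul _ _ (H.mul_mem hh hm) (H.inv_mem hh), hmul _ _ hh hm, K.inv_mem_iff] at hK'
        tauto⟩
      one_smul := fun q => Subtype.ext (one_smul G q.1)
      mul_smul := fun r r' q => Subtype.ext (mul_smul ((r : ↥E) : G) ((r' : ↥E) : G) q.1) }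
  have hRp : IsPGroup 2 R := hext.1.1.to_subgroup R
  haveI : Fact (Nat.Prime 2) := ⟨Nat.prime_two⟩
  have hmod := hRp.card_modEq_card_fixedPoints W
  have h1W : u • ((1 : G) : G ⧸ H) = ((1 : G) : G ⧸ H) ∧
      ((1 : G) : G ⧸ H).out⁻¹ * u * ((1 : G) : G ⧸ H).out ∉ K := by
    constructor
    · rw [MulAction.Quotient.smul_coe, smul_eq_mul, mul_one]
      exact QuotientGroup.eq.2 (by simpa using hEH huE)
    · obtain ⟨h, hh⟩ := QuotientGroup.mk_out_eq_mul H 1
      rw [hh, one_mul, hmul _ _ (H.mul_mem (H.inv_mem h.2) (hEH huE)) h.2,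
        hmul _ _ (H.inv_mem h.2) (hEH huE), K.inv_mem_iff]
      tauto
  let q₀ : W := ⟨((1 : G) : G ⧸ H), h1W⟩
  have hone : Nat.card (MulAction.fixedPoints R W) = 1 := by
    rw [Nat.card_eq_one_iff_exists]
    refine ⟨⟨q₀, fun r => Subtype.ext ?_⟩, ?_⟩
    · show ((r : ↥E) : G) • ((1 : G) : G ⧸ H) = ((1 : G) : G ⧸ H)
      rw [MulAction.Quotient.smul_coe, smul_eq_mul, mul_one]
      exact QuotientGroup.eq.2 (by simpa using hEH r.1.2)
    rintro ⟨⟨q, hq, hqK⟩, hfix⟩
    refine Subtype.ext (Subtype.ext ?_)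
    show q = ((1 : G) : G ⧸ H)
    set g := q.out with hg
    have hgR : ∀ r : ↥E, Commute r ue → g⁻¹ * (r : G) * g ∈ H := fun r hr => by
      have h := congrArg Subtype.val (hfix ⟨r, (hR r).2 hr⟩)
      rw [mul_assoc]
      exact QuotientGroup.eq.1 (by
        rw [← smul_eq_mul, ← MulAction.Quotient.smul_coe, QuotientGroup.out_eq']; exact h.symm)
    set w := g * z * g⁻¹ with hwdef
    have hwR : ∀ r : ↥E, Commute r ue → w * (r : G) = r * w := fun r hr => by
      have h := (hmemH _).1 (hgR r hr)
      calc w * (r : G) = g * (z * (g⁻¹ * r * g)) * g⁻¹ := by rw [hwdef]; group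
        _ = g * (g⁻¹ * r * g * z) * g⁻¹ := by rw [h]
        _ = r * w := by rw [hwdef]; group
    have hwH : w ∈ H := (hmemH w).2 (hwR ze (mem_center_iff.1 hzec ue).symm)
    have hww : w * w = 1 := by
      rw [hwdef, show g * z * g⁻¹ * (g * z * g⁻¹) = g * (z * z) * g⁻¹ by group, hzz]; group
    -- `w` induces an inner automorphism of `E`
    have hcE : w * t * w⁻¹ * (t : G)⁻¹ ∈ E := E.mul_mem (hnorm w hwH t t.2) (E.inv_mem t.2)
    set c : ↥E := ⟨w * t * w⁻¹ * (t : G)⁻¹, hcE⟩ with hcdef
    have hcz' : ∀ x y : ↥E, x * y * x⁻¹ = y ∨ x * y * x⁻¹ = y * ze := fun x y => by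
      by_cases h : Commute x y
      · left; rw [h.eq]; group
      · right
        rw [mem_center_iff.1 hzec y, ← hcz x y h]; group
    have hcR : ∀ r : ↥E, Commute r ue → Commute r c := fun r hr => by
      have hzu : Commute ze ue := (mem_center_iff.1 hzec ue).symm
      obtain ⟨r', hr', he'⟩ : ∃ r' : ↥E, Commute r' ue ∧ r' = t⁻¹ * r * t :=
        ⟨_, by rcases hcz' t⁻¹ r with h | h <;> rw [inv_inv] at h <;> rw [h]
               exacts [hr, hr.mul_left hzu], rfl⟩
      have e1 : r = t * r' * t⁻¹ := by rw [he']; group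
      have a1 := hwR r hr
      have a2 := hwR r' hr'
      have a3 : (r : G) = t * r' * (t : G)⁻¹ := by
        have := congrArg Subtype.val e1; simpa using this
      refine Subtype.ext ?_
      show (r : G) * (w * t * w⁻¹ * (t : G)⁻¹) = w * t * w⁻¹ * (t : G)⁻¹ * r
      have a1' : w⁻¹ * (r : G) = r * w⁻¹ := by
        rw [inv_eq_of_mul_eq_one_right hww]; exact a1
      calc (r : G) * (w * t * w⁻¹ * (t : G)⁻¹) = (r * w) * t * w⁻¹ * (t : G)⁻¹ := by group
        _ = w * ((r : G) * t) * w⁻¹ * (t : G)⁻¹ := by rw [← a1]; group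
        _ = w * (t * r') * w⁻¹ * (t : G)⁻¹ := by rw [a3]; group
        _ = w * t * (r' * w) * w⁻¹ * w⁻¹ * (t : G)⁻¹ := by group
        _ = w * t * (w * r') * w⁻¹ * w⁻¹ * (t : G)⁻¹ := by rw [a2]
        _ = w * t * w * r' * (w * w)⁻¹ * (t : G)⁻¹ := by group
        _ = w * t * w * r' * (t : G)⁻¹ := by rw [hww]; group
        _ = w * t * w⁻¹ * (t : G)⁻¹ * r := by rw [a3, inv_eq_of_mul_eq_one_right hww]; group
    have hcent4 : ∀ x : ↥E, (∀ r : ↥E, Commute r ue → Commute r x) →
        x = 1 ∨ x = ze ∨ x = ue ∨ x = ue * ze := fun x hx => by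
      have nc : ∀ v : ↥E, ¬ Commute v ue → Commute (t⁻¹ * v) ue := fun v hv => by
        have e1 := hcz v ue hv
        have e2 := hcz t ue htu
        show t⁻¹ * v * ue = ue * (t⁻¹ * v)
        rw [← mul_right_inj t]
        calc t * (t⁻¹ * v * ue) = v * ue * v⁻¹ * ue⁻¹ * (ue * v) := by group
          _ = t * ue * t⁻¹ * ue⁻¹ * (ue * v) := by rw [e1, e2]
          _ = t * (ue * (t⁻¹ * v)) := by group
      have toC : ∀ y : ↥E, (∀ r : ↥E, Commute r ue → Commute r y) → Commute t y → y ∈ center ↥E :=
        fun y hy hty => mem_center_iff.2 fun v => by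
          by_cases hv : Commute v ue
          · exact (hy v hv).eq
          · have := hty.mul_left (hy _ (nc v hv))
            rwa [mul_inv_cancel_left] at this
      by_cases htx : Commute t x
      · rcases hZ x (toC x hx htx) with h | h
        · exact Or.inl h
        · exact Or.inr (Or.inl h)
      · have h1 : t * x = ze * x * t := by rw [← hcz t x htx]; group
        have h2 : t * ue = ze * ue * t := by rw [← hcz t ue htu]; group
        have hzcomm : ∀ v : ↥E, v * ze = ze * v := fun v => mem_center_iff.1 hzec v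
        have hzz' : ze * ze = 1 := Subtype.ext hzz
        have h3 : Commute t (ue * x) := by
          calc t * (ue * x) = t * ue * x := by group
            _ = ze * ue * (t * x) := by rw [h2]; group
            _ = ze * (ue * ze) * x * t := by rw [h1]; group
            _ = (ze * ze) * ue * x * t := by rw [hzcomm ue]; group
            _ = ue * x * t := by rw [hzz', one_mul]
        have huu' : ue * ue = 1 := Subtype.ext huu
        rcases hZ _ (toC _ (fun r hr => hr.mul_right (hx r hr)) h3) with h | h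
        · right; right; left
          rw [← mul_right_inj ue, h, huu']
        · right; right; right
          rw [← h, ← mul_assoc, huu', one_mul]
    have hzcG : ∀ v : ↥E, (v : G) * z = z * v := fun v => hzc v.1 v.2
    have hwt : w * t = t * w ∨ w * t = z * t * w := by
      have hcv : w * t = (c : G) * t * w := by rw [hcdef]; group
      have htt : (t : G) * t = 1 ∨ (t : G) * t = z := by
        rcases hsq t with h | h
        · left; exact congrArg Subtype.val h
        · right; exact congrArg Subtype.val h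
      have htu' : (t : G) * u = z * (u * t) := by
        have h := congrArg Subtype.val (hcz t ue htu)
        simp only [Subgroup.coe_mul, Subgroup.coe_inv] at h
        have h' : (t : G) * u = (t * u * (t : G)⁻¹ * u⁻¹) * (u * t) := by group
        rw [h', show (t : G) * u * (t : G)⁻¹ * u⁻¹ = z from h]
      have bad : ∀ c' : G, (c' = u ∨ c' = u * z) → w * t ≠ c' * t * w := fun c' hc' h => by
        have hwi : w⁻¹ = w := inv_eq_of_mul_eq_one_right hww
        have e1 : w * t * w⁻¹ = c' * t := by rw [h]; group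
        have e2 : w * (t * t) * w⁻¹ = (c' * t) * (c' * t) := by rw [← e1]; group
        have e3 : w * ((t : G) * t) * w⁻¹ = t * t := by
          have hwz : w * z = z * w := (hmemH w).1 hwH
          rcases htt with h | h <;> rw [h]
          · group
          · rw [hwz]; group
        have e4 : c' * t * (c' * t) = z * ((t : G) * t) := by
          have hzu : u * z = z * u := hzc u huE
          have htz : (t : G) * z = z * t := hzcG t
          rcases hc' with rfl | rfl
          · calc c' * t * (c' * t) = c' * ((t : G) * c') * t := by group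
              _ = c' * (z * (c' * t)) * t := by rw [htu']
              _ = (c' * z) * c' * (t * t) := by group
              _ = z * (c' * c') * (t * t) := by rw [hzu]; group
              _ = z * ((t : G) * t) := by rw [huu]; group
          · calc u * z * t * (u * z * t) = u * z * ((t : G) * u) * z * t := by group
              _ = u * z * (z * (u * t)) * z * t := by rw [htu']
              _ = u * (z * z) * u * ((t : G) * z) * t := by group
              _ = u * (z * z) * u * (z * t) * t := by rw [htz]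
              _ = (u * u) * (z * ((t : G) * t)) := by rw [hzz]; group
              _ = z * ((t : G) * t) := by rw [huu, one_mul]
        rw [e3, e4] at e2
        exact hz1 (mul_eq_right.1 e2.symm)
      rcases hcent4 c hcR with h | h | h | h <;> have hv : (c : G) = _ := congrArg Subtype.val h
      · left; simpa [hv] using hcv
      · right; simpa [hv] using hcv
      · exact absurd (by rw [hv] at hcv; exact hcv) (bad u (Or.inl rfl))
      · exact absurd (by rw [hv] at hcv; exact hcv) (bad (u * z) (Or.inr rfl))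
    have hwE : w ∈ E := by
      have ext_t : ∀ y : G, (∀ r : ↥E, Commute r ue → y * (r : G) = r * y) → y * t = t * y → y ∈ E :=
        fun y hy hyt => hcent (mem_centralizer_iff.2 fun v hv => by
          by_cases h : Commute (⟨v, hv⟩ : ↥E) ue
          · exact (hy _ h).symm
          · have e1 := hcz _ ue h
            have e2 := hcz t ue htu
            have hc' : Commute (t⁻¹ * ⟨v, hv⟩) ue := by
              show t⁻¹ * ⟨v, hv⟩ * ue = ue * (t⁻¹ * ⟨v, hv⟩)
              rw [← mul_right_inj t]
              calc t * (t⁻¹ * ⟨v, hv⟩ * ue) = ⟨v, hv⟩ * ue * (⟨v, hv⟩)⁻¹ * ue⁻¹ * (ue * ⟨v, hv⟩) := by group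
                _ = t * ue * t⁻¹ * ue⁻¹ * (ue * ⟨v, hv⟩) := by rw [e1, e2]
                _ = t * (ue * (t⁻¹ * ⟨v, hv⟩)) := by group
            have e3 := hy _ hc'
            simp only [Subgroup.coe_mul, Subgroup.coe_inv] at e3
            calc v * y = (t : G) * ((t : G)⁻¹ * v * y) := by group
              _ = (t : G) * (y * ((t : G)⁻¹ * v)) := by rw [e3]
              _ = y * t * ((t : G)⁻¹ * v) := by rw [hyt]; group
              _ = y * v := by group)
      rcases hwt with h | h
      · exact ext_t w hwR h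
      · have hut : u * (t : G) = z * (t * u) := by
          have h' := congrArg Subtype.val (hcz ue t fun e => htu e.symm)
          simp only [Subgroup.coe_mul, Subgroup.coe_inv] at h'
          rw [show u * (t : G) = (u * t * u⁻¹ * (t : G)⁻¹) * (t * u) by group,
            show u * (t : G) * u⁻¹ * (t : G)⁻¹ = z from h']
        have hwu : w * u ∈ E := by
          refine ext_t _ (fun r hr => ?_) ?_
          · have hru : (r : G) * u = u * r := congrArg Subtype.val hr.eq
            calc w * u * r = w * (r * u) := by rw [hru]; group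
              _ = r * (w * u) := by rw [← mul_assoc, hwR r hr]; group
          · calc w * u * t = w * (u * t) := by group
              _ = (w * z) * t * u := by rw [hut]; group
              _ = z * (w * t) * u := by rw [(hmemH w).1 hwH]; group
              _ = (z * z) * t * w * u := by rw [h]; group
              _ = t * (w * u) := by rw [hzz]; group
        simpa using E.mul_mem hwu (E.inv_mem huE)
    have hgu : g⁻¹ * u * g ∈ H := by
      rw [mul_assoc]
      exact QuotientGroup.eq.1 (by
        rw [← smul_eq_mul, ← MulAction.Quotient.smul_coe, QuotientGroup.out_eq', hq])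
    have hcommg : g⁻¹ * z * g ∈ K := by
      have h := congrArg Subtype.val (hcz a b hab)
      simp only [Subgroup.coe_mul, Subgroup.coe_inv] at h
      rw [show z = ze.1 from rfl, ← h, show g⁻¹ * ((a : G) * b * (a : G)⁻¹ * (b : G)⁻¹) * g =
        (g⁻¹ * a * g) * (g⁻¹ * b * g) * (g⁻¹ * a * g)⁻¹ * (g⁻¹ * b * g)⁻¹ by group]
      exact hcommK _ _ (hgR a hua.symm) (hgR b hub.symm)
    have hw4 := hcent4 ⟨w, hwE⟩ (fun r hr => Subtype.ext (hwR r hr).symm)
    have hgw : g⁻¹ * w * g = z := by rw [hwdef]; group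
    rcases hw4 with h | h | h | h <;> have hv : w = _ := congrArg Subtype.val h
    · rw [hv] at hgw; exact absurd (by simpa using hgw.symm) hz1
    · rw [← QuotientGroup.out_eq' q]
      refine QuotientGroup.eq.2 ?_
      rw [mul_one, inv_mem_iff]
      refine (hmemH g).2 ?_
      calc g * z = (g * z * g⁻¹) * g := by group
        _ = z * g := by rw [← hwdef, hv]
    · rw [hv] at hgw
      exact absurd (show g⁻¹ * u * g ∈ K by rw [show g⁻¹ * u * g = z from hgw]; exact hzK) hqK
    · rw [hv] at hgw
      refine absurd ?_ hqK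
      have hgw' : g⁻¹ * (u * z) * g = z := hgw
      have h' : g⁻¹ * u * g = z * (g⁻¹ * z * g)⁻¹ := by
        calc g⁻¹ * u * g = g⁻¹ * (u * z) * g * (g⁻¹ * z * g)⁻¹ := by group
          _ = z * (g⁻¹ * z * g)⁻¹ := by rw [hgw']
      rw [h']
      exact K.mul_mem hzK (K.inv_mem hcommg)
  have hev := even_card_fixed hres H K hKH hi u huu
  rw [hone] at hmod
  rw [Nat.even_iff] at hev
  exact absurd (hev.symm.trans hmod) (by norm_num)

end CfsgLib.InvChar.ExtraspecialIn
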