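import Mathlib
import Cfsg.Agent.Lib.InvChar.ExtraspecialInTwo

/-!
# Partial transfers to a group of order two

For `φ : G → ZMod 2` additive on a subgroup `H`, the sum `tval φ x S` over a set `S` of cosets is the
contribution of `S` to the transfer; it satisfies the cocycle identity.
-/

set_option autoImplicit false

namespace CfsgLib.InvChar.PartialTransfer

open Subgroup MulAction

variable {G : Type*} [Group G] [Finite G] {H : Subgroup G}

/-- The value of the transfer summand. -/
noncomputable def step (φ : G → ZMod 2) (x : G) (q : G ⧸ H) : ZMod 2 :=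
  φ ((x • q).out⁻¹ * x * q.out)

/-- The contribution of a set of cosets to the transfer. -/
noncomputable def tval (φ : G → ZMod 2) (x : G) (S : Finset (G ⧸ H)) : ZMod 2 :=
  ∑ q ∈ S, step φ x q

/-- The translate of a set of cosets. -/
noncomputable def move (x : G) (S : Finset (G ⧸ H)) : Finset (G ⧸ H) :=
  S.map (MulAction.toPerm x).toEmbedding

omit [Finite G] in
theorem mem_move {x : G} {S : Finset (G ⧸ H)} {q : G ⧸ H} : q ∈ move x S ↔ x⁻¹ • q ∈ S := by
  simp only [move, Finset.mem_map, Equiv.coe_toEmbedding, MulAction.toPerm_apply]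
  exact ⟨fun ⟨p, hp, e⟩ => by rwa [← e, inv_smul_smul], fun h => ⟨_, h, smul_inv_smul x q⟩⟩

omit [Finite G] in
theorem move_one (S : Finset (G ⧸ H)) : move 1 S = S := by
  ext q; rw [mem_move, inv_one, one_smul]

omit [Finite G] in
theorem move_mul (x y : G) (S : Finset (G ⧸ H)) : move (x * y) S = move x (move y S) := by
  ext q; simp [mem_move, mul_smul]

omit [Finite G] in
theorem move_singleton (x : G) (q : G ⧸ H) : move x {q} = {x • q} := by
  ext p
  simp only [mem_move, Finset.mem_singleton]
  exact inv_smul_eq_iff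

omit [Finite G] in
theorem out_mem (x : G) (q : G ⧸ H) : (x • q).out⁻¹ * x * q.out ∈ H := by
  rw [mul_assoc]
  refine QuotientGroup.eq.1 ?_
  rw [← smul_eq_mul, ← MulAction.Quotient.smul_coe, QuotientGroup.out_eq', QuotientGroup.out_eq']

variable {φ : G → ZMod 2} (hφ : ∀ a ∈ H, ∀ b ∈ H, φ (a * b) = φ a + φ b)
include hφ

omit [Finite G] in
theorem map_one : φ 1 = 0 := by
  have h := hφ 1 H.one_mem 1 H.one_mem
  rw [mul_one] at h
  exact left_eq_add.1 h

omit [Finite G] in
theorem map_sq {a : G} (ha : a ∈ H) : φ (a * a) = 0 := by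
  rw [hφ a ha a ha, CharTwo.add_self_eq_zero]

omit [Finite G] in
theorem map_conj {a b : G} (ha : a ∈ H) (hb : b ∈ H) : φ (a * b * a⁻¹) = φ b := by
  rw [hφ _ (H.mul_mem ha hb) _ (H.inv_mem ha), hφ a ha b hb]
  have h := hφ a ha a⁻¹ (H.inv_mem ha)
  rw [mul_inv_cancel, map_one hφ] at h
  rw [add_comm (φ a), add_assoc, ← h, add_zero]

omit [Finite G] in
theorem step_mul (x y : G) (q : G ⧸ H) : step φ (x * y) q = step φ x (y • q) + step φ y q := by
  unfold step
  rw [← hφ _ (out_mem x (y • q)) _ (out_mem y q), mul_smul]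
  congr 1
  group

omit [Finite G] in
theorem tval_mul (x y : G) (S : Finset (G ⧸ H)) :
    tval φ (x * y) S = tval φ x (move y S) + tval φ y S := by
  simp only [tval, move, Finset.sum_map, Equiv.coe_toEmbedding, MulAction.toPerm_apply]
  rw [← Finset.sum_add_distrib]
  exact Finset.sum_congr rfl fun q _ => step_mul hφ x y q

omit [Finite G] in
theorem tval_one (S : Finset (G ⧸ H)) : tval φ 1 S = 0 := by
  refine Finset.sum_eq_zero fun q _ => ?_
  unfold step
  rw [one_smul, mul_one, inv_mul_cancel, map_one hφ]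

omit [Finite G] in
theorem tval_mul_stable {x y : G} {S : Finset (G ⧸ H)} (h : move y S = S) :
    tval φ (x * y) S = tval φ x S + tval φ y S := by
  rw [tval_mul hφ, h]

omit [Finite G] in
theorem tval_conj {x h : G} {S : Finset (G ⧸ H)} (hx : move x (move h S) = move h S) :
    tval φ (h⁻¹ * x * h) S = tval φ x (move h S) := by
  rw [tval_mul hφ, tval_mul hφ, hx, add_assoc, add_comm (tval φ x (move h S)), ← add_assoc,
    ← tval_mul hφ, inv_mul_cancel, tval_one hφ, zero_add]

omit [Finite G] in
theorem tval_pow (x : G) (S : Finset (G ⧸ H)) (n : ℕ) :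
    tval φ (x ^ n) S = ∑ k ∈ Finset.range n, tval φ x (move (x ^ k) S) := by
  induction n with
  | zero => rw [pow_zero, tval_one hφ, Finset.range_zero, Finset.sum_empty]
  | succ n ih => rw [pow_succ', tval_mul hφ, ih, Finset.sum_range_succ, add_comm]

omit [Finite G] in
theorem tval_pow_odd {x : G} {S : Finset (G ⧸ H)} (h : move x S = S) {n : ℕ} (hn : Odd n) :
    tval φ (x ^ n) S = tval φ x S := by
  have hk : ∀ k : ℕ, move (x ^ k) S = S := fun k => by
    induction k with
    | zero => rw [pow_zero, move_one]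
    | succ k ih => rw [pow_succ, move_mul, h, ih]
  rw [tval_pow hφ, Finset.sum_congr rfl fun k _ => by rw [hk k], Finset.sum_const, Finset.card_range]
  obtain ⟨j, rfl⟩ := hn
  rw [add_nsmul, mul_nsmul, two_nsmul, CharTwo.add_self_eq_zero, nsmul_zero, zero_add, one_nsmul]

omit [Finite G] in
theorem step_fixed {x g : G} (h : g⁻¹ * x * g ∈ H) :
    step φ x ((g : G) : G ⧸ H) = φ (g⁻¹ * x * g) := by
  unfold step
  have hx : x • ((g : G) : G ⧸ H) = ((g : G) : G ⧸ H) := by
    rw [MulAction.Quotient.smul_coe, smul_eq_mul, QuotientGroup.eq]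
    have := H.inv_mem h
    simpa [mul_assoc] using this
  rw [hx]
  obtain ⟨h', hh'⟩ := QuotientGroup.mk_out_eq_mul H g
  rw [hh', show (g * (h' : G))⁻¹ * x * (g * h') = (h' : G)⁻¹ * (g⁻¹ * x * g) * (h' : G)⁻¹⁻¹ by group,
    map_conj hφ (H.inv_mem h'.2) h]

omit [Finite G] in
theorem tval_singleton {x g : G} (h : g⁻¹ * x * g ∈ H) :
    tval φ x ({((g : G) : G ⧸ H)} : Finset (G ⧸ H)) = φ (g⁻¹ * x * g) := by
  rw [tval, Finset.sum_singleton, step_fixed hφ h]

/-- Sets split into blocks with vanishing contributions contribute zero. -/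
theorem tval_eq_zero_of_blocks {x : G} {S : Finset (G ⧸ H)} (U : G ⧸ H → Finset (G ⧸ H))
    (hsub : ∀ q ∈ S, U q ⊆ S) (hmem : ∀ q ∈ S, q ∈ U q)
    (heq : ∀ q ∈ S, ∀ p ∈ U q, U p = U q) (hzero : ∀ q ∈ S, tval φ x (U q) = 0) :
    tval φ x S = 0 := by
  classical
  unfold tval
  rw [← Finset.sum_fiberwise_of_maps_to (s := S) (t := S.image U) (g := U)
    (fun q hq => Finset.mem_image_of_mem U hq)]
  refine Finset.sum_eq_zero fun B hB => ?_
  obtain ⟨q, hq, rfl⟩ := Finset.mem_image.1 hB
  rw [show S.filter (fun p => U p = U q) = U q from Finset.ext fun p => by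
    rw [Finset.mem_filter]
    exact ⟨fun ⟨hp, e⟩ => e ▸ hmem p hp, fun hp => ⟨hsub q hq hp, heq q hq p hp⟩⟩]
  exact hzero q hq

omit hφ in
/-- Values changing by a constant along a free involution. -/
theorem sum_flip {β : Type*} [DecidableEq β] (S : Finset β) (v : β → ZMod 2) (σ : β → β)
    (hσ : ∀ p ∈ S, σ p ∈ S) (hσσ : ∀ p ∈ S, σ (σ p) = p) (hne : ∀ p ∈ S, σ p ≠ p) (κ : ZMod 2)
    (hv : ∀ p ∈ S, v (σ p) = v p + κ) (h : 4 ∣ S.card ∨ κ = 0) : ∑ p ∈ S, v p = 0 := by
  classical
  have hcases : ∀ a : ZMod 2, a = 0 ∨ a = 1 := by decide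
  rcases hcases κ with hκ | hκ
  · refine Finset.sum_involution (fun p _ => σ p) (fun p hp => ?_) (fun p hp _ => hne p hp) hσ hσσ
    rw [hv p hp, hκ, add_zero, CharTwo.add_self_eq_zero]
  · have h4 : 4 ∣ S.card := h.resolve_right (by rw [hκ]; decide)
    have hflip : ∀ p ∈ S, (v p = 1 ↔ ¬ v (σ p) = 1) := fun p hp => by
      rw [hv p hp, hκ]
      rcases hcases (v p) with e | e <;> rw [e] <;> decide
    have hA : (S.filter fun p => v p = 1).card = (S.filter fun p => ¬ v p = 1).card := by
      refine Finset.card_nbij' σ σ ?_ ?_ ?_ ?_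
      · intro p hp
        rw [Finset.mem_coe, Finset.mem_filter] at hp ⊢
        exact ⟨hσ p hp.1, (hflip p hp.1).1 hp.2⟩
      · intro p hp
        rw [Finset.mem_coe, Finset.mem_filter] at hp ⊢
        refine ⟨hσ p hp.1, ?_⟩
        have := hflip (σ p) (hσ p hp.1)
        rw [hσσ p hp.1] at this
        exact this.2 hp.2
      · exact fun p hp => hσσ p (Finset.mem_filter.1 hp).1
      · exact fun p hp => hσσ p (Finset.mem_filter.1 hp).1
    have hsum := Finset.card_filter_add_card_filter_not (s := S) (fun p => v p = 1)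
    have : ∑ p ∈ S, v p = ((S.filter fun p => v p = 1).card : ZMod 2) := by
      rw [Finset.natCast_card_filter]
      refine Finset.sum_congr rfl fun p _ => ?_
      rcases hcases (v p) with e | e <;> simp [e]
    rw [this, ZMod.natCast_eq_zero_iff_even, even_iff_two_dvd]
    omega

/-- The full sum is the transfer, so it vanishes if `G` has no quotient of order two. -/
theorem tval_univ [Fintype (G ⧸ H)] (hres : Cfsg.pResidual 2 G = ⊤) (x : G) :
    tval φ x (Finset.univ : Finset (G ⧸ H)) = 0 := by
  have hst : ∀ y : G, move y (Finset.univ : Finset (G ⧸ H)) = Finset.univ := fun y => by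
    ext q; simp [mem_move]
  let F : G →* Multiplicative (ZMod 2) := MonoidHom.mk'
    (fun y => Multiplicative.ofAdd (tval φ y (Finset.univ : Finset (G ⧸ H)))) fun a b => by
      rw [tval_mul_stable hφ (hst b)]; rfl
  exact Multiplicative.ofAdd.injective
    (ExtraspecialIn.hom_eq_one_of_pResidual (by decide) hres F x)

/-- An element commuting with an involution contributes nothing on the cosets moved by it. -/
theorem tval_moved_eq_zero [Fintype (G ⧸ H)] [DecidableEq (G ⧸ H)] {z x : G} (hzz : z * z = 1)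
    (hxz : x * z = z * x) :
    tval φ x ((Finset.univ : Finset (G ⧸ H)).filter fun q => z • q ≠ q) = 0 := by
  classical
  have hzi : z⁻¹ = z := inv_eq_of_mul_eq_one_right hzz
  have hxk : ∀ k : ℕ, x ^ k * z = z * x ^ k := fun k => ((show Commute x z from hxz).pow_left k).eq
  have hord : 0 < orderOf x := orderOf_pos x
  let X : G ⧸ H → Finset (G ⧸ H) := fun q => Finset.univ.filter fun p => ∃ k : ℕ, p = x ^ k • q
  let U : G ⧸ H → Finset (G ⧸ H) := fun q => X q ∪ X (z • q)
  have hXmem : ∀ q p, p ∈ X q ↔ ∃ k : ℕ, p = x ^ k • q := fun q p => by simp [X]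
  have hXeq : ∀ q p, p ∈ X q → X p = X q := by
    intro q p hp
    obtain ⟨k, rfl⟩ := (hXmem q p).1 hp
    ext w
    simp only [hXmem]
    constructor
    · rintro ⟨j, rfl⟩; exact ⟨j + k, by rw [pow_add, mul_smul]⟩
    · rintro ⟨j, rfl⟩
      refine ⟨j + k * (orderOf x - 1), ?_⟩
      rw [← mul_smul, ← pow_add, show j + k * (orderOf x - 1) + k = j + orderOf x * k by
        obtain ⟨o, ho⟩ : ∃ o, orderOf x = o + 1 := ⟨orderOf x - 1, by omega⟩
        rw [ho]; simp; ring, pow_add, pow_mul, pow_orderOf_eq_one, one_pow, mul_one]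
  have hXz : ∀ q, X (z • q) = move z (X q) := fun q => by
    ext p
    rw [mem_move, hXmem, hXmem, hzi]
    constructor
    · rintro ⟨k, rfl⟩; exact ⟨k, by rw [← mul_smul, ← mul_smul, ← hxk, mul_assoc, hzz, mul_one]⟩
    · rintro ⟨k, hk⟩
      refine ⟨k, ?_⟩
      rw [← mul_smul, hxk, mul_smul, ← hk, ← mul_smul, hzz, one_smul]
  refine tval_eq_zero_of_blocks hφ U (fun q hq p hp => ?_) (fun q _ => ?_) (fun q _ p hp => ?_)
    (fun q hq => ?_)
  · have hq' : z • q ≠ q := (Finset.mem_filter.1 hq).2
    refine Finset.mem_filter.2 ⟨Finset.mem_univ _, fun e => hq' ?_⟩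
    rcases Finset.mem_union.1 hp with h | h <;> obtain ⟨k, rfl⟩ := (hXmem _ _).1 h <;>
      rw [← mul_smul, ← hxk, mul_smul, smul_left_cancel_iff] at e
    · exact e
    · exact smul_left_cancel z e
  · exact Finset.mem_union_left _ ((hXmem q q).2 ⟨0, by rw [pow_zero, one_smul]⟩)
  · rcases Finset.mem_union.1 hp with h | h
    · simp only [U, hXz, hXeq q p h]
    · simp only [U, hXz, hXeq (z • q) p h]
      rw [← move_mul, hzz, move_one, Finset.union_comm]
  · have hq' : z • q ≠ q := (Finset.mem_filter.1 hq).2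
    have hstab : ∀ p, move x (X p) = X p := fun p => by
      ext w
      rw [mem_move, hXmem, hXmem]
      constructor
      · rintro ⟨k, hk⟩; exact ⟨k + 1, by rw [pow_succ', mul_smul, ← hk, smul_inv_smul]⟩
      · rintro ⟨k, rfl⟩
        refine ⟨k + (orderOf x - 1), ?_⟩
        rw [inv_smul_eq_iff, ← mul_smul, ← pow_succ',
          show k + (orderOf x - 1) + 1 = k + orderOf x by omega, pow_add, pow_orderOf_eq_one, mul_one]
    by_cases hzX : z • q ∈ X q
    · have e : U q = X q := by simp only [U, hXeq q _ hzX, Finset.union_self]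
      rw [e]
      have hex : ∃ n, 0 < n ∧ x ^ n • q = q := ⟨orderOf x, hord, by rw [pow_orderOf_eq_one, one_smul]⟩
      set r := Nat.find hex
      obtain ⟨hr0, hr⟩ : 0 < r ∧ x ^ r • q = q := Nat.find_spec hex
      have hmin : ∀ n, 0 < n → x ^ n • q = q → r ≤ n := fun n h1 h2 => Nat.find_min' hex ⟨h1, h2⟩
      have hrm : ∀ n, x ^ n • q = x ^ (n % r) • q := fun n => by
        conv_lhs => rw [← Nat.mod_add_div n r, pow_add, mul_smul]
        congr 1
        induction n / r with
        | zero => rw [mul_zero, pow_zero, one_smul]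
        | succ m ih => rw [mul_add, mul_one, pow_add, mul_smul, hr, ih]
      have hinj : ∀ i j, i ≤ j → j < r → x ^ i • q = x ^ j • q → i = j := fun i j hij hj he => by
        by_contra hne
        have h1 : x ^ (j - i) • q = q := by
          refine smul_left_cancel (x ^ i) ?_
          rw [← mul_smul, ← pow_add, Nat.add_sub_cancel' hij, he]
        have := hmin (j - i) (by omega) h1
        omega
      have hsum : tval φ x (X q) = tval φ (x ^ r) {q} := by
        rw [tval_pow hφ]
        have hX : X q = (Finset.range r).image fun k => x ^ k • q := by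
          ext p
          rw [hXmem, Finset.mem_image]
          exact ⟨fun ⟨k, hk⟩ => ⟨k % r, Finset.mem_range.2 (Nat.mod_lt _ hr0), by rw [← hrm, hk]⟩,
            fun ⟨k, _, hk⟩ => ⟨k, hk.symm⟩⟩
        rw [hX, tval, Finset.sum_image]
        · exact Finset.sum_congr rfl fun k _ => by rw [move_singleton, tval, Finset.sum_singleton]
        · intro i hi j hj he
          rw [Finset.mem_coe, Finset.mem_range] at hi hj
          rcases le_total i j with h | h
          · exact hinj i j h hj he
          · exact (hinj j i h hi he.symm).symm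
      obtain ⟨j0, hj0⟩ := (hXmem q _).1 hzX
      set j := j0 % r
      have hj : z • q = x ^ j • q := hj0.trans (hrm j0)
      have hjr : j < r := Nat.mod_lt _ hr0
      have hj1 : 0 < j := Nat.pos_of_ne_zero fun e0 => hq' (by rw [hj, e0, pow_zero, one_smul])
      have h2j : x ^ (j + j) • q = q := by
        rw [pow_add, mul_smul, ← hj, ← mul_smul, hxk, mul_smul, ← hj, ← mul_smul, hzz, one_smul]
      have hr2 : r = j + j := by
        have h1 : (j + j) % r = 0 := by
          by_contra hne
          have := hmin ((j + j) % r) (Nat.pos_of_ne_zero hne) (by rw [← hrm]; exact h2j)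
          have := Nat.mod_lt (j + j) hr0
          omega
        obtain ⟨c, hc⟩ := Nat.dvd_of_mod_eq_zero h1
        rcases c with _ | _ | c
        · omega
        · omega
        · rw [Nat.mul_succ, Nat.mul_succ] at hc; omega
      rw [hsum]
      obtain ⟨g, rfl⟩ := QuotientGroup.mk_surjective q
      have hw : g⁻¹ * (z * x ^ j) * g ∈ H := by
        rw [mul_assoc]
        refine QuotientGroup.eq.1 ?_
        rw [← smul_eq_mul, ← MulAction.Quotient.smul_coe, mul_smul, ← hj, ← mul_smul, hzz, one_smul]
      have hww : g⁻¹ * x ^ r * g = g⁻¹ * (z * x ^ j) * g * (g⁻¹ * (z * x ^ j) * g) := by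
        rw [hr2, pow_add]
        calc g⁻¹ * (x ^ j * x ^ j) * g = g⁻¹ * (z * z * (x ^ j * x ^ j)) * g := by rw [hzz, one_mul]
          _ = g⁻¹ * (z * (z * x ^ j) * x ^ j) * g := by group
          _ = g⁻¹ * (z * (x ^ j * z) * x ^ j) * g := by rw [hxk]
          _ = _ := by group
      rw [tval_singleton hφ (by rw [hww]; exact H.mul_mem hw hw), hww, map_sq hφ hw]
    · have hd : Disjoint (X q) (X (z • q)) := by
        rw [Finset.disjoint_left]
        intro p h1 h2
        apply hzX
        rw [← hXeq q p h1, hXeq _ p h2]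
        exact (hXmem _ _).2 ⟨0, by rw [pow_zero, one_smul]⟩
      have key : tval φ x (X (z • q)) = tval φ x (X q) := by
        rw [hXz]
        rw [← tval_conj hφ (by rw [← hXz]; exact hstab _)]
        rw [hzi, mul_assoc, hxz, ← mul_assoc, hzz, one_mul]
      simp only [U, tval, Finset.sum_union hd]
      show tval φ x (X q) + tval φ x (X (z • q)) = 0
      rw [key, CharTwo.add_self_eq_zero]

end CfsgLib.InvChar.PartialTransfer
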