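import Mathlib
import Cfsg.Prelude.Def_Transfer
import Cfsg.Prelude.Def_Solvable
import Cfsg.Agent.Lib.InvChar.TransferCocycle
import Cfsg.Agent.Lib.Trans3.InnerCentral
import Cfsg.Agent.Lib.Transfer.ExtraspecialIso

/-!
# Transfer to a subgroup of index two of an involution centraliser with extraspecial two-core

The double cosets of `H = C(z)` are grouped by orbits of `E = O₂(H)`; each orbit contributes
trivially under mild conditions, so `φ` has to vanish on the two-elements of `H`.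
-/

set_option autoImplicit false

namespace CfsgLib.InvChar.ExtraspecialTransfer

open Subgroup MulAction CfsgLib.InvChar.PartialTransfer

variable {G : Type*} [Group G] {z : G} {E : Subgroup G}

/-- The configuration. -/
structure Setup (z : G) (E : Subgroup G) : Prop where
  hz : z ≠ 1
  hzz : z * z = 1
  hEH : E ≤ centralizer ({z} : Set G)
  hnorm : ∀ h ∈ centralizer ({z} : Set G), ∀ e ∈ E, h * e * h⁻¹ ∈ E
  hzE : z ∈ E
  hcomm : ∀ a ∈ E, ∀ b ∈ E, a * b = b * a ∨ a * b = b * a * z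
  hsq : ∀ a ∈ E, a * a = 1 ∨ a * a = z
  hcenter : ∀ a ∈ E, (∀ b ∈ E, a * b = b * a) → a = 1 ∨ a = z
  htwo : IsPGroup 2 ↥E
  hcent : centralizer (E : Set G) ≤ E
  hinner : ∀ (t : G) (ht : ∀ e ∈ E, t * e * t⁻¹ ∈ E), (∀ e ∈ E, t * e * t⁻¹ = e ∨ t * e * t⁻¹ = e * z) →
    t ∈ E

theorem setup [Finite G] (z : G) (hz : orderOf z = 2) (E : Subgroup G)
    (hE : E = (Cfsg.pCore 2 ↥(centralizer ({z} : Set G))).map (centralizer ({z} : Set G)).subtype)
    (hext : Cfsg.IsExtraspecial 2 ↥E) (hcent : centralizer (E : Set G) ≤ E) : Setup z E := by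
  classical
  have hzz : z * z = 1 := by rw [← pow_two, ← hz, pow_orderOf_eq_one]
  have hz1 : z ≠ 1 := fun h => by simp [h] at hz
  have hEH : E ≤ centralizer ({z} : Set G) := hE ▸ map_subtype_le _
  have hnorm : ∀ h ∈ centralizer ({z} : Set G), ∀ e ∈ E, h * e * h⁻¹ ∈ E := fun h hh e he => by
    rw [hE] at he ⊢
    obtain ⟨e', he', rfl⟩ := he
    haveI : (Cfsg.pCore 2 ↥(centralizer ({z} : Set G))).Normal :=
      sSup_normal _ fun N hN => hN.1
    exact ⟨⟨h, hh⟩ * e' * (⟨h, hh⟩)⁻¹, Normal.conj_mem inferInstance e' he' ⟨h, hh⟩, rfl⟩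
  have hzc : ∀ x ∈ E, x * z = z * x := fun x hx => mem_centralizer_singleton_iff.1 (hEH hx)
  have hzE : z ∈ E := hcent (mem_centralizer_iff.2 fun x hx => hzc x hx)
  set ze : ↥E := ⟨z, hzE⟩ with hze
  have hzec : ze ∈ center ↥E := mem_center_iff.2 fun x => Subtype.ext (hzc x.1 x.2)
  have hze1 : ze ≠ 1 := fun h => hz1 (congrArg Subtype.val h)
  have hZ : ∀ c ∈ center ↥E, c = 1 ∨ c = ze := fun c hc => by
    by_cases h : c = 1
    · exact Or.inl h
    · exact Or.inr (CfsgLib.Transfer.es_two_central_eq hext hc hzec h hze1)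
  refine ⟨hz1, hzz, hEH, hnorm, hzE, fun a ha b hb => ?_, fun a ha => ?_, fun a ha h => ?_, hext.1.1,
    hcent, fun t ht h => ?_⟩
  · obtain ⟨c, hc⟩ : ∃ c : ↥E, c = (⟨a, ha⟩ : ↥E)⁻¹ * ⟨b, hb⟩⁻¹ * ⟨a, ha⟩ * ⟨b, hb⟩ := ⟨_, rfl⟩
    have hcc : c ∈ center ↥E := by
      have h := CfsgLib.Transfer.special_commutatorElement_mem_center hext.1 (⟨a, ha⟩ : ↥E)⁻¹ (⟨b, hb⟩ : ↥E)⁻¹
      rw [commutatorElement_def, inv_inv, inv_inv] at h
      rwa [hc]
    have e : a * b = b * a * (c : G) := by rw [hc]; simp only [Subgroup.coe_mul, Subgroup.coe_inv]; group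
    rcases hZ c hcc with h | h
    · left; rw [e, h, OneMemClass.coe_one, mul_one]
    · right; rw [e, h]
  · rcases hZ _ (CfsgLib.Transfer.es_two_sq_mem hext ⟨a, ha⟩) with h | h
    · left; simpa [pow_two] using congrArg Subtype.val h
    · right; simpa [pow_two] using congrArg Subtype.val h
  · exact (hZ ⟨a, ha⟩ (mem_center_iff.2 fun b => Subtype.ext (h b b.2).symm)).imp
      (congrArg Subtype.val) (congrArg Subtype.val)
  · let f : ↥E →* ↥E := MonoidHom.mk' (fun e => ⟨t * e * t⁻¹, ht e e.2⟩) fun a b => Subtype.ext (by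
      show t * ((a : G) * b) * t⁻¹ = t * a * t⁻¹ * (t * b * t⁻¹)
      group)
    have hf : Function.Bijective f := by
      have hi : Function.Injective f := fun a b hab => Subtype.ext (by
        have := congrArg Subtype.val hab
        exact mul_left_cancel (mul_right_cancel (this : t * (a : G) * t⁻¹ = t * b * t⁻¹)))
      exact ⟨hi, Finite.injective_iff_surjective.1 hi⟩
    obtain ⟨e1, he1⟩ := CfsgLib.Trans3.exists_conj_of_trivial_mod_center hext (MulEquiv.ofBijective f hf)
      (fun x => by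
        rcases h x x.2 with e | e
        · rw [show (MulEquiv.ofBijective f hf) x = x from Subtype.ext e, mul_inv_cancel]; exact one_mem _
        · rw [show (MulEquiv.ofBijective f hf) x = x * ze from Subtype.ext e]
          rw [mem_center_iff.1 hzec x, mul_inv_cancel_right]
          exact hzec)
    have : (e1 : G)⁻¹ * t ∈ E := hcent (mem_centralizer_iff.2 fun x hx => by
      have h2 : t * x * t⁻¹ = (e1 : G) * x * (e1 : G)⁻¹ := congrArg Subtype.val (he1 ⟨x, hx⟩)
      calc x * ((e1 : G)⁻¹ * t) = (e1 : G)⁻¹ * ((e1 : G) * x * (e1 : G)⁻¹) * t := by group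
        _ = (e1 : G)⁻¹ * t * x := by rw [← h2]; group)
    simpa using E.mul_mem e1.2 this

namespace Setup

variable (S : Setup z E)
include S

theorem zc {a : G} (ha : a ∈ E) : a * z = z * a := mem_centralizer_singleton_iff.1 (S.hEH ha)

theorem conj_E {a b : G} (ha : a ∈ E) (hb : b ∈ E) : b⁻¹ * a * b = a ∨ b⁻¹ * a * b = a * z := by
  rcases S.hcomm a ha b hb with h | h
  · left; rw [mul_assoc, h, inv_mul_cancel_left]
  · right; rw [mul_assoc, h, mul_assoc b, inv_mul_cancel_left]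

omit S in
theorem fix_iff {x g : G} :
    x • ((g : G) : G ⧸ centralizer ({z} : Set G)) = (g : G ⧸ centralizer ({z} : Set G)) ↔
      x * (g * z * g⁻¹) = (g * z * g⁻¹) * x := by
  rw [MulAction.Quotient.smul_coe, smul_eq_mul, QuotientGroup.eq, mem_centralizer_singleton_iff]
  constructor
  · intro h
    calc x * (g * z * g⁻¹) = x * g * (z * ((x * g)⁻¹ * g)) * g⁻¹ * x := by group
      _ = x * g * ((x * g)⁻¹ * g * z) * g⁻¹ * x := by rw [h]
      _ = g * z * g⁻¹ * x := by group
  · intro h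
    calc (x * g)⁻¹ * g * z = g⁻¹ * x⁻¹ * (g * z * g⁻¹) * g := by group
      _ = g⁻¹ * x⁻¹ * (g * z * g⁻¹ * x) * x⁻¹ * g := by group
      _ = g⁻¹ * x⁻¹ * (x * (g * z * g⁻¹)) * x⁻¹ * g := by rw [h]
      _ = z * ((x * g)⁻¹ * g) := by group

omit S in
theorem mem_of_fix {x g : G}
    (h : x • ((g : G) : G ⧸ centralizer ({z} : Set G)) = (g : G ⧸ centralizer ({z} : Set G))) :
    g⁻¹ * x * g ∈ centralizer ({z} : Set G) := by
  rw [fix_iff] at h
  refine mem_centralizer_singleton_iff.2 ?_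
  calc g⁻¹ * x * g * z = g⁻¹ * (x * (g * z * g⁻¹)) * g := by group
    _ = g⁻¹ * (g * z * g⁻¹ * x) * g := by rw [h]
    _ = z * (g⁻¹ * x * g) := by group

/-- The value of the transfer on a coset fixed by `x`, moved by an element of `E`. -/
theorem fix_translate {c e g : G} (hc : c ∈ E) (he : e ∈ E)
    (hcf : c • ((g : G) : G ⧸ centralizer ({z} : Set G)) = (g : G ⧸ centralizer ({z} : Set G)))
    (hzf : z • ((g : G) : G ⧸ centralizer ({z} : Set G)) = (g : G ⧸ centralizer ({z} : Set G))) :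
    (e⁻¹ * c * e) • ((g : G) : G ⧸ centralizer ({z} : Set G)) =
      (g : G ⧸ centralizer ({z} : Set G)) := by
  rcases S.conj_E hc he with h | h <;> rw [h]
  · exact hcf
  · rw [mul_smul, hzf, hcf]

end Setup

/-- The orbit of a subgroup on cosets, as a finite set. -/
noncomputable def orb [Finite G] (E1 : Subgroup G) (g : G) : Finset (G ⧸ centralizer ({z} : Set G)) :=
  (Set.toFinite {p : G ⧸ centralizer ({z} : Set G) | ∃ e ∈ E1, p = e • (g : G ⧸ centralizer ({z} : Set G))}).toFinset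

theorem mem_orb [Finite G] {E1 : Subgroup G} {g : G} {p : G ⧸ centralizer ({z} : Set G)} :
    p ∈ orb (z := z) E1 g ↔ ∃ e ∈ E1, p = e • (g : G ⧸ centralizer ({z} : Set G)) := by
  simp [orb]

theorem move_orb [Finite G] {E1 : Subgroup G} {g c : G} (hc : c ∈ E1) :
    move c (orb (z := z) E1 g) = orb E1 g := by
  ext p
  rw [mem_move, mem_orb, mem_orb]
  constructor
  · rintro ⟨e, he, h⟩
    exact ⟨c * e, mul_mem hc he, by rw [mul_smul, ← h, smul_inv_smul]⟩
  · rintro ⟨e, he, rfl⟩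
    exact ⟨c⁻¹ * e, mul_mem (inv_mem hc) he, by rw [mul_smul]⟩

theorem card_orb [Finite G] (E1 : Subgroup G) (g : G) :
    (orb (z := z) E1 g).card * Nat.card ↥(E1 ⊓ centralizer ({g * z * g⁻¹} : Set G) : Subgroup G) =
      Nat.card ↥E1 := by
  classical
  set q : G ⧸ centralizer ({z} : Set G) := (g : G ⧸ centralizer ({z} : Set G)) with hq
  have horb : (orb (z := z) E1 g).card = Nat.card ↥(MulAction.orbit ↥E1 q) := by
    rw [← Nat.card_eq_finsetCard]
    refine Nat.card_congr (Equiv.subtypeEquivRight fun p => ?_)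
    rw [mem_orb]
    constructor
    · rintro ⟨e, he, rfl⟩; exact ⟨⟨e, he⟩, rfl⟩
    · rintro ⟨e, rfl⟩; exact ⟨e, e.2, rfl⟩
  have hst : Nat.card ↥(MulAction.stabilizer ↥E1 q) =
      Nat.card ↥(E1 ⊓ centralizer ({g * z * g⁻¹} : Set G) : Subgroup G) := Nat.card_congr
    { toFun := fun e => ⟨((e : ↥E1) : G), mem_inf.2 ⟨(e : ↥E1).2,
        mem_centralizer_singleton_iff.2 (Setup.fix_iff.1 e.2)⟩⟩
      invFun := fun e => ⟨⟨e, (mem_inf.1 e.2).1⟩,
        Setup.fix_iff.2 (mem_centralizer_singleton_iff.1 (mem_inf.1 e.2).2)⟩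
      left_inv := fun e => rfl
      right_inv := fun e => rfl }
  rw [horb, ← hst, Nat.card_congr (MulAction.orbitEquivQuotientStabilizer ↥E1 q)]
  exact (card_eq_card_quotient_mul_card_subgroup _).symm

section Blocks

variable [Finite G] (S : Setup z E) (φ : G → ZMod 2)
  (hφ : ∀ a ∈ centralizer ({z} : Set G), ∀ b ∈ centralizer ({z} : Set G), φ (a * b) = φ a + φ b)
include S hφ

/-- Elements of `E` contribute nothing. -/
theorem tval_E {g c : G} {E1 : Subgroup G} (hE1 : E1 ≤ E) (hc : c ∈ E1)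
    (hzf : z • (g : G ⧸ centralizer ({z} : Set G)) = (g : G ⧸ centralizer ({z} : Set G)))
    (hD : ∀ e ∈ E, e • (g : G ⧸ centralizer ({z} : Set G)) = (g : G ⧸ centralizer ({z} : Set G)) → e ∈ E1)
    (heven : 2 ∣ (orb (z := z) E1 g).card)
    (hcond : 4 ∣ (orb (z := z) E1 g).card ∨ φ (g⁻¹ * z * g) = 0) :
    tval φ c (orb (z := z) E1 g) = 0 := by
  classical
  set q : G ⧸ centralizer ({z} : Set G) := (g : G ⧸ centralizer ({z} : Set G)) with hq
  set O := orb (z := z) E1 g with hO
  have hzE1 : z ∈ E1 := hD z S.hzE hzf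
  have hcE : c ∈ E := hE1 hc
  have hzH : g⁻¹ * z * g ∈ centralizer ({z} : Set G) := Setup.mem_of_fix hzf
  -- the value at a point
  have hval : ∀ (d e : G), d ∈ E → e ∈ E → d • q = q →
      step φ d (e • q) = φ (g⁻¹ * (e⁻¹ * d * e) * g) := by
    intro d e hd he hdq
    have h := Setup.mem_of_fix (S.fix_translate hd he hdq hzf)
    rw [hq, MulAction.Quotient.smul_coe, smul_eq_mul,
      step_fixed hφ (show (e * g)⁻¹ * d * (e * g) ∈ centralizer ({z} : Set G) by
        convert h using 1; group)]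
    congr 1
    group
  have hfree : ∀ d e : G, d ∈ E → e ∈ E → d • (e • q) = e • q → d • q = q := by
    intro d e hd he h
    have h1 : (e⁻¹ * d * e) • q = q := by rw [mul_smul, mul_smul, h, inv_smul_smul]
    rcases S.conj_E hd he with e' | e' <;> rw [e'] at h1
    · exact h1
    · rwa [mul_smul, hzf] at h1
  by_cases hcq : c • q = q
  · have hconst : ∀ e ∈ E1, e⁻¹ * c * e = c ∨ φ (g⁻¹ * z * g) = 0 →
        step φ c (e • q) = φ (g⁻¹ * c * g) := by
      intro e he h
      rw [hval c e hcE (hE1 he) hcq]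
      rcases S.conj_E hcE (hE1 he) with e' | e' <;> rw [e']
      rcases h with h | h
      · rw [← e', h]
      · rw [show g⁻¹ * (c * z) * g = g⁻¹ * c * g * (g⁻¹ * z * g) by group,
          hφ _ (Setup.mem_of_fix hcq) _ hzH, h, add_zero]
    by_cases hall : ∀ e ∈ E1, e⁻¹ * c * e = c ∨ φ (g⁻¹ * z * g) = 0
    · have hsame : ∀ p ∈ O, step φ c p = φ (g⁻¹ * c * g) := fun p hp => by
        obtain ⟨e, he, rfl⟩ := mem_orb.1 hp
        exact hconst e he (hall e he)
      rw [tval, Finset.sum_congr rfl hsame, Finset.sum_const]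
      obtain ⟨j, hj⟩ := heven
      rw [hj, mul_nsmul', two_nsmul, ← add_nsmul, ← two_mul, mul_nsmul, two_nsmul,
        CharTwo.add_self_eq_zero, nsmul_zero]
    push Not at hall
    obtain ⟨s, hs, hsc, hψz⟩ := hall
    have hsc' : s⁻¹ * c * s = c * z := (S.conj_E hcE (hE1 hs)).resolve_left hsc
    have hsq : s • q ≠ q := by
      intro h
      apply hψz
      have h1 := Setup.mem_of_fix h
      have h2 := Setup.mem_of_fix hcq
      have e : g⁻¹ * z * g = (g⁻¹ * c * g)⁻¹ * ((g⁻¹ * s * g)⁻¹ * (g⁻¹ * c * g) * (g⁻¹ * s * g)) := by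
        calc g⁻¹ * z * g = g⁻¹ * (c⁻¹ * (s⁻¹ * c * s)) * g := by rw [hsc', inv_mul_cancel_left]
          _ = _ := by group
      have h3 := hφ (g⁻¹ * c * g)⁻¹ (inv_mem h2) (g⁻¹ * c * g) h2
      rw [inv_mul_cancel, PartialTransfer.map_one hφ] at h3
      rw [e, hφ _ (inv_mem h2) _ (mul_mem (mul_mem (inv_mem h1) h2) h1),
        show (g⁻¹ * s * g)⁻¹ * (g⁻¹ * c * g) * (g⁻¹ * s * g) =
          (g⁻¹ * s * g)⁻¹ * (g⁻¹ * c * g) * (g⁻¹ * s * g)⁻¹⁻¹ by rw [inv_inv],
        map_conj hφ (inv_mem h1) h2]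
      exact h3.symm
    refine sum_flip O _ (fun p => s • p) (fun p hp => ?_) (fun p hp => ?_) (fun p hp => ?_)
      (φ (g⁻¹ * z * g)) (fun p hp => ?_) hcond
    · obtain ⟨e, he, rfl⟩ := mem_orb.1 hp
      exact mem_orb.2 ⟨s * e, mul_mem hs he, (mul_smul _ _ _).symm⟩
    · obtain ⟨e, he, rfl⟩ := mem_orb.1 hp
      rw [← mul_smul]
      rcases S.hsq s (hE1 hs) with h | h <;> rw [h]
      · rw [one_smul]
      · rw [← mul_smul, ← S.zc (hE1 he), mul_smul, hzf]
    · obtain ⟨e, he, rfl⟩ := mem_orb.1 hp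
      exact fun h => hsq (hfree s e (hE1 hs) (hE1 he) h)
    · obtain ⟨e, he, rfl⟩ := mem_orb.1 hp
      rw [← mul_smul, hval c (s * e) hcE (hE1 (mul_mem hs he)) hcq, hval c e hcE (hE1 he) hcq,
        show (s * e)⁻¹ * c * (s * e) = e⁻¹ * (s⁻¹ * c * s) * e by group, hsc',
        show e⁻¹ * (c * z) * e = e⁻¹ * c * (z * e) by group, ← S.zc (hE1 he),
        show g⁻¹ * (e⁻¹ * c * (e * z)) * g = g⁻¹ * (e⁻¹ * c * e) * g * (g⁻¹ * z * g) by group,
        hφ _ (Setup.mem_of_fix (S.fix_translate hcE (hE1 he) hcq hzf)) _ hzH]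
  · have hcc : (c * c) • q = q := by
      rcases S.hsq c hcE with h | h <;> rw [h]
      · rw [one_smul]
      · exact hzf
    refine sum_flip O _ (fun p => c • p) (fun p hp => ?_) (fun p hp => ?_) (fun p hp => ?_)
      (φ (g⁻¹ * (c * c) * g)) (fun p hp => ?_) (hcond.imp_right fun h => ?_)
    · obtain ⟨e, he, rfl⟩ := mem_orb.1 hp
      exact mem_orb.2 ⟨c * e, mul_mem hc he, (mul_smul _ _ _).symm⟩
    · obtain ⟨e, he, rfl⟩ := mem_orb.1 hp
      rw [← mul_smul]
      rcases S.hsq c hcE with h | h <;> rw [h]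
      · rw [one_smul]
      · rw [← mul_smul, ← S.zc (hE1 he), mul_smul, hzf]
    · obtain ⟨e, he, rfl⟩ := mem_orb.1 hp
      exact fun h => hcq (hfree c e hcE (hE1 he) h)
    · obtain ⟨e, he, rfl⟩ := mem_orb.1 hp
      have h := step_mul hφ c c (e • q)
      rw [hval (c * c) e (mul_mem hcE hcE) (hE1 he) hcc] at h
      have h' : e⁻¹ * (c * c) * e = c * c := by
        rcases S.hsq c hcE with h2 | h2 <;> rw [h2]
        · group
        · rw [mul_assoc, ← S.zc (hE1 he), inv_mul_cancel_left]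
      rw [h'] at h
      rw [h, add_comm (step φ c (e • q)), add_assoc, CharTwo.add_self_eq_zero, add_zero]
    · rcases S.hsq c hcE with h2 | h2 <;> rw [h2]
      · rw [mul_one, inv_mul_cancel, PartialTransfer.map_one hφ]
      · exact h

/-- A two-element stabilising an orbit of `E` contributes nothing. -/
theorem tval_block {g y : G} (hy : y ∈ centralizer ({z} : Set G))
    (hzf : z • (g : G ⧸ centralizer ({z} : Set G)) = (g : G ⧸ centralizer ({z} : Set G)))
    (hyq : y • (g : G ⧸ centralizer ({z} : Set G)) ∈ orb (z := z) E g)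
    (hstab : move y (orb (z := z) E g) = orb E g)
    (hcond : 8 ∣ (orb (z := z) E g).card ∨
      (4 ∣ (orb (z := z) E g).card ∧ φ (g⁻¹ * z * g) = 0) ∨
      ((orb (z := z) E g).card = 2 ∧ φ (g⁻¹ * z * g) = 0 ∧
        ∀ c ∈ E, c * (g * z * g⁻¹) = g * z * g⁻¹ * c → φ (g⁻¹ * c * g) = 0)) :
    tval φ y (orb (z := z) E g) = 0 := by
  classical
  haveI : Fact (Nat.Prime 2) := ⟨Nat.prime_two⟩
  set q : G ⧸ centralizer ({z} : Set G) := (g : G ⧸ centralizer ({z} : Set G)) with hq
  set O := orb (z := z) E g with hO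
  have hevenO : 2 ∣ O.card := by
    rcases hcond with h | ⟨h, -⟩ | ⟨h, -⟩
    · exact (by norm_num : (2 : ℕ) ∣ 8).trans h
    · exact (by norm_num : (2 : ℕ) ∣ 4).trans h
    · simp [h]
  have hcondO : 4 ∣ O.card ∨ φ (g⁻¹ * z * g) = 0 := by
    rcases hcond with h | ⟨-, h⟩ | ⟨-, h, -⟩
    · exact Or.inl ((by norm_num : (4 : ℕ) ∣ 8).trans h)
    · exact Or.inr h
    · exact Or.inr h
  obtain ⟨e0, he0, he0q⟩ := mem_orb.1 hyq
  obtain ⟨d0, hd0⟩ : ∃ d, d = e0⁻¹ * y := ⟨_, rfl⟩
  have hd0q : d0 • q = q := by rw [hd0, mul_smul, he0q, inv_smul_smul]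
  have hd0O : move d0 O = O := by rw [hd0, move_mul, hstab, move_orb (inv_mem he0)]
  have hy0 : y = e0 * d0 := by rw [hd0, mul_inv_cancel_left]
  rw [hy0, tval_mul_stable hφ hd0O,
    tval_E S φ hφ le_rfl he0 hzf (fun e he _ => he) hevenO hcondO, zero_add]
  have hd0H : d0 ∈ centralizer ({z} : Set G) := hd0 ▸ mul_mem (inv_mem (S.hEH he0)) hy
  obtain ⟨a, o, hodd, hord⟩ := Nat.exists_eq_pow_mul_and_not_dvd (orderOf_pos d0).ne' 2 (by norm_num)
  rw [← tval_pow_odd hφ hd0O (Nat.not_even_iff_odd.1 fun h => hodd (even_iff_two_dvd.1 h))]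
  obtain ⟨d, hd⟩ : ∃ d, d = d0 ^ o := ⟨_, rfl⟩
  rw [← hd]
  have hd2 : d ^ 2 ^ a = 1 := by rw [hd, ← pow_mul, mul_comm, ← hord, pow_orderOf_eq_one]
  have hdH : d ∈ centralizer ({z} : Set G) := hd ▸ pow_mem hd0H o
  have hpowq : ∀ n : ℕ, d0 ^ n • q = q := fun n => by
    induction n with
    | zero => rw [pow_zero, one_smul]
    | succ n ih => rw [pow_succ, mul_smul, hd0q, ih]
  have hdq : d • q = q := hd ▸ hpowq o
  -- the quotient of `E` by the stabiliser
  set D := centralizer ({g * z * g⁻¹} : Set G) with hDdef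
  have hD : ∀ {x : G}, x ∈ D ↔ x • q = q := fun {x} =>
    mem_centralizer_singleton_iff.trans Setup.fix_iff.symm
  set N : Subgroup ↥E := D.subgroupOf E with hN
  have hzN : (⟨z, S.hzE⟩ : ↥E) ∈ N := mem_subgroupOf.2 (hD.2 hzf)
  haveI hNn : N.Normal := ⟨fun x hx e => by
    rw [mem_subgroupOf, hD] at hx ⊢
    have h := S.fix_translate x.2 (inv_mem e.2) hx hzf
    rwa [inv_inv] at h⟩
  have hexp : ∀ v : ↥E ⧸ N, v * v = 1 := by
    intro v
    obtain ⟨x, rfl⟩ := QuotientGroup.mk_surjective v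
    rw [← QuotientGroup.mk_mul, QuotientGroup.eq_one_iff]
    rcases S.hsq x x.2 with h | h
    · rw [show x * x = 1 from Subtype.ext h]; exact one_mem _
    · rw [show x * x = ⟨z, S.hzE⟩ from Subtype.ext h]; exact hzN
  have hvinv : ∀ v : ↥E ⧸ N, v⁻¹ = v := fun v => inv_eq_of_mul_eq_one_right (hexp v)
  have hcm : ∀ v w : ↥E ⧸ N, v * w = w * v := fun v w => by
    rw [← hvinv (v * w), _root_.mul_inv_rev, hvinv, hvinv]
  let αE : ↥E →* ↥E := MonoidHom.mk' (fun x => ⟨d * x * d⁻¹, S.hnorm d hdH x x.2⟩) fun a b =>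
    Subtype.ext (by show d * ((a : G) * b) * d⁻¹ = d * a * d⁻¹ * (d * b * d⁻¹); group)
  have hαN : N ≤ N.comap αE := fun x hx => by
    rw [mem_comap, mem_subgroupOf]
    rw [mem_subgroupOf] at hx
    exact mul_mem (mul_mem (hD.2 hdq) hx) (inv_mem (hD.2 hdq))
  let α : ↥E ⧸ N →* ↥E ⧸ N := QuotientGroup.map N N αE hαN
  let δ : ↥E ⧸ N →* ↥E ⧸ N := MonoidHom.mk' (fun v => α v * v) fun v w => by
    rw [map_mul, mul_assoc, ← mul_assoc (α w), hcm (α w) v]; group
  have hcardV : 2 ∣ Nat.card (↥E ⧸ N) := by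
    obtain ⟨n', hn'⟩ := S.htwo.exists_card_eq
    obtain ⟨i, -, hi⟩ := (Nat.dvd_prime_pow Nat.prime_two).1
      (hn' ▸ card_quotient_dvd_card N : Nat.card (↥E ⧸ N) ∣ 2 ^ n')
    rcases Nat.eq_zero_or_pos i with h0 | h0
    · exfalso
      have hv : Nat.card (↥E ⧸ N) = 1 := by rw [hi, h0, pow_zero]
      haveI := (Nat.card_eq_one_iff_unique.1 hv).1
      have hall : ∀ e ∈ E, e • q = q := fun e he => by
        have : (((⟨e, he⟩ : ↥E)) : ↥E ⧸ N) = 1 := Subsingleton.elim _ _
        rw [QuotientGroup.eq_one_iff, mem_subgroupOf, hD] at this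
        exact this
      have : O = {q} := Finset.ext fun p => by
        rw [mem_orb, Finset.mem_singleton]
        exact ⟨fun ⟨e, he, h⟩ => h.trans (hall e he), fun h => ⟨1, one_mem _, by rw [h, one_smul]⟩⟩
      rw [this, Finset.card_singleton] at hevenO
      norm_num at hevenO
    · rw [hi]; exact dvd_pow_self 2 (by omega)
  obtain ⟨v0, hv0, hv0α⟩ : ∃ v, v ≠ 1 ∧ α v = v := by
    haveI : Fintype (↥E ⧸ N) := Fintype.ofFinite _
    have hpow : ∀ (n : ℕ) (x : ↥E), ∀ y' : ↥E, (y' : G) = d ^ n * x * (d ^ n)⁻¹ →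
        (α : ↥E ⧸ N → ↥E ⧸ N)^[n] (x : ↥E ⧸ N) = (y' : ↥E ⧸ N) := by
      intro n
      induction n with
      | zero =>
        intro x y' hy'
        rw [Function.iterate_zero, id, show y' = x from Subtype.ext (by simpa using hy')]
      | succ n ih =>
        intro x y' hy'
        rw [Function.iterate_succ', Function.comp_apply, ih x ⟨d ^ n * x * (d ^ n)⁻¹,
          S.hnorm _ (pow_mem hdH n) x x.2⟩ rfl]
        refine (QuotientGroup.map_mk N N αE hαN _).trans (congrArg _ (Subtype.ext ?_))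
        show d * (d ^ n * x * (d ^ n)⁻¹) * d⁻¹ = y'
        rw [hy', pow_succ']
        group
    let σ : Function.End (↥E ⧸ N) := fun v => α v
    have hσ : σ ^ 2 ^ a = 1 := funext fun v => by
      obtain ⟨x, rfl⟩ := QuotientGroup.mk_surjective v
      have e1 : ∀ (m : ℕ) (w : ↥E ⧸ N), (σ ^ m) w = (α : ↥E ⧸ N → ↥E ⧸ N)^[m] w := by
        intro m
        induction m with
        | zero => intro w; rfl
        | succ m ih =>
          intro w
          rw [pow_succ', Function.iterate_succ', Function.comp_apply, ← ih]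
          rfl
      rw [e1, hpow _ x x (by rw [hd2, one_mul, inv_one, mul_one])]
      rfl
    have h1 := Equiv.Perm.card_fixedPoints_modEq hσ
    rw [← Nat.card_eq_fintype_card] at h1
    have hone : (1 : ↥E ⧸ N) ∈ Function.fixedPoints σ := map_one α
    have hlt : 1 < Fintype.card (Function.fixedPoints σ) := by
      have hpos : 0 < Fintype.card (Function.fixedPoints σ) := Fintype.card_pos_iff.2 ⟨⟨1, hone⟩⟩
      unfold Nat.ModEq at h1
      obtain ⟨j, hj⟩ := hcardV
      omega
    obtain ⟨⟨v, hv⟩, hne⟩ := Fintype.exists_ne_of_one_lt_card hlt ⟨1, hone⟩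
    exact ⟨v, fun e => hne (Subtype.ext e), hv⟩
  have hrange : δ.range ≠ ⊤ := by
    intro h
    have hs : Function.Surjective δ := MonoidHom.range_eq_top.1 h
    exact hv0 (Finite.injective_iff_surjective.2 hs (by
      show α v0 * v0 = α 1 * 1
      rw [hv0α, hexp, _root_.map_one, one_mul]))
  obtain ⟨M, hM, hδM⟩ := (eq_top_or_exists_le_coatom δ.range).resolve_left hrange
  obtain ⟨v, hv⟩ : ∃ v, v ∉ M := by
    by_contra h
    push Not at h
    exact hM.1 (eq_top_iff.2 fun w _ => h w)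
  have htop : ∀ w, w ∈ M ∨ w * v ∈ M := by
    let M' : Subgroup (↥E ⧸ N) :=
      { carrier := {w | w ∈ M ∨ w * v ∈ M}
        one_mem' := Or.inl M.one_mem
        mul_mem' := by
          rintro w w' (h | h) (h' | h')
          · exact Or.inl (M.mul_mem h h')
          · exact Or.inr (by rw [mul_assoc]; exact M.mul_mem h h')
          · exact Or.inr (by rw [mul_assoc, hcm w' v, ← mul_assoc]; exact M.mul_mem h h')
          · refine Or.inl ?_
            have := M.mul_mem h h'
            rwa [show w * v * (w' * v) = w * (v * w') * v by group, hcm v w',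
              show w * (w' * v) * v = w * w' * (v * v) by group, hexp, mul_one] at this
        inv_mem' := fun {w} h => by simpa only [Set.mem_setOf_eq, hvinv] using h }
    have hlt : M < M' := lt_of_le_of_ne (fun w hw => Or.inl hw) fun e => hv (by
      rw [e]; exact Or.inr (by rw [hexp]; exact M.one_mem))
    intro w
    exact (hM.2 _ hlt ▸ mem_top w : w ∈ M')
  obtain ⟨e, rfl⟩ := QuotientGroup.mk_surjective v
  set E1 : Subgroup G := (M.comap (QuotientGroup.mk' N)).map E.subtype with hE1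
  have hE1E : E1 ≤ E := map_subtype_le _
  have hmem : ∀ x : ↥E, (x : G) ∈ E1 ↔ (x : ↥E ⧸ N) ∈ M := fun x => by
    rw [hE1]
    exact ⟨fun ⟨x', hx', h⟩ => (Subtype.ext h : x' = x) ▸ hx', fun h => ⟨x, h, rfl⟩⟩
  have hDE1 : ∀ x ∈ E, x • q = q → x ∈ E1 := fun x hx h => (hmem ⟨x, hx⟩).2 (by
    rw [(QuotientGroup.eq_one_iff _).2 (mem_subgroupOf.2 (hD.2 h))]; exact M.one_mem)
  set O1 := orb (z := z) E1 g with hO1
  have hunion : O = O1 ∪ move (e : G) O1 := by
    ext p
    rw [Finset.mem_union, mem_move, mem_orb, mem_orb, mem_orb]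
    constructor
    · rintro ⟨x, hx, rfl⟩
      rcases htop ((⟨x, hx⟩ : ↥E) : ↥E ⧸ N) with h | h
      · exact Or.inl ⟨x, (hmem ⟨x, hx⟩).2 h, rfl⟩
      · refine Or.inr ⟨(e : G)⁻¹ * x, (hmem (e⁻¹ * ⟨x, hx⟩)).2 ?_, (mul_smul _ _ _).symm⟩
        rwa [QuotientGroup.mk_mul, QuotientGroup.mk_inv, hvinv, hcm]
    · rintro (⟨x, hx, rfl⟩ | ⟨x, hx, h⟩)
      · exact ⟨x, hE1E hx, rfl⟩
      · exact ⟨e * x, mul_mem e.2 (hE1E hx), by rw [mul_smul, ← h, smul_inv_smul]⟩
  have hdisj : Disjoint O1 (move (e : G) O1) := by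
    rw [Finset.disjoint_left]
    intro p hp hp'
    obtain ⟨x, hx, rfl⟩ := mem_orb.1 hp
    obtain ⟨x', hx', h⟩ := mem_orb.1 (mem_move.1 hp')
    have h1 : (x'⁻¹ * ((e : G)⁻¹ * x)) • q = q := by rw [mul_smul, mul_smul, h, inv_smul_smul]
    have h2 := hDE1 _ (mul_mem (inv_mem (hE1E hx')) (mul_mem (inv_mem e.2) (hE1E hx))) h1
    have h3 : (e : G) ∈ E1 := by
      have := mul_mem (mul_mem hx (inv_mem h2)) (inv_mem hx')
      simpa [mul_assoc] using this
    exact hv ((hmem e).1 h3)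
  obtain ⟨c, hc⟩ : ∃ c, c = (e : G)⁻¹ * (d * e * d⁻¹) := ⟨_, rfl⟩
  have hcE1 : c ∈ E1 := by
    have : (e⁻¹ * αE e : ↥E) = ⟨c, hc ▸ mul_mem (inv_mem e.2) (S.hnorm d hdH e e.2)⟩ :=
      Subtype.ext hc.symm
    have h := (hmem _).2 (show ((e⁻¹ * αE e : ↥E) : ↥E ⧸ N) ∈ M by
      rw [QuotientGroup.mk_mul, QuotientGroup.mk_inv, hvinv, hcm]
      exact hδM ⟨_, rfl⟩)
    rwa [this] at h
  have hdO1 : move d O1 = O1 := by
    refine Finset.eq_of_subset_of_card_le (fun p hp => ?_) (by rw [move, Finset.card_map])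
    obtain ⟨x, hx, h⟩ := mem_orb.1 (mem_move.1 hp)
    refine mem_orb.2 ⟨d * x * d⁻¹, ?_, ?_⟩
    · have h1 : ((αE ⟨x, hE1E hx⟩ : ↥E) : ↥E ⧸ N) ∈ M := by
        have h2 := M.mul_mem (hδM ⟨((⟨x, hE1E hx⟩ : ↥E) : ↥E ⧸ N), rfl⟩) ((hmem ⟨x, hE1E hx⟩).1 hx)
        have e2 : δ ((⟨x, hE1E hx⟩ : ↥E) : ↥E ⧸ N) * ((⟨x, hE1E hx⟩ : ↥E) : ↥E ⧸ N) =
            ((αE ⟨x, hE1E hx⟩ : ↥E) : ↥E ⧸ N) := by
          show α _ * _ * _ = _
          rw [mul_assoc, hexp, mul_one]
          exact QuotientGroup.map_mk N N αE hαN _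
        rwa [e2] at h2
      exact (hmem _).2 h1
    · rw [mul_smul, mul_smul, show d⁻¹ • q = q by rw [inv_smul_eq_iff, hdq], ← h, smul_inv_smul]
  have hde : d * (e : G) = e * (c * d) := by rw [hc]; group
  have hdO1' : move d (move (e : G) O1) = move (e : G) O1 := by
    rw [← move_mul, hde, move_mul, move_mul, hdO1, move_orb hcE1]
  have hsplit : tval φ d O = tval φ c O1 := by
    rw [hunion, tval, Finset.sum_union hdisj]
    show tval φ d O1 + tval φ d (move (e : G) O1) = _
    rw [← tval_conj hφ hdO1', show (e : G)⁻¹ * d * e = c * d by rw [mul_assoc, hde, inv_mul_cancel_left],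
      tval_mul_stable hφ hdO1, add_comm (tval φ c O1), ← add_assoc, CharTwo.add_self_eq_zero, zero_add]
  rw [hsplit]
  have hcardO : O.card = O1.card + O1.card := by
    rw [hunion, Finset.card_union_of_disjoint hdisj, move, Finset.card_map]
  rcases hcond with h | ⟨h, hψ⟩ | ⟨h2, hψ, hψc⟩
  · exact tval_E S φ hφ hE1E hcE1 hzf hDE1 (show 2 ∣ O1.card by omega)
      (Or.inl (show 4 ∣ O1.card by omega))
  · exact tval_E S φ hφ hE1E hcE1 hzf hDE1 (show 2 ∣ O1.card by omega) (Or.inr hψ)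
  · have hO1q : O1 = {q} := by
      have hq1 : q ∈ O1 := mem_orb.2 ⟨1, one_mem _, (one_smul _ _).symm⟩
      refine Finset.eq_singleton_iff_unique_mem.2 ⟨hq1, fun p hp => ?_⟩
      exact Finset.card_le_one.1 (show O1.card ≤ 1 by omega) p hp q hq1
    have hcq : c • q = q := by
      have : c • q ∈ O1 := mem_orb.2 ⟨c, hcE1, rfl⟩
      rwa [hO1q, Finset.mem_singleton] at this
    rw [hO1q, hq, tval_singleton hφ (Setup.mem_of_fix hcq)]
    exact hψc c (hE1E hcE1) (Setup.fix_iff.1 hcq)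

/-- If all orbits satisfy the condition then `φ` vanishes on the two-elements of `H`. -/
theorem phi_eq_zero (hres : Cfsg.pResidual 2 G = ⊤)
    (hall : ∀ g : G, g ∉ centralizer ({z} : Set G) → g * z * g⁻¹ ∈ centralizer ({z} : Set G) →
      8 ∣ (orb (z := z) E g).card ∨
      (4 ∣ (orb (z := z) E g).card ∧ φ (g⁻¹ * z * g) = 0) ∨
      ((orb (z := z) E g).card = 2 ∧ φ (g⁻¹ * z * g) = 0 ∧
        ∀ c ∈ E, c * (g * z * g⁻¹) = g * z * g⁻¹ * c → φ (g⁻¹ * c * g) = 0))
    {x : G} (hx : x ∈ centralizer ({z} : Set G)) : φ x = 0 := by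
  classical
  haveI : Fintype (G ⧸ centralizer ({z} : Set G)) := Fintype.ofFinite _
  set H := centralizer ({z} : Set G) with hH
  have hxz : x * z = z * x := mem_centralizer_singleton_iff.1 hx
  have hxk : ∀ k : ℕ, x ^ k ∈ H := fun k => pow_mem hx k
  have h := tval_univ hφ hres x
  rw [tval, ← Finset.sum_filter_add_sum_filter_not Finset.univ (fun q : G ⧸ H => z • q ≠ q)] at h
  change tval φ x (Finset.univ.filter fun q : G ⧸ H => z • q ≠ q) +
    tval φ x (Finset.univ.filter fun q : G ⧸ H => ¬ z • q ≠ q) = 0 at h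
  rw [tval_moved_eq_zero hφ S.hzz hxz, zero_add] at h
  set q0 : G ⧸ H := ((1 : G) : G ⧸ H) with hq0
  have hq0f : ∀ e ∈ H, e • q0 = q0 := fun e he => by
    rw [hq0, MulAction.Quotient.smul_coe, smul_eq_mul, mul_one, QuotientGroup.eq, mul_one]
    exact inv_mem he
  have hzH : z ∈ H := mem_centralizer_singleton_iff.2 rfl
  set F := Finset.univ.filter fun q : G ⧸ H => ¬ z • q ≠ q with hF
  have hq0F : q0 ∈ F := Finset.mem_filter.2 ⟨Finset.mem_univ _, not_not.2 (hq0f z hzH)⟩
  have hsplit : tval φ x F = tval φ x ({q0} : Finset (G ⧸ H)) + tval φ x (F.erase q0) := by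
    rw [tval, tval, tval, ← Finset.add_sum_erase F _ hq0F, Finset.sum_singleton]
  have hone : tval φ x ({q0} : Finset (G ⧸ H)) = φ x := by
    rw [hq0, tval_singleton hφ (by simpa using hx), inv_one, one_mul, mul_one]
  rw [hsplit, hone] at h
  suffices hrest : tval φ x (F.erase q0) = 0 by rwa [hrest, add_zero] at h
  -- orbits of `⟨x⟩ E`
  let R : G ⧸ H → G ⧸ H → Prop := fun q p => ∃ k : ℕ, ∃ e ∈ E, p = e • x ^ k • q
  have hnat : ∀ (k : ℕ) (e : G), e ∈ E → x ^ k * e = x ^ k * e * (x ^ k)⁻¹ * x ^ k := fun k e _ => by group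
  have hconjE : ∀ (k : ℕ) (e : G), e ∈ E → x ^ k * e * (x ^ k)⁻¹ ∈ E := fun k e he =>
    S.hnorm _ (hxk k) e he
  have hRtrans : ∀ q p w, R q p → R p w → R q w := by
    rintro q p w ⟨k, e, he, rfl⟩ ⟨k', e', he', rfl⟩
    refine ⟨k' + k, e' * (x ^ k' * e * (x ^ k')⁻¹), mul_mem he' (hconjE k' e he), ?_⟩
    rw [← mul_smul, ← mul_smul, ← mul_smul, ← mul_smul, pow_add]
    congr 1
    group
  have hRsymm : ∀ q p, R q p → R p q := by
    rintro q p ⟨k, e, he, rfl⟩
    obtain ⟨o, ho⟩ : ∃ o, orderOf x = o + 1 := ⟨orderOf x - 1, by have := orderOf_pos x; omega⟩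
    refine ⟨k * o, x ^ (k * o) * e⁻¹ * (x ^ (k * o))⁻¹, hconjE _ _ (inv_mem he), ?_⟩
    rw [← mul_smul, ← mul_smul, ← mul_smul]
    symm
    rw [show x ^ (k * o) * e⁻¹ * (x ^ (k * o))⁻¹ * x ^ (k * o) * e * x ^ k = x ^ (k * o) * x ^ k by group,
      ← pow_add, show k * o + k = orderOf x * k by rw [ho]; ring, pow_mul, pow_orderOf_eq_one, one_pow, one_smul]
  let U : G ⧸ H → Finset (G ⧸ H) := fun q => Finset.univ.filter fun p => R q p
  have hUmem : ∀ q p, p ∈ U q ↔ R q p := fun q p => by simp [U]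
  refine tval_eq_zero_of_blocks hφ U (fun q hq p hp => ?_) (fun q _ => (hUmem q q).2 ⟨0, 1, one_mem _,
    by rw [pow_zero, one_smul, one_smul]⟩) (fun q _ p hp => ?_) (fun q hq => ?_)
  · obtain ⟨hqne, hqF⟩ := Finset.mem_erase.1 hq
    have hzq : z • q = q := not_not.1 (Finset.mem_filter.1 hqF).2
    have hR := (hUmem q p).1 hp
    obtain ⟨k, e, he, rfl⟩ := hR
    refine Finset.mem_erase.2 ⟨fun e0 => hqne ?_, Finset.mem_filter.2 ⟨Finset.mem_univ _, not_not.2 ?_⟩⟩
    · rw [← mul_smul, ← eq_inv_smul_iff] at e0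
      rw [e0, hq0f _ (inv_mem (mul_mem (S.hEH he) (hxk k)))]
    · rw [← mul_smul, ← S.zc he, mul_smul, ← mul_smul z, ← ((show Commute x z from hxz).pow_left k).eq,
        mul_smul, hzq]
  · ext w
    rw [hUmem, hUmem]
    exact ⟨hRtrans q p w ((hUmem q p).1 hp), hRtrans p q w (hRsymm q p ((hUmem q p).1 hp))⟩
  · obtain ⟨hqne, hqF⟩ := Finset.mem_erase.1 hq
    have hzq : z • q = q := not_not.1 (Finset.mem_filter.1 hqF).2
    obtain ⟨g, rfl⟩ := QuotientGroup.mk_surjective q
    have hg : g ∉ H := fun hg => hqne (by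
      rw [hq0, QuotientGroup.eq]; simpa using inv_mem hg)
    have hu : g * z * g⁻¹ ∈ H := mem_centralizer_singleton_iff.2 (Setup.fix_iff.1 hzq).symm
    set q : G ⧸ H := (g : G ⧸ H) with hqdef
    set O := orb (z := z) E g with hO
    have hex : ∃ n, 0 < n ∧ x ^ n • q ∈ O := ⟨orderOf x, orderOf_pos x, mem_orb.2 ⟨1, one_mem _, by
      rw [pow_orderOf_eq_one]⟩⟩
    set l := Nat.find hex
    obtain ⟨hl0, hl⟩ : 0 < l ∧ x ^ l • q ∈ O := Nat.find_spec hex
    have hmoveO : ∀ (k : ℕ) (p : G ⧸ H), p ∈ move (x ^ k) O ↔ ∃ e ∈ E, p = e • x ^ k • q := by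
      intro k p
      rw [mem_move, mem_orb]
      constructor
      · rintro ⟨e, he, h⟩
        refine ⟨x ^ k * e * (x ^ k)⁻¹, hconjE k e he, ?_⟩
        rw [← mul_smul, inv_mul_cancel_right, mul_smul, ← h, smul_inv_smul]
      · rintro ⟨e, he, rfl⟩
        refine ⟨(x ^ k)⁻¹ * e * x ^ k, ?_, ?_⟩
        · have := S.hnorm _ (inv_mem (hxk k)) e he
          rwa [inv_inv] at this
        · rw [← mul_smul, ← mul_smul]
    have hstab : move (x ^ l) O = O := by
      refine Finset.eq_of_subset_of_card_le (fun p hp => ?_) (by rw [move, Finset.card_map])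
      obtain ⟨e, he, rfl⟩ := (hmoveO l p).1 hp
      obtain ⟨e', he', h'⟩ := mem_orb.1 hl
      exact mem_orb.2 ⟨e * e', mul_mem he he', by rw [h', mul_smul]⟩
    have hlm : ∀ m, move (x ^ (l * m)) O = O := fun m => by
      induction m with
      | zero => rw [mul_zero, pow_zero, move_one]
      | succ m ih => rw [mul_add, mul_one, pow_add, move_mul, hstab, ih]
    have hmod : ∀ k, move (x ^ k) O = move (x ^ (k % l)) O := fun k => by
      conv_lhs => rw [← Nat.mod_add_div k l, pow_add, move_mul, hlm]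
    have hdis : ∀ i j, i < j → j < l → Disjoint (move (x ^ i) O) (move (x ^ j) O) := by
      intro i j hij hj
      rw [Finset.disjoint_left]
      intro p hp hp'
      obtain ⟨e, he, rfl⟩ := (hmoveO i p).1 hp
      obtain ⟨e', he', h⟩ := (hmoveO j _).1 hp'
      have hn := Nat.find_min hex (show j - i < l by omega)
      refine hn ⟨by omega, mem_orb.2 ⟨(x ^ i)⁻¹ * (e'⁻¹ * e) * x ^ i, ?_, ?_⟩⟩
      · have := S.hnorm _ (inv_mem (hxk i)) _ (mul_mem (inv_mem he') he)
        rwa [inv_inv] at this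
      · have h2 : x ^ j • q = (e'⁻¹ * e) • x ^ i • q := by rw [mul_smul, h, inv_smul_smul]
        rw [show x ^ (j - i) = (x ^ i)⁻¹ * x ^ j by
          rw [eq_inv_mul_iff_mul_eq, ← pow_add, Nat.add_sub_cancel' (le_of_lt hij)],
          mul_smul, h2, ← mul_smul, ← mul_smul]
    have hU : U q = (Finset.range l).biUnion fun k => move (x ^ k) O := by
      ext p
      rw [hUmem, Finset.mem_biUnion]
      constructor
      · rintro ⟨k, e, he, rfl⟩
        refine ⟨k % l, Finset.mem_range.2 (Nat.mod_lt _ hl0), ?_⟩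
        rw [← hmod]
        exact (hmoveO k _).2 ⟨e, he, rfl⟩
      · rintro ⟨k, -, hk⟩
        obtain ⟨e, he, hp⟩ := (hmoveO k p).1 hk
        exact ⟨k, e, he, hp⟩
    have hpd : Set.PairwiseDisjoint (↑(Finset.range l) : Set ℕ) fun k => move (x ^ k) O := by
      intro i hi j hj hne
      rw [Finset.mem_coe, Finset.mem_range] at hi hj
      rcases lt_or_gt_of_ne hne with h | h
      · exact hdis i j h hj
      · exact (hdis j i h hi).symm
    rw [hU, tval, Finset.sum_biUnion hpd]
    show ∑ k ∈ Finset.range l, tval φ x (move (x ^ k) O) = 0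
    rw [← tval_pow hφ]
    exact tval_block S φ hφ (hxk l) hzq hl hstab (hall g hg hu)

end Blocks

/-- The size of the orbit. -/
theorem card_orb_cases [Finite G] (S : Setup z E) {g : G} (hg : g ∉ centralizer ({z} : Set G))
    (hu : g * z * g⁻¹ ∈ centralizer ({z} : Set G)) :
    (g * z * g⁻¹ ∈ E ∧ (orb (z := z) E g).card = 2) ∨
      (g * z * g⁻¹ ∉ E ∧ 4 ∣ (orb (z := z) E g).card) := by
  classical
  haveI : Fact (Nat.Prime 2) := ⟨Nat.prime_two⟩
  obtain ⟨u, hudef⟩ : ∃ u, u = g * z * g⁻¹ := ⟨_, rfl⟩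
  rw [← hudef] at hu ⊢
  have huu : u * u = 1 := by
    rw [hudef, show g * z * g⁻¹ * (g * z * g⁻¹) = g * (z * z) * g⁻¹ by group, S.hzz]; group
  set K : Subgroup G := E ⊓ centralizer ({u} : Set G) with hK
  have hc := card_orb (z := z) E g
  rw [← hudef, ← hK] at hc
  set m := (orb (z := z) E g).card with hm
  obtain ⟨n, hn⟩ := S.htwo.exists_card_eq
  obtain ⟨i, -, hi⟩ := (Nat.dvd_prime_pow Nat.prime_two).1 (hn ▸ ⟨_, hc.symm⟩ : m ∣ 2 ^ n)
  have hpos : 0 < Nat.card ↥K := Nat.card_pos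
  have hne1 : m ≠ 1 := by
    intro h1
    rw [h1, one_mul] at hc
    have hKE := eq_of_le_of_card_ge (inf_le_left : K ≤ E) hc.ge
    have hcom : ∀ e ∈ E, e * u = u * e := fun e he =>
      mem_centralizer_singleton_iff.1 (mem_inf.1 (hKE.symm ▸ he)).2
    have huE : u ∈ E := S.hcent (mem_centralizer_iff.2 fun e he => hcom e he)
    rcases S.hcenter u huE (fun e he => (hcom e he).symm) with h | h
    · rw [hudef, conj_eq_one_iff] at h; exact S.hz h
    · exact hg (mem_centralizer_singleton_iff.2 (mul_inv_eq_iff_eq_mul.1 (hudef.symm.trans h)))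
  by_cases huE : u ∈ E
  · left
    refine ⟨huE, ?_⟩
    let f : ↥E → Bool := fun e => decide ((e : G) * u = u * e)
    obtain ⟨e1, he1, hne⟩ : ∃ e ∈ E, e * u ≠ u * e := by
      by_contra h
      push Not at h
      apply hne1
      have : K = E := le_antisymm inf_le_left fun e he => mem_inf.2 ⟨he, mem_centralizer_singleton_iff.2 (h e he)⟩
      rw [this] at hc
      exact Nat.eq_of_mul_eq_mul_right Nat.card_pos (hc.trans (one_mul _).symm)
    have hle : Nat.card ↥E ≤ Nat.card (↥K × Bool) := by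
      refine Nat.card_le_card_of_injective (fun e : ↥E =>
        if h : (e : G) * u = u * e then (⟨(e : G), mem_inf.2 ⟨e.2, mem_centralizer_singleton_iff.2 h⟩⟩, true)
        else (⟨e1 * (e : G), mem_inf.2 ⟨mul_mem he1 e.2, mem_centralizer_singleton_iff.2 (by
          rcases S.hcomm e1 he1 u huE with a | a
          · exact absurd a hne
          rcases S.hcomm e e.2 u huE with b | b
          · exact absurd b h
          calc e1 * (e : G) * u = e1 * ((e : G) * u) := by group
            _ = (e1 * u) * e * z := by rw [b]; group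
            _ = u * e1 * (z * e) * z := by rw [a]; group
            _ = u * (e1 * e) * (z * z) := by rw [← S.zc e.2]; group
            _ = u * (e1 * e) := by rw [S.hzz, mul_one])⟩⟩, false)) ?_
      intro a b hab
      dsimp only at hab
      split_ifs at hab with ha hb hb <;> simp at hab
      · exact hab
      · exact hab
    rw [Nat.card_prod, Nat.card_eq_fintype_card (α := Bool), Fintype.card_bool, ← hc, mul_comm m] at hle
    have := Nat.le_of_mul_le_mul_left hle hpos
    rcases i with _ | _ | i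
    · exact absurd hi hne1
    · exact hi
    · have h4 : 4 ≤ 2 ^ (i + 2) := le_of_eq_of_le (by norm_num) (Nat.pow_le_pow_right (by norm_num) (by omega : 2 ≤ i + 2))
      have h5 : 2 ^ (i + 2) ≤ 2 := hi.symm.trans_le this
      omega
  · right
    refine ⟨huE, ?_⟩
    rcases i with _ | _ | i
    · exact absurd hi hne1
    · exfalso
      have hm2 : m = 2 := hi
      have hidx : (K.subgroupOf E).index = 2 := by
        have := (K.subgroupOf E).card_mul_index
        rw [Nat.card_congr (subgroupOfEquivOfLe (inf_le_left : K ≤ E)).toEquiv, ← hc, hm2, mul_comm 2] at this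
        exact Nat.eq_of_mul_eq_mul_left hpos this
      have hKmem : ∀ x, x ∈ E → (x ∈ K ↔ u * x = x * u) := fun x hx => by
        rw [mem_inf, mem_centralizer_singleton_iff]
        exact ⟨fun h => h.2.symm, fun h => ⟨hx, h.symm⟩⟩
      obtain ⟨e, he, heK⟩ : ∃ e ∈ E, e ∉ K := by
        by_contra h
        push Not at h
        have : Nat.card ↥E ∣ Nat.card ↥K := card_dvd_of_le h
        have := Nat.le_of_dvd hpos this
        rw [← hc, hm2] at this
        omega
      have hue : u * e * u⁻¹ ∈ E := S.hnorm u hu e he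
      have huinv : u⁻¹ = u := inv_eq_of_mul_eq_one_right huu
      have hueK : u * e * u⁻¹ ∉ K := by
        intro h
        apply heK
        rw [hKmem e he]
        have := (hKmem _ hue).1 h
        calc u * e = u⁻¹ * (u * (u * e * u⁻¹)) * u := by group
          _ = u⁻¹ * (u * e * u⁻¹ * u) * u := by rw [this]
          _ = e * u := by group
      obtain ⟨c, hcdef⟩ : ∃ c, c = e⁻¹ * (u * e * u⁻¹) := ⟨_, rfl⟩
      have hcE : c ∈ E := hcdef ▸ mul_mem (inv_mem he) hue
      have hcK : c ∈ K := by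
        have h := (Subgroup.mul_mem_iff_of_index_two hidx (a := (⟨e, he⟩ : ↥E)⁻¹) (b := ⟨_, hue⟩))
        simp only [mem_subgroupOf, Subgroup.coe_mul, Subgroup.coe_inv, inv_mem_iff] at h
        rw [hcdef]
        exact h.2 ⟨fun h' => absurd h' heK, fun h' => absurd h' hueK⟩
      have huec : u * e * u⁻¹ = e * c := by rw [hcdef, mul_inv_cancel_left]
      have hcu : u * c * u⁻¹ = c := by rw [(hKmem c hcE).1 hcK, mul_inv_cancel_right]
      have hcc : c * c = 1 := by
        have h1 : e = u * e * u⁻¹ * c := by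
          calc e = u * (u * e * u⁻¹) * u⁻¹ := by
                rw [show u * (u * e * u⁻¹) * u⁻¹ = (u * u) * e * (u * u)⁻¹ by group, huu]; group
            _ = u * e * u⁻¹ * (u * c * u⁻¹) := by
                conv_lhs => rw [huec]
                group
            _ = u * e * u⁻¹ * c := by rw [hcu]
        rw [huec, mul_assoc, eq_comm, mul_eq_left] at h1
        exact h1
      have hec : e * c = c * e := by
        have h2 : (e * c) * (e * c) = e * e := by
          rw [← huec, show u * e * u⁻¹ * (u * e * u⁻¹) = u * (e * e) * u⁻¹ by group]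
          rcases S.hsq e he with h | h <;> rw [h]
          · group
          · rw [mem_centralizer_singleton_iff.1 hu, mul_inv_cancel_right]
        have h3 : c * e * c = e := mul_left_cancel (show e * (c * e * c) = e * e by rw [← h2]; group)
        calc e * c = c * e * (c * c) := by rw [← mul_assoc (c * e), h3]
          _ = c * e := by rw [hcc, mul_one]
      have hcen : ∀ y ∈ E, c * y = y * c := by
        have hy : ∀ y ∈ K, c * y = y * c := by
          intro y hy
          have hyE : y ∈ E := (mem_inf.1 hy).1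
          have hyu : u * y * u⁻¹ = y := by rw [(hKmem y hyE).1 hy, mul_inv_cancel_right]
          have hzu : u * z * u⁻¹ = z := by rw [mem_centralizer_singleton_iff.1 hu, mul_inv_cancel_right]
          have key : ∀ t, y * e = e * y * t → u * t * u⁻¹ = t → t * c = c * t → c * y = y * c := by
            intro t h ht htc
            have h2 : y * (e * c) = e * c * y * t := by
              calc y * (e * c) = (u * y * u⁻¹) * (u * e * u⁻¹) := by rw [hyu, huec]
                _ = u * (e * y * t) * u⁻¹ := by rw [← h]; group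
                _ = (u * e * u⁻¹) * (u * y * u⁻¹) * (u * t * u⁻¹) := by group
                _ = e * c * y * t := by rw [huec, hyu, ht]
            rw [← mul_assoc, h, show e * y * t * c = e * y * (t * c) by group, htc,
              show e * y * (c * t) = e * (y * c) * t by group] at h2
            have h4 := mul_right_cancel h2
            rw [show e * c * y = e * (c * y) by group] at h4
            exact (mul_left_cancel h4).symm
          rcases S.hcomm y hyE e he with h | h
          · exact key 1 (by rw [mul_one]; exact h) (by group) (by group)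
          · exact key z h hzu (S.zc hcE).symm
        intro y hyE
        by_cases hyK : y ∈ K
        · exact hy y hyK
        · have h := (Subgroup.mul_mem_iff_of_index_two hidx (a := (⟨e, he⟩ : ↥E)⁻¹) (b := ⟨y, hyE⟩))
          simp only [mem_subgroupOf, Subgroup.coe_mul, Subgroup.coe_inv, inv_mem_iff] at h
          have h1 := hy _ (h.2 ⟨fun h' => absurd h' heK, fun h' => absurd h' hyK⟩)
          have h2 : Commute c (e * (e⁻¹ * y)) := (show Commute c e from hec.symm).mul_right h1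
          rwa [mul_inv_cancel_left] at h2
      rcases S.hcenter c hcE hcen with h | h
      · apply heK
        rw [hKmem e he]
        rw [h, mul_one] at huec
        exact mul_inv_eq_iff_eq_mul.1 huec
      · apply huE
        refine S.hinner u (fun x hx => S.hnorm u hu x hx) fun x hx => ?_
        by_cases hxK : x ∈ K
        · left; rw [(hKmem x hx).1 hxK, mul_inv_cancel_right]
        · right
          have h' := (Subgroup.mul_mem_iff_of_index_two hidx (a := (⟨e, he⟩ : ↥E)⁻¹) (b := ⟨x, hx⟩))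
          simp only [mem_subgroupOf, Subgroup.coe_mul, Subgroup.coe_inv, inv_mem_iff] at h'
          have h1 := (hKmem _ (mul_mem (inv_mem he) hx)).1 (h'.2 ⟨fun a => absurd a heK, fun a => absurd a hxK⟩)
          have hxe : e⁻¹ * x ∈ E := mul_mem (inv_mem he) hx
          calc u * x * u⁻¹ = u * e * u⁻¹ * (u * (e⁻¹ * x) * u⁻¹) := by group
            _ = e * z * (e⁻¹ * x) := by rw [huec, h, h1, mul_inv_cancel_right]
            _ = e * (z * (e⁻¹ * x)) := by group
            _ = x * z := by rw [← S.zc hxe]; group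
    · rw [hi]; exact ⟨2 ^ i, by rw [pow_succ, pow_succ]; ring⟩

/-- Orbits of size four have non-abelian stabiliser in width at least three. -/
theorem stab_not_comm [Finite G] (S : Setup z E) {g : G} (hbig : 128 ≤ Nat.card ↥E)
    (h4 : (orb (z := z) E g).card = 4) :
    ∃ a ∈ E ⊓ centralizer ({g * z * g⁻¹} : Set G), ∃ b ∈ E ⊓ centralizer ({g * z * g⁻¹} : Set G),
      a * b = b * a * z := by
  classical
  set K : Subgroup G := E ⊓ centralizer ({g * z * g⁻¹} : Set G) with hK
  have hc := card_orb (z := z) E g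
  rw [h4, ← hK] at hc
  by_contra hno
  push Not at hno
  have hKc : ∀ a ∈ K, ∀ b ∈ K, a * b = b * a := fun a ha b hb =>
    (S.hcomm a (mem_inf.1 ha).1 b (mem_inf.1 hb).1).resolve_right (hno a ha b hb)
  obtain ⟨f1, hf1, hf1K⟩ : ∃ f ∈ E, f ∉ K := by
    by_contra h
    push Not at h
    have : Nat.card ↥E ∣ Nat.card ↥K := card_dvd_of_le h
    have := Nat.le_of_dvd Nat.card_pos this
    omega
  set K1 : Subgroup G := K ⊔ zpowers f1 with hK1
  have hK1E : K1 ≤ E := sup_le inf_le_left (zpowers_le.2 hf1)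
  obtain ⟨n, hn⟩ := S.htwo.exists_card_eq
  have hK1lt : Nat.card ↥K < Nat.card ↥K1 := lt_of_not_ge fun hge => hf1K (by
    rw [eq_of_le_of_card_ge (le_sup_left : K ≤ K1) hge]; exact mem_sup_right (mem_zpowers f1))
  have hK1d : Nat.card ↥K ∣ Nat.card ↥K1 := card_dvd_of_le le_sup_left
  obtain ⟨f2, hf2, hcov⟩ : ∃ f2 ∈ E, ∀ A : Subgroup G, K ≤ A → f1 ∈ A → f2 ∈ A → E ≤ A := by
    by_cases htop : K1 = E
    · exact ⟨f1, hf1, fun A h1 h2 _ => htop ▸ sup_le h1 (zpowers_le.2 h2)⟩
    obtain ⟨f2, hf2, hf2K⟩ : ∃ f ∈ E, f ∉ K1 := by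
      by_contra h
      push Not at h
      exact htop (le_antisymm hK1E h)
    refine ⟨f2, hf2, fun A h1 h2 h3 => ?_⟩
    set K2 : Subgroup G := K1 ⊔ zpowers f2 with hK2
    have hK2E : K2 ≤ E := sup_le hK1E (zpowers_le.2 hf2)
    have hK2lt : Nat.card ↥K1 < Nat.card ↥K2 := lt_of_not_ge fun hge => hf2K (by
      rw [eq_of_le_of_card_ge (le_sup_left : K1 ≤ K2) hge]; exact mem_sup_right (mem_zpowers f2))
    have hK2d : Nat.card ↥K1 ∣ Nat.card ↥K2 := card_dvd_of_le le_sup_left
    have hle : Nat.card ↥E ≤ Nat.card ↥K2 := by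
      obtain ⟨a, ha⟩ := hK1d
      obtain ⟨b, hb⟩ := hK2d
      rw [ha] at hK1lt hb hK2lt
      rw [hb] at hK2lt ⊢
      have ha2 : 2 ≤ a := by
        by_contra h'
        interval_cases a <;> simp at hK1lt
      have hb2 : 2 ≤ b := by
        by_contra h'
        interval_cases b <;> simp at hK2lt
      calc Nat.card ↥E = 4 * Nat.card ↥K := hc.symm
        _ = Nat.card ↥K * (2 * 2) := by ring
        _ ≤ Nat.card ↥K * (a * b) := Nat.mul_le_mul_left _ (Nat.mul_le_mul ha2 hb2)
        _ = Nat.card ↥K * a * b := by ring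
    rw [← eq_of_le_of_card_ge hK2E hle]
    exact sup_le (sup_le h1 (zpowers_le.2 h2)) (zpowers_le.2 h3)
  have hkey : ∀ (a : G), a ∈ K → ∀ b ∈ K, (a * f1 = f1 * a ↔ b * f1 = f1 * b) →
      (a * f2 = f2 * a ↔ b * f2 = f2 * b) → b = a ∨ b = a * z := by
    intro a ha b hb h1 h2
    have haE : a ∈ E := (mem_inf.1 ha).1
    have hbE : b ∈ E := (mem_inf.1 hb).1
    have hcf : ∀ f ∈ E, (a * f = f * a ↔ b * f = f * b) → f * (a⁻¹ * b) = a⁻¹ * b * f := by
      intro f hf h
      by_cases hf' : a * f = f * a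
      · exact (((show Commute a f from hf').inv_left).mul_left (h.1 hf')).eq.symm
      · have e1 := (S.hcomm a haE f hf).resolve_left hf'
        have e2 := (S.hcomm b hbE f hf).resolve_left (fun e => hf' (h.2 e))
        calc f * (a⁻¹ * b) = a⁻¹ * (a * f) * (a⁻¹ * b) := by group
          _ = a⁻¹ * (f * a * z) * (a⁻¹ * b) := by rw [e1]
          _ = a⁻¹ * f * (a * z) * a⁻¹ * b := by group
          _ = a⁻¹ * f * (z * b) := by rw [S.zc haE]; group
          _ = a⁻¹ * (f * b * z) := by rw [← S.zc hbE]; group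
          _ = a⁻¹ * b * f := by rw [← e2]; group
    have hcK : a⁻¹ * b ∈ K := mul_mem (inv_mem ha) hb
    have hall : E ≤ centralizer ({a⁻¹ * b} : Set G) :=
      hcov _ (fun x hx => mem_centralizer_singleton_iff.2 (hKc x hx _ hcK))
        (mem_centralizer_singleton_iff.2 (hcf f1 hf1 h1)) (mem_centralizer_singleton_iff.2 (hcf f2 hf2 h2))
    rcases S.hcenter _ (mem_inf.1 hcK).1 (fun x hx => (mem_centralizer_singleton_iff.1 (hall hx)).symm) with h | h
    · exact Or.inl (inv_mul_eq_one.1 h).symm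
    · exact Or.inr (inv_mul_eq_iff_eq_mul.1 h)
  haveI := Fintype.ofFinite ↥K
  have hcount : Nat.card ↥K ≤ 8 := by
    let F : ↥K → Bool × Bool := fun a =>
      (decide ((a : G) * f1 = f1 * a), decide ((a : G) * f2 = f2 * a))
    rw [Nat.card_eq_fintype_card, ← Finset.card_univ]
    refine le_trans (Finset.card_le_mul_card_image_of_maps_to (f := F) (t := Finset.univ)
      (fun a _ => Finset.mem_univ _) 2 fun v _ => ?_) (by simp)
    by_cases hv : (Finset.univ.filter fun a => F a = v).Nonempty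
    · obtain ⟨a0, ha0⟩ := hv
      rw [← Finset.card_image_of_injective _ (Subtype.val_injective (p := fun x => x ∈ K))]
      refine le_trans (Finset.card_le_card (t := ({(a0 : G), (a0 : G) * z} : Finset G)) ?_) Finset.card_le_two
      intro x hx
      obtain ⟨b, hb, rfl⟩ := Finset.mem_image.1 hx
      have h := ((Finset.mem_filter.1 hb).2.trans (Finset.mem_filter.1 ha0).2.symm)
      simp only [F, Prod.mk.injEq, decide_eq_decide] at h
      rcases hkey a0 a0.2 b b.2 h.1.symm h.2.symm with e | e <;> simp [e]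
    · rw [Finset.not_nonempty_iff_eq_empty.1 hv]; simp
  omega

end CfsgLib.InvChar.ExtraspecialTransfer
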