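import Mathlib
import Cfsg.Agent.Lib.InvChar.ExtraspecialTransfer
import Cfsg.Agent.Lib.InvChar.ExtraspecialInTwo

/-!
# Consequences of the transfer for involution centralisers with extraspecial two-core

If `O^2(G) = G` and `E = O₂(C(z))` is extraspecial and self-centralising then the two-part of the
abelianisation of `C(z)` is elementary abelian, and a subgroup of index two in `C(z)` forces fusion
of `z` into `E` when the width is at least three.
-/

set_option autoImplicit false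

namespace CfsgLib.InvChar.ExtraspecialTransfer

open Subgroup MulAction CfsgLib.InvChar.PartialTransfer

variable {G : Type*} [Group G] [Finite G] {z : G} {E : Subgroup G}

/-- The conjugate of `z` attached to a coset fixed by `z` lies in `H`. -/
theorem conj_mem {g : G} (hu : g * z * g⁻¹ ∈ centralizer ({z} : Set G)) :
    g⁻¹ * z * g ∈ centralizer ({z} : Set G) :=
  Setup.mem_of_fix (Setup.fix_iff.2 (mem_centralizer_singleton_iff.1 hu).symm)

/-- Weakly closed involutions in width at least three give no subgroup of index two. -/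
theorem exists_fused_of_relIndex_two (hres : Cfsg.pResidual 2 G = ⊤) (S : Setup z E)
    (n : ℕ) (hn : 3 ≤ n) (hcard : Nat.card ↥E = 2 ^ (2 * n + 1))
    (K : Subgroup G) (hKi : K.relIndex (centralizer ({z} : Set G)) = 2) :
    ∃ g : G, g * z * g⁻¹ ∈ E ∧ g * z * g⁻¹ ≠ z := by
  classical
  by_contra hcon
  push Not at hcon
  set H := centralizer ({z} : Set G) with hH
  let φ : G → ZMod 2 := fun x => if x ∈ K then 0 else 1
  have hφ : ∀ a ∈ H, ∀ b ∈ H, φ (a * b) = φ a + φ b := by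
    intro a ha b hb
    have h := Subgroup.mul_mem_iff_of_index_two (H := K.subgroupOf H) hKi
      (a := (⟨a, ha⟩ : ↥H)) (b := ⟨b, hb⟩)
    simp only [mem_subgroupOf, Subgroup.coe_mul] at h
    simp only [φ]
    by_cases h1 : a ∈ K <;> by_cases h2 : b ∈ K <;> simp [h1, h2] at h <;> simp [h, h1, h2]
    decide
  obtain ⟨x, hxH, hxK⟩ : ∃ x ∈ H, x ∉ K := by
    by_contra h
    push Not at h
    rw [relIndex_eq_one.2 h] at hKi
    norm_num at hKi
  have h0 := phi_eq_zero S φ hφ hres (fun g hg hu => ?_) hxH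
  · simp [φ, hxK] at h0
  · rcases card_orb_cases S hg hu with ⟨huE, -⟩ | ⟨-, h4⟩
    · exact absurd (mem_centralizer_singleton_iff.2 (mul_inv_eq_iff_eq_mul.1 (hcon g huE))) hg
    by_cases h8 : 8 ∣ (orb (z := z) E g).card
    · exact Or.inl h8
    refine Or.inr (Or.inl ⟨h4, ?_⟩)
    have hm4 : (orb (z := z) E g).card = 4 := by
      obtain ⟨i, -, hi⟩ := (Nat.dvd_prime_pow Nat.prime_two).1
        (hcard ▸ ⟨_, (card_orb (z := z) E g).symm⟩ : (orb (z := z) E g).card ∣ 2 ^ (2 * n + 1))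
      rcases i with _ | _ | _ | i
      · rw [hi] at h4; norm_num at h4
      · rw [hi] at h4; norm_num at h4
      · exact hi
      · exact absurd ⟨2 ^ i, by rw [hi, pow_succ, pow_succ, pow_succ]; ring⟩ h8
    have hbig : 128 ≤ Nat.card ↥E := by
      rw [hcard]
      exact le_of_eq_of_le (by norm_num) (Nat.pow_le_pow_right (by norm_num) (by omega : 7 ≤ 2 * n + 1))
    obtain ⟨a, ha, b, hb, hab⟩ := stab_not_comm S hbig hm4
    have ha' := Setup.mem_of_fix (Setup.fix_iff.2 (mem_centralizer_singleton_iff.1 (mem_inf.1 ha).2))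
    have hb' := Setup.mem_of_fix (Setup.fix_iff.2 (mem_centralizer_singleton_iff.1 (mem_inf.1 hb).2))
    have e : g⁻¹ * a * g * (g⁻¹ * b * g) = g⁻¹ * b * g * (g⁻¹ * a * g) * (g⁻¹ * z * g) := by
      calc g⁻¹ * a * g * (g⁻¹ * b * g) = g⁻¹ * (a * b) * g := by group
        _ = g⁻¹ * (b * a * z) * g := by rw [hab]
        _ = _ := by group
    have h := congrArg φ e
    rw [hφ _ ha' _ hb', hφ _ (mul_mem hb' ha') _ (conj_mem hu), hφ _ hb' _ ha', add_comm (φ (g⁻¹ * b * g))] at h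
    exact left_eq_add.1 h

/-- The case of an extraspecial two-core of order eight. -/
theorem of_sq_eq_one_of_card_eight (S : Setup z E) (h8 : Nat.card ↥E = 8) {h : G}
    (hh : h ∈ centralizer ({z} : Set G)) {a : ℕ} (h2a : h ^ 2 ^ a = 1) :
    Abelianization.of (⟨h, hh⟩ : ↥(centralizer ({z} : Set G))) ^ 2 = 1 := by
  classical
  haveI : Fact (Nat.Prime 2) := ⟨Nat.prime_two⟩
  set H := centralizer ({z} : Set G) with hH
  let of : ↥H →* Abelianization ↥H := Abelianization.of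
  have hofc : ∀ x y : ↥H, of (x * y * x⁻¹ * y⁻¹) = 1 := fun x y => by
    simp [mul_comm (of x) (of y)]
  -- `z` is a commutator
  obtain ⟨e1, he1, e2, he2, he12⟩ : ∃ a ∈ E, ∃ b ∈ E, a * b = b * a * z := by
    by_contra hno
    push Not at hno
    have hall : ∀ a ∈ E, a = 1 ∨ a = z := fun a ha => S.hcenter a ha fun b hb =>
      (S.hcomm a ha b hb).resolve_right (hno a ha b hb)
    have hle : Nat.card ↥E ≤ Nat.card Bool := by
      refine Nat.card_le_card_of_injective (fun e : ↥E => decide ((e : G) = 1)) fun x y hxy => ?_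
      simp only [decide_eq_decide] at hxy
      apply Subtype.ext
      rcases hall x x.2 with hx | hx <;> rcases hall y y.2 with hy | hy <;>
        simp_all [S.hz]
    simp [h8] at hle
  have hzH : z ∈ H := S.hEH S.hzE
  have hofz : of ⟨z, hzH⟩ = 1 := by
    have e : (⟨e1, S.hEH he1⟩ : ↥H) * ⟨e2, S.hEH he2⟩ =
        ⟨e2, S.hEH he2⟩ * ⟨e1, S.hEH he1⟩ * ⟨z, hzH⟩ := Subtype.ext he12
    have h := congrArg of e
    rw [map_mul, map_mul, map_mul, mul_comm (of ⟨e2, _⟩)] at h
    exact left_eq_mul.1 h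
  have hofsq : ∀ (x : G) (hxE : x ∈ E) (hx : x * x ∈ H), of ⟨x * x, hx⟩ = 1 := by
    intro x hxE hx
    rcases S.hsq x hxE with e | e
    · rw [show (⟨x * x, hx⟩ : ↥H) = 1 from Subtype.ext e, _root_.map_one]
    · rw [show (⟨x * x, hx⟩ : ↥H) = ⟨z, hzH⟩ from Subtype.ext e, hofz]
  -- the quotient by the centre
  set ze : ↥E := ⟨z, S.hzE⟩ with hze
  have hzec : ze ∈ center ↥E := mem_center_iff.2 fun x => Subtype.ext (S.zc x.2)
  have hcmem : ∀ {x : ↥E}, x ∈ center ↥E ↔ (x : G) = 1 ∨ (x : G) = z := by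
    intro x
    constructor
    · intro hx
      exact S.hcenter x x.2 fun b hb =>
        (congrArg Subtype.val (mem_center_iff.1 hx ⟨b, hb⟩)).symm
    · rintro (e | e)
      · rw [show x = 1 from Subtype.ext e]; exact one_mem _
      · rw [show x = ze from Subtype.ext e]; exact hzec
  let V := ↥E ⧸ center ↥E
  have hcZ : Nat.card ↥(center ↥E) ≤ 2 := by
    rw [show 2 = Nat.card Bool by simp]
    refine Nat.card_le_card_of_injective (fun x => decide (((x : ↥E) : G) = 1)) fun x y hxy => ?_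
    simp only [decide_eq_decide] at hxy
    apply Subtype.ext; apply Subtype.ext
    rcases hcmem.1 x.2 with hx | hx <;> rcases hcmem.1 y.2 with hy | hy <;> simp_all [S.hz]
  have hcV : Nat.card V = 4 := by
    have h1 := card_eq_card_quotient_mul_card_subgroup (center ↥E)
    have h2 : 1 < Nat.card ↥(center ↥E) := by
      haveI : Nontrivial ↥(center ↥E) :=
        ⟨⟨⟨ze, hzec⟩, 1, fun e => S.hz (congrArg (fun x : ↥(center ↥E) => ((x : ↥E) : G)) e)⟩⟩
      exact Finite.one_lt_card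
    rw [h8, show Nat.card ↥(center ↥E) = 2 by omega] at h1
    show Nat.card (↥E ⧸ center ↥E) = 4
    omega
  have hvv : ∀ v : V, v * v = 1 := by
    intro v
    obtain ⟨x, rfl⟩ := QuotientGroup.mk_surjective v
    rw [← QuotientGroup.mk_mul, QuotientGroup.eq_one_iff, hcmem]
    exact S.hsq x x.2
  let α : G → ↥E → ↥E := fun t x => if ht : t ∈ H then ⟨t * x * t⁻¹, S.hnorm t ht x x.2⟩ else x
  have hα : ∀ t ∈ H, ∀ x : ↥E, ((α t x : ↥E) : G) = t * x * t⁻¹ := fun t ht x => by simp [α, ht]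
  have hαc : ∀ t ∈ H, ∀ x y : ↥E, (x : V) = (y : V) ↔ ((α t x : ↥E) : V) = (α t y : V) := by
    intro t ht x y
    rw [QuotientGroup.eq, QuotientGroup.eq, hcmem, hcmem, Subgroup.coe_mul, Subgroup.coe_inv,
      Subgroup.coe_mul, Subgroup.coe_inv, hα t ht, hα t ht]
    have htz : t * z * t⁻¹ = z := by
      rw [mem_centralizer_singleton_iff.1 ht, mul_inv_cancel_right]
    rw [show (t * (x : G) * t⁻¹)⁻¹ * (t * y * t⁻¹) = t * ((x : G)⁻¹ * y) * t⁻¹ by group]
    refine or_congr ?_ ?_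
    · exact conj_eq_one_iff.symm
    · conv_rhs => rw [← htz]
      exact ⟨fun e => by rw [e], fun e => mul_left_cancel (mul_right_cancel e)⟩
  -- a permutation of the three non-trivial classes
  let σ : Equiv.Perm V := Equiv.ofBijective (fun v => ((α h v.out : ↥E) : V)) (by
    have hi : Function.Injective fun v : V => ((α h v.out : ↥E) : V) := fun v w e => by
      have := (hαc h hh v.out w.out).2 e
      rwa [QuotientGroup.out_eq', QuotientGroup.out_eq'] at this
    exact ⟨hi, Finite.injective_iff_surjective.1 hi⟩)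
  have hσ : ∀ x : ↥E, σ (x : V) = ((α h x : ↥E) : V) := fun x =>
    (hαc h hh _ x).1 (QuotientGroup.out_eq' _)
  have hσ1 : σ 1 = 1 := by
    rw [← QuotientGroup.mk_one, hσ]
    exact congrArg _ (Subtype.ext (by rw [hα h hh]; simp))
  have hσpow : ∀ (m : ℕ) (x : ↥E), (σ ^ m) (x : V) = ((α (h ^ m) x : ↥E) : V) := by
    intro m
    induction m with
    | zero =>
      intro x
      rw [pow_zero, Equiv.Perm.one_apply]
      exact congrArg _ (Subtype.ext (by rw [hα _ (pow_mem hh 0)]; simp))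
    | succ m ih =>
      intro x
      rw [pow_succ', Equiv.Perm.mul_apply, ih, hσ]
      refine congrArg _ (Subtype.ext ?_)
      rw [hα h hh, hα _ (pow_mem hh m), hα _ (pow_mem hh (m + 1)), pow_succ']
      group
  have hσ2a : σ ^ 2 ^ a = 1 := Equiv.ext fun v => by
    obtain ⟨x, rfl⟩ := QuotientGroup.mk_surjective v
    rw [hσpow, Equiv.Perm.one_apply]
    exact congrArg _ (Subtype.ext (by rw [hα _ (pow_mem hh _), h2a]; simp))
  haveI : Fintype V := Fintype.ofFinite V
  have hσ2 : σ ^ 2 = 1 := by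
    let τ : Equiv.Perm {v : V // v ≠ 1} := σ.subtypePerm fun v => by
      constructor
      · intro hv e; exact hv (by rw [e, hσ1])
      · intro hv e; exact hv (σ.injective (e.trans hσ1.symm))
    have hτpow : ∀ (m : ℕ) (v : {v : V // v ≠ 1}), ((τ ^ m) v : V) = (σ ^ m) v := by
      intro m
      induction m with
      | zero => intro v; rfl
      | succ m ih =>
        intro v
        rw [pow_succ', pow_succ', Equiv.Perm.mul_apply, Equiv.Perm.mul_apply, ← ih]
        rfl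
    have h1 : τ ^ 2 ^ a = 1 := Equiv.ext fun v => Subtype.ext (by rw [hτpow, hσ2a]; rfl)
    have hc3 : Fintype.card {v : V // v ≠ 1} = 3 := by
      rw [Fintype.card_subtype_compl, Fintype.card_subtype_eq, ← Nat.card_eq_fintype_card, hcV]
    have h2 : τ ^ 6 = 1 := by
      have := pow_card_eq_one (x := τ)
      rwa [Fintype.card_perm, hc3, show Nat.factorial 3 = 6 by rfl] at this
    have h3 : τ ^ 2 = 1 := by
      have hd := Nat.dvd_gcd (orderOf_dvd_of_pow_eq_one h1) (orderOf_dvd_of_pow_eq_one h2)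
      have hg : Nat.gcd (2 ^ a) 6 ∣ 2 := by
        rw [show (6 : ℕ) = 3 * 2 by rfl, Nat.Coprime.gcd_mul_left_cancel_right _
          ((Nat.coprime_primes Nat.prime_three Nat.prime_two).2 (by norm_num) |>.pow_right a)]
        exact Nat.gcd_dvd_right _ _
      exact orderOf_dvd_iff_pow_eq_one.1 (hd.trans hg)
    refine Equiv.ext fun v => ?_
    by_cases hv : v = 1
    · rw [hv, pow_two, Equiv.Perm.mul_apply, hσ1, hσ1]; rfl
    · rw [← hτpow 2 ⟨v, hv⟩, h3]; rfl
  have hinnerV : ∀ t ∈ H, (∀ x : ↥E, ((α t x : ↥E) : V) = (x : V)) → t ∈ E := by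
    intro t ht hfix
    refine S.hinner t (fun e he => S.hnorm t ht e he) fun e he => ?_
    have h1 := (hfix ⟨e, he⟩).symm
    rw [QuotientGroup.eq, hcmem, Subgroup.coe_mul, Subgroup.coe_inv, hα t ht] at h1
    rcases h1 with h1 | h1
    · exact Or.inl (inv_mul_eq_one.1 h1).symm
    · exact Or.inr (inv_mul_eq_iff_eq_mul.1 h1)
  have hhH2 : h ^ 2 ∈ H := pow_mem hh 2
  have hh2E : h ^ 2 ∈ E := hinnerV _ hhH2 fun x => by rw [← hσpow, hσ2]; rfl
  have hgoal : of ⟨h ^ 2, hhH2⟩ = 1 → of ⟨h, hh⟩ ^ 2 = 1 := fun e => by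
    rw [← map_pow]; exact e
  apply hgoal
  by_cases htriv : ∀ x : ↥E, σ (x : V) = x
  · have hE' : h ∈ E := hinnerV h hh fun x => by rw [← hσ]; exact htriv x
    have h' := hofsq h hE' (by rw [← pow_two]; exact hhH2)
    convert h' using 3
    exact pow_two h
  push Not at htriv
  obtain ⟨e, he⟩ := htriv
  set c : ↥E := α h e * e⁻¹ with hc
  have hcH : (c : G) ∈ H := S.hEH c.2
  have hofc' : of ⟨c, hcH⟩ = 1 := by
    rw [show (⟨(c : G), hcH⟩ : ↥H) =
      ⟨h, hh⟩ * ⟨e, S.hEH e.2⟩ * (⟨h, hh⟩)⁻¹ * (⟨e, S.hEH e.2⟩)⁻¹ from Subtype.ext (by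
        simp only [hc, Subgroup.coe_mul, Subgroup.coe_inv, hα h hh])]
    exact hofc _ _
  have hvinv : ∀ v : V, v⁻¹ = v := fun v => inv_eq_of_mul_eq_one_right (hvv v)
  have hcmV : ∀ v w : V, v * w = w * v := fun v w => by
    rw [← hvinv (v * w), _root_.mul_inv_rev, hvinv, hvinv]
  have hσσ : ∀ v : V, σ (σ v) = v := fun v => by
    rw [← Equiv.Perm.mul_apply, ← pow_two, hσ2, Equiv.Perm.one_apply]
  set v : V := (e : V) with hv
  have hcv : (c : V) = σ v * v := by
    rw [hc, QuotientGroup.mk_mul, QuotientGroup.mk_inv, ← hσ, hvinv]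
  have hσc : σ (c : V) = (c : V) := by
    have e3 : α h c = α h (α h e) * (α h e)⁻¹ := Subtype.ext (by
      simp only [hc, Subgroup.coe_mul, Subgroup.coe_inv, hα h hh]
      group)
    rw [hσ, e3, QuotientGroup.mk_mul, QuotientGroup.mk_inv, ← hσ, ← hσ, hσσ, hvinv, hcv, hcmV]
  have hv1 : v ≠ 1 := fun e4 => he (by rw [e4, hσ1])
  have hc1 : (c : V) ≠ 1 := fun e4 => he (by
    rw [hcv, mul_eq_one_iff_eq_inv, hvinv] at e4; exact e4)
  have hsv1 : σ v ≠ 1 := fun e4 => hv1 (σ.injective (e4.trans hσ1.symm))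
  have hcne : (c : V) ≠ v := fun e4 => he (by rw [← e4]; exact hσc)
  have hcsv : (c : V) ≠ σ v := fun e4 => hv1 (by rwa [hcv, mul_eq_left] at e4)
  have huniv : ({1, (c : V), v, σ v} : Finset V) = Finset.univ := by
    apply Finset.eq_univ_of_card
    rw [← Nat.card_eq_fintype_card, hcV,
      Finset.card_insert_of_notMem (by simp [hc1.symm, hv1.symm, hsv1.symm]),
      Finset.card_insert_of_notMem (by simp [hcne, hcsv]),
      Finset.card_insert_of_notMem (by simpa using fun e4 => he e4.symm),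
      Finset.card_singleton]
  set w : ↥E := ⟨h ^ 2, hh2E⟩ with hw
  have hwfix : σ (w : V) = (w : V) := by
    rw [hσ]
    exact congrArg _ (Subtype.ext (by rw [hα h hh, hw]; show h * h ^ 2 * h⁻¹ = h ^ 2; group))
  have hwmem : (w : V) = 1 ∨ (w : V) = (c : V) := by
    have := Finset.mem_univ (w : V)
    rw [← huniv] at this
    simp only [Finset.mem_insert, Finset.mem_singleton] at this
    rcases this with h1 | h1 | h1 | h1
    · exact Or.inl h1
    · exact Or.inr h1
    · rw [h1] at hwfix; exact absurd hwfix he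
    · rw [h1, hσσ] at hwfix; exact absurd hwfix.symm he
  rcases hwmem with h1 | h1
  · rw [QuotientGroup.eq_one_iff, hcmem] at h1
    rcases h1 with h1 | h1
    · rw [show (⟨h ^ 2, hhH2⟩ : ↥H) = 1 from Subtype.ext h1, _root_.map_one]
    · rw [show (⟨h ^ 2, hhH2⟩ : ↥H) = ⟨z, hzH⟩ from Subtype.ext h1, hofz]
  · rw [eq_comm, QuotientGroup.eq, hcmem] at h1
    rcases h1 with h1 | h1 <;> simp only [Subgroup.coe_mul, Subgroup.coe_inv, hw] at h1
    · rw [show (⟨h ^ 2, hhH2⟩ : ↥H) = ⟨c, hcH⟩ from Subtype.ext (inv_mul_eq_one.1 h1).symm, hofc']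
    · rw [show (⟨h ^ 2, hhH2⟩ : ↥H) = ⟨c, hcH⟩ * ⟨z, hzH⟩ from
        Subtype.ext (inv_mul_eq_iff_eq_mul.1 h1), map_mul, hofc', hofz, one_mul]

/-- The two-part of the abelianisation of the involution centraliser is elementary abelian. -/
theorem abelianization_sq_eq_one (hres : Cfsg.pResidual 2 G = ⊤) (S : Setup z E)
    (hext : Cfsg.IsExtraspecial 2 ↥E)
    (q : Abelianization ↥(centralizer ({z} : Set G))) (hq : ∃ k : ℕ, orderOf q = 2 ^ k) :
    q ^ 2 = 1 := by
  classical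
  haveI : Fact (Nat.Prime 2) := ⟨Nat.prime_two⟩
  let of : ↥(centralizer ({z} : Set G)) →* Abelianization ↥(centralizer ({z} : Set G)) := Abelianization.of
  obtain ⟨k, hk⟩ := hq
  obtain ⟨n, hn, hcard⟩ := CfsgLib.Transfer.extraspecial_card hext
  by_cases hn1 : n = 1
  · have h8 : Nat.card ↥E = 8 := by rw [hcard, hn1]; norm_num
    obtain ⟨h0, hh0⟩ := QuotientGroup.mk_surjective q
    obtain ⟨a, o, hodd, hord⟩ :=
      Nat.exists_eq_pow_mul_and_not_dvd (orderOf_pos (h0 : G)).ne' 2 (by norm_num)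
    have h2a : ((h0 ^ o : ↥(centralizer ({z} : Set G))) : G) ^ 2 ^ a = 1 := by
      rw [SubgroupClass.coe_pow, ← pow_mul, mul_comm, ← hord, pow_orderOf_eq_one]
    have h := of_sq_eq_one_of_card_eight S h8 (h0 ^ o : ↥(centralizer ({z} : Set G))).2 h2a
    rw [Subtype.coe_eta, map_pow, show Abelianization.of h0 = q from hh0, ← pow_mul] at h
    apply orderOf_dvd_iff_pow_eq_one.1
    have h2 := orderOf_dvd_of_pow_eq_one h
    rw [hk] at h2 ⊢
    exact (Nat.Coprime.pow_left k (Nat.prime_two.coprime_iff_not_dvd.2 hodd)).dvd_of_dvd_mul_left h2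
  by_contra hq2
  let sq : Abelianization ↥(centralizer ({z} : Set G)) →* Abelianization ↥(centralizer ({z} : Set G)) := powMonoidHom 2
  have hsq : ∀ a, sq a = a ^ 2 := fun a => rfl
  have hM0 : sq.ker ⊔ sq.range ≠ ⊤ := by
    intro htop
    have hsurj : ∀ y ∈ sq.range, ∃ x ∈ sq.range, sq x = y := by
      rintro y ⟨a, rfl⟩
      obtain ⟨b, hb, c, hc, rfl⟩ := mem_sup.1 (htop ▸ mem_top a : a ∈ sq.ker ⊔ sq.range)
      exact ⟨c, hc, by rw [map_mul, MonoidHom.mem_ker.1 hb, one_mul]⟩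
    let f : ↥sq.range → ↥sq.range := fun x => ⟨sq x, ⟨x, rfl⟩⟩
    have hfinj : Function.Injective f := Finite.injective_iff_surjective.2 fun y => by
      obtain ⟨x, hx, e⟩ := hsurj y y.2
      exact ⟨⟨x, hx⟩, Subtype.ext e⟩
    obtain ⟨j, rfl⟩ : ∃ j, k = j + 2 := by
      refine ⟨k - 2, ?_⟩
      by_contra h
      apply hq2
      apply orderOf_dvd_iff_pow_eq_one.1
      rw [hk]
      exact (pow_dvd_pow 2 (by omega : k ≤ 1))
    have hy : (⟨(q ^ 2 ^ j) ^ 2, ⟨_, rfl⟩⟩ : ↥sq.range) = 1 := hfinj (Subtype.ext (by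
      show ((q ^ 2 ^ j) ^ 2) ^ 2 = (1 : Abelianization ↥(centralizer ({z} : Set G))) ^ 2
      rw [← pow_mul, ← pow_mul, one_pow, show 2 ^ j * (2 * 2) = 2 ^ (j + 2) by ring, ← hk,
        pow_orderOf_eq_one]))
    have h := orderOf_dvd_of_pow_eq_one (show q ^ 2 ^ (j + 1) = 1 by
      rw [pow_succ, pow_mul]; exact congrArg Subtype.val hy)
    rw [hk] at h
    have := (Nat.pow_dvd_pow_iff_le_right (by norm_num : 1 < 2)).1 h
    omega
  obtain ⟨M, hM, hleM⟩ := (eq_top_or_exists_le_coatom _).resolve_left hM0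
  have hsqM : ∀ a, a ^ 2 ∈ M := fun a => hleM (mem_sup_right ⟨a, rfl⟩)
  have hinvM : ∀ a, a ^ 2 = 1 → a ∈ M := fun a ha => hleM (mem_sup_left ha)
  have hdex : ∀ a b, a ∉ M → b ∉ M → a * b ∈ M := by
    intro a b ha hb
    have htop := hM.2 (M ⊔ zpowers a) (lt_of_le_of_ne le_sup_left fun e => ha (by
      rw [e]; exact mem_sup_right (mem_zpowers a)))
    obtain ⟨y, hy, w, hw, hyw⟩ := mem_sup.1 (htop ▸ mem_top b : b ∈ M ⊔ zpowers a)
    obtain ⟨i, rfl⟩ := mem_zpowers_iff.1 hw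
    rw [← hyw]
    rcases Int.even_or_odd i with ⟨j, hj⟩ | ⟨j, hj⟩
    · exfalso
      apply hb
      rw [← hyw, hj, ← two_mul, mul_comm 2, zpow_mul]
      exact mul_mem hy (by rw [zpow_ofNat]; exact hsqM _)
    · rw [hj, mul_left_comm, ← zpow_one_add, show 1 + (2 * j + 1) = (j + 1) * 2 by ring, zpow_mul]
      exact mul_mem hy (by rw [zpow_ofNat]; exact hsqM _)
  let φ : G → ZMod 2 := fun x => if ∃ h : x ∈ (centralizer ({z} : Set G)), of ⟨x, h⟩ ∈ M then 0 else 1
  have hφval : ∀ (x : G) (hx : x ∈ (centralizer ({z} : Set G))), φ x = if of ⟨x, hx⟩ ∈ M then 0 else 1 := fun x hx => by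
    simp [φ, hx]
  have hφ : ∀ a ∈ (centralizer ({z} : Set G)), ∀ b ∈ (centralizer ({z} : Set G)), φ (a * b) = φ a + φ b := by
    intro a ha b hb
    rw [hφval _ (mul_mem ha hb), hφval _ ha, hφval _ hb,
      show (⟨a * b, mul_mem ha hb⟩ : ↥(centralizer ({z} : Set G))) = ⟨a, ha⟩ * ⟨b, hb⟩ from rfl, map_mul]
    by_cases h1 : of ⟨a, ha⟩ ∈ M <;> by_cases h2 : of ⟨b, hb⟩ ∈ M
    · simp [h1, h2, mul_mem h1 h2]
    · simp [h1, h2, (mul_mem_cancel_left h1)]
    · simp [h1, h2, (mul_mem_cancel_right h2)]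
    · simp [h1, h2, hdex _ _ h1 h2]; exact (CharTwo.add_self_eq_zero 1).symm
  have hφinv : ∀ (x : G) (hx : x ∈ (centralizer ({z} : Set G))), of ⟨x, hx⟩ ^ 2 = 1 → φ x = 0 := fun x hx e => by
    rw [hφval x hx, if_pos (hinvM _ e)]
  obtain ⟨w, hw⟩ : ∃ w, w ∉ M := by
    by_contra h
    push Not at h
    exact hM.1 (eq_top_iff.2 fun w _ => h w)
  obtain ⟨x, rfl⟩ := QuotientGroup.mk_surjective w
  have hx0 := phi_eq_zero S φ hφ hres (fun g hg hu => ?_) x.2
  · rw [hφval _ x.2, if_neg (by exact hw)] at hx0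
    exact one_ne_zero hx0
  have hzg : g⁻¹ * z * g ∈ (centralizer ({z} : Set G)) := conj_mem hu
  have hψ : φ (g⁻¹ * z * g) = 0 := hφinv _ hzg (by
    rw [← map_pow, show (⟨g⁻¹ * z * g, hzg⟩ : ↥(centralizer ({z} : Set G))) ^ 2 = 1 from Subtype.ext (by
      rw [SubgroupClass.coe_pow, OneMemClass.coe_one, pow_two,
        show g⁻¹ * z * g * (g⁻¹ * z * g) = g⁻¹ * (z * z) * g by group, S.hzz]
      group), _root_.map_one])
  rcases card_orb_cases S hg hu with ⟨huE, h2⟩ | ⟨-, h4⟩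
  · refine Or.inr (Or.inr ⟨h2, hψ, fun c hc hcu => ?_⟩)
    have h32 : 32 ≤ Nat.card ↥E := by
      rw [hcard]
      exact le_of_eq_of_le (by norm_num) (Nat.pow_le_pow_right (by norm_num) (by omega : 5 ≤ 2 * n + 1))
    obtain ⟨a, b, hau, hbu, hab⟩ :=
      CfsgLib.InvChar.ExtraspecialIn.exists_not_commute E hext h32 ⟨_, huE⟩
    have hmemE : ∀ t : G, t * (g * z * g⁻¹) = g * z * g⁻¹ * t → g⁻¹ * t * g ∈ (centralizer ({z} : Set G)) := fun t ht =>
      Setup.mem_of_fix (Setup.fix_iff.2 ht)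
    have ha' := hmemE a (congrArg Subtype.val hau.eq).symm
    have hb' := hmemE b (congrArg Subtype.val hbu.eq).symm
    have hab' := (S.hcomm a a.2 b b.2).resolve_left fun e => hab (Subtype.ext e)
    have hofzg : of ⟨g⁻¹ * z * g, hzg⟩ = 1 := by
      have e : (⟨_, ha'⟩ : ↥(centralizer ({z} : Set G))) * ⟨_, hb'⟩ = ⟨_, hb'⟩ * ⟨_, ha'⟩ * ⟨_, hzg⟩ := Subtype.ext (by
        show g⁻¹ * a * g * (g⁻¹ * b * g) = g⁻¹ * b * g * (g⁻¹ * a * g) * (g⁻¹ * z * g)
        calc g⁻¹ * a * g * (g⁻¹ * b * g) = g⁻¹ * ((a : G) * b) * g := by group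
          _ = g⁻¹ * (b * a * z) * g := by rw [hab']
          _ = _ := by group)
      have h := congrArg of e
      rw [map_mul, map_mul, map_mul, mul_comm (of ⟨_, hb'⟩)] at h
      exact left_eq_mul.1 h
    refine hφinv _ (hmemE c hcu) ?_
    rw [← map_pow]
    rcases S.hsq c hc with e | e
    · rw [show (⟨g⁻¹ * c * g, hmemE c hcu⟩ : ↥(centralizer ({z} : Set G))) ^ 2 = 1 from Subtype.ext (by
        rw [SubgroupClass.coe_pow, OneMemClass.coe_one, pow_two,
          show g⁻¹ * c * g * (g⁻¹ * c * g) = g⁻¹ * (c * c) * g by group, e]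
        group), _root_.map_one]
    · rw [show (⟨g⁻¹ * c * g, hmemE c hcu⟩ : ↥(centralizer ({z} : Set G))) ^ 2 = ⟨g⁻¹ * z * g, hzg⟩ from Subtype.ext (by
        rw [SubgroupClass.coe_pow, pow_two]
        show g⁻¹ * c * g * (g⁻¹ * c * g) = g⁻¹ * z * g
        rw [← e]; group), hofzg]
  · exact Or.inr (Or.inl ⟨h4, hψ⟩)

end CfsgLib.InvChar.ExtraspecialTransfer
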