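import Cfsg.Agent.Lib.InvChar.SporFi22Trans
import Cfsg.Agent.Lib.Trans3.FiConf.Config

/-!
A group of type M(22) is the presented Fi22, with the transpositions corresponding.
-/

set_option autoImplicit false

namespace CfsgLib.InvChar.Fi22Transfer

open Cfsg.Spor (Fi22)

theorem exists_iso {G : Type*} [Group G] [Finite G] {D : Set G}
    (hD : Cfsg.IsThreeTranspositionGroup D) (hP : Cfsg.IsPrimitiveUnderConj D)
    (h : Cfsg.IsOfTypeM22 G D) :
    ∃ e : Fi22 ≃* G, e '' conjugatesOf (SporFi22.gen 0) = D := by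
  obtain ⟨e₀⟩ := CfsgLib.Trans3.FiConf.m22_iso hD hP h
  set e := e₀.symm
  obtain ⟨⟨hset2, hset3⟩, -, hgen⟩ := SporFi22.isThreeTranspositionClass
  have hV : Cfsg.IsThreeTranspositionGroup (e '' conjugatesOf (SporFi22.gen 0)) := by
    refine ⟨⟨?_, ?_⟩, ?_, ?_⟩
    · rintro _ ⟨d, hd, rfl⟩
      rw [MulEquiv.orderOf_eq]
      exact hset2 d hd
    · rintro _ ⟨d, hd, rfl⟩ _ ⟨u, hu, rfl⟩
      rcases hset3 d hd u hu with h | h
      · exact Or.inl (by rw [← map_mul, ← map_pow, h, map_one])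
      · exact Or.inr (by rw [← map_mul, ← map_pow, h, map_one])
    · rintro g _ ⟨d, hd, rfl⟩
      refine ⟨e.symm g * d * (e.symm g)⁻¹, ?_, by simp⟩
      exact IsConj.trans hd (isConj_iff.2 ⟨e.symm g, rfl⟩)
    · have h2 := congrArg (Subgroup.map e.toMonoidHom) hgen
      rw [MonoidHom.map_closure, Subgroup.map_top_of_surjective e.toMonoidHom e.surjective] at h2
      exact h2
  have hsub := CfsgLib.Trans3.Fi.m22_unique hD hP h hV
  refine ⟨e, hsub.antisymm fun y hy => ?_⟩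
  obtain ⟨x, hx⟩ := hsub ⟨SporFi22.gen 0, mem_conjugatesOf_self, rfl⟩ |>
    fun h0 => hP.1 _ h0 y hy
  exact ⟨e.symm x * SporFi22.gen 0 * (e.symm x)⁻¹, isConj_iff.2 ⟨e.symm x, rfl⟩, by simpa using hx⟩

end CfsgLib.InvChar.Fi22Transfer
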