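import Cfsg.Agent.Lib.InvChar.PackedMat

/-! Matrices realising generators of a double coset chain as elements of the adjoint group G2(4). -/

set_option autoImplicit false
set_option maxRecDepth 100000

namespace CfsgLib.InvChar.G2Four

open PMat

/-- the six generators -/
def gens : List PMat := [[(16, 274), (576, 8709), (1632, 14221), (1632, 13836), (12, 1536), (14224, 14720), (13853, 14445), (1104, 9494), (1088, 9224), (12773, 624), (12388, 608), (1814, 326), (2560, 12928), (2672, 13077)],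
  [(11979, 6676), (518, 8261), (4630, 15485), (15568, 12054), (4230, 15046), (4658, 13548), (9843, 7094), (128, 4644), (6598, 3664), (4758, 11485), (1552, 10000), (13944, 13046), (22, 9292), (10445, 16219)],
  [(8827, 5966), (895, 13341), (9190, 5713), (5980, 13375), (1556, 1052), (7708, 15811), (15463, 9010), (12793, 1786), (8520, 1344), (13223, 9706), (9067, 4956), (7431, 15161), (5543, 6523), (15965, 6183)],
  [(2365, 2307), (7523, 643), (188, 188), (8065, 0), (7523, 738), (7997, 144), (5632, 2433), (7527, 718), (12288, 12161), (2337, 2396), (11619, 10240), (9234, 9292), (9218, 8532), (9474, 8540)],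
  [(1296, 1306), (8768, 581), (14613, 13040), (9768, 12876), (9292, 584), (8174, 2010), (5717, 15405), (9482, 1374), (1088, 9224), (3813, 15629), (5228, 8744), (8726, 9486), (7468, 8190), (11896, 4957)],
  [(1907, 14086), (9783, 13653), (14233, 12659), (13844, 12671), (1564, 28), (14631, 1751), (14631, 1850), (10166, 13255), (8520, 1344), (242, 13717), (1891, 12820), (14663, 15985), (10368, 6656), (7957, 7527)]]
/-- the root elements, numbered 3 r + (code of the parameter) - 1 -/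
def roots : List PMat := [[(0, 8193), (0, 2), (0, 8198), (0, 264), (0, 1040), (0, 2080), (0, 64), (0, 4224), (0, 256), (0, 512), (0, 1024), (0, 2048), (0, 4096), (0, 8192)],
  [(8192, 1), (0, 2), (8194, 8196), (256, 8), (1024, 16), (2048, 32), (0, 64), (4096, 128), (0, 256), (0, 512), (0, 1024), (0, 2048), (0, 4096), (0, 8192)],
  [(8192, 8193), (0, 2), (8194, 6), (256, 264), (1024, 1040), (2048, 2080), (0, 64), (4096, 4224), (0, 256), (0, 512), (0, 1024), (0, 2048), (0, 4096), (0, 8192)],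
  [(0, 4097), (0, 4098), (0, 132), (0, 4107), (0, 528), (0, 32), (0, 2112), (0, 128), (0, 8448), (0, 512), (0, 1024), (0, 2048), (0, 4096), (0, 8192)],
  [(4096, 1), (4096, 2), (128, 4), (4099, 4104), (512, 16), (0, 32), (2048, 64), (0, 128), (8192, 256), (0, 512), (0, 1024), (0, 2048), (0, 4096), (0, 8192)],
  [(4096, 4097), (4096, 4098), (128, 132), (4099, 11), (512, 528), (0, 32), (2048, 2112), (0, 128), (8192, 8448), (0, 512), (0, 1024), (0, 2048), (0, 4096), (0, 8192)],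
  [(0, 1), (0, 2050), (0, 4644), (0, 9288), (0, 2065), (0, 4128), (0, 8256), (0, 128), (0, 256), (0, 4608), (0, 9216), (0, 2048), (0, 4096), (0, 8192)],
  [(0, 1), (2048, 2), (544, 4612), (1088, 9224), (2049, 2064), (4096, 4128), (8192, 8256), (0, 128), (0, 256), (4096, 512), (8192, 1024), (0, 2048), (0, 4096), (0, 8192)],
  [(0, 1), (2048, 2050), (544, 4132), (1088, 8264), (2049, 17), (4096, 32), (8192, 64), (0, 128), (0, 256), (4096, 4608), (8192, 9216), (0, 2048), (0, 4096), (0, 8192)],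
  [(0, 1025), (0, 1026), (0, 340), (0, 8), (0, 272), (0, 1059), (0, 320), (0, 10880), (0, 256), (0, 8704), (0, 1024), (0, 10240), (0, 4096), (0, 8192)],
  [(1024, 1), (1024, 2), (80, 324), (0, 8), (256, 272), (1027, 1056), (256, 64), (2560, 10368), (0, 256), (8192, 8704), (0, 1024), (8192, 2048), (0, 4096), (0, 8192)],
  [(1024, 1025), (1024, 1026), (80, 276), (0, 8), (256, 16), (1027, 35), (256, 320), (2560, 8832), (0, 256), (8192, 512), (0, 1024), (8192, 10240), (0, 4096), (0, 8192)],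
  [(0, 513), (0, 2), (0, 4), (0, 184), (0, 144), (0, 160), (0, 578), (0, 128), (0, 7424), (0, 512), (0, 5120), (0, 6144), (0, 4096), (0, 8192)],
  [(512, 1), (0, 2), (0, 4), (48, 168), (128, 144), (128, 32), (514, 576), (0, 128), (3072, 6400), (0, 512), (4096, 5120), (4096, 2048), (0, 4096), (0, 8192)],
  [(512, 513), (0, 2), (0, 4), (48, 152), (128, 16), (128, 160), (514, 66), (0, 128), (3072, 5376), (0, 512), (4096, 1024), (4096, 6144), (0, 4096), (0, 8192)],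
  [(0, 1), (0, 258), (0, 12), (0, 8), (0, 16), (0, 96), (0, 64), (0, 385), (0, 256), (0, 1536), (0, 1024), (0, 2048), (0, 12288), (0, 8192)],
  [(0, 1), (256, 2), (8, 4), (0, 8), (0, 16), (64, 32), (0, 64), (257, 384), (0, 256), (1024, 512), (0, 1024), (0, 2048), (8192, 4096), (0, 8192)],
  [(0, 1), (256, 258), (8, 12), (0, 8), (0, 16), (64, 96), (0, 64), (257, 129), (0, 256), (1024, 1536), (0, 1024), (0, 2048), (8192, 12288), (0, 8192)],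
  [(0, 1), (0, 130), (0, 4), (0, 12), (0, 16), (0, 32), (0, 96), (0, 128), (0, 385), (0, 512), (0, 1536), (0, 2048), (0, 4096), (0, 12288)],
  [(0, 1), (128, 2), (0, 4), (4, 8), (0, 16), (0, 32), (32, 64), (0, 128), (129, 384), (0, 512), (512, 1024), (0, 2048), (0, 4096), (4096, 8192)],
  [(0, 1), (128, 130), (0, 4), (4, 12), (0, 16), (0, 32), (32, 96), (0, 128), (129, 257), (0, 512), (512, 1536), (0, 2048), (0, 4096), (4096, 12288)],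
  [(0, 65), (0, 2), (0, 4), (0, 8), (0, 24), (0, 40), (0, 64), (0, 184), (0, 256), (0, 578), (0, 1280), (0, 2304), (0, 7424), (0, 8192)],
  [(64, 1), (0, 2), (0, 4), (0, 8), (8, 16), (8, 40), (0, 64), (48, 152), (0, 256), (66, 576), (256, 1024), (256, 2304), (3072, 5376), (0, 8192)],
  [(64, 65), (0, 2), (0, 4), (0, 8), (8, 24), (8, 32), (0, 64), (48, 168), (0, 256), (66, 514), (256, 1280), (256, 2048), (3072, 6400), (0, 8192)],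
  [(0, 33), (0, 34), (0, 4), (0, 8), (0, 20), (0, 32), (0, 68), (0, 128), (0, 340), (0, 640), (0, 1059), (0, 2176), (0, 4096), (0, 10880)],
  [(32, 1), (32, 2), (0, 4), (0, 8), (4, 16), (0, 32), (4, 68), (0, 128), (80, 276), (128, 512), (35, 1056), (128, 2176), (0, 4096), (2560, 8832)],
  [(32, 33), (32, 34), (0, 4), (0, 8), (4, 20), (0, 32), (4, 64), (0, 128), (80, 324), (128, 640), (35, 1027), (128, 2048), (0, 4096), (2560, 10368)],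
  [(0, 1), (0, 18), (0, 4), (0, 8), (0, 16), (0, 36), (0, 72), (0, 128), (0, 256), (0, 516), (0, 1032), (0, 2065), (0, 4644), (0, 9288)],
  [(0, 1), (16, 2), (0, 4), (0, 8), (0, 16), (4, 32), (8, 64), (0, 128), (0, 256), (4, 516), (8, 1032), (17, 2064), (544, 4132), (1088, 8264)],
  [(0, 1), (16, 18), (0, 4), (0, 8), (0, 16), (4, 36), (8, 72), (0, 128), (0, 256), (4, 512), (8, 1024), (17, 2049), (544, 4612), (1088, 9224)],
  [(0, 9), (0, 10), (0, 4), (0, 8), (0, 16), (0, 32), (0, 64), (0, 132), (0, 256), (0, 528), (0, 1024), (0, 2112), (0, 4107), (0, 8448)],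
  [(8, 1), (8, 2), (0, 4), (0, 8), (0, 16), (0, 32), (0, 64), (4, 128), (0, 256), (16, 512), (0, 1024), (64, 2048), (11, 4104), (256, 8192)],
  [(8, 9), (8, 10), (0, 4), (0, 8), (0, 16), (0, 32), (0, 64), (4, 132), (0, 256), (16, 528), (0, 1024), (64, 2112), (11, 4099), (256, 8448)],
  [(0, 5), (0, 2), (0, 4), (0, 8), (0, 16), (0, 32), (0, 64), (0, 128), (0, 264), (0, 512), (0, 1040), (0, 2080), (0, 4224), (0, 8198)],
  [(4, 1), (0, 2), (0, 4), (0, 8), (0, 16), (0, 32), (0, 64), (0, 128), (8, 256), (0, 512), (16, 1024), (32, 2048), (128, 4096), (6, 8196)],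
  [(4, 5), (0, 2), (0, 4), (0, 8), (0, 16), (0, 32), (0, 64), (0, 128), (8, 264), (0, 512), (16, 1040), (32, 2080), (128, 4224), (6, 8194)]]
/-- the identity -/
def one : PMat := (List.range 14).map fun i => (0, 2 ^ i)
/-- root elements as words in the generators -/
def rootWords : List (List ℕ) := [[1, 2, 3, 2, 4, 3, 0, 2, 1, 0, 3, 2, 5, 1, 2, 3, 2, 3, 4, 3, 2, 1], [1, 0, 2, 3, 4, 3, 2, 1, 3, 0, 1, 0, 2, 3, 4, 5, 1, 0, 1, 0, 2, 3, 2, 1, 4], [1, 2, 3, 4, 3, 2, 3, 5, 1, 0, 2, 1, 3, 2, 3, 4, 3, 2, 5, 1], [1, 2, 1, 3, 2, 1, 4, 3, 2, 3, 0, 1, 0, 2, 5, 1, 2, 3, 2, 1, 3, 2, 4, 3, 2, 1], [1, 2, 3, 4, 5, 1, 0, 2, 1, 0, 3, 2, 1, 0, 3, 2, 1, 4, 3, 2, 5, 1], [1, 2, 3, 2, 1, 4, 3, 2, 3, 5, 1, 0, 2, 1, 3, 2, 3, 4, 5, 1, 2, 3, 2, 1], [0, 1, 3, 2, 3, 5, 1, 0, 2, 1, 0, 4, 5, 1, 2, 3, 2, 1, 0, 1, 4, 3, 2, 1, 0, 3], [1, 2, 1, 0, 1, 0, 2, 3, 2, 4, 3, 2, 5, 1, 0,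 1, 2, 1], [3, 2, 1, 3, 0, 2, 3, 4, 3, 5, 1, 0, 1, 0, 2, 3, 5, 1, 2, 3], [2, 3, 5, 1, 2, 3, 2, 1, 4, 3, 2, 1, 3, 2, 5, 1, 2, 3, 2, 4, 3, 2, 1, 3, 2, 5], [1, 0, 1, 0, 2, 4, 5, 1, 2, 3, 2, 4, 0, 1, 3, 2, 3, 2, 1, 4, 3, 2, 1, 3, 5, 1, 0, 1], [4, 5, 1, 0, 2, 1, 3, 2, 3, 4, 3, 2, 1, 0, 5, 1, 2, 3, 2, 1, 0, 3, 4, 3, 2, 1, 5], [0, 2, 1, 0, 1, 3, 2, 1, 4, 3, 2, 1, 3, 0, 2, 4, 3, 2, 1, 5, 1, 0, 2, 1, 3, 2, 1, 4, 3], [0, 1, 0, 1, 2, 3, 2, 1, 4, 3, 2, 1, 3, 5, 0, 1, 2, 3, 2, 1, 0, 1, 4, 3, 2, 5, 1, 0, 1, 2], [1, 2, 1, 3, 4, 3, 2, 1, 3, 5, 1, 2, 3, 2, 4, 0, 1, 3, 2, 1, 3, 2, 1, 4, 5, 1, 2, 3, 2, 1, 4], [0, 3, 2, 3, 4, 3, 2, 1, 3, 2, 0, 1, 2, 5, 1, 0, 2, 1, 0, 3, 2, 3, 4, 3, 2, 3], [2, 3, 2, 4, 3, 2, 5, 1, 0, 1, 4, 3, 2, 3, 4, 5, 1, 0, 1, 2, 3, 2, 4, 3], [3, 2, 3, 4, 3, 2, 1, 3, 2, 3, 4, 5, 1, 2, 3, 2, 4, 3], [0, 1, 2, 1, 0, 1, 2, 3, 2, 4, 3, 2, 5, 1, 0, 1,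 2, 1, 3, 2, 4, 3, 2, 5, 1, 0, 1, 2, 1, 0], [0, 2, 1, 0, 1, 2, 3, 2, 1, 4, 3, 2, 3, 4, 5, 1, 2, 3, 2, 1, 0, 1, 0, 2], [0, 1, 4, 5, 1, 0, 2, 1, 3, 2, 4, 3, 2, 1, 0, 1, 4, 5, 1, 0, 2, 3, 2, 1, 0, 4, 3, 5, 1, 2], [1, 3, 2, 1, 0, 1, 3, 4, 3, 2, 1, 3, 0, 2, 3, 4, 3, 2, 5, 1, 0, 2, 1, 3, 2, 1, 4, 3], [1, 2, 3, 2, 1, 4, 3, 0, 2, 1, 0, 3, 5, 1, 0, 2, 1, 3, 2, 4, 3, 2, 1], [2, 1, 0, 3, 2, 1, 4, 3, 2, 5, 1, 2, 3, 0, 1, 2, 1, 3, 2, 4, 3, 2, 1, 0, 1, 3, 2, 1, 5], [1, 0, 2, 4, 3, 2, 5, 1, 0, 4, 5, 1, 2, 3, 2, 1, 0, 3, 2, 1, 4, 3, 2, 1], [0, 2, 3, 2, 1, 5, 1, 0, 2, 1, 0, 3, 2, 4, 5, 1, 0, 3, 2, 1, 3, 2, 3, 2, 4, 3, 2, 1, 0, 3, 2, 5], [0, 1, 0, 1, 2, 1, 0, 3, 4, 3, 2, 1, 3, 5, 1, 0, 2, 1, 3, 2, 4, 3, 2, 3, 4, 5, 1, 0, 2, 1, 0], [1, 0, 1, 0, 2, 3, 5, 1, 0, 2, 1, 0, 3, 4, 3, 2, 1, 0, 3, 2, 5, 1, 0, 1], [0, 3, 5, 1, 0, 2, 1, 3, 2, 3, 2, 5, 1, 0, 1, 2, 3, 4, 3, 2,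 1, 0, 1, 3, 2, 1, 5, 1, 0], [3, 2, 1, 0, 5, 1, 0, 2, 1, 3, 2, 1, 0, 4, 3, 2, 1, 0, 5, 1, 2, 3], [1, 2, 3, 4, 3, 5, 1, 0, 2, 1, 3, 2, 0, 1, 5, 1, 2, 3, 2, 4, 3, 2, 1, 0, 5, 1, 2, 3], [5, 1, 0, 1, 2, 3, 2, 4, 3, 2, 5, 1, 0, 1, 2, 1, 3, 2, 4, 3, 2, 5, 1, 0, 1, 5], [5, 1, 0, 1, 2, 3, 2, 1, 0, 4, 3, 2, 3, 4, 5, 1, 2, 3, 2, 1, 0, 1, 5], [5, 1, 0, 1, 2, 3, 2, 4, 3, 2, 5, 1, 0, 1, 2, 3, 4, 5, 1, 0, 1, 2, 3, 2, 1, 0, 1, 5], [5, 1, 0, 1, 2, 3, 2, 1, 4, 3, 2, 3, 4, 5, 1, 2, 3, 2, 1, 0, 1, 5], [1, 0, 2, 3, 4, 3, 2, 1, 3, 5, 1, 0, 1, 2, 3, 2, 4, 3, 2, 1, 5, 1, 0, 1, 2, 1, 3]]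
/-- generators as words in root elements -/
def genWords : List (List ℕ) := [[15, 18, 22, 18, 21, 13, 15, 13, 21, 18, 22, 18, 15], [19, 15, 12, 15, 18, 21, 22, 19, 22, 18, 15, 12, 13, 16], [19, 15, 21, 12, 16, 18, 16, 12, 21, 15, 19], [12, 22, 18, 21, 19, 15, 16, 12, 22, 18, 22, 19], [12, 19, 21, 16, 12, 21, 19, 15, 13, 19, 21, 16, 19, 22], [15, 18, 22, 18, 21, 13, 16, 13, 21, 18, 22, 18, 15]]

theorem rootWords_ok : rootWords.map (wordMul gens one) = roots := by decide +kernel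

theorem genWords_ok : genWords.map (wordMul roots one) = gens := by decide +kernel

theorem gens_sq : ∀ A ∈ gens, PMat.mul A A = one := by decide +kernel

end CfsgLib.InvChar.G2Four
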