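import Cfsg.Prelude.Def_Spor_Suz
import Cfsg.Agent.Lib.InvChar.CosetGroup
import Cfsg.Agent.Lib.InvChar.SporData.SuzA.Main
import Cfsg.Agent.Lib.InvChar.SporData.SuzA.Chain
import Cfsg.Agent.Lib.InvChar.SporData.SuzB.Main
import Cfsg.Agent.Lib.InvChar.SporData.SuzC.Main
import Cfsg.Agent.Lib.InvChar.SporData.SuzD.Main
import Cfsg.Agent.Lib.InvChar.SporData.SuzE.Main
import Cfsg.Agent.Lib.InvChar.SporData.SuzF.Main
import Cfsg.Agent.Lib.InvChar.SporData.SuzG.Main

/-!
# The presented Suzuki group: order and the action on 1782 points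
-/

set_option autoImplicit false
set_option maxRecDepth 100000

namespace CfsgLib.InvChar.SporSuz

open CfsgLib.InvChar.Coset Cfsg.Spor

/-- numbering of the generators -/
def idx : Suz.Gen → ℕ
  | .a => 0 | .b => 1 | .c => 2 | .d => 3 | .e => 4 | .f => 5 | .g => 6

/-- the generators by number -/
def ofN : ℕ → Suz.Gen
  | 0 => .a | 1 => .b | 2 => .c | 3 => .d | 4 => .e | 5 => .f | _ => .g

theorem pres : IsPres Suz.edges Suz.extra 7 idx ofN SuzA.rels where
  left a := by cases a <;> decide
  check := by decide +kernel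

/-- The generators. -/
noncomputable abbrev gen : ℕ → Suz := pres.gen

theorem gen_mul_self (x : ℕ) : gen x * gen x = 1 := pres.gen_mul_self x

theorem closure_gen : Subgroup.closure (gen '' Set.Iio 7) = ⊤ := pres.closure_gen

/-- The permutations of the 1782 points. -/
noncomputable def perm (x : ℕ) : Equiv.Perm (Fin SuzA.table.n) := SuzA.valid.toPerm SuzA.sq x

theorem exists_rep : ∃ φ : Suz →* Equiv.Perm (Fin SuzA.table.n), ∀ x < 7, φ (gen x) = perm x :=
  pres.exists_hom perm (fun x => SuzA.valid.toPerm_mul_self SuzA.sq x) fun r hr =>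
    SuzA.valid.wprod_eq_one SuzA.sq hr
      ((by decide +kernel : ∀ r ∈ SuzA.rels, ∀ x ∈ r, x < 7) r hr)

/-- The action on 1782 points. -/
noncomputable def rep : Suz →* Equiv.Perm (Fin SuzA.table.n) := Classical.choose exists_rep

theorem rep_gen : ∀ x < 7, rep (gen x) = perm x := Classical.choose_spec exists_rep

/-- The subgroup of index 1782. -/
noncomputable def H : Subgroup Suz := wordsClosure gen SuzA.subs

theorem H_fix : ∀ h ∈ H, rep h ⟨0, SuzA.covered.hn⟩ = ⟨0, SuzA.covered.hn⟩ := by
  intro h hh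
  suffices H ≤ (MulAction.stabilizer (Equiv.Perm (Fin SuzA.table.n))
      (⟨0, SuzA.covered.hn⟩ : Fin SuzA.table.n)).comap rep from this hh
  rw [H, wordsClosure, Subgroup.closure_le]
  rintro _ ⟨L, hL, rfl⟩
  have hlt := (by decide +kernel : ∀ L ∈ SuzA.subs, ∀ x ∈ L, x < 7) L hL
  show rep (wprod gen L) ⟨0, SuzA.covered.hn⟩ = _
  rw [map_wprod rep gen perm L fun x hx => rep_gen x (hlt x hx)]
  exact SuzA.valid.wprod_fix SuzA.sq hlt _
    ((by decide +kernel : ∀ L ∈ SuzA.subs, SuzA.table.follow L 0 = 0) L hL)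

theorem index_H : H.index = 1782 ∧ ∃ e : Fin SuzA.table.n ≃ Suz ⧸ H,
    e ⟨0, SuzA.covered.hn⟩ = ((1 : Suz) : Suz ⧸ H) ∧
    ∀ (g : Suz) (i : Fin SuzA.table.n), g • e i = e (rep g i) :=
  SuzA.covered.exact SuzA.valid SuzA.sq SuzA.orbit0_ok SuzA.base0 (by decide) (by decide) gen H gen_mul_self
    (fun r hr => pres.gen_rel r hr) (fun r hr => mem_wordsClosure gen hr) closure_gen rep rep_gen H_fix

theorem rels_subGen (emb : List ℕ) (R : List (List ℕ))
    (h : ∀ r ∈ R, (∀ x ∈ r, x < emb.length) ∧ r.map (fun x => emb.getD x 0) ∈ SuzA.rels) :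
    ∀ r ∈ R, wprod (subGen gen emb) r = 1 := by
  intro r hr
  obtain ⟨h1, h2⟩ := h r hr
  rw [wprod_subGen gen emb r h1]
  exact pres.gen_rel _ h2

theorem card_abcdef_le : Finite (lettersClosure gen SuzB.emb) ∧
    Nat.card (lettersClosure gen SuzB.emb) ≤ 251596800 := by
  have h0 := card_lettersClosure_nil gen
  have h1 := SuzD.covered.chain_step gen gen_mul_self SuzD.emb [] rfl
    (rels_subGen _ _ (by decide +kernel)) (by decide) (by decide +kernel) h0.1 h0.2
  have h2 := SuzC.covered.chain_step gen gen_mul_self SuzC.emb SuzD.emb rfl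
    (rels_subGen _ _ (by decide +kernel)) (by decide) (by decide +kernel) h1.1 h1.2
  have h3 := SuzB.covered.chain_step gen gen_mul_self SuzB.emb SuzC.emb rfl
    (rels_subGen _ _ (by decide +kernel)) (by decide) (by decide +kernel) h2.1 h2.2
  exact ⟨h3.1, h3.2.trans (le_of_eq rfl)⟩

theorem card_le : Finite Suz ∧ Nat.card Suz ≤ 448345497600 := by
  obtain ⟨hfin, hc⟩ := card_abcdef_le
  have hi := SuzA.covered.index_le gen (lettersClosure gen SuzB.emb) gen_mul_self
    (fun r hr => pres.gen_rel r ((by decide +kernel : ∀ r ∈ SuzA.rels, r ∈ SuzA.rels) r hr))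
    (fun r hr => mem_lettersClosure gen SuzB.emb
      ((by decide +kernel : ∀ r ∈ SuzA.subs, r ∈ SuzB.emb.map fun x => [x]) r hr))
    closure_gen
  exact card_le_of_index _ hfin hi hc

/-- The order of the presented Suzuki group, and faithfulness of the action on 1782 points. -/
theorem card_eq : Nat.card Suz = 448345497600 ∧ Function.Injective rep :=
  card_eq_and_injective rep (by norm_num) card_le (SuzA.card_range_ge gen rep rep_gen)

theorem card_abcdfg_le : Finite (lettersClosure gen SuzF.emb) ∧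
    Nat.card (lettersClosure gen SuzF.emb) ≤ 19595520 := by
  have h0 := card_lettersClosure_nil gen
  have h1 := SuzD.covered.chain_step gen gen_mul_self SuzD.emb [] rfl
    (rels_subGen _ _ (by decide +kernel)) (by decide) (by decide +kernel) h0.1 h0.2
  have h2 := SuzG.covered.chain_step gen gen_mul_self SuzG.emb SuzD.emb rfl
    (rels_subGen _ _ (by decide +kernel)) (by decide) (by decide +kernel) h1.1 h1.2
  have h3 := SuzF.covered.chain_step gen gen_mul_self SuzF.emb SuzG.emb rfl
    (rels_subGen _ _ (by decide +kernel)) (by decide) (by decide +kernel) h2.1 h2.2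
  exact ⟨h3.1, h3.2.trans (le_of_eq rfl)⟩

/-- The index of the subgroup on six generators. -/
theorem index_abcdfg : (lettersClosure gen SuzF.emb).index = 22880 := by
  have hi := SuzE.covered.index_le gen (lettersClosure gen SuzF.emb) gen_mul_self
    (fun r hr => pres.gen_rel r ((by decide +kernel : ∀ r ∈ SuzE.rels, r ∈ SuzA.rels) r hr))
    (fun r hr => mem_lettersClosure gen SuzF.emb
      ((by decide +kernel : ∀ r ∈ SuzE.subs, r ∈ SuzF.emb.map fun x => [x]) r hr))
    closure_gen
  exact (index_eq_of_card (n := 22880) _ (card_eq.1.trans (by norm_num)) (by norm_num) hi.2 card_abcdfg_le.2).1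

end CfsgLib.InvChar.SporSuz
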