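import Cfsg.Prelude.Def_Sporadic
import Cfsg.Agent.Lib.InvChar.SporSuzG2
import Cfsg.Agent.Lib.InvChar.CosetSimple
import Cfsg.Agent.Lib.InvChar.SporData.SuzB.Suborbits
import Cfsg.Agent.Lib.InvChar.SporData.SuzB.Seeds

/-!
# Simplicity of the presented group Pre
-/

set_option autoImplicit false
set_option maxRecDepth 100000

namespace CfsgLib.InvChar.SporSuzG2

open CfsgLib.InvChar.Coset Cfsg.Spor

theorem seed_one (L : List ℕ) (h : L ∈ SuzB.seedWords) : wprod gen L = 1 := by
  have hlt := (by decide +kernel : ∀ L ∈ SuzB.seedWords, ∀ x ∈ L, x < 6) L h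
  apply card_eq.2
  rw [map_one, map_wprod rep gen perm L fun x hx => rep_gen x (hlt x hx), ← inv_eq_one]
  ext i
  show ((wprod (SuzB.valid.toPerm SuzB.sq) L)⁻¹ i : ℕ) = _
  rw [← SuzB.valid.follow_eq SuzB.sq L hlt i, SuzB.seeds_fix i i.2 L h, Equiv.Perm.one_apply]

theorem isSimpleGroup : IsSimpleGroup Pre := by
  haveI : Finite Pre := card_le.1
  haveI : Nontrivial Pre := Finite.one_lt_card_iff_nontrivial.1 (by rw [card_eq.1]; norm_num)
  haveI : Fact (Nat.Prime 13) := ⟨by norm_num⟩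
  obtain ⟨hi, e, he0, he⟩ := index_H
  have hS : ∀ L ∈ SuzB.subs, ∀ x ∈ L, x < SuzB.table.g := by decide +kernel
  have o0 := suborbit_of_cert SuzB.table rfl SuzB.valid SuzB.sq gen rep rep_gen e he hS H rfl (by norm_num)
    SuzB.sub0_ok ⟨1, by decide +kernel⟩ SuzB.sub0_root.symm
  have o1 := suborbit_of_cert SuzB.table rfl SuzB.valid SuzB.sq gen rep rep_gen e he hS H rfl (by norm_num)
    SuzB.sub1_ok ⟨38, by decide +kernel⟩ SuzB.sub1_root.symm
  have hmax := eq_top_or_le_of_suborbits H [315, 100] ![e ⟨1, by decide +kernel⟩, e ⟨38, by decide +kernel⟩] ?_ ?_ ?_ ?_ ?_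
  · refine isSimpleGroup_of_cert H (normalCore_eq_bot rep card_eq.2 e he) hmax 13 1
      (by rw [hi]; norm_num) (by rw [card_eq.1]; norm_num) gen gen_mul_self SuzB.rels gen_rel 6
      closure_gen [0, 3] ?_ (by decide +kernel)
    intro y hy
    simp only [List.mem_cons, List.not_mem_nil, or_false] at hy
    rcases hy with rfl | rfl
    · refine ⟨wprod gen [4, 2, 3, 5, 2, 1, 3], wprod gen [3, 1, 2, 5, 3, 2, 4, 0], ?_, ?_, ?_⟩
      · have h := seed_one (List.replicate 13 [4, 2, 3, 5, 2, 1, 3]).flatten (by decide +kernel)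
        simpa [wprod, pow_succ, mul_assoc] using h
      · have h := seed_one (List.replicate 13 [3, 1, 2, 5, 3, 2, 4, 0]).flatten (by decide +kernel)
        simpa [wprod, pow_succ, mul_assoc] using h
      · rw [show ([3, 1, 2, 5, 3, 2, 4, 0] : List ℕ) = [4, 2, 3, 5, 2, 1, 3].reverse ++ [0] from rfl, wprod_append, wprod_reverse gen gen_mul_self,
          ← mul_assoc, mul_inv_cancel, one_mul]
        simp [wprod]
    · refine ⟨wprod gen [4, 3, 1, 5, 2, 3, 2], wprod gen [2, 3, 2, 5, 1, 3, 4, 3], ?_, ?_, ?_⟩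
      · have h := seed_one (List.replicate 13 [4, 3, 1, 5, 2, 3, 2]).flatten (by decide +kernel)
        simpa [wprod, pow_succ, mul_assoc] using h
      · have h := seed_one (List.replicate 13 [2, 3, 2, 5, 1, 3, 4, 3]).flatten (by decide +kernel)
        simpa [wprod, pow_succ, mul_assoc] using h
      · rw [show ([2, 3, 2, 5, 1, 3, 4, 3] : List ℕ) = [4, 3, 1, 5, 2, 3, 2].reverse ++ [3] from rfl, wprod_append, wprod_reverse gen gen_mul_self,
          ← mul_assoc, mul_inv_cancel, one_mul]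
        simp [wprod]
  · intro i
    fin_cases i
    · exact o0.1
    · exact o1.1
  · intro q
    obtain ⟨i, rfl⟩ := e.surjective q
    have key : ∀ j < 416, j = 0 ∨ ((field SuzB.sub0Pos 128 20 j - 1 < 315) ∧ field SuzB.sub0Pts 128 20 (field SuzB.sub0Pos 128 20 j - 1) = j) ∨ ((field SuzB.sub1Pos 128 20 j - 1 < 100) ∧ field SuzB.sub1Pts 128 20 (field SuzB.sub1Pos 128 20 j - 1) = j) := by decide +kernel
    rcases key i i.2 with h | h | h
    · left
      rw [← he0]; exact congrArg e (Fin.ext h)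
    · exact Or.inr ⟨0, (o0.2 i).2 ⟨_, h.1, h.2⟩⟩
    · exact Or.inr ⟨1, (o1.2 i).2 ⟨_, h.1, h.2⟩⟩
  · intro i j hij
    fin_cases i <;> fin_cases j <;> first
      | rfl
      | exact absurd ((o0.2 _).1 hij) (show ¬ ∃ c < 315, field SuzB.sub0Pts 128 20 c = 38 by decide +kernel)
      | exact absurd ((o1.2 _).1 hij) (show ¬ ∃ c < 100, field SuzB.sub1Pts 128 20 c = 1 by decide +kernel)
  · intro i hmem
    rw [← he0] at hmem
    fin_cases i
    · exact absurd ((o0.2 _).1 hmem) (show ¬ ∃ c < 315, field SuzB.sub0Pts 128 20 c = 0 by decide +kernel)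
    · exact absurd ((o1.2 _).1 hmem) (show ¬ ∃ c < 100, field SuzB.sub1Pts 128 20 c = 0 by decide +kernel)
  · rw [hi]
    decide +kernel

end CfsgLib.InvChar.SporSuzG2
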