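import Cfsg.Agent.Lib.InvChar.G2FourCoverData
import Cfsg.Agent.Lib.InvChar.DoubleCoverUtil
import Cfsg.Agent.Lib.InvChar.SporSuzG2Simple
import Cfsg.Prelude.Def_KGroupFacts

/-!
# A double cover of G2(4) as a group of signed permutations of 4032 points
-/

set_option autoImplicit false
set_option maxRecDepth 100000

namespace CfsgLib.InvChar.G2FourCover

open CfsgLib.InvChar.Coset
open CfsgLib.InvChar.DoubleCoverUtil (below below_get)

/-- A point is twice a number below 4032 plus a bit. -/
noncomputable def step (x q : ℕ) : ℕ :=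
  force (field signedTable 128 20 (q / 2 * 6 + x)) fun e => e / 2 * 2 + (e + q) % 2

/-- The image of a point under a word, read from the left. -/
noncomputable def run (L : List ℕ) : ℕ → ℕ :=
  List.rec (fun q => q) (fun x _ ih q => force (step x q) ih) L

/-- The exponent of the central involution in a relation. -/
def tw (r : ℕ) : ℕ := twist.getD r 0

/-- Relation `r` at the even points from `o` on. -/
noncomputable def relChk (r o : ℕ) : Bool :=
  force r fun r => below (fun i => Nat.beq (run (SuzB.rels.getD r []) (2 * (o + i))) (2 * (o + i) + tw r)) 672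

/-- The range. -/
noncomputable def rangeChk (o : ℕ) : Bool :=
  below (fun i => Nat.blt (field signedTable 128 20 (o + i)) 8064) 4032

theorem range0 : rangeChk 0 = true := by decide +kernel
theorem range1 : rangeChk 4032 = true := by decide +kernel
theorem range2 : rangeChk 8064 = true := by decide +kernel
theorem range3 : rangeChk 12096 = true := by decide +kernel
theorem range4 : rangeChk 16128 = true := by decide +kernel
theorem range5 : rangeChk 20160 = true := by decide +kernel

theorem table_lt (j : ℕ) (hj : j < 24192) : field signedTable 128 20 j < 8064 := by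
  obtain ⟨o, d, hd, rfl, ho⟩ : ∃ o d, d < 4032 ∧ o * 4032 + d = j ∧ o < 6 :=
    ⟨j / 4032, j % 4032, by omega, by omega, by omega⟩
  have key : rangeChk (o * 4032) = true := by
    interval_cases o
    exacts [range0, range1, range2, range3, range4, range5]
  simpa [Nat.blt_eq] using below_get _ key d hd

theorem step_lt {x q : ℕ} (hx : x < 6) (hq : q < 8064) : step x q < 8064 := by
  simp only [step, force_eq]
  have := table_lt (q / 2 * 6 + x) (by omega)
  omega

theorem step_flip (x q : ℕ) : step x (q / 2 * 2 + (q + 1) % 2) = step x q / 2 * 2 + (step x q + 1) % 2 := by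
  simp only [step, force_eq]
  rw [show (q / 2 * 2 + (q + 1) % 2) / 2 = q / 2 by omega]
  omega

theorem run_cons (x : ℕ) (L : List ℕ) (q : ℕ) : run (x :: L) q = run L (step x q) := by
  show force (step x q) (run L) = _
  rw [force_eq]

theorem run_flip : ∀ (L : List ℕ) (q : ℕ),
    run L (q / 2 * 2 + (q + 1) % 2) = run L q / 2 * 2 + (run L q + 1) % 2 := by
  intro L
  induction L with
  | nil => intro q; rfl
  | cons x L ih => intro q; rw [run_cons, run_cons, step_flip, ih]

/-- All the relation checks of one offset. -/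
noncomputable def relsAt (o : ℕ) : Bool := below (fun r => relChk r o) 24

theorem rels0 : relsAt 0 = true := by decide +kernel
theorem rels1 : relsAt 672 = true := by decide +kernel
theorem rels2 : relsAt 1344 = true := by decide +kernel
theorem rels3 : relsAt 2016 = true := by decide +kernel
theorem rels4 : relsAt 2688 = true := by decide +kernel
theorem rels5 : relsAt 3360 = true := by decide +kernel

theorem rel_even {r : ℕ} (hr : r < 24) {p : ℕ} (hp : p < 4032) :
    run (SuzB.rels.getD r []) (2 * p) = 2 * p + tw r := by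
  obtain ⟨o, d, hd, rfl, ho⟩ : ∃ o d, d < 672 ∧ o * 672 + d = p ∧ o < 6 :=
    ⟨p / 672, p % 672, by omega, by omega, by omega⟩
  have key : relsAt (o * 672) = true := by
    interval_cases o
    exacts [rels0, rels1, rels2, rels3, rels4, rels5]
  have h := below_get _ key r hr
  simp only [relChk, force_eq] at h
  exact Nat.eq_of_beq_eq_true (below_get _ h d hd)

theorem tw_le : ∀ r < 24, tw r < 2 := by decide +kernel

theorem rel_run {r : ℕ} (hr : r < 24) {q : ℕ} (hq : q < 8064) :
    run (SuzB.rels.getD r []) q = q / 2 * 2 + (q + tw r) % 2 := by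
  have h := rel_even hr (p := q / 2) (by omega)
  have ht := tw_le r hr
  rcases Nat.mod_two_eq_zero_or_one q with e | e
  · rw [show 2 * (q / 2) = q by omega] at h
    rw [h]; omega
  · have hf := run_flip (SuzB.rels.getD r []) (2 * (q / 2))
    rw [show 2 * (q / 2) / 2 * 2 + (2 * (q / 2) + 1) % 2 = q by omega, h] at hf
    rw [hf]; omega

/-- A letter as a map of the points. -/
noncomputable def stepF (x : Fin 6) (q : Fin 8064) : Fin 8064 := ⟨step x q, step_lt x.2 q.2⟩

theorem square_words : ∀ x < 6, SuzB.rels.getD x [] = [x, x] := by decide +kernel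

theorem stepF_bijective (x : Fin 6) : Function.Bijective (stepF x) := by
  refine Finite.injective_iff_bijective.1 fun a b h => ?_
  have h' : step x a = step x b := congrArg Fin.val h
  have ha := rel_run (r := x) (by omega) a.2
  have hb := rel_run (r := x) (by omega) b.2
  rw [square_words x x.2, run_cons, run_cons] at ha hb
  rw [h', hb] at ha
  have := tw_le x (by omega)
  exact Fin.ext (by omega)

/-- A letter as a permutation. -/
noncomputable def sigma (x : Fin 6) : Equiv.Perm (Fin 8064) := Equiv.ofBijective _ (stepF_bijective x)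

/-- The inverses of the letters, indexed by numbers. -/
noncomputable def lgen (x : ℕ) : Equiv.Perm (Fin 8064) :=
  if h : x < 6 then (sigma ⟨x, h⟩)⁻¹ else 1

theorem run_eq : ∀ L : List ℕ, (∀ x ∈ L, x < 6) → ∀ q : Fin 8064,
    run L q = (((wprod lgen L)⁻¹ q : Fin 8064) : ℕ) := by
  intro L
  induction L with
  | nil => intro _ q; simp [wprod]; rfl
  | cons x L ih =>
    intro hL q
    obtain ⟨hx, hL⟩ := List.forall_mem_cons.1 hL
    have e : wprod lgen (x :: L) = lgen x * wprod lgen L := by simp [wprod]
    rw [e, mul_inv_rev, Equiv.Perm.mul_apply, run_cons, ← ih hL, lgen, dif_pos hx, inv_inv]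
    rfl

/-- The central involution. -/
def zPerm : Equiv.Perm (Fin 8064) :=
  Function.Involutive.toPerm (fun q => ⟨q.val / 2 * 2 + (q.val + 1) % 2, by omega⟩)
    fun q => Fin.ext (by simp only; omega)

theorem zPerm_sq : zPerm * zPerm = 1 :=
  Equiv.ext fun q => Fin.ext (by
    show (q.val / 2 * 2 + (q.val + 1) % 2) / 2 * 2 + (q.val / 2 * 2 + (q.val + 1) % 2 + 1) % 2 = q.val
    omega)

theorem zPerm_inv : zPerm⁻¹ = zPerm := inv_eq_of_mul_eq_one_right zPerm_sq

theorem zPerm_pow_apply (k : ℕ) (hk : k < 2) (q : Fin 8064) :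
    (((zPerm ^ k) q : Fin 8064) : ℕ) = q.val / 2 * 2 + (q.val + k) % 2 := by
  interval_cases k
  · simp; omega
  · rfl

theorem rel_twisted {r : ℕ} (hr : r < 24) : wprod lgen (SuzB.rels.getD r []) = zPerm ^ tw r := by
  have hlt : ∀ r < 24, ∀ x ∈ SuzB.rels.getD r [], x < 6 := by decide +kernel
  have ht := tw_le r hr
  have h : (wprod lgen (SuzB.rels.getD r []))⁻¹ = zPerm ^ tw r :=
    Equiv.ext fun q => Fin.ext (by rw [← run_eq _ (hlt r hr), rel_run hr q.2, zPerm_pow_apply _ ht])
  rw [← inv_inj, h, ← inv_pow, zPerm_inv]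

theorem zPerm_comm (x : ℕ) : zPerm * lgen x = lgen x * zPerm := by
  by_cases hx : x < 6
  · have h : zPerm * sigma ⟨x, hx⟩ = sigma ⟨x, hx⟩ * zPerm :=
      Equiv.ext fun q => Fin.ext (step_flip x q).symm
    rw [lgen, dif_pos hx]
    have hc : Commute zPerm (sigma ⟨x, hx⟩) := h
    exact hc.inv_right.eq
  · simp [lgen, hx]

/-- The double cover. -/
def G : Subgroup (Equiv.Perm (Fin 8064)) := Subgroup.closure (lgen '' Set.Iio 6)

/-- A generator of the double cover. -/
noncomputable def tgen (x : ℕ) : ↥G :=
  if hx : x < 6 then ⟨lgen x, Subgroup.subset_closure ⟨x, hx, rfl⟩⟩ else 1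

theorem coe_tgen (x : ℕ) : (tgen x : Equiv.Perm (Fin 8064)) = lgen x := by
  by_cases hx : x < 6
  · rw [tgen, dif_pos hx]
  · simp [tgen, lgen, hx]

theorem coe_wprod (L : List ℕ) : ((wprod tgen L : ↥G) : Equiv.Perm (Fin 8064)) = wprod lgen L := by
  induction L with
  | nil => simp [wprod]
  | cons x L ih =>
    have e : wprod tgen (x :: L) = tgen x * wprod tgen L := by simp [wprod]
    have e' : wprod lgen (x :: L) = lgen x * wprod lgen L := by simp [wprod]
    rw [e, e', Subgroup.coe_mul, ih, coe_tgen]

/-- The central involution, in the cover. -/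
noncomputable def z : ↥G := tgen 3 * tgen 3

theorem coe_z : (z : Equiv.Perm (Fin 8064)) = zPerm := by
  have h := rel_twisted (r := 3) (by norm_num)
  rw [square_words 3 (by norm_num), show tw 3 = 1 from rfl, pow_one] at h
  rw [← h, ← coe_wprod]
  simp [z, wprod]

theorem z_central : z ∈ Subgroup.center ↥G := by
  refine Subgroup.mem_center_iff.2 fun g => Subtype.ext ?_
  have hle : G ≤ Subgroup.centralizer {zPerm} := by
    rw [G, Subgroup.closure_le]
    rintro _ ⟨x, -, rfl⟩
    exact Subgroup.mem_centralizer_singleton_iff.2 (zPerm_comm x).symm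
  rw [Subgroup.coe_mul, Subgroup.coe_mul, coe_z]
  exact Subgroup.mem_centralizer_singleton_iff.1 (hle g.2)

theorem z_ne_one : z ≠ 1 := fun h => by
  have h2 := congrArg (fun g : ↥G => (((g : Equiv.Perm (Fin 8064)) 0 : Fin 8064) : ℕ)) h
  simp only [coe_z, Subgroup.coe_one, Equiv.Perm.one_apply] at h2
  exact absurd h2 (by decide +kernel)

theorem z_sq : z * z = 1 := Subtype.ext (by rw [Subgroup.coe_mul, coe_z, zPerm_sq]; rfl)

theorem closure_tgen : Subgroup.closure (tgen '' Set.Iio 6) = ⊤ := by
  refine Subgroup.map_injective G.subtype_injective ?_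
  rw [MonoidHom.map_closure, ← MonoidHom.range_eq_map, Subgroup.range_subtype, Set.image_image]
  exact congrArg Subgroup.closure (Set.image_congr' fun x => coe_tgen x)

/-- **The double cover maps onto G2(4)** with kernel of order 2 in its derived group. -/
theorem exists_stem : ∃ τ : ↥G →* SporSuzG2.Pre, Cfsg.IsStemExtension τ ∧ Nat.card τ.ker = 2 := by
  let N : Subgroup ↥G := Subgroup.zpowers z
  have hN : N.Normal := ⟨fun n hn g => by
    rwa [Subgroup.mem_center_iff.1 (Subgroup.zpowers_le.2 z_central hn) g, mul_inv_cancel_right]⟩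
  obtain ⟨φ, hφ⟩ := SporSuzG2.exists_hom (fun x => QuotientGroup.mk' N (tgen x)) fun R hR => by
    obtain ⟨r, hr, hget⟩ := List.mem_iff_getElem.1 hR
    have hr' : r < 24 := hr
    have hD : SuzB.rels.getD r [] = R := by rw [List.getD_eq_getElem _ [] hr, hget]
    have hv : wprod tgen R = z ^ tw r := Subtype.ext (by
      rw [coe_wprod, ← hD, rel_twisted hr', Subgroup.coe_pow, coe_z])
    rw [← map_wprod (QuotientGroup.mk' N) tgen _ R fun x _ => rfl, hv, QuotientGroup.mk'_apply,
      QuotientGroup.eq_one_iff]
    exact pow_mem (Subgroup.mem_zpowers z) _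
  have hsurj : Function.Surjective φ := by
    rw [← MonoidHom.range_eq_top, eq_top_iff, ← Subgroup.map_top_of_surjective _ (QuotientGroup.mk'_surjective N),
      ← closure_tgen, MonoidHom.map_closure, Subgroup.closure_le]
    rintro _ ⟨_, ⟨x, hx, rfl⟩, rfl⟩
    exact ⟨_, hφ x hx⟩
  have hinj : Function.Injective φ := by
    haveI := SporSuzG2.isSimpleGroup
    refine (MonoidHom.ker_eq_bot_iff _).1
      ((MonoidHom.normal_ker φ).eq_bot_or_eq_top.resolve_right fun ht => ?_)
    have h0 : SporSuzG2.gen 0 ∈ φ.ker := ht ▸ Subgroup.mem_top _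
    rw [MonoidHom.mem_ker, hφ 0 (by norm_num), QuotientGroup.mk'_apply, QuotientGroup.eq_one_iff] at h0
    obtain ⟨k, hk⟩ := h0
    obtain ⟨j, rfl | rfl⟩ := Int.even_or_odd' k
    all_goals
      have hz2 : z ^ (2 * j) = 1 := by rw [zpow_mul, zpow_ofNat, pow_two, z_sq, one_zpow]
    · have h := congrArg (fun g : ↥G => ((g : Equiv.Perm (Fin 8064))⁻¹ 0 : Fin 8064).val) (hz2.symm.trans hk)
      simp only [Subgroup.coe_one, inv_one, Equiv.Perm.one_apply, coe_tgen] at h
      rw [lgen, dif_pos (by norm_num), inv_inv] at h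
      exact absurd h (show ¬ (0 = step 0 0) by decide +kernel)
    · have hk' : z = tgen 0 := by
        have hk2 : z ^ (2 * j + 1) = tgen 0 := hk
        rwa [zpow_add, hz2, one_mul, zpow_one] at hk2
      have h := congrArg (fun g : ↥G => ((g : Equiv.Perm (Fin 8064))⁻¹ 0 : Fin 8064).val) hk'
      simp only [coe_tgen, coe_z] at h
      rw [lgen, dif_pos (by norm_num), inv_inv, zPerm_inv] at h
      exact absurd h (show ¬ (1 = step 0 0) by decide +kernel)
  let e : SporSuzG2.Pre ≃* ↥G ⧸ N := MulEquiv.ofBijective φ ⟨hinj, hsurj⟩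
  let τ : ↥G →* SporSuzG2.Pre := e.symm.toMonoidHom.comp (QuotientGroup.mk' N)
  have hker : τ.ker = N := by
    ext x
    simp [τ, MonoidHom.mem_ker]
  refine ⟨τ, ⟨e.symm.surjective.comp (QuotientGroup.mk'_surjective N), ?_, ?_⟩, ?_⟩
  · rw [hker]; exact Subgroup.zpowers_le.2 z_central
  · -- the image of the derived group is everything
    rw [hker]
    refine Subgroup.zpowers_le.2 ?_
    have hmap : (commutator ↥G).map τ = ⊤ := by
      haveI := SporSuzG2.isSimpleGroup
      rw [commutator_def, Subgroup.map_commutator,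
        Subgroup.map_top_of_surjective τ (e.symm.surjective.comp (QuotientGroup.mk'_surjective N)),
        ← commutator_def]
      refine ((Subgroup.commutator_normal ⊤ ⊤).eq_bot_or_eq_top).resolve_left fun h => ?_
      have hcm : SporSuzG2.gen 1 * SporSuzG2.gen 2 = SporSuzG2.gen 2 * SporSuzG2.gen 1 := by
        refine commutatorElement_eq_one_iff_mul_comm.1 (Subgroup.mem_bot.1 ?_)
        rw [← h]
        exact Subgroup.commutator_mem_commutator (Subgroup.mem_top _) (Subgroup.mem_top _)
      have h3 := SporSuzG2.gen_rel [1, 2, 1, 2, 1, 2] (by decide +kernel)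
      have h3' : SporSuzG2.gen 1 = SporSuzG2.gen 2 := by
        simp only [wprod, List.map_cons, List.map_nil, List.prod_cons, List.prod_nil, mul_one] at h3
        rw [← mul_assoc, hcm, mul_assoc, ← mul_assoc (SporSuzG2.gen 1) (SporSuzG2.gen 1), SporSuzG2.gen_mul_self,
          one_mul, ← mul_assoc (SporSuzG2.gen 2), SporSuzG2.gen_mul_self, one_mul] at h3
        exact (inv_eq_of_mul_eq_one_right h3).symm.trans
          (inv_eq_of_mul_eq_one_right (SporSuzG2.gen_mul_self 2))
      have h4 := congrArg (fun g => ((SporSuzG2.rep g) ⟨1, by decide +kernel⟩ : ℕ)) h3'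
      simp only [SporSuzG2.rep_gen 1 (by norm_num), SporSuzG2.rep_gen 2 (by norm_num)] at h4
      rw [SporSuzG2.perm, SporSuzG2.perm, SuzB.valid.toPerm_apply SuzB.sq (by decide +kernel),
        SuzB.valid.toPerm_apply SuzB.sq (by decide +kernel)] at h4
      exact absurd h4 (by decide +kernel)
    obtain ⟨c, hc, hcx⟩ := hmap.symm ▸ Subgroup.mem_top (τ (tgen 3))
    have hmem : c⁻¹ * tgen 3 ∈ τ.ker := by
      rw [MonoidHom.mem_ker, map_mul, map_inv, hcx, inv_mul_cancel]
    rw [hker] at hmem
    obtain ⟨k, hk⟩ := hmem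
    have hk' : tgen 3 = c * z ^ k := by rw [show z ^ k = c⁻¹ * tgen 3 from hk, mul_inv_cancel_left]
    have hzc : Commute c (z ^ k) := (show Commute c z from Subgroup.mem_center_iff.1 z_central c).zpow_right k
    have hsq : z = c * c := by
      rw [z, hk', hzc.symm.mul_mul_mul_comm, ← zpow_add, ← two_mul, zpow_mul, zpow_ofNat, pow_two, z_sq,
        one_zpow, mul_one]
    rw [hsq]
    exact mul_mem hc hc
  · rw [hker, Nat.card_zpowers]
    exact orderOf_eq_prime (by rw [pow_two, z_sq]) z_ne_one

end CfsgLib.InvChar.G2FourCover
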