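import Cfsg.Agent.Lib.InvChar.G2ThreeStem

/-!
Central extensions of the group of type G2 over the field of four elements: apart from the
commutator of the lifts of two elements of one short root subgroup, all of Steinberg's relations
lift, so the kernel of a stem extension is generated by that commutator, which has order dividing 2.
-/

set_option autoImplicit false
set_option linter.unusedSectionVars false
set_option maxRecDepth 100000

namespace CfsgLib.InvChar.G2FourStem

open Cfsg.Lie CfsgLib.Chev CfsgLib.KnownA.CExt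

section General

open CfsgLib.KnownA.CExt.LiftData

variable {D : ChevalleyDatum} {F : Type*} [Field F] {g : Good D} {X : Type*} [Group X]
  {S : StData g F X} {E : Type*} [Group E] {π : E →* X} (Λ : LiftData S π) (hπ : IsCentralSurj π)

include hπ in
/-- The relations above a given positive root, from those pairs alone. -/
theorem inj_Ici_from (hlink : g.Linked) (m₀ : ℕ) (hm₀ : half D ≤ m₀)
    (hpair : ∀ m s, m₀ ≤ m → m < s → s < D.nroots → Λ.PairOK' hπ m s) :
    ∀ m, m₀ ≤ m → Λ.Inj (Set.Ici m) ∧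
      ∀ r s, m ≤ r → r < s → s < D.nroots → Λ.Rel r s := by
  intro m hm0
  have hm : half D ≤ m := hm₀.trans hm0
  induction' hk : D.nroots - m with k ih generalizing m
  · refine ⟨fun z hz _ => ?_, fun r s hr hrs hs => by omega⟩
    have : Λ.gen (Set.Ici m) = ⊥ := le_bot_iff.1 (Λ.gen_le fun r hr hr' t => by
      simp only [Set.mem_Ici] at hr; omega)
    rw [this, Subgroup.mem_bot] at hz
    exact hz
  obtain ⟨hinj, hrel⟩ := ih (m + 1) (by omega) (by omega) (by omega)
  have hm' : m < D.nroots := by omega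
  have hrelm : ∀ j s, D.nroots - s = j → m < s → s < D.nroots → Λ.Rel m s := by
    intro j
    induction j using Nat.strong_induction_on with
    | _ j ihj =>
      intro s hj hms hs
      rcases hpair m s hm0 hms hs with hp | hp | hp | hp
      · exact Λ.rel_step hπ hlink hm hms hs hinj
          (fun k hk hk' => ihj (D.nroots - k) (by omega) k rfl (by omega) hk') (Or.inl hp)
      · exact Λ.rel_step_right hπ hlink hm hms hs hinj
          (fun k hk hk' => hrel s k (by omega) hk hk') hp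
      · exact hp
      · exact Λ.rel_step hπ hlink hm hms hs hinj
          (fun k hk hk' => ihj (D.nroots - k) (by omega) k rfl (by omega) hk') (Or.inr hp)
  refine ⟨fun z hz h1 => ?_, fun r s hr hrs hs => ?_⟩
  · -- split off the first root
    set G1 := Λ.gen (Set.Ici (m + 1))
    have hnorm : ∀ t, ∀ x ∈ G1, Λ.L m t * x * (Λ.L m t)⁻¹ ∈ G1 := by
      intro t x hx
      have hle : G1 ≤ G1.comap (MulAut.conj (Λ.L m t)).toMonoidHom :=
        Λ.gen_le fun k hk hk' v => by
          show Λ.L m t * Λ.L k v * (Λ.L m t)⁻¹ ∈ G1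
          rw [Λ.inv_eq hm', show Λ.L m t = (Λ.L m (-t))⁻¹ by rw [Λ.inv_eq hm', neg_neg]]
          exact Λ.conj_mem_of_rel hm hm' hk hk'
            (hrelm _ k rfl hk hk') (-t) v
      exact hle hx
    let K : Subgroup E :=
      { carrier := {z | ∃ t, ∃ x ∈ G1, z = Λ.L m t * x}
        one_mem' := ⟨0, 1, one_mem _, by rw [Λ.zero hm', one_mul]⟩
        mul_mem' := by
          rintro _ _ ⟨a, x, hx, rfl⟩ ⟨b, y, hy, rfl⟩
          refine ⟨a + b, (Λ.L m (-b) * x * (Λ.L m (-b))⁻¹) * y, mul_mem (hnorm _ x hx) hy, ?_⟩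
          rw [← Λ.add m hm', ← Λ.inv_eq hm']
          group
        inv_mem' := by
          rintro _ ⟨a, x, hx, rfl⟩
          refine ⟨-a, Λ.L m a * x⁻¹ * (Λ.L m a)⁻¹, hnorm _ _ (inv_mem hx), ?_⟩
          rw [← Λ.inv_eq hm']
          group }
    have hle : Λ.gen (Set.Ici m) ≤ K := Λ.gen_le fun r hr hr' t => by
      rcases eq_or_lt_of_le (show m ≤ r from hr) with rfl | hlt
      · exact ⟨t, 1, one_mem _, (mul_one _).symm⟩
      · exact ⟨0, Λ.L r t, Λ.mem_gen (Set.mem_Ici.2 hlt) hr' t, by rw [Λ.zero hm', one_mul]⟩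
    obtain ⟨t, x, hx, rfl⟩ := hle hz
    have h2 := congrArg S.θ h1
    rw [map_mul, map_mul, Λ.map m hm', S.θy m hm', map_one] at h2
    obtain ⟨rfl, -⟩ := g.Ici_unique hm hm' (a := t) (b := 0) (Λ.θ_gen hx)
      (one_mem (rootGen D F (Set.Ici (m + 1)))) (by rw [h2, g.xG_zero, one_mul])
    rw [Λ.zero hm', one_mul] at h1 ⊢
    exact hinj x hx h1
  · rcases eq_or_lt_of_le hr with rfl | hlt
    · exact hrelm _ s rfl hrs hs
    · exact hrel r s hlt hrs hs

end General

/-- The positive pairs treated by hand. -/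
def exG2 (m s : ℕ) : Bool :=
  (Nat.beq m 6 && Nat.beq s 10) || (Nat.beq m 6 && Nat.beq s 11) || (Nat.beq m 10 && Nat.beq s 11)

theorem moves_four : movesOK chevG2 [1, 2, 4, 5] = true := by decide +kernel

theorem pairs_four : pairsOK chevG2 [1, 2, 4, 5] exG2 = true := by decide +kernel

theorem hw_four : hwB chevG2 0 [1] (chevG2.simple 1) (1, 11) = true := by decide +kernel

theorem facts_four :
    nilB chevG2 11 4 = true ∧ nilB chevG2 11 8 = true ∧ nilB chevG2 11 7 = true ∧
    nilB chevG2 11 9 = true ∧ nilB chevG2 6 11 = true ∧ nilB chevG2 10 11 = true ∧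
    nilB chevG2 6 9 = true ∧ validB chevG2 4 8 = true ∧ validB chevG2 7 9 = true ∧
    fterms chevG2 4 8 = [(6, coef1 chevG2 4 8, 1, 1)] ∧
    fterms chevG2 7 9 = [(10, coef1 chevG2 7 9, 1, 1)] ∧
    Int.natAbs (coef1 chevG2 4 8) = 3 ∧ Int.natAbs (coef1 chevG2 7 9) = 3 := by
  decide +kernel

variable {F : Type*} [Field F] {g : Good chevG2} {X : Type*} [Group X]
  (S : StData g F X) {E : Type*} [Group E] {π : E →* X} (hπ : IsCentralSurj π)

include hπ

/-- All central extensions in which the lifts of one short root subgroup commute split. -/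
theorem exists_lift_g2four (hlink : g.Linked) (hperf : commutator X = ⊤)
    (hpow : ∀ d ∈ [1, 2, 4, 5], ∃ c : Fˣ, c ^ d ≠ 1) (h3 : (3 : F) ≠ 0)
    (hshort : ∀ t u, cpair hπ (S.y (chevG2.simple 0) t) (S.y (chevG2.simple 0) u) = 1) :
    ∃ τ : chevG2.SteinbergCover F →* E,
      ∀ r < chevG2.nroots, ∀ t, π (τ (chevG2.scGen F r t)) = S.y r t := by
  obtain ⟨n1, n2, n3, n4, n5, n6, n7, v1, v2, t1, t2, c1, c2⟩ := facts_four
  have hlt : ∀ r, r < 12 → r < chevG2.nroots := fun r h => h
  have hcast : ∀ z : ℤ, z.natAbs = 3 → (z : F) ≠ 0 := by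
    intro z hz
    rcases Int.natAbs_eq z with e | e <;> rw [e, hz] <;> simpa using h3
  have hterm : ∀ a b, a < 12 → b < 12 → chevG2.commTerms a b = fterms chevG2 a b := fun a b ha hb =>
    (g.fterms_eq (hlt a ha) (hlt b hb)).symm
  -- long commuting pairs
  have e611 : ∀ t u, cpair hπ (S.y 6 t) (S.y 11 u) = 1 := by
    intro t u
    obtain ⟨-, -, hba, hneg⟩ := valid_spec g v1
    have h := cpair_eq_one_of_comm hπ S (hlt 11 (by omega)) (hlt 4 (by omega)) (hlt 8 (by omega))
      hba hneg (comm_nil hπ S n1) (comm_nil hπ S n2) (L₁ := []) (L₂ := [])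
      (by rw [hterm 4 8 (by omega) (by omega), t1]; rfl) (hcast _ c1) (Or.inl rfl)
      (fun c hc => by simp at hc) u t
    rw [cpair_swap hπ, h, inv_one]
  have e1011 : ∀ t u, cpair hπ (S.y 10 t) (S.y 11 u) = 1 := by
    intro t u
    obtain ⟨-, -, hba, hneg⟩ := valid_spec g v2
    have h := cpair_eq_one_of_comm hπ S (hlt 11 (by omega)) (hlt 7 (by omega)) (hlt 9 (by omega))
      hba hneg (comm_nil hπ S n3) (comm_nil hπ S n4) (L₁ := []) (L₂ := [])
      (by rw [hterm 7 9 (by omega) (by omega), t2]; rfl) (hcast _ c2) (Or.inl rfl)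
      (fun c hc => by simp at hc) u t
    rw [cpair_swap hπ, h, inv_one]
  have hrr : ∀ r < chevG2.nroots, ∀ t u, cpair hπ (S.y r t) (S.y r u) = 1 := by
    refine cpair_self_all S hπ hlink fun i hi => ?_
    have hi' : i < 2 := hi
    interval_cases i
    · exact hshort
    · exact cpair_self_of_hwB S hπ hlink (g.simple_lt hi) hw_four (Or.inl rfl)
        fun d hd => hpow d (by simp only [List.mem_singleton] at hd; simp [hd])
  obtain ⟨Λ⟩ := exists_liftData S hlink hperf hπ (moves_of_check S hlink moves_four hpow) hrr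
  have hsep : ∀ m s, m < chevG2.nroots → s < chevG2.nroots → half chevG2 ≤ m → m < s →
      exG2 m s = false → PairOK S hπ m s := by
    intro m s hm hs hm' hms hex
    have h' := allR_upto (allR_upto pairs_four hm) hs
    simp only [Bool.or_eq_true, Nat.blt_eq, Nat.ble_eq, hex, Bool.false_eq_true, or_false] at h'
    rcases h' with (h' | h') | h'
    · omega
    · omega
    · exact pairOK_of_sepB S hπ hlink hm hs h' hpow
  have hhd : half chevG2 = 6 := rfl
  have hpair7 : ∀ m s, 7 ≤ m → m < s → s < chevG2.nroots → Λ.PairOK' hπ m s := by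
    intro m s hm hms hs
    by_cases hex : exG2 m s = true
    · simp only [exG2, Bool.or_eq_true, Bool.and_eq_true, Nat.beq_eq] at hex
      rcases hex with (⟨rfl, rfl⟩ | ⟨rfl, rfl⟩) | ⟨rfl, rfl⟩
      · omega
      · omega
      · exact Or.inl (Or.inr ⟨(nil_spec g n6).2.2.2.2, e1011⟩)
    · exact Or.inl (hsep m s (hms.trans hs) hs (by omega) hms (by simpa using hex))
  obtain ⟨hinj7, hrel7⟩ := inj_Ici_from Λ hπ hlink 7 (by omega) hpair7 7 le_rfl
  -- the pair of long roots with a long sum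
  have hrel67 : Λ.Rel 6 7 := by
    have h7 : (7 : ℕ) < chevG2.nroots := hlt 7 (by omega)
    refine Λ.rel_step_right hπ hlink (by omega) (by omega) h7 hinj7
      (fun k hk hk' => hrel7 7 k le_rfl hk hk') ?_
    obtain ⟨A, h0, h1⟩ := exists_cochar (dl := [1, 2, 4, 5]) g h7 (hlt 6 (by omega))
      (show sepB chevG2 [1, 2, 4, 5] 7 6 = true by decide +kernel)
    obtain ⟨c, hc⟩ := hpow _ h1
    obtain ⟨h, hh, hsc⟩ := exists_scale S hlink A c
    refine ⟨h, hh, _, fun e => pow_ne_of_natAbs hc (Units.ext e), hsc 7 h7, fun t => ?_⟩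
    rw [hsc 6 (hlt 6 (by omega)), h0, zpow_zero, Units.val_one, one_mul]
  have hrel610 : Λ.Rel 6 10 := by
    intro t u
    have h6 : (6 : ℕ) < chevG2.nroots := hlt 6 (by omega)
    have h7 : (7 : ℕ) < chevG2.nroots := hlt 7 (by omega)
    have h9 : (9 : ℕ) < chevG2.nroots := hlt 9 (by omega)
    have h10 : (10 : ℕ) < chevG2.nroots := hlt 10 (by omega)
    set K := Λ.gen (Set.Ici 7)
    have hm : ∀ r, 7 ≤ r → r < chevG2.nroots → ∀ v, Λ.L r v ∈ K := fun r hr hr' v =>
      Λ.mem_gen (Set.mem_Ici.2 hr) hr' v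
    have hc7 : ∀ v, (Λ.L 6 t)⁻¹ * Λ.L 7 v * Λ.L 6 t ∈ K := fun v =>
      Λ.conj_mem_of_rel (by omega) h6 (by omega) h7 hrel67 t v
    have hc9 : ∀ v, (Λ.L 6 t)⁻¹ * Λ.L 9 v * Λ.L 6 t = Λ.L 9 v := by
      intro v
      have hs : ∀ t u, cpair hπ (S.y 6 t) (S.y 9 u) = 1 := fun t u =>
        cpair_of_sepB S hπ hlink h6 h9 (comm_nil hπ S n7)
          (show sepB chevG2 [1, 2, 4, 5] 6 9 = true by decide +kernel) hpow t u
      have h1 := lift_comm hπ (hs t v) (Λ.map 6 h6 t) (Λ.map 9 h9 v)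
      rw [mul_assoc, ← h1, inv_mul_cancel_left]
    have hC := hcast _ c2
    have h10e : Λ.L 10 u = Λ.commE 7 9 (-(u / (coef1 chevG2 7 9 : F))) 1 := by
      rw [hrel7 7 9 le_rfl (by omega) h9]
      simp only [LiftData.prodE, ChevalleyDatum.commWord, hterm 7 9 (by omega) (by omega), t2,
        List.map_cons, List.map_nil, List.prod_cons, List.prod_nil, mul_one, pow_one]
      congr 1
      field_simp
    have hconj : (Λ.L 6 t)⁻¹ * Λ.L 10 u * Λ.L 6 t ∈ K := by
      rw [h10e, LiftData.commE]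
      set v := -(u / (coef1 chevG2 7 9 : F))
      rw [show (Λ.L 6 t)⁻¹ * ((Λ.L 9 1)⁻¹ * (Λ.L 7 v)⁻¹ * Λ.L 9 1 * Λ.L 7 v) * Λ.L 6 t =
        ((Λ.L 6 t)⁻¹ * Λ.L 9 1 * Λ.L 6 t)⁻¹ * ((Λ.L 6 t)⁻¹ * Λ.L 7 v * Λ.L 6 t)⁻¹ *
          ((Λ.L 6 t)⁻¹ * Λ.L 9 1 * Λ.L 6 t) * ((Λ.L 6 t)⁻¹ * Λ.L 7 v * Λ.L 6 t) by group, hc9]
      exact mul_mem (mul_mem (mul_mem (inv_mem (hm 9 (by omega) h9 1)) (inv_mem (hc7 v)))
        (hm 9 (by omega) h9 1)) (hc7 v)
    refine LiftData.Inj.eq Λ hinj7 ?_ ?_ (Λ.map_commE h6 h10 (by omega) (by decide) t u)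
    · rw [LiftData.commE, show (Λ.L 10 u)⁻¹ * (Λ.L 6 t)⁻¹ * Λ.L 10 u * Λ.L 6 t =
        (Λ.L 10 u)⁻¹ * ((Λ.L 6 t)⁻¹ * Λ.L 10 u * Λ.L 6 t) by group]
      exact mul_mem (inv_mem (hm 10 (by omega) h10 u)) hconj
    · exact Λ.gen_mono (fun x hx _ => by simp only [Set.mem_Ici] at hx ⊢; omega)
        (Λ.prodE_mem h6 h10 (by omega) (by omega) t u)
  obtain ⟨τ, hτ⟩ := Λ.exists_hom hπ hlink fun m s hm hms hs => by
    by_cases hex : exG2 m s = true
    · simp only [exG2, Bool.or_eq_true, Bool.and_eq_true, Nat.beq_eq] at hex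
      rcases hex with (⟨rfl, rfl⟩ | ⟨rfl, rfl⟩) | ⟨rfl, rfl⟩
      · exact Or.inr (Or.inr (Or.inl hrel610))
      · exact Or.inl (Or.inr ⟨(nil_spec g n5).2.2.2.2, e611⟩)
      · exact Or.inl (Or.inr ⟨(nil_spec g n6).2.2.2.2, e1011⟩)
    · exact Or.inl (hsep m s (hms.trans hs) hs hm hms (by simpa using hex))
  exact ⟨τ, fun r hr t => by rw [hτ r hr t, Λ.map r hr]⟩

end CfsgLib.InvChar.G2FourStem

namespace CfsgLib.InvChar.G2FourStem

open Cfsg.Lie CfsgLib.Chev CfsgLib.KnownA.CExt

/-- The facts about the field of four elements used here. -/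
theorem field_four {F : Type*} [Field F] [Fintype F] (hF : Fintype.card F = 4) :
    (2 : F) = 0 ∧ (3 : F) ≠ 0 ∧ (∀ d ∈ [1, 2, 4, 5], ∃ c : Fˣ, c ^ d ≠ 1) ∧
      ∃ w : F, w ≠ 0 ∧ w ≠ 1 ∧ ∀ t : F, t = 0 ∨ t = 1 ∨ t = w ∨ t = 1 + w := by
  classical
  have h0 : ((Fintype.card F : ℕ) : F) = 0 := FiniteField.cast_card_eq_zero F
  have h2 : (2 : F) = 0 := by
    rw [hF, show (4 : ℕ) = 2 * 2 from rfl, Nat.cast_mul, mul_self_eq_zero] at h0
    exact_mod_cast h0
  have h3 : (3 : F) ≠ 0 := fun h => one_ne_zero (α := F) (by linear_combination h - h2)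
  obtain ⟨ω, hω⟩ := IsCyclic.exists_generator (α := Fˣ)
  have hord : orderOf ω = 3 := by
    rw [orderOf_eq_card_of_forall_mem_zpowers hω, Nat.card_units, Nat.card_eq_fintype_card, hF]
  refine ⟨h2, h3, fun d hd => ⟨ω, fun h => ?_⟩, ?_⟩
  · have hdd := orderOf_dvd_of_pow_eq_one h
    rw [hord] at hdd
    simp only [List.mem_cons, List.not_mem_nil, or_false] at hd
    omega
  have hw1 : (ω : F) ≠ 1 := fun h => by
    rw [Units.val_eq_one] at h
    rw [h, orderOf_one] at hord
    omega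
  have hw0 : (ω : F) ≠ 0 := ω.ne_zero
  refine ⟨(ω : F), hw0, hw1, fun t => ?_⟩
  have hadd : (1 : F) + ω ≠ 0 := fun h => hw1 (by linear_combination h - h2)
  have hs : ({0, 1, (ω : F), 1 + (ω : F)} : Finset F) = Finset.univ := by
    apply Finset.eq_univ_of_card
    rw [hF, Finset.card_insert_of_notMem, Finset.card_insert_of_notMem,
      Finset.card_insert_of_notMem, Finset.card_singleton]
    · simp only [Finset.mem_singleton]
      exact fun h => one_ne_zero (α := F) (by linear_combination -h)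
    · simp only [Finset.mem_insert, Finset.mem_singleton, not_or]
      exact ⟨Ne.symm hw1, fun h => hw0 (by linear_combination -h)⟩
    · simp only [Finset.mem_insert, Finset.mem_singleton, not_or]
      exact ⟨zero_ne_one, Ne.symm hw0, Ne.symm hadd⟩
  have := Finset.mem_univ t
  rw [← hs] at this
  simpa using this

/-- The kernel of a stem extension is cyclic of order dividing 2. -/
theorem bound {F : Type*} [Field F] [Fintype F] (hF : Fintype.card F = 4) (Γ : Type*) [Group Γ]
    [Finite Γ] (σ : Γ →* ↥(chevG2.group F)) (hσ : Cfsg.IsStemExtension σ) :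
    IsCyclic σ.ker ∧ Nat.card σ.ker ∣ 2 := by
  obtain ⟨h2, h3, hpow, w, hw0, hw1, hall⟩ := field_four hF
  obtain ⟨f, -⟩ := G2ThreeStem.exists_coverGroupEquiv (F := F)
  have hmem := G2ThreeStem.hmem
  set g := good_of_mem hmem
  have hlink := linked_of_mem hmem g
  set S := scData g (hasComm_of_mem hmem) F
  have hperf : commutator (chevG2.SteinbergCover F) = ⊤ :=
    stPerfect_of_mem S hmem fun _ => ⟨w, hw0, hw1⟩
  let π : Γ →* chevG2.SteinbergCover F := f.symm.toMonoidHom.comp σ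
  have hker : π.ker = σ.ker := by
    ext x
    simp [π, MonoidHom.mem_ker]
  have hπ : IsCentralSurj π := ⟨f.symm.surjective.comp hσ.1, hker ▸ hσ.2.1⟩
  have hstem : Cfsg.IsStemExtension π := ⟨hπ.surj, hπ.central, hker ▸ hσ.2.2⟩
  have hr : chevG2.simple 0 < chevG2.nroots := g.simple_lt (by decide)
  set r := chevG2.simple 0
  have hcomm : ∀ t u, S.y r t * S.y r u = S.y r u * S.y r t := comm_self S hr
  set κ := cpair hπ (S.y r 1) (S.y r w)
  have hκ : κ ∈ π.ker := cpair_mem_ker hπ (hcomm _ _)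
  have hκ2 : κ ^ 2 = 1 := by
    rw [pow_two, ← cpair_mul_left_of_comm hπ (hcomm _ _) (hcomm _ _), S.add r hr,
      show (1 : F) + 1 = 0 by linear_combination h2, S.y_zero hr, cpair_one_left]
  let N : Subgroup Γ := Subgroup.zpowers κ
  have hNk : N ≤ π.ker := Subgroup.zpowers_le.2 hκ
  have hNn : N.Normal := ⟨fun x hx y => by rwa [hπ.conj_ker (hNk hx) y]⟩
  have hstem' := CfsgLib.KnownA.SchurCert.stem_quotient hstem N hNk
  have hle : π.ker ≤ N := by
    let π' : Γ ⧸ N →* chevG2.SteinbergCover F := QuotientGroup.lift N π hNk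
    have hπ' : IsCentralSurj π' := ⟨hstem'.1, hstem'.2.1⟩
    have h1w : cpair hπ' (S.y r 1) (S.y r w) = 1 := by
      obtain ⟨x, hx⟩ := hπ.surj (S.y r 1)
      obtain ⟨y, hy⟩ := hπ.surj (S.y r w)
      rw [cpair_eq hπ' (x := QuotientGroup.mk' N x) (y := QuotientGroup.mk' N y) hx hy,
        ← map_commutatorElement, QuotientGroup.mk'_apply, QuotientGroup.eq_one_iff,
        ← cpair_eq hπ hx hy]
      exact Subgroup.mem_zpowers κ
    have hself : ∀ a, cpair hπ' (S.y r a) (S.y r a) = 1 := fun a => by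
      obtain ⟨x, hx⟩ := hπ'.surj (S.y r a)
      rw [← hx, cpair_eq_one_iff]
    have hw1' : cpair hπ' (S.y r w) (S.y r 1) = 1 := by rw [cpair_swap hπ', h1w, inv_one]
    have hshort : ∀ t u, cpair hπ' (S.y r t) (S.y r u) = 1 := by
      have haddl : ∀ a b u, cpair hπ' (S.y r (a + b)) (S.y r u) =
          cpair hπ' (S.y r a) (S.y r u) * cpair hπ' (S.y r b) (S.y r u) := fun a b u => by
        rw [← S.add r hr, cpair_mul_left_of_comm hπ' (hcomm _ _) (hcomm _ _)]
      have haddr : ∀ a b t, cpair hπ' (S.y r t) (S.y r (a + b)) =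
          cpair hπ' (S.y r t) (S.y r a) * cpair hπ' (S.y r t) (S.y r b) := fun a b t => by
        rw [← S.add r hr, cpair_mul_right_of_comm hπ' (hcomm _ _)]
      have hone : ∀ u, cpair hπ' (S.y r 1) (S.y r u) = 1 := by
        intro u
        rcases hall u with h | h | h | h <;> rw [h]
        · rw [S.y_zero hr, cpair_one_right]
        · exact hself 1
        · exact h1w
        · rw [haddr, hself, h1w, one_mul]
      have hww : ∀ u, cpair hπ' (S.y r w) (S.y r u) = 1 := by
        intro u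
        rcases hall u with h | h | h | h <;> rw [h]
        · rw [S.y_zero hr, cpair_one_right]
        · exact hw1'
        · exact hself w
        · rw [haddr, hw1', hself, one_mul]
      intro t u
      rcases hall t with h | h | h | h <;> rw [h]
      · rw [S.y_zero hr, cpair_one_left]
      · exact hone u
      · exact hww u
      · rw [haddl, hone, hww, one_mul]
    obtain ⟨τ, hτ⟩ := exists_lift_g2four S hπ' hlink hperf hpow h3 hshort
    have hsec : π'.comp τ = MonoidHom.id _ := by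
      refine MonoidHom.eq_of_eqOn_dense (closure_gen_eq_top (chevG2.steinbergRelsAB F)) ?_
      rintro _ ⟨r', hr', t, rfl⟩
      exact hτ r' hr' t
    have hb := stem_ker_eq_bot hperf hstem' hsec
    intro x hx
    have : QuotientGroup.mk' N x ∈ π'.ker := hx
    rw [hb, Subgroup.mem_bot, QuotientGroup.mk'_apply, QuotientGroup.eq_one_iff] at this
    exact this
  rw [← hker, le_antisymm hle hNk]
  exact ⟨inferInstance, by rw [Nat.card_zpowers]; exact orderOf_dvd_of_pow_eq_one hκ2⟩

end CfsgLib.InvChar.G2FourStem
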