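import Cfsg.Agent.Lib.KnownA.CExt.Mult
import Cfsg.Agent.Lib.Chev.SuppTables
import Cfsg.Agent.Lib.Chev.StructG2
import Cfsg.Agent.Lib.KnownA.SchurCert

/-!
Central extensions of the group of type G2 over the field of three elements: apart from the
commutator of the lifts of an orthogonal short and long root element, all of Steinberg's relations
lift, so the kernel of a stem extension is generated by that commutator, which has order dividing 3.
-/

set_option autoImplicit false
set_option linter.unusedSectionVars false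
set_option maxRecDepth 100000

namespace CfsgLib.InvChar.G2ThreeStem

open Cfsg.Lie CfsgLib.Chev CfsgLib.KnownA.CExt

/-- The positive pairs not separated by the torus. -/
def exG2 (m s : ℕ) : Bool :=
  (Nat.beq m 6 && Nat.beq s 9) || (Nat.beq m 7 && Nat.beq s 11) || (Nat.beq m 8 && Nat.beq s 10)

theorem moves_three : movesOK chevG2 [1, 3] = true := by decide +kernel

theorem pairs_three : pairsOK chevG2 [1, 3] exG2 = true := by decide +kernel

theorem nil_three : nilB chevG2 7 11 = true ∧ nilB chevG2 8 10 = true ∧ nilB chevG2 6 9 = true := by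
  decide +kernel

theorem refl_three : refl sdataG2 1 7 = 8 ∧ refl sdataG2 1 11 = 10 ∧ refl sdataG2 0 6 = 10 ∧
    refl sdataG2 0 9 = 8 := by
  decide +kernel

variable {F : Type*} [Field F] {g : Good chevG2} {X : Type*} [Group X]
  (S : StData g F X) {E : Type*} [Group E] {π : E →* X} (hπ : IsCentralSurj π)

include hπ

/-- All central extensions in which the exceptional pair of lifts commutes split. -/
theorem exists_lift_g2three (hlink : g.Linked) (hperf : commutator X = ⊤) (h2 : (2 : F) ≠ 0)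
    (hprime : ∀ t : F, ∃ n : ℕ, (n : F) = t)
    (h7 : cpair hπ (S.y 7 1) (S.y 11 1) = 1) :
    ∃ τ : chevG2.SteinbergCover F →* E,
      ∀ r < chevG2.nroots, ∀ t, π (τ (chevG2.scGen F r t)) = S.y r t := by
  have p3 := pow_neg_one (F := F) h2
  have hlt : ∀ r, r < 12 → r < chevG2.nroots := fun r h => h
  have hcomm : ∀ t u, S.y 7 t * S.y 11 u = S.y 11 u * S.y 7 t := comm_nil hπ S nil_three.1
  -- all parameters
  have e7 : ∀ t u, cpair hπ (S.y 7 t) (S.y 11 u) = 1 := by
    have hl : ∀ n : ℕ, cpair hπ (S.y 7 (n : F)) (S.y 11 1) = 1 := by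
      intro n
      induction n with
      | zero => rw [Nat.cast_zero, S.y_zero (hlt 7 (by omega)), cpair_one_left]
      | succ n ih =>
        rw [Nat.cast_succ, ← S.add 7 (hlt 7 (by omega)),
          cpair_mul_left_of_comm hπ (hcomm _ _) (hcomm _ _), ih, h7, one_mul]
    intro t u
    obtain ⟨n, rfl⟩ := hprime t
    obtain ⟨k, rfl⟩ := hprime u
    induction k with
    | zero => rw [Nat.cast_zero, S.y_zero (hlt 11 (by omega)), cpair_one_right]
    | succ k ih =>
      rw [Nat.cast_succ, ← S.add 11 (hlt 11 (by omega)),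
        cpair_mul_right_of_comm hπ (hcomm _ _), ih, hl, one_mul]
  -- the two images under the fundamental reflections
  have hmove : ∀ (i : Fin chevG2.rank) (a b a' b' : ℕ), a < 12 → b < 12 →
      refl sdataG2 i a = a' → refl sdataG2 i b = b' →
      (∀ t u, cpair hπ (S.y a t) (S.y b u) = 1) → ∀ t u, cpair hπ (S.y a' t) (S.y b' u) = 1 := by
    intro i a b a' b' ha hb ea eb h t u
    have hta : (g.rperm i (⟨a, hlt a ha⟩ : Fin chevG2.nroots) : ℕ) = a' :=
      (g.rperm_tab checksG2 structChecksG2 i ⟨a, hlt a ha⟩).trans ea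
    have htb : (g.rperm i (⟨b, hlt b hb⟩ : Fin chevG2.nroots) : ℕ) = b' :=
      (g.rperm_tab checksG2 structChecksG2 i ⟨b, hlt b hb⟩).trans eb
    obtain ⟨e, he⟩ := hπ.surj (S.nI i)
    have hs : ∀ r < chevG2.nroots, (g.eta i r : F) * (g.eta i r : F) = 1 := fun r hr => by
      rcases g.eta_sign i.2 hr with h' | h' <;> rw [h'] <;> simp
    have h1 := conj_cpair hπ e (S.y a ((g.eta i a : F) * t)) (S.y b ((g.eta i b : F) * u))
    rw [h, mul_one, mul_inv_cancel, he,
      show S.y a ((g.eta i a : F) * t) = S.y ((⟨a, hlt a ha⟩ : Fin chevG2.nroots) : ℕ) ((g.eta i a : F) * t)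
        from rfl,
      show S.y b ((g.eta i b : F) * u) = S.y ((⟨b, hlt b hb⟩ : Fin chevG2.nroots) : ℕ) ((g.eta i b : F) * u)
        from rfl,
      S.nI_conj_y hlink i, S.nI_conj_y hlink i, hta, htb, ← mul_assoc, ← mul_assoc,
      hs a (hlt a ha), hs b (hlt b hb), one_mul, one_mul] at h1
    exact h1.symm
  have e8 : ∀ t u, cpair hπ (S.y 8 t) (S.y 10 u) = 1 :=
    hmove ⟨1, by decide⟩ 7 11 8 10 (by omega) (by omega) refl_three.1 refl_three.2.1 e7
  have e6 : ∀ t u, cpair hπ (S.y 6 t) (S.y 9 u) = 1 := by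
    intro t u
    obtain ⟨e, he⟩ := hπ.surj (S.nI ⟨0, by decide⟩)
    have hta : (g.rperm ⟨0, by decide⟩ (⟨6, hlt 6 (by omega)⟩ : Fin chevG2.nroots) : ℕ) = 10 :=
      (g.rperm_tab checksG2 structChecksG2 _ ⟨6, hlt 6 (by omega)⟩).trans refl_three.2.2.1
    have htb : (g.rperm ⟨0, by decide⟩ (⟨9, hlt 9 (by omega)⟩ : Fin chevG2.nroots) : ℕ) = 8 :=
      (g.rperm_tab checksG2 structChecksG2 _ ⟨9, hlt 9 (by omega)⟩).trans refl_three.2.2.2
    have h1 := conj_cpair hπ e (S.y ((⟨6, hlt 6 (by omega)⟩ : Fin chevG2.nroots) : ℕ) t)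
      (S.y ((⟨9, hlt 9 (by omega)⟩ : Fin chevG2.nroots) : ℕ) u)
    rw [he, S.nI_conj_y hlink, S.nI_conj_y hlink, hta, htb, cpair_swap hπ (S.y 8 _), e8, inv_one,
      mul_inv_eq_one, mul_eq_left] at h1
    exact h1
  refine exists_lift_of S hlink hperf hπ (moves_of_check S hlink moves_three p3)
    (fun r hr t u => cpair_self_of_prime S hπ hr hprime t u)
    (pairs_of_check S hπ hlink pairs_three p3 fun m s _ _ _ _ h => ?_)
  simp only [exG2, Bool.or_eq_true, Bool.and_eq_true, Nat.beq_eq] at h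
  rcases h with (⟨rfl, rfl⟩ | ⟨rfl, rfl⟩) | ⟨rfl, rfl⟩
  · exact Or.inr ⟨(nil_spec g nil_three.2.2).2.2.2.2, e6⟩
  · exact Or.inr ⟨(nil_spec g nil_three.1).2.2.2.2, e7⟩
  · exact Or.inr ⟨(nil_spec g nil_three.2.1).2.2.2.2, e8⟩

end CfsgLib.InvChar.G2ThreeStem

namespace CfsgLib.InvChar.G2ThreeStem

open Cfsg.Lie CfsgLib.Chev CfsgLib.KnownA.CExt

theorem hmem : chevG2 ∈ [chevG2, chevB2, chevD4, chevF4, chevE6, chevE7, chevE8] := by simp

theorem prime_of_card {F : Type*} [Field F] [Fintype F] (hF : Fintype.card F = 3) :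
    (3 : F) = 0 ∧ (2 : F) ≠ 0 ∧ ∀ t : F, ∃ n : ℕ, (n : F) = t := by
  let e : ZMod 3 ≃+* F := ZMod.ringEquivOfPrime F Nat.prime_three hF
  have h : ∀ n : ℕ, e (n : ZMod 3) = (n : F) := fun n => map_natCast e n
  refine ⟨?_, fun h2 => ?_, fun t => ⟨(e.symm t).val, ?_⟩⟩
  · have := h 3
    rw [show ((3 : ℕ) : ZMod 3) = 0 by decide, map_zero] at this
    exact_mod_cast this.symm
  · have := h 2
    rw [show ((2 : ℕ) : F) = (2 : F) by norm_num, h2, ← map_zero e] at this
    exact absurd (e.injective this) (by decide)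
  · rw [← h, ZMod.natCast_zmod_val, RingEquiv.apply_symm_apply]

/-- The presentation by (R1), (R2). -/
theorem exists_coverGroupEquiv {F : Type*} [Field F] [Finite F] :
    ∃ f : chevG2.SteinbergCover F ≃* ↥(chevG2.group F),
      ∀ r < chevG2.nroots, ∀ t, (f (chevG2.scGen F r t) : GL chevG2.Idx F) = (good_of_mem hmem).xG r t := by
  set g := good_of_mem hmem
  have hc := hasComm_of_mem hmem
  obtain ⟨e, he⟩ := exists_coverEquiv (F := F) g hc (linked_of_mem hmem g)
  set T := stData g hc F with hT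
  have hbij : Function.Bijective T.θG := by
    refine ⟨(MonoidHom.ker_eq_bot_iff _).1 ?_, T.θG_surjective⟩
    rw [StData.θG_ker]
    exact stData_ker_eq_bot (by simp) g hc
  refine ⟨e.trans (MulEquiv.ofBijective T.θG hbij), fun r hr t => ?_⟩
  show T.θ (e (chevG2.scGen F r t)) = g.xG r t
  rw [he]
  exact T.θy r hr t

universe u

/-- The kernel of a stem extension is cyclic of order dividing 3. -/
theorem bound {F : Type*} [Field F] [Fintype F] (hF : Fintype.card F = 3) (Γ : Type*) [Group Γ]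
    [Finite Γ] (σ : Γ →* ↥(chevG2.group F)) (hσ : Cfsg.IsStemExtension σ) :
    IsCyclic σ.ker ∧ Nat.card σ.ker ∣ 3 := by
  obtain ⟨hthree, h2, hprime⟩ := prime_of_card hF
  obtain ⟨f, -⟩ := exists_coverGroupEquiv (F := F)
  set g := good_of_mem hmem
  have hlink := linked_of_mem hmem g
  set S := scData g (hasComm_of_mem hmem) F
  have hperf : commutator (chevG2.SteinbergCover F) = ⊤ :=
    stPerfect_of_mem S hmem fun _ => ⟨-1, by simp, fun h => h2 (by linear_combination -h)⟩
  let π : Γ →* chevG2.SteinbergCover F := f.symm.toMonoidHom.comp σ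
  have hker : π.ker = σ.ker := by
    ext x
    simp [π, MonoidHom.mem_ker]
  have hπ : IsCentralSurj π :=
    ⟨f.symm.surjective.comp hσ.1, hker ▸ hσ.2.1⟩
  have hstem : Cfsg.IsStemExtension π :=
    ⟨hπ.surj, hπ.central, hker ▸ hσ.2.2⟩
  have hlt : ∀ r, r < 12 → r < chevG2.nroots := fun r h => h
  have hcomm : ∀ t u, S.y 7 t * S.y 11 u = S.y 11 u * S.y 7 t := comm_nil hπ S nil_three.1
  set κ := cpair hπ (S.y 7 1) (S.y 11 1)
  have hκ : κ ∈ π.ker := cpair_mem_ker hπ (hcomm _ _)
  have hκ3 : κ ^ 3 = 1 := by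
    have h := cpair_mul_left_of_comm hπ (a := S.y 7 1 * S.y 7 1) (a' := S.y 7 1) (b := S.y 11 1)
      (by rw [S.add 7 (hlt 7 (by omega))]; exact hcomm _ _) (hcomm _ _)
    rw [cpair_mul_left_of_comm hπ (hcomm _ _) (hcomm _ _), S.add 7 (hlt 7 (by omega)),
      S.add 7 (hlt 7 (by omega)), show (1 : F) + 1 + 1 = 0 by rw [← hthree]; norm_num,
      S.y_zero (hlt 7 (by omega)), cpair_one_left] at h
    rw [pow_succ, pow_two]
    exact h.symm
  let N : Subgroup Γ := Subgroup.zpowers κ
  have hNk : N ≤ π.ker := Subgroup.zpowers_le.2 hκ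
  have hNn : N.Normal := ⟨fun x hx y => by
    rwa [hπ.conj_ker (hNk hx) y]⟩
  have hstem' := CfsgLib.KnownA.SchurCert.stem_quotient hstem N hNk
  have hle : π.ker ≤ N := by
    let π' : Γ ⧸ N →* chevG2.SteinbergCover F := QuotientGroup.lift N π hNk
    have hπ' : IsCentralSurj π' := ⟨hstem'.1, hstem'.2.1⟩
    have h7 : cpair hπ' (S.y 7 1) (S.y 11 1) = 1 := by
      obtain ⟨x, hx⟩ := hπ.surj (S.y 7 1)
      obtain ⟨y, hy⟩ := hπ.surj (S.y 11 1)
      rw [cpair_eq hπ' (x := QuotientGroup.mk' N x) (y := QuotientGroup.mk' N y) hx hy,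
        ← map_commutatorElement, QuotientGroup.mk'_apply, QuotientGroup.eq_one_iff,
        ← cpair_eq hπ hx hy]
      exact Subgroup.mem_zpowers κ
    obtain ⟨τ, hτ⟩ := exists_lift_g2three S hπ' hlink hperf h2 hprime h7
    have hsec : π'.comp τ = MonoidHom.id _ := by
      refine MonoidHom.eq_of_eqOn_dense (closure_gen_eq_top (chevG2.steinbergRelsAB F)) ?_
      rintro _ ⟨r, hr, t, rfl⟩
      exact hτ r hr t
    have hb := stem_ker_eq_bot hperf hstem' hsec
    intro x hx
    have : QuotientGroup.mk' N x ∈ π'.ker := hx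
    rw [hb, Subgroup.mem_bot, QuotientGroup.mk'_apply, QuotientGroup.eq_one_iff] at this
    exact this
  rw [← hker, le_antisymm hle hNk]
  exact ⟨inferInstance, by rw [Nat.card_zpowers]; exact orderOf_dvd_of_pow_eq_one hκ3⟩

end CfsgLib.InvChar.G2ThreeStem
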