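import Cfsg.Prelude.Def_Classical
import Cfsg.Prelude.Def_Sz
import Cfsg.Agent.Lib.Classical.PSLTwoPerm
import Cfsg.Agent.Lib.KnownB.PSL2Elem
import Cfsg.Agent.Lib.Suzuki.Action
import Cfsg.Agent.Lib.Suzuki.Model
import Cfsg.Agent.Lib.Classical.SUCenter

/-!
# Simple rank one sections of `GL(5, 2)`
-/

set_option autoImplicit false
set_option maxRecDepth 4000

namespace CfsgLib.InvChar.GLFive

open Subgroup

theorem card_gl_five : Nat.card (GL (Fin 5) (ZMod 2)) = 9999360 := by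
  haveI : Fact (Nat.Prime 2) := ⟨Nat.prime_two⟩
  rw [Matrix.card_GL_field]
  simp [Fin.prod_univ_succ, ZMod.card]

/-- Two commuting elements of order three. -/
def mA : GL (Fin 5) (ZMod 2) :=
  ⟨!![0,1,0,0,0; 1,1,0,0,0; 0,0,1,0,0; 0,0,0,1,0; 0,0,0,0,1],
   !![1,1,0,0,0; 1,0,0,0,0; 0,0,1,0,0; 0,0,0,1,0; 0,0,0,0,1], by decide +kernel, by decide +kernel⟩

def mB : GL (Fin 5) (ZMod 2) :=
  ⟨!![1,0,0,0,0; 0,1,0,0,0; 0,0,0,1,0; 0,0,1,1,0; 0,0,0,0,1],
   !![1,0,0,0,0; 0,1,0,0,0; 0,0,1,1,0; 0,0,1,0,0; 0,0,0,0,1], by decide +kernel, by decide +kernel⟩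

def nine : Multiplicative (ZMod 3 × ZMod 3) →* GL (Fin 5) (ZMod 2) :=
  MonoidHom.mk' (fun p => mA ^ (Multiplicative.toAdd p).1.val * mB ^ (Multiplicative.toAdd p).2.val)
    (by decide +kernel)

theorem nine_injective : Function.Injective nine :=
  (injective_iff_map_eq_one nine).2 (by decide +kernel)

theorem nine_exp : ∀ p : Multiplicative (ZMod 3 × ZMod 3), p ^ 3 = 1 := by decide +kernel

theorem orderOf_ne_nine (x : GL (Fin 5) (ZMod 2)) : orderOf x ≠ 9 := by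
  intro hx
  haveI : Fact (Nat.Prime 3) := ⟨by norm_num⟩
  obtain ⟨P, hP⟩ := (IsPGroup.of_card (p := 3) (n := 2) (by
    rw [← Nat.card_congr (MonoidHom.ofInjective nine_injective).toEquiv, Nat.card_eq_fintype_card]; rfl) :
    IsPGroup 3 nine.range).exists_le_sylow
  have hfac : (9999360 : ℕ).factorization 3 = 2 := by
    rw [Nat.factorization_def _ (by norm_num : Nat.Prime 3), show (9999360 : ℕ) = 3 ^ 2 * 1111040 by norm_num,
      padicValNat.mul (by norm_num) (by norm_num), padicValNat.prime_pow,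
      padicValNat.eq_zero_of_not_dvd (by norm_num)]
  have hcard : Nat.card (P : Subgroup (GL (Fin 5) (ZMod 2))) = 9 := by
    rw [P.card_eq_multiplicity, card_gl_five, hfac]
    norm_num
  have heq : nine.range = P := Subgroup.eq_of_le_of_card_ge hP (by
    rw [hcard, ← Nat.card_congr (MonoidHom.ofInjective nine_injective).toEquiv, Nat.card_eq_fintype_card]
    rfl)
  obtain ⟨Q, hQ⟩ := (IsPGroup.of_card (p := 3) (n := 2) (by rw [Nat.card_zpowers, hx]; norm_num) :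
    IsPGroup 3 (zpowers x)).exists_le_sylow
  obtain ⟨g, hg⟩ := MulAction.exists_smul_eq (GL (Fin 5) (ZMod 2)) Q P
  have hm : g * x * g⁻¹ ∈ (P : Subgroup (GL (Fin 5) (ZMod 2))) := by
    rw [← hg]
    exact Subgroup.smul_mem_pointwise_smul x (MulAut.conj g) _ (hQ (mem_zpowers x))
  rw [← heq] at hm
  obtain ⟨p, hp⟩ := hm
  have h3 : (g * x * g⁻¹) ^ 3 = 1 := by rw [← hp, ← map_pow, nine_exp, map_one]
  rw [conj_pow, conj_eq_one_iff] at h3
  have := Nat.le_of_dvd (by norm_num) (orderOf_dvd_of_pow_eq_one h3)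
  omega

theorem section_card {H : Subgroup (GL (Fin 5) (ZMod 2))} {K : Subgroup ↥H} :
    Nat.card (↥H ⧸ K) ∣ 9999360 :=
  (Subgroup.card_quotient_dvd_card K).trans (card_gl_five ▸ H.card_subgroup_dvd_card)

theorem charP_two {F : Type} [Field F] [Fintype F] {n : ℕ} (h : Fintype.card F = 2 ^ n) : CharP F 2 := by
  haveI : Fact (Nat.Prime 2) := ⟨Nat.prime_two⟩
  obtain ⟨p, hp⟩ := CharP.exists F
  obtain ⟨m, hpp, hm⟩ := FiniteField.card F p
  have : p = 2 := (Nat.prime_dvd_prime_iff_eq hpp Nat.prime_two).1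
    (hpp.dvd_of_dvd_pow (show p ∣ 2 ^ n by rw [← h, hm]; exact dvd_pow_self p (PNat.ne_zero m)))
  exact this ▸ hp

theorem psl_case {H : Subgroup (GL (Fin 5) (ZMod 2))} {K : Subgroup ↥H} [K.Normal]
    {n : ℕ} {F : Type} [Field F] [Fintype F] (hn : 2 ≤ n) (hF : Fintype.card F = 2 ^ n)
    (e : ↥H ⧸ K ≃* Matrix.ProjectiveSpecialLinearGroup (Fin 2) F) : n = 2 := by
  classical
  have hg : Nat.gcd 2 (Fintype.card F - 1) = 1 := by
    rw [hF]
    refine (Nat.prime_two.coprime_iff_not_dvd).2 ?_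
    obtain ⟨m, rfl⟩ : ∃ m, n = m + 1 := ⟨n - 1, by omega⟩
    have : 1 ≤ 2 ^ m := Nat.one_le_pow _ _ (by norm_num)
    rw [pow_succ]; omega
  have hc := CfsgLib.Classical.card_psl_two_mul (F := F)
  rw [hg, one_mul, ← Nat.card_congr e.toEquiv, hF] at hc
  have hd : 2 ^ n * ((2 ^ n) ^ 2 - 1) ∣ 9999360 := hc ▸ section_card
  have h10 : n ≤ 10 := by
    have h2 : 2 ^ n ∣ 2 ^ 10 * 9765 := by norm_num; exact (Dvd.intro _ rfl).trans hd
    have h3 : 2 ^ n ∣ 2 ^ 10 := ((Nat.prime_two.coprime_iff_not_dvd).2 (by norm_num)).pow_left n |>.dvd_of_dvd_mul_right h2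
    exact (Nat.pow_dvd_pow_iff_le_right (by norm_num)).1 h3
  interval_cases n <;> first | rfl | (norm_num at hd; done) | exfalso
  haveI : Fact (Nat.Prime 2) := ⟨Nat.prime_two⟩
  haveI : CharP F 2 := charP_two (by rw [hF])
  obtain ⟨g, hg9⟩ := CfsgLib.KnownB.SL2.exists_orderOf_psl (F := F) 2 (m := 9) (Or.inr (Or.inr (by rw [hg, hF]; norm_num)))
  obtain ⟨h, hh⟩ := QuotientGroup.mk'_surjective K (e.symm g)
  have h9 : 9 ∣ orderOf h := by
    rw [← hg9, ← MulEquiv.orderOf_eq e.symm g, ← hh]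
    exact orderOf_map_dvd _ h
  refine orderOf_ne_nine ((h : GL (Fin 5) (ZMod 2)) ^ (orderOf h / 9)) ?_
  rw [← Subgroup.coe_pow, Subgroup.orderOf_coe, orderOf_pow_of_dvd ?_ (Nat.div_dvd_of_dvd h9),
    Nat.div_div_self h9 (orderOf_pos h).ne']
  exact (Nat.div_pos (Nat.le_of_dvd (orderOf_pos h) h9) (by norm_num)).ne'

theorem sz_case {H : Subgroup (GL (Fin 5) (ZMod 2))} {K : Subgroup ↥H} [K.Normal]
    {m : ℕ} {F : Type} [Field F] [Fintype F] (hm : 1 ≤ m) (hF : Fintype.card F = 2 ^ (2 * m + 1))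
    (e : ↥H ⧸ K ≃* ↥(Cfsg.Lie.Sz F (2 ^ (m + 1)))) : False := by
  classical
  haveI : CharP F 2 := charP_two hF
  have hc := CfsgLib.Suzuki.card_sz (F := F) hm hF
  rw [Nat.card_congr (CfsgLib.Suzuki.szEquiv hm hF).toEquiv, ← Nat.card_congr e.toEquiv, hF] at hc
  have hd := hc ▸ section_card (H := H) (K := K)
  have h2 : m ≤ 2 := by
    have h2 : (2 ^ (2 * m + 1)) ^ 2 ∣ 2 ^ 10 * 9765 := by
      norm_num
      exact ((Dvd.intro _ rfl).trans (Dvd.intro _ rfl)).trans hd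
    rw [← pow_mul] at h2
    have h3 := ((Nat.prime_two.coprime_iff_not_dvd).2 (by norm_num)).pow_left _ |>.dvd_of_dvd_mul_right h2
    have := (Nat.pow_dvd_pow_iff_le_right (by norm_num)).1 h3
    omega
  interval_cases m <;> norm_num at hd

theorem psu_case {H : Subgroup (GL (Fin 5) (ZMod 2))} {K : Subgroup ↥H} [K.Normal]
    {n : ℕ} {F : Type} [Field F] [Fintype F] (hn : 2 ≤ n) (hF : Fintype.card F = 4 ^ n)
    (e : ↥H ⧸ K ≃* Cfsg.PSU 3 F (2 ^ n)) : False := by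
  classical
  have hq : Fintype.card F = (2 ^ n) ^ 2 := by rw [hF, ← pow_mul, mul_comm, pow_mul]; norm_num
  have hc := CfsgLib.Classical.card_psu_mul (F := F) hq (n := 3) (by norm_num)
  rw [CfsgLib.Classical.card_gu hq, ← Nat.card_congr e.toEquiv] at hc
  obtain ⟨c, hd⟩ := section_card (H := H) (K := K)
  set S := Nat.card (↥H ⧸ K) with hS
  have hP : ∏ i ∈ Finset.range 3, (if Even i then (2 ^ n) ^ (i + 1) + 1 else (2 ^ n) ^ (i + 1) - 1) =
      (2 ^ n + 1) * ((2 ^ n) ^ 2 - 1) * ((2 ^ n) ^ 3 + 1) := by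
    simp [Finset.prod_range_succ, Nat.even_iff]
  rw [hP, show 3 * (3 - 1) / 2 = 3 from rfl] at hc
  have h3 : n ≤ 3 := by
    have hpow : (2 ^ n) ^ 3 ∣ Nat.gcd 3 (2 ^ n + 1) * (2 ^ n + 1) * S := ⟨_, by rw [mul_assoc]; exact hc⟩
    have hco : ((2 ^ n) ^ 3).Coprime (Nat.gcd 3 (2 ^ n + 1) * (2 ^ n + 1)) := by
      have hodd : Odd (2 ^ n + 1) := (Nat.even_pow.2 ⟨even_two, by omega⟩).add_one
      refine Nat.Coprime.pow_left _ (Nat.Coprime.pow_left _ (Nat.coprime_two_left.2 (Odd.mul ?_ hodd)))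
      exact hodd.of_dvd_nat (Nat.gcd_dvd_right _ _)
    have h2 : (2 ^ n) ^ 3 ∣ 2 ^ 10 * 9765 := by
      norm_num
      exact (hco.dvd_of_dvd_mul_left hpow).trans ⟨c, hd⟩
    rw [← pow_mul] at h2
    have h3 := ((Nat.prime_two.coprime_iff_not_dvd).2 (by norm_num)).pow_left _ |>.dvd_of_dvd_mul_right h2
    have := (Nat.pow_dvd_pow_iff_le_right (by norm_num)).1 h3
    omega
  interval_cases n
  · have : S = 62400 := by norm_num at hc; omega
    rw [this] at hd; omega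
  · have : S = 5515776 := by norm_num at hc; omega
    rw [this] at hd; omega

end CfsgLib.InvChar.GLFive
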