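import Mathlib

/-!
# Recognition of `GL(2, 3)` among groups of order 48
-/

set_option autoImplicit false
set_option maxRecDepth 4000

namespace CfsgLib.InvChar.OctaRecog

open Subgroup

abbrev Q8 := QuaternionGroup 2

/-- The map with prescribed values on the standard generators. -/
def pf {G : Type*} [Group G] (u v : G) : Q8 → G
  | .a i => u ^ i.val
  | .xa i => v * u ^ i.val

/-- An admissible pair of generators. -/
abbrev Valid (u v : Q8) : Prop := u * u ≠ 1 ∧ v * v ≠ 1 ∧ v ≠ u ∧ v ≠ u⁻¹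

theorem pf_mul : ∀ u v : Q8, Valid u v → ∀ x y, pf u v (x * y) = pf u v x * pf u v y := by
  decide +kernel

theorem pf_inj : ∀ u v : Q8, Valid u v → ∀ x, pf u v x = 1 → x = 1 := by decide +kernel

/-- The automorphism attached to an admissible pair. -/
noncomputable def mk (u v : Q8) (h : Valid u v) : MulAut Q8 :=
  MulEquiv.ofBijective (MonoidHom.mk' (pf u v) (pf_mul u v h))
    (Finite.injective_iff_bijective.1 ((injective_iff_map_eq_one _).2 (pf_inj u v h)))

theorem mk_apply (u v : Q8) (h : Valid u v) (x : Q8) : mk u v h x = pf u v x := rfl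

abbrev A : Q8 := .a 1
abbrev B : Q8 := .xa 0

theorem eq_pf {K : Type*} [Group K] (f : Q8 →* K) : ∀ x, f x = pf (f A) (f B) x := by
  have hid : ∀ x : Q8, x = pf A B x := by decide +kernel
  intro x
  have e := congrArg f (hid x)
  cases x <;> simp only [pf, map_mul, map_pow] at e ⊢ <;> exact e

theorem valid_of_aut (σ : MulAut Q8) : Valid (σ A) (σ B) := by
  refine ⟨?_, ?_, fun h => ?_, fun h => ?_⟩
  · rw [← map_mul, Ne, map_eq_one_iff σ σ.injective]; decide +kernel
  · rw [← map_mul, Ne, map_eq_one_iff σ σ.injective]; decide +kernel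
  · exact absurd (σ.injective h) (by decide +kernel)
  · rw [← map_inv] at h; exact absurd (σ.injective h) (by decide +kernel)

theorem card_aut_le : Nat.card (MulAut Q8) ≤ 24 := by
  refine (Nat.card_le_card_of_injective
    (fun σ => (⟨(σ A, σ B), valid_of_aut σ⟩ : {p : Q8 × Q8 // Valid p.1 p.2})) fun σ τ h => ?_).trans_eq ?_
  · have h' := congrArg Subtype.val h
    simp only [Prod.mk.injEq] at h'
    refine MulEquiv.ext fun x => ?_
    have e1 := eq_pf σ.toMonoidHom x
    have e2 := eq_pf τ.toMonoidHom x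
    simp only [MulEquiv.coe_toMonoidHom] at e1 e2
    rw [e1, e2, h'.1, h'.2]
  · rw [Nat.card_eq_fintype_card]
    decide +kernel

theorem card_aut : Nat.card (MulAut Q8) = 24 := by
  haveI : Finite (MulAut Q8) := Finite.of_injective (fun σ => (σ : Q8 → Q8)) DFunLike.coe_injective
  refine le_antisymm card_aut_le ?_
  have h : Nat.card {p : Q8 × Q8 // Valid p.1 p.2} = 24 := by
    rw [Nat.card_eq_fintype_card]
    decide +kernel
  rw [← h]
  refine Nat.card_le_card_of_injective (fun p => mk p.1.1 p.1.2 p.2) fun a b hab => ?_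
  have h1 := MulEquiv.congr_fun hab A
  have h2 := MulEquiv.congr_fun hab B
  have e1 : ∀ u v : Q8, pf u v A = u := by decide +kernel
  have e2 : ∀ u v : Q8, pf u v B = v := by decide +kernel
  rw [mk_apply, mk_apply, e1, e1] at h1
  rw [mk_apply, mk_apply, e2, e2] at h2
  exact Subtype.ext (Prod.ext h1 h2)

set_option synthInstance.maxSize 1024 in
theorem exists_frame : ∀ u v : Q8, Valid u v → (∀ x, pf u v (pf u v x) = x) →
    (∀ q : Q8, ¬ ∀ x, pf u v x = q * x * q⁻¹) →
    ∃ p r : Q8, Valid p r ∧ pf u v p = p⁻¹ ∧ pf u v r = (p * r)⁻¹ := by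
  decide +kernel

/-- The rotation of order three. -/
def Y0 : MulAut Q8 where
  toFun := pf B (A * B)
  invFun := fun x => pf B (A * B) (pf B (A * B) x)
  left_inv := (by decide +kernel : ∀ x : Q8, pf B (A * B) (pf B (A * B) (pf B (A * B) x)) = x)
  right_inv := (by decide +kernel : ∀ x : Q8, pf B (A * B) (pf B (A * B) (pf B (A * B) x)) = x)
  map_mul' := pf_mul B (A * B) (by decide +kernel)

/-- The reflection. -/
def T0 : MulAut Q8 where
  toFun := pf A⁻¹ (A * B)⁻¹
  invFun := pf A⁻¹ (A * B)⁻¹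
  left_inv := (by decide +kernel : ∀ x : Q8, pf A⁻¹ (A * B)⁻¹ (pf A⁻¹ (A * B)⁻¹ x) = x)
  right_inv := (by decide +kernel : ∀ x : Q8, pf A⁻¹ (A * B)⁻¹ (pf A⁻¹ (A * B)⁻¹ x) = x)
  map_mul' := pf_mul A⁻¹ (A * B)⁻¹ (by decide +kernel)

theorem rel0 : Y0 ^ 3 = 1 ∧ T0 * T0 = 1 ∧ T0 * Y0 * T0 = Y0⁻¹ := by
  have h : ∀ x : Q8, Y0 (Y0 (Y0 x)) = x ∧ T0 (T0 x) = x ∧ T0 (Y0 (T0 x)) = Y0.symm x := by decide +kernel
  exact ⟨MulEquiv.ext fun x => by simpa [pow_succ] using (h x).1, MulEquiv.ext fun x => (h x).2.1,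
    MulEquiv.ext fun x => (h x).2.2⟩

variable {K : Type*} [Group K] {y t : K}

theorem pow_val_add (hy : y ^ 3 = 1) (i j : ZMod 3) : y ^ (i + j).val = y ^ i.val * y ^ j.val := by
  rw [← pow_add, ZMod.val_add]
  conv_rhs => rw [← Nat.mod_add_div (i.val + j.val) 3, pow_add, pow_mul, hy, one_pow, mul_one]

theorem conj_pow_val (hy : y ^ 3 = 1) (ht : t * t = 1) (hty : t * y * t = y⁻¹) (i : ZMod 3) :
    y ^ i.val * t = t * y ^ (-i).val := by
  have h0 : y ^ (-i).val = (y⁻¹) ^ i.val := by
    rw [inv_pow]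
    refine eq_inv_of_mul_eq_one_left ?_
    rw [← pow_val_add hy, neg_add_cancel, ZMod.val_zero, pow_zero]
  have hti : t⁻¹ = t := inv_eq_of_mul_eq_one_right ht
  have e : t * y ^ i.val * t = (t * y * t) ^ i.val := by
    have h := conj_pow (a := t) (b := y) (i := i.val)
    rw [hti] at h
    exact h.symm
  rw [h0, ← hty, ← e, ← mul_assoc, ← mul_assoc, ht, one_mul]

/-- A pair `y, t` with the relations of `D₃` gives a homomorphism. -/
def liftD3 (y t : K) (hy : y ^ 3 = 1) (ht : t * t = 1) (hty : t * y * t = y⁻¹) : DihedralGroup 3 →* K where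
  toFun
    | .r i => y ^ i.val
    | .sr i => t * y ^ i.val
  map_one' := by simp [DihedralGroup.one_def, -DihedralGroup.r_zero]
  map_mul' := by
    rintro (i | i) (j | j)
    · simp only [DihedralGroup.r_mul_r]; exact pow_val_add hy i j
    · simp only [DihedralGroup.r_mul_sr]
      rw [← mul_assoc, conj_pow_val hy ht hty, mul_assoc, ← pow_val_add hy, neg_add_eq_sub]
    · simp only [DihedralGroup.sr_mul_r]; rw [pow_val_add hy, mul_assoc]
    · simp only [DihedralGroup.sr_mul_sr]
      rw [mul_assoc t (y ^ i.val), ← mul_assoc (y ^ i.val), conj_pow_val hy ht hty, mul_assoc,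
        ← mul_assoc t, ht, one_mul, ← pow_val_add hy, neg_add_eq_sub]

/-- The action in the model. -/
def φ0 : DihedralGroup 3 →* MulAut Q8 := liftD3 Y0 T0 rel0.1 rel0.2.1 rel0.2.2

theorem φ0_not_inner : ∀ (h : DihedralGroup 3) (q : Q8), (∀ x, φ0 h x = q * x * q⁻¹) → h = 1 := by
  decide +kernel

/-- The model of `GL(2, 3)`. -/
abbrev Model := Q8 ⋊[φ0] DihedralGroup 3

theorem card_model : Nat.card Model = 48 := by
  rw [SemidirectProduct.card, DihedralGroup.nat_card, Nat.card_eq_fintype_card, QuaternionGroup.card]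

/-- Matrix images of the generators. -/
def mU : GL (Fin 2) (ZMod 3) := ⟨!![0, 2; 1, 0], !![0, 1; 2, 0], by decide +kernel, by decide +kernel⟩
def mV : GL (Fin 2) (ZMod 3) := ⟨!![1, 1; 1, 2], !![2, 2; 2, 1], by decide +kernel, by decide +kernel⟩
def mY : GL (Fin 2) (ZMod 3) := ⟨!![1, 1; 0, 1], !![1, 2; 0, 1], by decide +kernel, by decide +kernel⟩
def mT : GL (Fin 2) (ZMod 3) := ⟨!![1, 0; 0, 2], !![1, 0; 0, 2], by decide +kernel, by decide +kernel⟩

def gQ : Q8 →* GL (Fin 2) (ZMod 3) := MonoidHom.mk' (pf mU mV) (by decide +kernel)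

def gD : DihedralGroup 3 →* GL (Fin 2) (ZMod 3) :=
  liftD3 mY mT (by decide +kernel) (by decide +kernel) (by decide +kernel)

theorem g_compat : ∀ (h : DihedralGroup 3) (q : Q8), gQ (φ0 h q) = gD h * gQ q * (gD h)⁻¹ := by
  decide +kernel

theorem g_inj : ∀ (h : DihedralGroup 3) (q : Q8), gQ q * gD h = 1 → q = 1 ∧ h = 1 := by
  decide +kernel

theorem card_gl : Nat.card (GL (Fin 2) (ZMod 3)) = 48 := by
  haveI : Fact (Nat.Prime 3) := ⟨by norm_num⟩
  rw [Matrix.card_GL_field]
  simp [Fin.prod_univ_succ, ZMod.card]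

theorem model_equiv_gl : Nonempty (Model ≃* GL (Fin 2) (ZMod 3)) := by
  let f : Model →* GL (Fin 2) (ZMod 3) := SemidirectProduct.lift gQ gD fun h => by
    ext1 q; exact g_compat h q
  have hf : Function.Injective f := (injective_iff_map_eq_one f).2 fun w hw => by
    obtain ⟨h1, h2⟩ := g_inj w.right w.left hw
    exact SemidirectProduct.ext h1 h2
  haveI : Finite Model := Nat.finite_of_card_ne_zero (by rw [card_model]; norm_num)
  exact ⟨MulEquiv.ofBijective f ((Nat.bijective_iff_injective_and_card f).2 ⟨hf, by rw [card_model, card_gl]⟩)⟩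

/-- The model acting on four points. -/
def permQ : Q8 →* Equiv.Perm (Fin 4) :=
  MonoidHom.mk' (pf (Equiv.swap 0 1 * Equiv.swap 2 3) (Equiv.swap 0 2 * Equiv.swap 1 3)) (by decide +kernel)

def permD : DihedralGroup 3 →* Equiv.Perm (Fin 4) :=
  liftD3 (Equiv.swap 1 3 * Equiv.swap 1 2) (Equiv.swap 2 3) (by decide +kernel) (by decide +kernel) (by decide +kernel)

theorem perm_compat : ∀ (h : DihedralGroup 3) (q : Q8), permQ (φ0 h q) = permD h * permQ q * (permD h)⁻¹ := by
  decide +kernel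

theorem perm_surj : ∀ σ : Equiv.Perm (Fin 4), ∃ (q : Q8) (h : DihedralGroup 3), permQ q * permD h = σ := by
  decide +kernel

theorem kernels : ∀ (q : Q8) (h : DihedralGroup 3),
    (∀ x, q * φ0 h x * q⁻¹ = x) ↔ permQ q * permD h = 1 := by
  decide +kernel

theorem mulAut_equiv_perm : Nonempty (MulAut Q8 ≃* Equiv.Perm (Fin 4)) := by
  let π : Model →* Equiv.Perm (Fin 4) := SemidirectProduct.lift permQ permD fun h => by
    ext1 q; exact perm_compat h q
  let θ : Model →* MulAut Q8 := SemidirectProduct.lift MulAut.conj φ0 fun h => by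
    ext q x
    show φ0 h q * x * (φ0 h q)⁻¹ = φ0 h (q * (φ0 h)⁻¹ x * q⁻¹)
    simp
  have hker : θ.ker = π.ker := by
    ext w
    rw [MonoidHom.mem_ker, MonoidHom.mem_ker]
    refine Iff.trans ?_ (kernels w.left w.right)
    exact ⟨fun e x => MulEquiv.congr_fun e x, fun e => MulEquiv.ext e⟩
  have hπ : Function.Surjective π := fun σ => by
    obtain ⟨q, h, e⟩ := perm_surj σ
    exact ⟨⟨q, h⟩, e⟩
  haveI : Finite Model := Nat.finite_of_card_ne_zero (by rw [card_model]; norm_num)
  haveI : Finite (MulAut Q8) := Finite.of_injective (fun σ => (σ : Q8 → Q8)) DFunLike.coe_injective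
  have h24 : Nat.card θ.range = 24 := by
    rw [← Subgroup.index_ker, hker, Subgroup.index_ker, MonoidHom.range_eq_top.2 hπ, Subgroup.card_top,
      Nat.card_eq_fintype_card, Fintype.card_perm]
    rfl
  have hθ : θ.range = ⊤ := Subgroup.eq_top_of_card_eq _ (by rw [h24, card_aut])
  exact ⟨((QuotientGroup.quotientKerEquivOfSurjective θ (MonoidHom.range_eq_top.1 hθ)).symm.trans
    (QuotientGroup.quotientMulEquivOfEq hker)).trans (QuotientGroup.quotientKerEquivOfSurjective π hπ)⟩

variable {G : Type*} [Group G] [Finite G]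

/-- The structure of a group of order 48 with a self-centralising normal quaternion subgroup. -/
theorem exists_action (hG : Nat.card G = 48) (Q : Subgroup G) [Q.Normal] (e : Q ≃* Q8)
    (hC : centralizer (Q : Set G) ≤ Q) :
    ∃ c : G →* MulAut Q8, Function.Surjective c ∧ (∀ (g : G) (x : Q), c g (e x) = e (MulAut.conjNormal g x)) ∧
      Nat.card c.ker = 2 ∧ Nat.card (MulAut Q8) = 24 ∧ c.ker ≤ Q ∧ c.ker = Subgroup.center G := by
  let c : G →* MulAut Q8 := (MulAut.congr e).toMonoidHom.comp MulAut.conjNormal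
  have hc : ∀ (g : G) (x : Q), c g (e x) = e (MulAut.conjNormal g x) := fun g x => by simp [c, MulAut.congr]
  have hker : ∀ g, g ∈ c.ker ↔ g ∈ centralizer (Q : Set G) := fun g => by
    rw [MonoidHom.mem_ker, mem_centralizer_iff]
    constructor
    · intro h x hx
      have h1 := hc g ⟨x, hx⟩
      rw [h, MulAut.one_apply, e.injective.eq_iff] at h1
      have h2 := congrArg Subtype.val h1
      rw [MulAut.conjNormal_apply] at h2
      calc x * g = g * x * g⁻¹ * g := by rw [← h2]
        _ = g * x := by group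
    · intro h
      refine MulEquiv.ext fun w => ?_
      obtain ⟨x, rfl⟩ := e.surjective w
      rw [hc, MulAut.one_apply]
      refine congrArg e (Subtype.ext ?_)
      rw [MulAut.conjNormal_apply, ← h x.1 x.2, mul_inv_cancel_right]
  have hkQ : c.ker ≤ Q := fun g hg => hC ((hker g).1 hg)
  have hsmall : Nat.card c.ker ≤ 2 := by
    have hf : ∀ g : c.ker, e ⟨g, hkQ g.2⟩ ∈ ({1, A * A} : Finset Q8) := fun g => by
      have hcen : ∀ z : Q8, (∀ w : Q8, w * z = z * w) → z ∈ ({1, A * A} : Finset Q8) := by decide +kernel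
      refine hcen _ fun w => ?_
      obtain ⟨x, rfl⟩ := e.surjective w
      rw [← map_mul, ← map_mul]
      exact congrArg e (Subtype.ext (mem_centralizer_iff.1 ((hker g).1 g.2) x.1 x.2))
    refine (Nat.card_le_card_of_injective (fun g => (⟨_, hf g⟩ : ({1, A * A} : Finset Q8))) fun a b h => ?_).trans ?_
    · have := congrArg Subtype.val h
      exact Subtype.ext (congrArg (fun w : Q => (w : G)) (e.injective this))
    · rw [Nat.card_eq_fintype_card, Fintype.card_coe]; decide +kernel
  have hprod := c.ker.card_mul_index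
  rw [Subgroup.index_ker, hG] at hprod
  haveI : Finite (MulAut Q8) := Finite.of_injective (fun σ => (σ : Q8 → Q8)) DFunLike.coe_injective
  have hr : Nat.card c.range ≤ 24 := (Subgroup.card_le_card_group _).trans card_aut_le
  have h24 : Nat.card c.range = 24 ∧ Nat.card c.ker = 2 := by constructor <;> nlinarith
  have haut : Nat.card (MulAut Q8) = 24 := le_antisymm card_aut_le (h24.1 ▸ Subgroup.card_le_card_group _)
  refine ⟨c, MonoidHom.range_eq_top.1 (Subgroup.eq_top_of_card_eq _ (by rw [h24.1, haut])), hc, h24.2, haut, hkQ, ?_⟩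
  refine le_antisymm (fun g hg => mem_center_iff.2 fun h => ?_) (fun g hg => (hker g).2 ?_)
  · have hn : h * g * h⁻¹ ∈ c.ker := c.normal_ker.conj_mem g hg h
    obtain ⟨w, -, hu⟩ := (Nat.card_eq_two_iff' (1 : c.ker)).1 h24.2
    by_cases h1 : g = 1
    · rw [h1]; simp
    have hne : h * g * h⁻¹ ≠ 1 := by rwa [Ne, conj_eq_one_iff]
    have h2 : (⟨_, hn⟩ : c.ker) = ⟨g, hg⟩ :=
      (hu _ fun e => hne (congrArg Subtype.val e)).trans (hu _ fun e => h1 (congrArg Subtype.val e)).symm
    calc h * g = h * g * h⁻¹ * h := by group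
      _ = g * h := by rw [show h * g * h⁻¹ = g from congrArg Subtype.val h2]
  · exact mem_centralizer_iff.2 fun x _ => mem_center_iff.1 hg x

/-- An involution outside the quaternion subgroup forces `GL(2, 3)`. -/
theorem equiv_gl (hG : Nat.card G = 48) (Q : Subgroup G) [Q.Normal] (e : Q ≃* Q8)
    (hC : centralizer (Q : Set G) ≤ Q) {t : G} (ht : t * t = 1) (htQ : t ∉ Q) :
    Nonempty (G ≃* GL (Fin 2) (ZMod 3)) := by
  obtain ⟨c, hsurj, hc, hk, -, hkQ, hkc⟩ := exists_action hG Q e hC
  have hpf : ∀ (g : G) (x : Q8), c g x = pf (c g A) (c g B) x := fun g x => eq_pf (c g).toMonoidHom x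
  have htinv : ∀ x, c t (c t x) = x := fun x => by
    rw [← MulAut.mul_apply, ← map_mul, ht, map_one, MulAut.one_apply]
  have hnin : ∀ q : Q8, ¬ ∀ x, pf (c t A) (c t B) x = q * x * q⁻¹ := fun q hq => by
    obtain ⟨s, rfl⟩ := e.surjective q
    have hmem : (s : G)⁻¹ * t ∈ c.ker := by
      refine MonoidHom.mem_ker.2 (MulEquiv.ext fun w => ?_)
      obtain ⟨x, rfl⟩ := e.surjective w
      rw [map_mul, MulAut.mul_apply, hpf t, hq, MulAut.one_apply, ← map_mul, ← map_inv, ← map_mul, hc]
      exact congrArg e (Subtype.ext (by simp [mul_assoc]))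
    exact htQ (by simpa using Q.mul_mem s.2 (hkQ hmem))
  obtain ⟨p, r, hv, hp, hr⟩ := exists_frame _ _ (valid_of_aut (c t))
    (fun x => by rw [← hpf, ← hpf]; exact htinv x) hnin
  rw [← hpf] at hp hr
  let e' : Q ≃* Q8 := e.trans (mk p r hv).symm
  obtain ⟨c, hsurj, hc, hk, hT0, hkQ, hkc⟩ : ∃ c' : G →* MulAut Q8, Function.Surjective c' ∧
      (∀ (g : G) (x : Q), c' g (e' x) = e' (MulAut.conjNormal g x)) ∧ Nat.card c'.ker = 2 ∧
        c' t = T0 ∧ c'.ker ≤ Q ∧ c'.ker = Subgroup.center G := by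
    obtain ⟨c', h1, h2, h3, -, h5, h6⟩ := exists_action hG Q e' hC
    refine ⟨c', h1, h2, h3, ?_, h5, h6⟩
    have hT : ∀ x : Q8, c' t x = (mk p r hv).symm (c t (mk p r hv x)) := fun x => by
      obtain ⟨w, rfl⟩ := e'.surjective x
      rw [h2]
      show e' _ = (mk p r hv).symm (c t (mk p r hv ((mk p r hv).symm (e w))))
      rw [MulEquiv.apply_symm_apply, hc]
      rfl
    have hA : mk p r hv A = p := by rw [mk_apply]; show p ^ (1 : ZMod 4).val = p; rw [show (1 : ZMod 4).val = 1 from rfl, pow_one]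
    have hB : mk p r hv B = r := by rw [mk_apply]; show r * p ^ (0 : ZMod 4).val = r; simp
    have vA : c' t A = A⁻¹ := by
      rw [hT, hA, hp, MulEquiv.symm_apply_eq, map_inv, hA]
    have vB : c' t B = (A * B)⁻¹ := by
      rw [hT, hB, hr, MulEquiv.symm_apply_eq, map_inv, map_mul, hA, hB]
    refine MulEquiv.ext fun x => ?_
    have := eq_pf (c' t).toMonoidHom x
    simp only [MulEquiv.coe_toMonoidHom, vA, vB] at this
    exact this
  obtain ⟨y₀, hy₀⟩ := hsurj Y0
  set y := y₀ ^ 4 with hydef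
  have hcz : ∀ g, c g = 1 → g * g = 1 := fun g hg => by
    have h := congrArg Subtype.val (pow_card_eq_one' (x := (⟨g, MonoidHom.mem_ker.2 hg⟩ : c.ker)))
    rwa [hk, SubmonoidClass.coe_pow, OneMemClass.coe_one, pow_two] at h
  have hcy : c y = Y0 := by rw [hydef, map_pow, hy₀, pow_succ, rel0.1, one_mul]
  have hy : y ^ 3 = 1 := by
    have h := hcz (y₀ ^ 3) (by rw [map_pow, hy₀, rel0.1])
    calc y ^ 3 = (y₀ ^ 3 * y₀ ^ 3) * (y₀ ^ 3 * y₀ ^ 3) := by rw [hydef]; group
      _ = 1 := by rw [h, one_mul]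
  have hty : t * y * t = y⁻¹ := by
    set w := t * y * t * y with hw
    have hw1 : c w = 1 := by
      rw [hw, map_mul, map_mul, map_mul, hT0, hcy, rel0.2.2, inv_mul_cancel]
    have hwc : w ∈ Subgroup.center G := hkc ▸ MonoidHom.mem_ker.2 hw1
    have hzy : Commute w y⁻¹ := (mem_center_iff.1 hwc y⁻¹).symm
    have h3 : (w * y⁻¹) ^ 3 = 1 := by
      rw [show w * y⁻¹ = t * y * t⁻¹ by rw [hw, inv_eq_of_mul_eq_one_right ht]; group, conj_pow, hy]; group
    rw [hzy.mul_pow, inv_pow, hy, inv_one, mul_one, pow_succ, pow_two, hcz w hw1, one_mul] at h3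
    exact eq_inv_of_mul_eq_one_left h3
  let fD := liftD3 y t hy ht hty
  have hfD : ∀ h, c (fD h) = φ0 h := by
    rintro (i | i)
    · show c (y ^ i.val) = Y0 ^ i.val
      rw [map_pow, hcy]
    · show c (t * y ^ i.val) = T0 * Y0 ^ i.val
      rw [map_mul, map_pow, hcy, hT0]
  let fQ : Q8 →* G := Q.subtype.comp e'.symm.toMonoidHom
  let f : Model →* G := SemidirectProduct.lift fQ fD fun h => by
    ext1 q
    obtain ⟨x, rfl⟩ := e'.surjective q
    show ((e'.symm (φ0 h (e' x)) : Q) : G) = fD h * (e'.symm (e' x) : G) * (fD h)⁻¹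
    rw [← hfD, hc, e'.symm_apply_apply, e'.symm_apply_apply, MulAut.conjNormal_apply]
  have hf : Function.Injective f := (injective_iff_map_eq_one f).2 fun w hw => by
    have hw' : (e'.symm w.left : G) * fD w.right = 1 := hw
    have hin : w.right = 1 := by
      refine φ0_not_inner _ w.left⁻¹ fun x => ?_
      obtain ⟨s, rfl⟩ := e'.surjective x
      rw [← hfD, hc]
      apply e'.symm.injective
      rw [e'.symm_apply_apply, map_mul, map_mul, map_inv, e'.symm_apply_apply, map_inv]
      refine Subtype.ext ?_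
      rw [MulAut.conjNormal_apply, eq_inv_of_mul_eq_one_right hw']
      simp
    rw [hin, map_one, mul_one] at hw'
    exact SemidirectProduct.ext (by simpa using congrArg e' (Subtype.ext hw' : e'.symm w.left = 1)) hin
  haveI : Finite Model := Nat.finite_of_card_ne_zero (by rw [card_model]; norm_num)
  obtain ⟨m⟩ := model_equiv_gl
  exact ⟨(MulEquiv.ofBijective f ((Nat.bijective_iff_injective_and_card f).2
    ⟨hf, by rw [card_model, hG]⟩)).symm.trans m⟩

end CfsgLib.InvChar.OctaRecog
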