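import Cfsg.Agent.Lib.InvChar.HallJankoOuter
import Mathlib.GroupTheory.Nilpotent

/-!
Groups of Hall-Janko type: the two classes of involutions.
-/

set_option autoImplicit false

namespace CfsgLib.InvChar.HJType

open CfsgLib.Invol Subgroup

universe u

variable {G : Type u} [Group G] {z : G} {Q : Subgroup G}

local notation "A5" => alternatingGroup (Fin 5)

/-- An involution of `H` outside `Q`. -/
def Outer (z : G) (Q : Subgroup G) (a : G) : Prop :=
  a ∈ centralizer ({z} : Set G) ∧ a * a = 1 ∧ a ∉ Q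

theorem Outer.order {a : G} (h : Outer z Q a) : orderOf a = 2 :=
  invol_of_mul_self h.2.1 fun e => h.2.2 (e ▸ one_mem Q)

namespace Pre

variable (S : Pre z Q)
include S

theorem card_Q_cent_outer [Finite G] {a : G} (ha : Outer z Q a) :
    Nat.card ↥(Q ⊓ centralizer ({a} : Set G) : Subgroup G) ≤ 4 := by
  classical
  haveI : Fintype G := Fintype.ofFinite G
  obtain ⟨x, -, -, hall, -⟩ := S.outer ha.1 ha.2.1 ha.2.2
  rw [Nat.card_eq_fintype_card, Fintype.card_subtype]
  refine le_trans (Finset.card_le_card (t := {1, z, x, x * z}) fun q hq => ?_) ?_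
  · obtain ⟨hqQ, hqa⟩ := mem_inf.1 (Finset.mem_filter.1 hq).2
    simpa using hall q hqQ (mem_centralizer_singleton_iff.1 hqa).symm
  · exact Finset.card_le_four

theorem inv_ncard [Finite G] :
    Nat.card {b : ↥(centralizer ({z} : Set G)) // Outer z Q (b : G)} ≤ 120 := by
  classical
  haveI : Fintype G := Fintype.ofFinite G
  haveI : Fintype ↥(centralizer ({z} : Set G)) := Fintype.ofFinite _
  obtain ⟨π, hπ, hk⟩ := S.hquot
  rw [Nat.card_eq_fintype_card, Fintype.card_subtype]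
  refine le_trans (Finset.card_le_mul_card_image_of_maps_to (f := π)
    (t := Finset.univ.filter fun s : A5 => s * s = 1 ∧ s ≠ 1) ?_ 8 ?_)
    (le_of_eq (by rw [CfsgLib.InvChar.HJ.a5_involutions]))
  · intro b hb
    have hb' := (Finset.mem_filter.1 hb).2
    refine Finset.mem_filter.2 ⟨Finset.mem_univ _, ?_, fun e => hb'.2.2 ?_⟩
    · rw [← map_mul, show b * b = 1 from Subtype.ext hb'.2.1, map_one]
    · have : b ∈ π.ker := e
      rwa [hk, mem_subgroupOf] at this
  · intro s _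
    rcases Finset.eq_empty_or_nonempty
      ((Finset.univ.filter fun b : ↥(centralizer ({z} : Set G)) => Outer z Q (b : G)).filter
        fun b => π b = s) with he | ⟨b0, hb0⟩
    · rw [he]; simp
    rw [Finset.mem_filter] at hb0
    obtain ⟨hb0, hb0s⟩ := hb0
    have hb0' := (Finset.mem_filter.1 hb0).2
    obtain ⟨x, -, -, -, h8⟩ := S.outer hb0'.1 hb0'.2.1 hb0'.2.2
    refine le_trans ?_ h8
    rw [Nat.card_eq_fintype_card, Fintype.card_subtype]
    refine Finset.card_le_card_of_injOn (fun b => (b0 : G) * b) ?_ ?_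
    · intro b hb
      rw [Finset.mem_coe, Finset.mem_filter] at hb
      have hb' := (Finset.mem_filter.1 hb.1).2
      refine Finset.mem_coe.2 (Finset.mem_filter.2 ⟨Finset.mem_univ _, ?_, ?_⟩)
      · have hm : b0⁻¹ * b ∈ π.ker := by
          rw [MonoidHom.mem_ker, map_mul, map_inv, hb0s, hb.2, inv_mul_cancel]
        rw [hk, mem_subgroupOf] at hm
        change (b0 : G)⁻¹ * b ∈ Q at hm
        rwa [inv_eq_of_mul_eq_one_right hb0'.2.1] at hm
      · rw [_root_.mul_inv_rev, inv_eq_of_mul_eq_one_right hb'.2.1,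
          inv_eq_of_mul_eq_one_right hb0'.2.1]
        calc (b0 : G) * ((b0 : G) * b) * b0 = (b0 * b0) * b * b0 := by group
          _ = b * b0 := by rw [hb0'.2.1, one_mul]
    · intro b _ c _ h
      exact Subtype.ext (mul_left_cancel h)

theorem card_cent_outer_le [Finite G] {a : G} (ha : Outer z Q a) :
    Nat.card ↥(centralizer ({⟨a, ha.1⟩} : Set ↥(centralizer ({z} : Set G)))) ≤ 16 := by
  classical
  obtain ⟨π, hπ, hk⟩ := S.hquot
  set a' : ↥(centralizer ({z} : Set G)) := ⟨a, ha.1⟩ with ha'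
  set K := centralizer ({a'} : Set ↥(centralizer ({z} : Set G))) with hK
  let f := π.comp K.subtype
  rw [card_eq_card_quotient_mul_card_subgroup f.ker,
    Nat.card_congr (QuotientGroup.quotientKerEquivRange f).toEquiv]
  have hker : Nat.card ↥f.ker ≤ 4 := by
    refine le_trans (Nat.card_le_card_of_injective
      (fun c => (⟨((c : ↥K) : ↥(centralizer ({z} : Set G))), ?_⟩ :
        ↥(Q ⊓ centralizer ({a} : Set G) : Subgroup G))) ?_) (S.card_Q_cent_outer ha)
    · refine mem_inf.2 ⟨?_, mem_centralizer_singleton_iff.2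
        (congrArg Subtype.val (mem_centralizer_singleton_iff.1 (c : ↥K).2))⟩
      have h : ((c : ↥K) : ↥(centralizer ({z} : Set G))) ∈ π.ker := c.2
      rwa [hk, mem_subgroupOf] at h
    · intro c d h
      exact Subtype.ext (Subtype.ext (Subtype.ext (congrArg
        (fun t : ↥(Q ⊓ centralizer ({a} : Set G) : Subgroup G) => (t : G)) h)))
  have hran : Nat.card ↥f.range ≤ 4 := by
    have h1 : π a' * π a' = 1 := by
      rw [← map_mul, show a' * a' = 1 from Subtype.ext ha.2.1, map_one]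
    have h2 : π a' ≠ 1 := fun e => ha.2.2 (by
      have : a' ∈ π.ker := e
      rwa [hk, mem_subgroupOf] at this)
    rw [← a5_invol_cent _ h1 h2, Nat.card_eq_fintype_card, Fintype.card_subtype]
    refine Finset.card_le_card fun s hs => ?_
    obtain ⟨c, rfl⟩ := (Finset.mem_filter.1 hs).2
    refine Finset.mem_filter.2 ⟨Finset.mem_univ _, ?_⟩
    show π c * π a' = π a' * π c
    rw [← map_mul, ← map_mul, mem_centralizer_singleton_iff.1 c.2]
  calc Nat.card ↥f.range * Nat.card ↥f.ker ≤ 4 * 4 := Nat.mul_le_mul hran hker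
    _ = 16 := rfl

/-- All involutions of `H` outside `Q` are conjugate in `H`; their centralisers in `H` have order
sixteen. -/
theorem outer_class [Finite G] {a : G} (ha : Outer z Q a) :
    Nat.card ↥(centralizer ({z} : Set G) ⊓ centralizer ({a} : Set G) : Subgroup G) = 16 ∧
    Nat.card {b : G // Outer z Q b} = 120 ∧
    ∀ b, Outer z Q b → ∃ h ∈ centralizer ({z} : Set G), h * a * h⁻¹ = b := by
  classical
  set a' : ↥(centralizer ({z} : Set G)) := ⟨a, ha.1⟩ with ha'
  have h1 := card_class_mul_card_centralizer a'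
  rw [S.card_H] at h1
  have h2 := S.card_cent_outer_le ha
  have hout : ∀ b, IsConj a' b → Outer z Q (b : G) := by
    intro b hb
    obtain ⟨h, rfl⟩ := isConj_iff.1 hb
    refine ⟨(h * a' * h⁻¹).2, ?_, fun e => ha.2.2 ?_⟩
    · show (h : G) * a * (h : G)⁻¹ * ((h : G) * a * (h : G)⁻¹) = 1
      rw [show (h : G) * a * (h : G)⁻¹ * ((h : G) * a * (h : G)⁻¹) = h * (a * a) * (h : G)⁻¹ by group,
        ha.2.1]
      group
    · have h' := S.hnorm (h : G)⁻¹ (inv_mem h.2) _ e
      change (h : G)⁻¹ * ((h : G) * a * (h : G)⁻¹) * (h : G)⁻¹⁻¹ ∈ Q at h'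
      rwa [show (h : G)⁻¹ * ((h : G) * a * (h : G)⁻¹) * (h : G)⁻¹⁻¹ = a by group] at h'
  have hsub : ∀ b, IsConj a' b → b ∈ {b : ↥(centralizer ({z} : Set G)) | Outer z Q (b : G)} := hout
  let F : {b // IsConj a' b} → {b : ↥(centralizer ({z} : Set G)) // Outer z Q (b : G)} :=
    fun b => ⟨b.1, hout b.1 b.2⟩
  have hF : Function.Injective F := fun b c h =>
    Subtype.ext (congrArg (fun t : {b : ↥(centralizer ({z} : Set G)) // Outer z Q (b : G)} => t.1) h)
  have h3 := Nat.card_le_card_of_injective F hF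
  have h4 := S.inv_ncard
  have hcls : Nat.card {b // IsConj a' b} = 120 := by
    have : 1920 ≤ Nat.card {b // IsConj a' b} * 16 := h1 ▸ Nat.mul_le_mul_left _ h2
    omega
  have hall : Nat.card {b : ↥(centralizer ({z} : Set G)) // Outer z Q (b : G)} = 120 := by omega
  refine ⟨?_, ?_, fun b hb => ?_⟩
  · rw [hcls] at h1
    have e : centralizer ({z} : Set G) ⊓ centralizer ({a} : Set G) =
        (centralizer ({a'} : Set ↥(centralizer ({z} : Set G)))).map (centralizer ({z} : Set G)).subtype := by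
      ext c
      simp only [mem_inf, mem_map, mem_centralizer_singleton_iff, coe_subtype]
      constructor
      · rintro ⟨hc, hca⟩
        exact ⟨⟨c, mem_centralizer_singleton_iff.2 hc⟩, Subtype.ext hca, rfl⟩
      · rintro ⟨c, hc, rfl⟩
        exact ⟨S.commZ c.2, congrArg Subtype.val hc⟩
    rw [e, card_map_of_injective (centralizer ({z} : Set G)).subtype_injective]
    omega
  · rw [← hall]
    exact Nat.card_congr
      { toFun := fun b => ⟨⟨b.1, b.2.1⟩, b.2⟩
        invFun := fun b => ⟨(b.1 : G), b.2⟩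
        left_inv := fun _ => rfl
        right_inv := fun _ => rfl }
  · obtain ⟨⟨c, hc⟩, hFc⟩ := (hF.bijective_of_nat_card_le (by rw [hall, hcls])).2 ⟨⟨b, hb.1⟩, hb⟩
    obtain ⟨h, hh⟩ := isConj_iff.1 hc
    refine ⟨h, h.2, ?_⟩
    have := congrArg (fun t : {b : ↥(centralizer ({z} : Set G)) // Outer z Q (b : G)} => (t.1 : G)) hFc
    change (c : G) = b at this
    rw [← this, ← hh]
    rfl

/-- `H` is transitive on the ten non-central involutions of `Q`. -/
theorem ni_transitive [Finite G] {x y : G} (hx : NI z Q x) (hy : NI z Q y) :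
    ∃ h ∈ centralizer ({z} : Set G), h * x * h⁻¹ = y := by
  classical
  obtain ⟨w, r, ψ, hrH, hw, -, hall, hshift, -⟩ := S.exists_action
  suffices hto : ∀ u, NI z Q u → ∃ h ∈ centralizer ({z} : Set G), h * w 0 * h⁻¹ = u by
    obtain ⟨g, hg, rfl⟩ := hto x hx
    obtain ⟨h, hh, rfl⟩ := hto y hy
    exact ⟨h * g⁻¹, mul_mem hh (inv_mem hg), by group⟩
  have hn : ∀ (n : ℕ) (h : n < 5), r ^ n * w 0 * (r ^ n)⁻¹ = w ⟨n, h⟩ := by
    intro n
    induction n with
    | zero => intro _; simp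
    | succ n ih =>
      intro h
      have e : (⟨n + 1, h⟩ : Fin 5) = ⟨n, by omega⟩ + 1 := Fin.ext (by
        simp [Fin.val_add, Nat.mod_eq_of_lt h])
      rw [e, ← hshift, ← ih (by omega), pow_succ']
      group
  intro u hu
  obtain ⟨i, hi⟩ := hall u hu
  have hri : r ^ (i : ℕ) * w 0 * (r ^ (i : ℕ))⁻¹ = w i := hn i i.2
  rcases hi with rfl | rfl
  · exact ⟨_, pow_mem hrH _, hri⟩
  · -- an element of `Q` not commuting with `w i`
    obtain ⟨q, hq, hqc⟩ : ∃ q ∈ Q, q * w i ≠ w i * q := by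
      by_contra hc
      push Not at hc
      rcases S.cent_Q (hw i).1 hc with e | e
      exacts [(hw i).2.2.1 e, (hw i).2.2.2 e]
    refine ⟨q * r ^ (i : ℕ), mul_mem (S.hQH hq) (pow_mem hrH _), ?_⟩
    rw [show q * r ^ (i : ℕ) * w 0 * (q * r ^ (i : ℕ))⁻¹ =
      q * (r ^ (i : ℕ) * w 0 * (r ^ (i : ℕ))⁻¹) * q⁻¹ by group, hri, mul_inv_eq_iff_eq_mul,
      (S.comm_Q hq (hw i).1).resolve_left hqc, mul_assoc, mul_assoc, S.commZQ hq]

end Pre

namespace Data

variable (S : Data z Q)
include S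

theorem isConj_ni [Finite G] {x : G} (hx : NI z Q x) : IsConj z x := by
  obtain ⟨g, hg, hgne⟩ := S.hfus
  have ho : orderOf (g * z * g⁻¹) = 2 := by rw [orderOf_conj_eq]; exact S.hz
  have hn : NI z Q (g * z * g⁻¹) := ⟨hg, invol_mul_self ho, invol_ne_one ho, hgne⟩
  obtain ⟨h, -, hh⟩ := S.ni_transitive hn hx
  exact (isConj_iff.2 ⟨g, rfl⟩).trans (isConj_iff.2 ⟨h, hh⟩)

theorem card_cent_ni [Finite G] {x : G} (hx : NI z Q x) :
    Nat.card ↥(centralizer ({z} : Set G) ⊓ centralizer ({x} : Set G) : Subgroup G) = 192 := by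
  classical
  obtain ⟨r, hrH, -, h10, -, -⟩ := S.exists_five
  set x' : ↥(centralizer ({z} : Set G)) := ⟨x, S.hQH hx.1⟩ with hx'
  have h1 := card_class_mul_card_centralizer x'
  rw [S.card_H] at h1
  have hc : Nat.card {b // IsConj x' b} = 10 := by
    rw [← h10]
    refine Nat.card_eq_of_bijective
      (fun b => (⟨(b.1 : G), ?_⟩ : {y : G // NI z Q y})) ⟨?_, ?_⟩
    · obtain ⟨h, hh⟩ := isConj_iff.1 b.2
      rw [← hh]
      exact S.ni_conj h.2 hx
    · exact fun b c h => Subtype.ext (Subtype.ext (congrArg (fun t : {y : G // NI z Q y} => t.1) h))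
    · rintro ⟨y, hy⟩
      obtain ⟨h, hh, e⟩ := S.ni_transitive hx hy
      exact ⟨⟨⟨h, hh⟩ * x' * ⟨h, hh⟩⁻¹, isConj_iff.2 ⟨_, rfl⟩⟩, Subtype.ext e⟩
  rw [hc] at h1
  have e : centralizer ({z} : Set G) ⊓ centralizer ({x} : Set G) =
      (centralizer ({x'} : Set ↥(centralizer ({z} : Set G)))).map (centralizer ({z} : Set G)).subtype := by
    ext c
    simp only [mem_inf, mem_map, mem_centralizer_singleton_iff, coe_subtype]
    constructor
    · rintro ⟨hc, hca⟩
      exact ⟨⟨c, mem_centralizer_singleton_iff.2 hc⟩, Subtype.ext hca, rfl⟩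
    · rintro ⟨c, hc, rfl⟩
      exact ⟨S.commZ c.2, congrArg Subtype.val hc⟩
  rw [e, card_map_of_injective (centralizer ({z} : Set G)).subtype_injective]
  omega

/-- A Sylow `2`-subgroup of `H` is one of `G`, so every involution is conjugate into `H`. -/
theorem exists_conj_mem_H [Finite G] {v : G} (hv : orderOf v = 2) :
    ∃ g : G, g * v * g⁻¹ ∈ centralizer ({z} : Set G) := by
  classical
  haveI : Fact (Nat.Prime 2) := ⟨Nat.prime_two⟩
  set H := centralizer ({z} : Set G) with hH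
  have hQp : IsPGroup 2 ↥(Q.subgroupOf H) := IsPGroup.of_card (n := 5) (by
    rw [Nat.card_congr (subgroupOfEquivOfLe S.hQH).toEquiv, S.hQc]; norm_num)
  obtain ⟨T, hT⟩ := hQp.exists_le_sylow
  set T0 := (T : Subgroup ↥H).map H.subtype with hT0
  have hT0H : T0 ≤ H := map_subtype_le _
  have hT0p : IsPGroup 2 ↥T0 := T.2.map _
  have hQT : Q ≤ T0 := fun q hq => ⟨⟨q, S.hQH hq⟩, hT (mem_subgroupOf.2 hq), rfl⟩
  obtain ⟨P, hP⟩ := hT0p.exists_le_sylow
  have hPH : (P : Subgroup G) ⊓ H ≤ T0 := by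
    have h : ((P : Subgroup G) ⊓ H).subgroupOf H = (T : Subgroup ↥H) := by
      refine T.3 ?_ fun t ht => mem_subgroupOf.2 ⟨hP ⟨t, ht, rfl⟩, t.2⟩
      exact (P.2.to_le inf_le_left).comap_of_injective _ H.subtype_injective
    intro g hg
    exact ⟨⟨g, hg.2⟩, h ▸ mem_subgroupOf.2 hg, rfl⟩
  have hPT : (P : Subgroup G) ≤ T0 := by
    by_contra hc
    haveI : Group.IsNilpotent ↥(P : Subgroup G) := P.2.isNilpotent
    have hlt : T0.subgroupOf P < ⊤ := lt_top_iff_ne_top.2 fun e => hc (subgroupOf_eq_top.1 e)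
    obtain ⟨g, hgN, hgT⟩ := SetLike.exists_of_lt (normalizerCondition_of_isNilpotent _ hlt)
    rw [mem_subgroupOf] at hgT
    apply hgT
    refine hPH (mem_inf.2 ⟨g.2, mem_centralizer_singleton_iff.2 ?_⟩)
    have hconjT : ∀ t ∈ T0, (g : G) * t * (g : G)⁻¹ ∈ T0 := fun t ht => by
      have := ((mem_normalizer_iff.1 hgN) ⟨t, hP ht⟩).1 (mem_subgroupOf.2 ht)
      rwa [mem_subgroupOf] at this
    have hzT : z ∈ T0 := hQT S.hzQ
    set u := (g : G) * z * (g : G)⁻¹ with hu
    have hconjT' : ∀ t ∈ T0, (g : G)⁻¹ * t * (g : G) ∈ T0 := fun t ht => by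
      have h0 : g⁻¹ ∈ normalizer ((T0.subgroupOf P : Subgroup ↥(P : Subgroup G)) : Set ↥(P : Subgroup G)) :=
        inv_mem hgN
      have := ((mem_normalizer_iff.1 h0) ⟨t, hP ht⟩).1 (mem_subgroupOf.2 ht)
      rw [mem_subgroupOf] at this
      simpa using this
    have huc : u ∈ centralizer (Q : Set G) := mem_centralizer_iff.2 fun q hq => by
      have hq' := S.commZ (hT0H (hconjT' q (hQT hq)))
      calc q * u = g * ((g : G)⁻¹ * q * g * z) * (g : G)⁻¹ := by rw [hu]; group
        _ = g * (z * ((g : G)⁻¹ * q * g)) * (g : G)⁻¹ := by rw [hq']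
        _ = u * q := by rw [hu]; group
    have huQ := S.hC huc
    rcases S.cent_Q huQ (fun p hp => mem_centralizer_iff.1 huc p hp) with e | e
    · exact absurd (conj_eq_one_iff.1 e) S.zne
    · rw [hu, mul_inv_eq_iff_eq_mul] at e
      exact e
  obtain ⟨g, hg⟩ := exists_conj_invol_mem_sylow P hv
  exact ⟨g, hT0H (hPT hg)⟩

theorem conj_z_or_outer [Finite G] {v : G} (hv : orderOf v = 2) :
    IsConj z v ∨ ∃ b, Outer z Q b ∧ IsConj b v := by
  obtain ⟨g, hg⟩ := S.exists_conj_mem_H hv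
  have hv' : orderOf (g * v * g⁻¹) = 2 := by rw [orderOf_conj_eq]; exact hv
  have hback : IsConj (g * v * g⁻¹) v := (isConj_iff.2 ⟨g, rfl⟩ : IsConj v _).symm
  by_cases hQ' : g * v * g⁻¹ ∈ Q
  · refine Or.inl ?_
    by_cases e : g * v * g⁻¹ = z
    · rwa [e] at hback
    · exact (S.isConj_ni ⟨hQ', invol_mul_self hv', invol_ne_one hv', e⟩).trans hback
  · exact Or.inr ⟨_, ⟨hg, invol_mul_self hv', hQ'⟩, hback⟩

theorem exists_outer [Finite G] : ∃ a, Outer z Q a ∧ ¬ IsConj z a := by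
  obtain ⟨x, y, hx, hy, hxy⟩ := S.hcl
  rcases S.conj_z_or_outer hx with h | ⟨a, ha, ha'⟩
  · rcases S.conj_z_or_outer hy with h' | ⟨b, hb, hb'⟩
    · exact absurd (h.symm.trans h') hxy
    · exact ⟨b, hb, fun e => hxy (h.symm.trans (e.trans hb'))⟩
  · by_cases e : IsConj z a
    · rcases S.conj_z_or_outer hy with h' | ⟨b, hb, hb'⟩
      · exact absurd ((e.trans ha').symm.trans h') hxy
      · exact ⟨b, hb, fun e' => hxy ((e.trans ha').symm.trans (e'.trans hb'))⟩
    · exact ⟨a, ha, e⟩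

theorem not_isConj_outer [Finite G] {a : G} (ha : Outer z Q a) : ¬ IsConj z a := by
  obtain ⟨b, hb, hzb⟩ := S.exists_outer
  obtain ⟨h, -, hh⟩ := (S.outer_class ha).2.2 b hb
  exact fun e => hzb (e.trans (isConj_iff.2 ⟨h, hh⟩))

/-- The conjugates of `z` in `H` lie in `Q`. -/
theorem mem_Q_of_isConj [Finite G] {y : G} (hy : y ∈ centralizer ({z} : Set G)) (h : IsConj z y) :
    y ∈ Q := by
  by_contra hn
  exact S.not_isConj_outer ⟨hy, invol_mul_self ((orderOf_eq_of_isConj h).trans S.hz), hn⟩ h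

theorem conj_cases [Finite G] {a v : G} (ha : Outer z Q a) (hv : orderOf v = 2) :
    IsConj z v ∨ IsConj a v := by
  rcases S.conj_z_or_outer hv with h | ⟨b, hb, hbv⟩
  · exact Or.inl h
  · obtain ⟨h, -, hh⟩ := (S.outer_class ha).2.2 b hb
    exact Or.inr ((isConj_iff.2 ⟨h, hh⟩).trans hbv)

end Data

end CfsgLib.InvChar.HJType
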