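import Mathlib
import Cfsg.Agent.Lib.StructC.ExtraspecialCount

/-!
Counting involutions for the Hall-Janko order: facts about `A5` and about an extraspecial group
of order 32 with an automorphism of order 5.
-/

set_option autoImplicit false

namespace CfsgLib.InvChar.HJ

open CfsgLib.Transfer

local notation "A5" => alternatingGroup (Fin 5)

theorem a5_commuting_pairs : ((Finset.univ : Finset (A5 × A5)).filter fun p =>
    p.1 * p.1 = 1 ∧ p.1 ≠ 1 ∧ p.2 * p.2 = 1 ∧ p.2 ≠ 1 ∧ p.1 * p.2 = p.2 * p.1 ∧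
      p.1 ≠ p.2).card = 30 := by decide +kernel

theorem a5_odd_pairs : ((Finset.univ : Finset (A5 × A5)).filter fun p =>
    p.1 * p.1 = 1 ∧ p.1 ≠ 1 ∧ p.2 * p.2 = 1 ∧
      ((p.1 * p.2) * (p.1 * p.2) * (p.1 * p.2) = 1 ∨
        (p.1 * p.2) * (p.1 * p.2) * (p.1 * p.2) * (p.1 * p.2) * (p.1 * p.2) = 1)).card = 195 := by
  decide +kernel

theorem a5_orders : ∀ a : A5, a * a = 1 ∨ a * a * a = 1 ∨ a * a * a * a * a = 1 := by decide +kernel

theorem a5_involutions : ((Finset.univ : Finset A5).filter fun p => p * p = 1 ∧ p ≠ 1).card = 15 := by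
  decide +kernel

section Extraspecial

variable {E : Type*} [Group E] [Finite E]

/-- A subgroup contained in the union of two subgroups is contained in one of them. -/
theorem le_or_le_of_subset_union {A B C : Subgroup E} (h : ∀ a ∈ A, a ∈ B ∨ a ∈ C) :
    A ≤ B ∨ A ≤ C := by
  by_contra hc
  push Not at hc
  obtain ⟨a, ha, haB⟩ := SetLike.not_le_iff_exists.1 hc.1
  obtain ⟨b, hb, hbC⟩ := SetLike.not_le_iff_exists.1 hc.2
  have haC := (h a ha).resolve_left haB
  have hbB := (h b hb).resolve_right hbC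
  rcases h _ (mul_mem ha hb) with h1 | h1
  · exact haB (by simpa using mul_mem h1 (inv_mem hbB))
  · exact hbC (by simpa using mul_mem (inv_mem haC) h1)

/-- In an extraspecial group of order `32` with an automorphism of order `5` there are ten
non-central involutions, and two of them commute only if they agree modulo the centre. -/
theorem extraspecial_five (hE : Cfsg.IsExtraspecial 2 E) (hc : Nat.card E = 32) (ρ : MulAut E)
    (hρ : ρ ^ 5 = 1) (hρ1 : ρ ≠ 1) :
    Nat.card {x : E // x ^ 2 = 1} = 12 ∧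
      ∀ x y : E, x ^ 2 = 1 → y ^ 2 = 1 → x ∉ Subgroup.center E → y ∉ Subgroup.center E →
        x * y = y * x → x⁻¹ * y ∈ Subgroup.center E := by
  classical
  haveI : Fintype E := Fintype.ofFinite E
  haveI : Fact (Nat.Prime 5) := ⟨by norm_num⟩
  set Z := Subgroup.center E with hZ
  have hZc : Nat.card ↥Z = 2 := hE.2
  have h5 : ∀ x, ρ (ρ (ρ (ρ (ρ x)))) = x := fun x => by
    simpa [pow_succ] using DFunLike.congr_fun hρ x
  -- fixed points modulo `5`
  have hmod : ∀ (P : E → Prop) (hP : ∀ x, P x → P (ρ x)),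
      Nat.card {x : E // P x} ≡ Nat.card {x : E // P x ∧ ρ x = x} [MOD 5] := by
    intro P hP
    let f : Function.End {x : E // P x} := fun a => ⟨ρ a.1, hP _ a.2⟩
    have hf : f ^ 5 ^ 1 = 1 := funext fun a => Subtype.ext (h5 a.1)
    have h1 := Equiv.Perm.card_fixedPoints_modEq hf
    rw [Nat.card_eq_fintype_card, Nat.card_eq_fintype_card]
    refine h1.trans (congrArg (· % 5) ?_)
    refine Fintype.card_congr
      { toFun := fun a => ⟨a.1.1, a.1.2, congrArg Subtype.val a.2⟩
        invFun := fun a => ⟨⟨a.1, a.2.1⟩, Subtype.ext a.2.2⟩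
        left_inv := fun a => rfl
        right_inv := fun a => rfl }
  let F : Subgroup E :=
    { carrier := {x | ρ x = x}
      one_mem' := map_one ρ
      mul_mem' := fun {a b} (ha : ρ a = a) (hb : ρ b = b) =>
        show ρ (a * b) = a * b by rw [map_mul, ha, hb]
      inv_mem' := fun {a} (ha : ρ a = a) => show ρ a⁻¹ = a⁻¹ by rw [map_inv, ha] }
  have hFiff : ∀ x, x ∈ F ↔ ρ x = x := fun x => Iff.rfl
  have hF : F = Z := by
    have h1 : 32 ≡ Nat.card ↥F [MOD 5] := by
      have := hmod (fun _ => True) (fun _ h => h)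
      rw [Nat.card_congr (Equiv.subtypeUnivEquiv fun _ => trivial), hc] at this
      refine this.trans (congrArg (· % 5) (Nat.card_congr (Equiv.subtypeEquivRight fun x => ?_)))
      simp [hFiff]
    have h2 : Nat.card ↥F ∣ 2 ^ 5 := by
      have := Subgroup.card_subgroup_dvd_card F
      rw [hc] at this
      simpa using this
    obtain ⟨i, hi, hFc⟩ := (Nat.dvd_prime_pow Nat.prime_two).1 h2
    rw [hFc] at h1
    have hi' : i = 1 ∨ i = 5 := by
      interval_cases i <;> simp_all [Nat.ModEq]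
    rcases hi' with rfl | rfl
    · refine (Subgroup.eq_of_le_of_card_ge (fun z hz => (hFiff z).2 ?_) (by rw [hFc, hZc]; rfl)).symm
      have hρz : ρ z ∈ Z := Subgroup.mem_center_iff.2 fun g => by
        obtain ⟨g', rfl⟩ := ρ.surjective g
        rw [← map_mul, ← map_mul, Subgroup.mem_center_iff.1 hz g']
      by_cases h1 : z = 1
      · rw [h1, map_one]
      · exact es_two_central_eq hE hρz hz (by simpa using h1) h1
    · exfalso
      refine hρ1 (MulEquiv.ext fun x => (hFiff x).1 ?_)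
      have : F = ⊤ := Subgroup.eq_top_of_card_eq F (by rw [hFc, hc]; rfl)
      rw [this]; trivial
  have hfix : ∀ x, ρ x = x ↔ x ∈ Z := fun x => by rw [← hF]; rfl
  have hZsq : ∀ x ∈ Z, x ^ 2 = 1 := fun x hx => special_center_pow hE.1 hx
  have hN : Nat.card {x : E // x ^ 2 = 1} = 12 := by
    obtain ⟨m, hm, hI⟩ :=
      CfsgLib.StructC.EsCount.invCount_formula hE 32 ⊤ isEsGood_top (by rw [Subgroup.card_top, hc])
    have hm2 : m = 2 := by
      have : (2 : ℕ) ^ (2 * m + 1) = 2 ^ 5 := by rw [← hm]; norm_num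
      have := Nat.pow_right_injective le_rfl this
      omega
    subst hm2
    rw [CfsgLib.StructC.EsCount.invCount_top] at hI
    have h1 := hmod (fun x => x ^ 2 = 1) (fun x hx => by rw [← map_pow, hx, map_one])
    have h2 : Nat.card {x : E // x ^ 2 = 1 ∧ ρ x = x} = 2 := by
      refine Eq.trans ?_ hZc
      exact Nat.card_congr (Equiv.subtypeEquivRight fun x =>
        ⟨fun h => (hfix x).1 h.2, fun h => ⟨hZsq x h, (hfix x).2 h⟩⟩)
    rw [h2] at h1
    unfold Nat.ModEq at h1
    simp only [Nat.card_eq_fintype_card] at hI h1 ⊢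
    rcases hI with hI | hI <;> norm_num at hI <;> omega
  refine ⟨hN, fun x y hx hy hxZ hyZ hxy => ?_⟩
  by_contra hne
  -- an elementary abelian subgroup of order eight
  obtain ⟨ζ, hζ, hζ1⟩ : ∃ ζ ∈ Z, ζ ≠ 1 := by
    haveI : Nontrivial ↥Z := Finite.one_lt_card_iff_nontrivial.1 (by rw [hZc]; norm_num)
    obtain ⟨a, ha⟩ := exists_ne (1 : ↥Z)
    exact ⟨a, a.2, fun e => ha (Subtype.ext e)⟩
  have hcx : ∀ a, a * ζ = ζ * a := fun a => Subgroup.mem_center_iff.1 hζ a
  set P := Subgroup.closure ({ζ, x, y} : Set E) with hP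
  have hPcomm : ∀ a ∈ P, ∀ b ∈ P, a * b = b * a := by
    have hgen : ∀ a ∈ ({ζ, x, y} : Set E), ∀ b ∈ ({ζ, x, y} : Set E), a * b = b * a := by
      intro a ha b hb
      simp only [Set.mem_insert_iff, Set.mem_singleton_iff] at ha hb
      rcases ha with rfl | rfl | rfl <;> rcases hb with rfl | rfl | rfl <;>
        first | rfl | exact hxy | exact hxy.symm | exact hcx _ | exact (hcx _).symm
    intro a ha b hb
    exact congrArg Subtype.val
      ((Subgroup.isMulCommutative_closure hgen).is_comm.comm (⟨a, ha⟩ : ↥P) ⟨b, hb⟩)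
  have hPsq : ∀ a ∈ P, a ^ 2 = 1 := by
    intro a ha
    induction ha using Subgroup.closure_induction with
    | mem b hb =>
      simp only [Set.mem_insert_iff, Set.mem_singleton_iff] at hb
      rcases hb with rfl | rfl | rfl
      · exact hZsq _ hζ
      · exact hx
      · exact hy
    | one => exact one_pow 2
    | mul b c hb hc ihb ihc => rw [(show Commute b c from hPcomm b hb c hc).mul_pow, ihb, ihc, one_mul]
    | inv b hb ihb => rw [inv_pow, ihb, inv_one]
  let σ : Finset E := Finset.univ.filter fun a => a ^ 2 = 1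
  have hσ : σ.card = 12 := by rw [← hN, Nat.card_eq_fintype_card, Fintype.card_subtype]
  have hsub : ∀ A : Subgroup E, (∀ a ∈ A, a ^ 2 = 1) →
      (Finset.univ.filter fun a => a ∈ A) ⊆ σ := fun A hA a ha =>
    Finset.mem_filter.2 ⟨Finset.mem_univ a, hA a (Finset.mem_filter.1 ha).2⟩
  have hcardA : ∀ A : Subgroup E, (Finset.univ.filter fun a => a ∈ A).card = Nat.card ↥A :=
    fun A => by rw [Nat.card_eq_fintype_card, Fintype.card_subtype]
  have hP8 : Nat.card ↥P = 8 := by
    have h1 : ({1, ζ, x, x * ζ, y} : Finset E) ⊆ Finset.univ.filter fun a => a ∈ P := by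
      intro a ha
      refine Finset.mem_filter.2 ⟨Finset.mem_univ a, ?_⟩
      have h1 : ζ ∈ P := Subgroup.subset_closure (by simp)
      have h2 : x ∈ P := Subgroup.subset_closure (by simp)
      simp only [Finset.mem_insert, Finset.mem_singleton] at ha
      rcases ha with rfl | rfl | rfl | rfl | rfl
      · exact one_mem P
      · exact h1
      · exact h2
      · exact mul_mem h2 h1
      · exact Subgroup.subset_closure (by simp)
    have h2 : ({1, ζ, x, x * ζ, y} : Finset E).card = 5 := by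
      have a1 : x * ζ ∉ Z := fun h => hxZ (by simpa using mul_mem h (inv_mem hζ))
      have a2 : y ≠ x := fun h => hne (by rw [h, inv_mul_cancel]; exact one_mem Z)
      have a3 : y ≠ x * ζ := fun h => hne (by rw [h, inv_mul_cancel_left]; exact hζ)
      have a4 : x ≠ x * ζ := fun h => hζ1 (mul_eq_left.1 h.symm)
      have b1 : ∀ a ∈ Z, a ≠ x ∧ a ≠ x * ζ ∧ a ≠ y := fun a ha =>
        ⟨fun h => hxZ (h ▸ ha), fun h => a1 (h ▸ ha), fun h => hyZ (h ▸ ha)⟩
      obtain ⟨c1, c2, c3⟩ := b1 1 (one_mem Z)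
      obtain ⟨d1, d2, d3⟩ := b1 ζ hζ
      simp [hζ1.symm, c1, c2, c3, d1, d2, d3, a4, a2.symm, a3.symm]
    have h3 : 5 ≤ Nat.card ↥P := by rw [← hcardA, ← h2]; exact Finset.card_le_card h1
    have h4 : Nat.card ↥P ≤ 12 := by rw [← hcardA, ← hσ]; exact Finset.card_le_card (hsub P hPsq)
    have h5' : Nat.card ↥P ∣ 2 ^ 5 := by
      have := Subgroup.card_subgroup_dvd_card P
      rw [hc] at this
      simpa using this
    obtain ⟨i, hi, hPi⟩ := (Nat.dvd_prime_pow Nat.prime_two).1 h5'
    interval_cases i <;> omega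
  set P1 := P.map ρ.toMonoidHom with hP1
  set P2 := P1.map ρ.toMonoidHom with hP2
  have hmap : ∀ A : Subgroup E, (∀ a ∈ A, a ^ 2 = 1) → ∀ a ∈ A.map ρ.toMonoidHom, a ^ 2 = 1 := by
    rintro A hA _ ⟨a, ha, rfl⟩
    show ρ a ^ 2 = 1
    rw [← map_pow, hA a ha, map_one]
  have hcardmap : ∀ A : Subgroup E, Nat.card ↥(A.map ρ.toMonoidHom) = Nat.card ↥A := fun A =>
    Subgroup.card_map_of_injective ρ.injective
  have hnotinv : ¬ P1 ≤ P := by
    intro h
    have hinv : ∀ a, a ∈ P → ρ a ∈ P := fun a ha => h ⟨a, ha, rfl⟩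
    have := hmod (fun a => a ∈ P) hinv
    rw [show Nat.card {a : E // a ∈ P} = 8 from hP8] at this
    have h2 : Nat.card {a : E // a ∈ P ∧ ρ a = a} = 2 := by
      refine Eq.trans ?_ hZc
      refine Nat.card_congr (Equiv.subtypeEquivRight fun a => ⟨fun h => (hfix a).1 h.2, fun h => ⟨?_, (hfix a).2 h⟩⟩)
      by_cases ha : a = 1
      · rw [ha]; exact one_mem P
      · rw [es_two_central_eq hE h hζ ha hζ1]
        exact Subgroup.subset_closure (by simp)
    rw [h2] at this
    exact absurd this (by decide)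
  have hP1sq := hmap P hPsq
  have hP2sq := hmap P1 hP1sq
  -- the union of `P` and `P1` is everything
  have hunion : (Finset.univ.filter fun a => a ∈ P) ∪ (Finset.univ.filter fun a => a ∈ P1) = σ := by
    refine Finset.eq_of_subset_of_card_le (Finset.union_subset (hsub P hPsq) (hsub P1 hP1sq)) ?_
    have h1 := Finset.card_union_add_card_inter (Finset.univ.filter fun a => a ∈ P)
      (Finset.univ.filter fun a => a ∈ P1)
    have hint : (Finset.univ.filter fun a => a ∈ P) ∩ (Finset.univ.filter fun a => a ∈ P1) =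
        Finset.univ.filter fun a => a ∈ P ⊓ P1 := by
      ext a; simp [Subgroup.mem_inf]
    rw [hint, hcardA, hcardA, hcardA, hcardmap, hP8] at h1
    have hd : Nat.card ↥(P ⊓ P1) ∣ 2 ^ 3 := by
      have := Subgroup.card_dvd_of_le (inf_le_left : P ⊓ P1 ≤ P)
      rw [hP8] at this
      simpa using this
    obtain ⟨i, hi, hPi⟩ := (Nat.dvd_prime_pow Nat.prime_two).1 hd
    have hne8 : i ≠ 3 := fun e => hnotinv (by
      have : P ⊓ P1 = P1 := Subgroup.eq_of_le_of_card_ge inf_le_right
        (by rw [hPi, e, hcardmap, hP8]; rfl)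
      rw [← this]; exact inf_le_left)
    rw [hσ]
    interval_cases i <;> omega
  have hle : P2 ≤ P ∨ P2 ≤ P1 := le_or_le_of_subset_union fun a ha => by
    have : a ∈ σ := Finset.mem_filter.2 ⟨Finset.mem_univ a, hP2sq a ha⟩
    rw [← hunion] at this
    simpa using this
  apply hnotinv
  rcases hle with h | h
  · rintro _ ⟨a, ha, rfl⟩
    -- `ρ = ρ ^ 6`
    have hinv : ∀ b, b ∈ P → ρ (ρ b) ∈ P := fun b hb => h ⟨ρ b, ⟨b, hb, rfl⟩, rfl⟩
    show ρ a ∈ P
    rw [← h5 (ρ a)]
    exact hinv _ (hinv _ (hinv _ ha))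
  · rintro _ ⟨a, ha, rfl⟩
    show ρ a ∈ P
    obtain ⟨b, hb, hb'⟩ := h ⟨ρ a, ⟨a, ha, rfl⟩, rfl⟩
    have : b = ρ a := ρ.injective hb'
    exact this ▸ hb

end Extraspecial

end CfsgLib.InvChar.HJ
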