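import Cfsg.Agent.Lib.InvChar.HallJankoLocalData
import Cfsg.Agent.Lib.Transfer.AbelianSylow
import Cfsg.Agent.Lib.Comp.Subnormal

/-!
Groups of Hall-Janko type: the centralisers of the elements of order five and the element of order
three centralising `X₀`.
-/

set_option autoImplicit false

namespace CfsgLib.InvChar.HJType

open CfsgLib.Invol Subgroup
open scoped commutatorElement

universe u

variable {G : Type u} [Group G] {z : G} {Q : Subgroup G} {a : G} {W X0 : Subgroup G}

theorem five_sq_dvd [Finite G] (hG : Nat.card G = 604800) {f : G} (hf : orderOf f = 5) :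
    25 ∣ Nat.card ↥(centralizer ({f} : Set G)) := by
  haveI : Fact (Nat.Prime 5) := ⟨by norm_num⟩
  obtain ⟨P, hP⟩ := (IsPGroup.of_card (p := 5) (n := 1) (by rw [Nat.card_zpowers, hf]; norm_num) :
    IsPGroup 5 ↥(zpowers f)).exists_le_sylow
  have h25 : Nat.card ↥(P : Subgroup G) = 25 := by
    obtain ⟨j, hj⟩ := P.2.exists_card_eq
    have hd : 5 ^ j ∣ 604800 := hj ▸ hG ▸ card_subgroup_dvd_card (P : Subgroup G)
    have hnd : ¬ 5 ∣ (P : Subgroup G).index := P.not_dvd_index
    have hmul := (P : Subgroup G).card_mul_index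
    rw [hj, hG] at hmul
    have hj3 : j < 3 := by
      by_contra hc
      have : 5 ^ 3 ∣ 604800 := (pow_dvd_pow 5 (not_lt.1 hc)).trans hd
      norm_num at this
    rcases (show j = 0 ∨ j = 1 ∨ j = 2 by omega) with rfl | rfl | rfl
    · norm_num at hmul; rw [hmul] at hnd; norm_num at hnd
    · norm_num at hmul
      have : (P : Subgroup G).index = 120960 := by omega
      rw [this] at hnd; norm_num at hnd
    · rw [hj]; norm_num
  have hab : IsMulCommutative ↥(P : Subgroup G) :=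
    IsPGroup.isMulCommutative_of_card_eq_prime_sq (p := 5) (by rw [h25]; norm_num)
  rw [← h25]
  refine card_dvd_of_le fun c hc => mem_centralizer_singleton_iff.2 ?_
  exact congrArg Subtype.val (hab.is_comm.comm ⟨c, hc⟩ ⟨f, hP (mem_zpowers f)⟩)

/-- The elements of order five of `H`. -/
theorem Data.cent_five_H [Finite G] (S : Data z Q) {y : G} (hyH : y ∈ centralizer ({z} : Set G))
    (hy : orderOf y = 5) :
    Nat.card ↥(centralizer ({z} : Set G) ⊓ centralizer ({y} : Set G) : Subgroup G) = 10 := by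
  classical
  haveI : Fact (Nat.Prime 5) := ⟨by norm_num⟩
  obtain ⟨π, hπ, hk⟩ := S.hquot
  set K := centralizer ({z} : Set G) ⊓ centralizer ({y} : Set G) with hK
  set y' : ↥(centralizer ({z} : Set G)) := ⟨y, hyH⟩ with hy'
  let f : ↥K →* alternatingGroup (Fin 5) := π.comp (Subgroup.inclusion inf_le_left)
  have hyQ : y ∉ Q := fun h => by
    have := Q.orderOf_dvd_natCard h
    rw [hy, S.hQc] at this
    norm_num at this
  have hy5 : y ^ 5 = 1 := hy ▸ pow_orderOf_eq_one y
  have hs5 : π y' ^ 5 = 1 := by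
    rw [← map_pow, show y' ^ 5 = 1 from Subtype.ext (by rw [SubmonoidClass.coe_pow]; exact hy5), map_one]
  have hs1 : π y' ≠ 1 := fun e => hyQ (by
    have : y' ∈ π.ker := e
    rwa [hk, mem_subgroupOf] at this)
  have hran : Nat.card ↥f.range ∣ 5 := by
    have hc : ∀ s : alternatingGroup (Fin 5), s ^ 5 = 1 → s ≠ 1 →
        ((Finset.univ : Finset (alternatingGroup (Fin 5))).filter fun t => t * s = s * t).card = 5 := by
      decide +kernel
    have hC : Nat.card ↥(centralizer ({π y'} : Set (alternatingGroup (Fin 5)))) = 5 := by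
      refine Eq.trans ?_ (hc _ hs5 hs1)
      rw [Nat.card_eq_fintype_card, Fintype.card_subtype]
      congr 1
      ext t
      simp [mem_centralizer_singleton_iff]
    refine (card_dvd_of_le ?_).trans (dvd_of_eq hC)
    rintro _ ⟨c, rfl⟩
    refine mem_centralizer_singleton_iff.2 ?_
    show π (Subgroup.inclusion inf_le_left c) * π y' = π y' * π (Subgroup.inclusion inf_le_left c)
    rw [← map_mul, ← map_mul]
    exact congrArg π (Subtype.ext (mem_centralizer_singleton_iff.1 (mem_inf.1 c.2).2))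
  -- the fixed points on `Q`
  let F : Subgroup ↥Q := (centralizer ({y} : Set G)).subgroupOf Q
  have hmod : 32 ≡ Nat.card ↥F [MOD 5] := by
    haveI : Fintype ↥Q := Fintype.ofFinite _
    let φ : Function.End ↥Q := fun p => ⟨y * p * y⁻¹, S.hnorm y hyH p p.2⟩
    have hφ : φ ^ 5 ^ 1 = 1 := funext fun p => Subtype.ext (by
      show y * (y * (y * (y * (y * (p : G) * y⁻¹) * y⁻¹) * y⁻¹) * y⁻¹) * y⁻¹ = p
      rw [show y * (y * (y * (y * (y * (p : G) * y⁻¹) * y⁻¹) * y⁻¹) * y⁻¹) * y⁻¹ =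
        y ^ 5 * p * (y ^ 5)⁻¹ by simp [pow_succ, mul_assoc], hy5, one_mul, inv_one, mul_one])
    have h1 := Equiv.Perm.card_fixedPoints_modEq hφ
    rw [← S.hQc, Nat.card_eq_fintype_card, Nat.card_eq_fintype_card]
    refine h1.trans (congrArg (· % 5) (Fintype.card_congr (Equiv.subtypeEquivRight fun p => ?_)))
    show φ p = p ↔ p ∈ F
    rw [mem_subgroupOf, mem_centralizer_singleton_iff]
    refine ⟨fun h => ?_, fun h => Subtype.ext (mul_inv_eq_iff_eq_mul.2 h.symm)⟩
    exact (mul_inv_eq_iff_eq_mul.1 (congrArg Subtype.val h)).symm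
  have hzF : (⟨z, S.hzQ⟩ : ↥Q) ∈ F := by
    rw [mem_subgroupOf, mem_centralizer_singleton_iff]; exact (S.commZ hyH).symm
  have hF2 : Nat.card ↥F = 2 := by
    have hd : Nat.card ↥F ∣ 2 ^ 5 := by
      have := card_subgroup_dvd_card F
      rw [S.hQc] at this
      simpa using this
    obtain ⟨i, hi, hFi⟩ := (Nat.dvd_prime_pow Nat.prime_two).1 hd
    have hi0 : i ≠ 0 := fun e => S.zne (by
      have h1 : Nat.card ↥F = 1 := by rw [hFi, e]; rfl
      rw [Subgroup.card_eq_one] at h1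
      rw [h1, mem_bot] at hzF
      exact congrArg Subtype.val hzF)
    have hi5 : i ≠ 5 := fun e => hyQ (S.hC (mem_centralizer_iff.2 fun q hq => by
      have : F = ⊤ := eq_top_of_card_eq F (by rw [hFi, e, S.hQc]; rfl)
      have hq' : (⟨q, hq⟩ : ↥Q) ∈ F := this ▸ mem_top _
      rw [mem_subgroupOf, mem_centralizer_singleton_iff] at hq'
      exact hq'))
    rw [hFi] at hmod ⊢
    unfold Nat.ModEq at hmod
    interval_cases i <;> omega
  have hker : Nat.card ↥f.ker = 2 := by
    rw [← hF2]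
    refine Nat.card_congr
      { toFun := fun c => ⟨⟨((c : ↥K) : G), ?_⟩, ?_⟩
        invFun := fun p => ⟨⟨((p : ↥Q) : G), ?_⟩, ?_⟩
        left_inv := fun c => rfl
        right_inv := fun p => rfl }
    · have h : Subgroup.inclusion inf_le_left (c : ↥K) ∈ π.ker := c.2
      rwa [hk, mem_subgroupOf] at h
    · rw [mem_subgroupOf]; exact (mem_inf.1 (c : ↥K).2).2
    · exact ⟨S.hQH (p : ↥Q).2, mem_subgroupOf.1 p.2⟩
    · show Subgroup.inclusion inf_le_left _ ∈ π.ker
      rw [hk, mem_subgroupOf]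
      exact (p : ↥Q).2
  have h := card_eq_card_quotient_mul_card_subgroup f.ker
  rw [Nat.card_congr (QuotientGroup.quotientKerEquivRange f).toEquiv, hker] at h
  have hy' : 5 ∣ Nat.card ↥K := hy ▸ K.orderOf_dvd_natCard
    (mem_inf.2 ⟨hyH, mem_centralizer_singleton_iff.2 rfl⟩)
  rcases (Nat.dvd_prime (by norm_num : Nat.Prime 5)).1 hran with e | e <;> rw [e] at h
  · rw [h] at hy'; norm_num at hy'
  · exact h

/-- The configuration around an element `f` of order five of `X₀`. -/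
structure Five (z : G) (Q : Subgroup G) (a : G) (W X0 : Subgroup G) (f v k : G) (A : Subgroup G) :
    Prop where
  L : Loc z Q a W X0
  hfX : f ∈ X0
  hf : orderOf f = 5
  hvX : v ∈ X0
  hv : orderOf v = 2
  hvf : v * f * v⁻¹ = f⁻¹
  hCf : Nat.card ↥(centralizer ({f} : Set G)) = 300
  hAf : A ≤ centralizer ({f} : Set G)
  hA : Nat.card ↥A = 60
  hWA : W ≤ A
  hAint : ∀ c ∈ A, c ∈ zpowers f → c = 1
  hAdec : ∀ c ∈ centralizer ({f} : Set G), ∃ i : ℤ, ∃ α ∈ A, c = f ^ i * α
  hAcent : HJKlein.Cent (W.subgroupOf A)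
  hinvol : ∀ u, u * f = f * u → orderOf u = 2 → u ∈ A ∧ IsConj a u
  hkA : k ∈ A
  hk : orderOf k = 3
  hkX : ∀ x ∈ X0, k * x = x * k
  hkW : ∀ w ∈ W, k * w * k⁻¹ ∈ W
  hkW' : ∀ w ∈ W, w ≠ 1 → k * w * k⁻¹ ≠ w
  hvA : ∀ α ∈ A, v * α = α * v

theorem Data.exists_five_config [Finite G] (S : Data z Q) :
    ∃ (a : G) (W X0 : Subgroup G) (f v k : G) (A : Subgroup G), Five z Q a W X0 f v k A := by
  classical
  haveI : Fact (Nat.Prime 5) := ⟨by norm_num⟩
  obtain ⟨a, W, X0, L⟩ := S.exists_loc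
  have hz0 := L.zX0 S
  have hcU := L.X0_cent S hz0 S.zz S.zne
  have hX60 : Nat.card ↥X0 = 60 := L.hX0c
  obtain ⟨⟨f, hfX⟩, hf'⟩ := exists_prime_orderOf_dvd_card' (G := ↥X0) 5 (by rw [hX60]; norm_num)
  obtain ⟨hC5, ⟨⟨v, hvX⟩, hv', hvf'⟩, -⟩ := hcU.five hX60 hf'
  rw [← orderOf_coe] at hf' hv'
  change orderOf f = 5 at hf'
  change orderOf v = 2 at hv'
  have hvf : v * f * v⁻¹ = f⁻¹ := congrArg Subtype.val hvf'
  have hvv : v * v = 1 := invol_mul_self hv'
  have hCy : ∀ c ∈ X0, c * f = f * c → c ∈ zpowers f := by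
    intro c hc hcf
    have hle : zpowers (⟨f, hfX⟩ : ↥X0) ≤ centralizer ({(⟨f, hfX⟩ : ↥X0)} : Set ↥X0) :=
      zpowers_le.2 (mem_centralizer_singleton_iff.2 rfl)
    have he := eq_of_le_of_card_ge hle (by rw [hC5, Nat.card_zpowers, ← orderOf_coe, hf'])
    have : (⟨c, hc⟩ : ↥X0) ∈ zpowers (⟨f, hfX⟩ : ↥X0) := by
      rw [he]; exact mem_centralizer_singleton_iff.2 (Subtype.ext hcf)
    obtain ⟨i, hi⟩ := mem_zpowers_iff.1 this
    exact mem_zpowers_iff.2 ⟨i, by simpa using congrArg Subtype.val hi⟩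
  set M := centralizer ({f} : Set G) with hM
  have hWM : W ≤ M := fun w hw => mem_centralizer_singleton_iff.2 (L.hWcen w hw f (L.hX0X hfX))
  have hfM : f ∈ M := mem_centralizer_singleton_iff.2 rfl
  have h4d : 4 ∣ Nat.card ↥M := L.hWc ▸ card_dvd_of_le hWM
  have h25 : 25 ∣ Nat.card ↥M := five_sq_dvd S.order_eq.1 hf'
  have hbig : 4 * 5 < Nat.card ↥M := by
    have := Nat.le_of_dvd Nat.card_pos h25
    omega
  obtain ⟨hcases, hconjW, n, hnf, hnW, hnW'⟩ :=
    L.cent_elem S (q := 5) (by norm_num) (by norm_num) hfX hf' hCy hbig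
  have hMc : Nat.card ↥M = 300 := by
    rcases hcases with ⟨h, -⟩ | h <;> rw [h] at h25 ⊢
    norm_num at h25
  -- the commutator subgroup of `M`
  set f' : ↥M := ⟨f, hfM⟩ with hf''
  set A' := commutator ↥M with hA'
  set A := A'.map M.subtype with hAdef
  have hfc : f' ∈ center ↥M := mem_center_iff.2 fun c =>
    Subtype.ext (mem_centralizer_singleton_iff.1 c.2)
  have hAY : ∀ c : ↥M, c ∈ A' → c ∈ zpowers f' → c = 1 := by
    intro c hcA hcY
    obtain ⟨P, hP⟩ := (IsPGroup.of_card (p := 5) (n := 1) (by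
      rw [Nat.card_zpowers, ← orderOf_coe, hf']; norm_num) : IsPGroup 5 ↥(zpowers f')).exists_le_sylow
    have hP25 : Nat.card ↥(P : Subgroup ↥M) = 25 := by
      rw [P.card_eq_multiplicity, hMc, show Nat.factorization 300 5 = 2 by
        rw [show (300 : ℕ) = 5 * (5 * 12) by norm_num, Nat.factorization_mul (by norm_num) (by norm_num),
          Finsupp.add_apply, Nat.factorization_mul (by norm_num) (by norm_num), Finsupp.add_apply,
          Nat.Prime.factorization_self (by norm_num),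
          Nat.factorization_eq_zero_of_not_dvd (show ¬ 5 ∣ 12 by norm_num)]
        <;> simp]
      norm_num
    haveI : IsMulCommutative ↥(P : Subgroup ↥M) :=
      IsPGroup.isMulCommutative_of_card_eq_prime_sq (p := 5) (by rw [hP25]; norm_num)
    have hidx : (P : Subgroup ↥M).index = 12 := by
      have := (P : Subgroup ↥M).card_mul_index
      rw [hP25, hMc] at this
      omega
    have h := CfsgLib.Transfer.inf_commutator_inf_center_eq_bot (P : Subgroup ↥M)
      (by rw [hP25, hidx]; norm_num)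
    have hm : c ∈ (P : Subgroup ↥M) ⊓ commutator ↥M ⊓ center ↥M :=
      ⟨⟨hP hcY, hcA⟩, (zpowers_le.2 hfc) hcY⟩
    rwa [h, mem_bot] at hm
  haveI hA'n : A'.Normal := inferInstance
  -- `W` lies in the commutator subgroup
  have hWA' : ∀ w (hw : w ∈ W), (⟨w, hWM hw⟩ : ↥M) ∈ A' := by
    intro w hw
    set n' : ↥M := ⟨n, mem_centralizer_singleton_iff.2 hnf⟩ with hn'
    let ψ : ↥W → ↥W := fun p => ⟨(p : G) * (n * p * n⁻¹), mul_mem p.2 (hnW p p.2)⟩
    have hψ : Function.Injective ψ := by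
      intro p q h
      have h' : (p : G) * (n * p * n⁻¹) = q * (n * q * n⁻¹) := congrArg Subtype.val h
      by_contra hne
      have hr : (q : G) * p ≠ 1 := fun e => hne (Subtype.ext (by
        rw [eq_inv_of_mul_eq_one_right e, inv_eq_of_mul_eq_one_right (L.hW2 _ q.2)]))
      refine hnW' _ (mul_mem q.2 p.2) hr ?_
      calc n * ((q : G) * p) * n⁻¹ = (n * q * n⁻¹) * (n * p * n⁻¹) := by group
        _ = (q : G)⁻¹ * ((q : G) * (n * q * n⁻¹)) * (n * p * n⁻¹) := by group
        _ = (q : G)⁻¹ * p * ((n * (p : G) * n⁻¹) * (n * p * n⁻¹)) := by rw [← h']; group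
        _ = q * p := by rw [L.hW2 _ (hnW p p.2), mul_one, inv_eq_of_mul_eq_one_right (L.hW2 _ q.2)]
    obtain ⟨p, hp⟩ := (Finite.injective_iff_surjective.1 hψ) ⟨w, hw⟩
    have hw' : (⟨w, hWM hw⟩ : ↥M) = ⁅(⟨p, hWM p.2⟩ : ↥M), n'⁆ := by
      apply Subtype.ext
      show w = (p : G) * n * (p : G)⁻¹ * n⁻¹
      rw [inv_eq_of_mul_eq_one_right (L.hW2 _ p.2), show (p : G) * n * p * n⁻¹ = p * (n * p * n⁻¹) by
        group]
      exact (congrArg Subtype.val hp).symm
    rw [hw']
    exact commutator_mem_commutator (mem_top _) (mem_top _)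
  have hAM : A ≤ M := map_subtype_le A'
  have hWA : W ≤ A := fun w hw => ⟨⟨w, hWM hw⟩, hWA' w hw, rfl⟩
  have hAn : ∀ c ∈ M, ∀ α ∈ A, c * α * c⁻¹ ∈ A := by
    rintro c hc _ ⟨α, hα, rfl⟩
    exact ⟨⟨c, hc⟩ * α * ⟨c, hc⟩⁻¹, hA'n.conj_mem α hα _, rfl⟩
  have hAint : ∀ c ∈ A, c ∈ zpowers f → c = 1 := by
    rintro _ ⟨c, hc, rfl⟩ hcf
    obtain ⟨i, hi⟩ := mem_zpowers_iff.1 hcf
    exact congrArg Subtype.val (hAY c hc (mem_zpowers_iff.2 ⟨i, Subtype.ext (by
      rw [Subgroup.coe_zpow]; exact hi)⟩))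
  have hinvol : ∀ u, u * f = f * u → orderOf u = 2 → u ∈ A ∧ IsConj a u := by
    intro u huf hu
    obtain ⟨m, hmf, hmu⟩ := hconjW u huf hu
    have hmM : m ∈ M := mem_centralizer_singleton_iff.2 hmf
    refine ⟨?_, ?_⟩
    · have := hAn m⁻¹ (inv_mem hmM) _ (hWA hmu)
      rwa [show m⁻¹ * (m * u * m⁻¹) * m⁻¹⁻¹ = u by group] at this
    · have hne : m * u * m⁻¹ ≠ 1 := fun e => invol_ne_one hu (conj_eq_one_iff.1 e)
      exact (L.W_outer S hmu hne).2.1.trans (isConj_iff.2 ⟨m, rfl⟩ : IsConj u _).symm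
  have hcA : HJKlein.Cent (W.subgroupOf A) := by
    refine ⟨by rw [Nat.card_congr (subgroupOfEquivOfLe hWA).toEquiv, L.hWc],
      fun w hw => Subtype.ext (L.hW2 _ hw), fun w hw hw1 c hcw => ?_⟩
    have hw1' : (w : G) ≠ 1 := fun e => hw1 (Subtype.ext e)
    have hcX : (c : G) ∈ centralizer ({a} : Set G) := by
      rw [← (L.W_outer S hw hw1').2.2]
      exact mem_centralizer_singleton_iff.2 (congrArg Subtype.val hcw)
    obtain ⟨d, hd, x0, hx0, hdx⟩ := L.hdec _ hcX
    have hxf : x0 * f = f * x0 := by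
      have h := mem_centralizer_singleton_iff.1 (hAM c.2)
      rw [← hdx, ← mul_assoc f d x0, ← L.hWcen d hd f (L.hX0X hfX), mul_assoc, mul_assoc] at h
      exact mul_left_cancel h
    have hx1 : x0 = 1 := hAint x0 (by
      rw [show x0 = d⁻¹ * (d * x0) by group, hdx]
      exact mul_mem (inv_mem (hWA hd)) c.2) (hCy x0 hx0 hxf)
    show (c : G) ∈ W
    rw [← hdx, hx1, mul_one]
    exact hd
  -- the order of `A`
  have hA60 : Nat.card ↥A = 60 := by
    have hYc : Nat.card ↥(zpowers f') = 5 := by rw [Nat.card_zpowers, ← orderOf_coe, hf']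
    have hd : Nat.card ↥A' * 5 ∣ 300 := by
      rw [← hMc, ← hYc]
      let φ : ↥A' × ↥(zpowers f') →* ↥M := MonoidHom.mk' (fun p => (p.1 : ↥M) * p.2) fun p q => by
        have hc : (p.2 : ↥M) * q.1 = q.1 * p.2 := (mem_center_iff.1 ((zpowers_le.2 hfc) p.2.2) _).symm
        show ((p.1 : ↥M) * q.1) * ((p.2 : ↥M) * q.2) = (p.1 : ↥M) * p.2 * (q.1 * q.2)
        calc ((p.1 : ↥M) * q.1) * ((p.2 : ↥M) * q.2) = p.1 * (q.1 * p.2) * q.2 := by group
          _ = _ := by rw [← hc]; group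
      have hφ : Function.Injective φ := by
        rw [injective_iff_map_eq_one]
        intro p hp
        have h1 : (p.1 : ↥M) = (p.2 : ↥M)⁻¹ := eq_inv_of_mul_eq_one_left hp
        have h2 : (p.1 : ↥M) = 1 := hAY _ p.1.2 (h1 ▸ inv_mem p.2.2)
        rw [h2, eq_comm, inv_eq_one] at h1
        exact Prod.ext (Subtype.ext h2) (Subtype.ext h1)
      rw [← Nat.card_prod]
      exact card_dvd_of_injective φ hφ
    have hAc : Nat.card ↥A = Nat.card ↥A' := card_map_of_injective M.subtype_injective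
    have hd60 : Nat.card ↥A ∣ 60 := by
      rw [hAc]; exact Nat.dvd_of_mul_dvd_mul_right (by norm_num : 0 < 5) (by simpa using hd)
    -- `W` is not normal in `M`
    have hnotn : ¬ ∀ c ∈ M, ∀ w ∈ W, c * w * c⁻¹ ∈ W := by
      intro hn
      obtain ⟨P, hP⟩ := (IsPGroup.of_card (p := 5) (n := 1) (by
        rw [Nat.card_zpowers, ← orderOf_coe, hf']; norm_num) : IsPGroup 5 ↥(zpowers f')).exists_le_sylow
      have hP25 : 25 ∣ Nat.card ↥(P : Subgroup ↥M) := by
        rw [P.card_eq_multiplicity, hMc, show Nat.factorization 300 5 = 2 by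
          rw [show (300 : ℕ) = 5 * (5 * 12) by norm_num, Nat.factorization_mul (by norm_num) (by norm_num),
            Finsupp.add_apply, Nat.factorization_mul (by norm_num) (by norm_num), Finsupp.add_apply,
            Nat.Prime.factorization_self (by norm_num),
            Nat.factorization_eq_zero_of_not_dvd (show ¬ 5 ∣ 12 by norm_num)]
        <;> simp]
        norm_num
      -- `P` centralises `W`
      have hPW : ∀ c ∈ (P : Subgroup ↥M), ∀ w ∈ W, (c : G) * w * (c : G)⁻¹ = w := by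
        intro c hc w hw
        haveI : Fintype ↥W := Fintype.ofFinite _
        obtain ⟨j, hj⟩ := IsPGroup.iff_orderOf.1 P.2 ⟨c, hc⟩
        rw [orderOf_mk, ← orderOf_coe] at hj
        let σ : Function.End {p : ↥W // p ≠ 1} := fun p =>
          ⟨⟨(c : G) * p.1 * (c : G)⁻¹, hn _ c.2 _ p.1.2⟩,
            fun e => p.2 (Subtype.ext (conj_eq_one_iff.1 (congrArg Subtype.val e)))⟩
        have hσpow : ∀ (m : ℕ) (p : {p : ↥W // p ≠ 1}),
            (((σ ^ m) p).1 : G) = (c : G) ^ m * p.1 * ((c : G) ^ m)⁻¹ := by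
          intro m
          induction m with
          | zero =>
            intro p
            show ((p.1 : ↥W) : G) = (c : G) ^ 0 * (p.1 : G) * ((c : G) ^ 0)⁻¹
            simp
          | succ m ih =>
            intro p
            rw [pow_succ']
            show (c : G) * (((σ ^ m) p).1 : G) * (c : G)⁻¹ = _
            rw [ih p, pow_succ']
            group
        have hσ : σ ^ 5 ^ j = 1 := funext fun p => Subtype.ext (Subtype.ext (by
          rw [hσpow, ← hj, pow_orderOf_eq_one]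
          show (1 : G) * (p.1 : G) * (1 : G)⁻¹ = ((p.1 : ↥W) : G)
          simp))
        haveI : Fintype {p : ↥W // p ≠ 1} := Fintype.ofFinite _
        have h1 := Equiv.Perm.card_fixedPoints_modEq hσ
        have h3 : Fintype.card {p : ↥W // p ≠ 1} = 3 := by
          rw [Fintype.card_subtype_compl, Fintype.card_subtype_eq, ← Nat.card_eq_fintype_card, L.hWc]
        have hle := Fintype.card_subtype_le fun p : {p : ↥W // p ≠ 1} => σ p = p
        rw [h3] at h1 hle
        change 3 ≡ Fintype.card {p : {p : ↥W // p ≠ 1} // σ p = p} [MOD 5] at h1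
        have hall : Fintype.card {p : {p : ↥W // p ≠ 1} // σ p = p} = 3 := by
          unfold Nat.ModEq at h1
          omega
        by_cases hw1 : w = 1
        · rw [hw1]; group
        · by_contra hne
          have hlt : Fintype.card {p : {p : ↥W // p ≠ 1} // σ p = p} <
              Fintype.card {p : ↥W // p ≠ 1} :=
            Fintype.card_subtype_lt (x := ⟨⟨w, hw⟩, fun e => hw1 (congrArg Subtype.val e)⟩)
              fun e => hne (congrArg (fun t : {p : ↥W // p ≠ 1} => ((t.1 : ↥W) : G)) e)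
          omega
      -- so it lies in `W × ⟨f⟩`
      obtain ⟨w, hw, hw1⟩ : ∃ w ∈ W, w ≠ 1 := by
        refine ⟨a, L.haW, invol_ne_one L.ha.order⟩
      have hle : ((P : Subgroup ↥M).map M.subtype) ≤ W ⊔ zpowers f := by
        rintro _ ⟨c, hc, rfl⟩
        have hcX : (c : G) ∈ centralizer ({a} : Set G) :=
          mem_centralizer_singleton_iff.2 (mul_inv_eq_iff_eq_mul.1 (hPW c hc a L.haW))
        obtain ⟨d, hd, x0, hx0, hdx⟩ := L.hdec _ hcX
        have hxf : x0 * f = f * x0 := by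
          have h := mem_centralizer_singleton_iff.1 c.2
          rw [← hdx, ← mul_assoc f d x0, ← L.hWcen d hd f (L.hX0X hfX), mul_assoc, mul_assoc] at h
          exact mul_left_cancel h
        show (c : G) ∈ W ⊔ zpowers f
        rw [← hdx]
        exact mul_mem (mem_sup_left hd) (mem_sup_right (hCy x0 hx0 hxf))
      have hnorm : zpowers f ≤ normalizer (W : Set G) := by
        refine zpowers_le.2 (mem_normalizer_iff.2 fun d => ?_)
        constructor
        · intro hd
          rw [← L.hWcen d hd f (L.hX0X hfX), mul_inv_cancel_right]; exact hd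
        · intro hd
          have := L.hWcen _ hd f (L.hX0X hfX)
          rw [show f * d * f⁻¹ * f = f * d by group] at this
          rwa [← mul_left_cancel this] at hd
      have h20 := CfsgLib.Comp.card_sup_dvd_mul hnorm
      rw [L.hWc, Nat.card_zpowers, hf'] at h20
      have hPc : Nat.card ↥((P : Subgroup ↥M).map M.subtype) = Nat.card ↥(P : Subgroup ↥M) :=
        card_map_of_injective M.subtype_injective
      have := hPc ▸ card_dvd_of_le hle
      have := (hP25.trans this).trans h20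
      norm_num at this
    have h4 : 4 ∣ Nat.card ↥A := L.hWc ▸ card_dvd_of_le hWA
    have hgt : 4 < Nat.card ↥A := by
      by_contra hc
      refine hnotn fun c hc' w hw => ?_
      have hAW : W = A := eq_of_le_of_card_ge hWA (by rw [L.hWc]; omega)
      rw [hAW] at hw ⊢
      exact hAn c hc' w hw
    rcases hcA.cases hgt with ⟨h12, hn⟩ | h
    · exfalso
      refine hnotn fun c hc w hw => ?_
      -- conjugates of `W` in `A` are involutions, so they lie in the normal four-group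
      by_cases hw1 : w = 1
      · rw [hw1]; simp
      have hmem := hAn c hc w (hWA hw)
      have ho : orderOf (⟨_, hmem⟩ : ↥A) = 2 := by
        rw [← orderOf_coe]
        show orderOf (c * w * c⁻¹) = 2
        rw [orderOf_conj_eq]; exact (L.W_outer S hw hw1).1
      obtain ⟨g, hg⟩ := hcA.conj_mem ho
      have h' := hn.conj_mem _ hg g⁻¹
      rw [show g⁻¹ * (g * (⟨_, hmem⟩ : ↥A) * g⁻¹) * g⁻¹⁻¹ = ⟨_, hmem⟩ by group] at h'
      exact h'
    · exact h
  have hAdec : ∀ c ∈ M, ∃ i : ℤ, ∃ α ∈ A, c = f ^ i * α := by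
    have hb : Function.Bijective (fun p : ↥(zpowers f) × ↥A =>
        (⟨(p.1 : G) * p.2, mul_mem ((zpowers_le.2 hfM) p.1.2) (hAM p.2.2)⟩ : ↥M)) := by
      refine (show Function.Injective _ from fun p q h => ?_).bijective_of_nat_card_le
        (by rw [Nat.card_prod, Nat.card_zpowers, hf', hA60, hMc])
      refine Subgroup.mul_injective_of_disjoint (disjoint_iff.2 ?_) (congrArg Subtype.val h)
      rw [eq_bot_iff]
      exact fun c hc => mem_bot.2 (hAint c (mem_inf.1 hc).2 (mem_inf.1 hc).1)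
    intro c hc
    obtain ⟨⟨p, α⟩, hp⟩ := hb.2 ⟨c, hc⟩
    obtain ⟨i, hi⟩ := mem_zpowers_iff.1 p.2
    exact ⟨i, α, α.2, by rw [hi]; exact (congrArg Subtype.val hp).symm⟩
  -- the element `k`
  obtain ⟨nA, hnA, hnAW, hnAf⟩ := hcA.exists_cycle (by rw [hA60]; norm_num)
  have hn3 : nA * nA * nA ∈ W.subgroupOf A :=
    hcA.cube_mem (fun w hw => (mem_normalizer_iff.1 hnA w).1 hw) hnAf
  set kA := nA * (nA * nA * nA) with hkA
  have hkact : ∀ w ∈ W.subgroupOf A, kA * w * kA⁻¹ = nA * w * nA⁻¹ := fun w hw => by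
    rw [hkA, show nA * (nA * nA * nA) * w * (nA * (nA * nA * nA))⁻¹ =
      nA * ((nA * nA * nA) * w * (nA * nA * nA)⁻¹) * nA⁻¹ by group,
      hcA.comm _ hn3 w hw, mul_inv_cancel_right]
  have hk3 : kA ^ 3 = 1 := by
    have e : kA ^ 3 = (nA * nA * nA) * (nA * nA * nA) * ((nA * nA * nA) * (nA * nA * nA)) := by
      rw [hkA, pow_succ, pow_succ, pow_one]; group
    rw [e, hcA.2.1 _ hn3, one_mul]
  have hWone : ∃ w ∈ W.subgroupOf A, w ≠ 1 :=
    ⟨⟨a, hWA L.haW⟩, L.haW, fun e => invol_ne_one L.ha.order (congrArg Subtype.val e)⟩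
  have hk1 : kA ≠ 1 := fun e => by
    obtain ⟨w, hw, hw1⟩ := hWone
    exact hnAf w hw hw1 (by rw [← hkact w hw, e]; group)
  set k : G := (kA : G) with hkdef
  have hko : orderOf k = 3 := by
    rw [hkdef, orderOf_coe]
    exact orderOf_eq_prime hk3 hk1
  have hkW : ∀ w ∈ W, k * w * k⁻¹ ∈ W := fun w hw => by
    have h : kA * ⟨w, hWA hw⟩ * kA⁻¹ ∈ W.subgroupOf A := by
      rw [hkact _ hw]; exact (mem_normalizer_iff.1 hnA _).1 hw
    exact h
  have hkW' : ∀ w ∈ W, w ≠ 1 → k * w * k⁻¹ ≠ w := fun w hw hw1 e => by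
    refine hnAf ⟨w, hWA hw⟩ hw (fun e' => hw1 (congrArg Subtype.val e')) ?_
    rw [← hkact _ hw]
    exact Subtype.ext e
  have hkf : k * f = f * k := mem_centralizer_singleton_iff.1 (hAM kA.2)
  -- `k` normalises `X` and fixes `v`
  have hkX : ∀ c ∈ centralizer ({a} : Set G), k * c * k⁻¹ ∈ centralizer ({a} : Set G) := by
    intro c hc
    have hne : k * a * k⁻¹ ≠ 1 := fun e => invol_ne_one L.ha.order (conj_eq_one_iff.1 e)
    rw [← (L.W_outer S (hkW a L.haW) hne).2.2]
    refine mem_centralizer_singleton_iff.2 ?_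
    rw [show k * c * k⁻¹ * (k * a * k⁻¹) = k * (c * a) * k⁻¹ by group,
      mem_centralizer_singleton_iff.1 hc]
    group
  have hkz : ∀ u ∈ X0, u * u = 1 → u ≠ 1 → k * u * k⁻¹ ∈ X0 := fun u hu huu hu1 =>
    L.hzX0 _ (hkX u (L.hX0X hu)) ((L.hX0z u hu huu hu1).trans (isConj_iff.2 ⟨k, rfl⟩))
  have hvM : ∀ c ∈ M, v * c * v⁻¹ ∈ M := fun c hc => by
    have hc' : c * f⁻¹ = f⁻¹ * c :=
      (Commute.inv_right (show Commute c f from mem_centralizer_singleton_iff.1 hc)).eq
    refine mem_centralizer_singleton_iff.2 ?_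
    have hfv : v⁻¹ * f * v = f⁻¹ := by
      rw [invol_inv hv']
      conv_lhs => arg 2; rw [← invol_inv hv']
      exact hvf
    calc v * c * v⁻¹ * f = v * (c * (v⁻¹ * f * v)) * v⁻¹ := by group
      _ = v * (f⁻¹ * c) * v⁻¹ := by rw [hfv, hc']
      _ = (v * f * v⁻¹)⁻¹ * (v * c * v⁻¹) := by group
      _ = f * (v * c * v⁻¹) := by rw [hvf, inv_inv]
  have hvA' : ∀ α ∈ A, v * α * v⁻¹ ∈ A := by
    let θ : ↥M →* ↥M := MonoidHom.mk' (fun c => ⟨v * c * v⁻¹, hvM c c.2⟩) fun p q => Subtype.ext (by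
      show v * ((p : G) * q) * v⁻¹ = v * p * v⁻¹ * (v * q * v⁻¹)
      group)
    rintro _ ⟨α, hα, rfl⟩
    refine ⟨θ α, ?_, rfl⟩
    have hle : (commutator ↥M).map θ ≤ commutator ↥M := by
      rw [_root_.commutator_def, Subgroup.map_commutator]
      exact Subgroup.commutator_mono le_top le_top
    exact hle ⟨α, hα, rfl⟩
  have hvw : ∀ w ∈ W, v * w = w * v := fun w hw => (L.hWcen w hw v (L.hX0X hvX)).symm
  have hkv : k * v = v * k := by
    have hd : k⁻¹ * (v * k * v⁻¹) ∈ W := by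
      have hmem : k⁻¹ * (v * k * v⁻¹) ∈ A := mul_mem (inv_mem kA.2) (hvA' k kA.2)
      obtain ⟨w, hw, hw1⟩ := hWone
      refine hcA.2.2 w hw hw1 ⟨_, hmem⟩ (Subtype.ext ?_)
      have hwW : (w : G) ∈ W := hw
      have h2 : v * k * v⁻¹ * w * (v * k * v⁻¹)⁻¹ = k * w * k⁻¹ := by
        have hvi : v⁻¹ * w * v = w := by rw [mul_assoc, ← hvw _ hwW, inv_mul_cancel_left]
        calc v * k * v⁻¹ * w * (v * k * v⁻¹)⁻¹ = v * (k * (v⁻¹ * w * v) * k⁻¹) * v⁻¹ := by group
          _ = v * (k * w * k⁻¹) * v⁻¹ := by rw [hvi]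
          _ = k * w * k⁻¹ := by rw [hvw _ (hkW _ hwW), mul_inv_cancel_right]
      show k⁻¹ * (v * k * v⁻¹) * w = w * (k⁻¹ * (v * k * v⁻¹))
      rw [← mul_inv_eq_iff_eq_mul]
      calc k⁻¹ * (v * k * v⁻¹) * w * (k⁻¹ * (v * k * v⁻¹))⁻¹
          = k⁻¹ * (v * k * v⁻¹ * w * (v * k * v⁻¹)⁻¹) * k := by group
        _ = w := by rw [h2]; group
    have hkv' : k⁻¹ * v * k ∈ X0 := by
      have := hkz _ (hkz v hvX hvv (invol_ne_one hv')) (by
        rw [show k * v * k⁻¹ * (k * v * k⁻¹) = k * (v * v) * k⁻¹ by group, hvv]; group)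
        fun e => invol_ne_one hv' (conj_eq_one_iff.1 e)
      have hkk : k * k = k⁻¹ := by
        have h3 : k ^ 3 = 1 := hko ▸ pow_orderOf_eq_one k
        rw [pow_succ, pow_two] at h3
        exact eq_inv_of_mul_eq_one_left h3
      rwa [show k * (k * v * k⁻¹) * k⁻¹ = (k * k) * v * (k * k)⁻¹ by group, hkk, inv_inv] at this
    have h1 : k⁻¹ * (v * k * v⁻¹) ∈ W ⊓ X0 := mem_inf.2 ⟨hd, by
      rw [show k⁻¹ * (v * k * v⁻¹) = k⁻¹ * v * k * v⁻¹ by group]
      exact mul_mem hkv' (inv_mem hvX)⟩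
    rw [L.hWX0, mem_bot, inv_mul_eq_one, eq_mul_inv_iff_mul_eq] at h1
    exact h1
  -- `k` centralises `X₀`
  have hkX0 : ∀ x ∈ X0, k * x = x * k := by
    set L0 : Subgroup ↥X0 := (centralizer ({k} : Set G)).subgroupOf X0 with hL0
    have hUv := L.X0_cent S hvX hvv (invol_ne_one hv')
    set C := centralizer ({(⟨v, hvX⟩ : ↥X0)} : Set ↥X0) with hC
    have hfL : (⟨f, hfX⟩ : ↥X0) ∈ L0 := mem_subgroupOf.2 (mem_centralizer_singleton_iff.2 hkf.symm)
    have hCL : C ≤ L0 := by
      intro u hu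
      refine mem_subgroupOf.2 (mem_centralizer_singleton_iff.2 (?_ : (u : G) * k = k * u))
      by_cases hu1 : u = 1
      · rw [hu1]; simp
      by_cases huv : (u : G) = v
      · rw [huv]; exact hkv.symm
      have huu : (u : G) * u = 1 := congrArg Subtype.val (hUv.2.1 u hu)
      have hu1' : (u : G) ≠ 1 := fun e => hu1 (Subtype.ext e)
      have hucv : (u : G) * v = v * u := congrArg Subtype.val (mem_centralizer_singleton_iff.1 hu)
      set u1 : ↥X0 := ⟨k * u * k⁻¹, hkz u u.2 huu hu1'⟩ with hu1def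
      have hu1C : u1 ∈ C := by
        refine mem_centralizer_singleton_iff.2 (Subtype.ext ?_)
        show k * u * k⁻¹ * v = v * (k * u * k⁻¹)
        have hkvi : k * v * k⁻¹ = v := by rw [hkv, mul_inv_cancel_right]
        conv_lhs => rw [← hkvi]
        conv_rhs => rw [← hkvi]
        rw [show k * u * k⁻¹ * (k * v * k⁻¹) = k * ((u : G) * v) * k⁻¹ by group, hucv]
        group
      have hvC : (⟨v, hvX⟩ : ↥X0) ∈ C := mem_centralizer_singleton_iff.2 rfl
      rcases hUv.mem_cases hu hvC hu1 (fun e => invol_ne_one hv' (congrArg Subtype.val e))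
        (fun e => huv (congrArg Subtype.val e)) hu1C with e | e | e | e
      · exact absurd (conj_eq_one_iff.1 (congrArg Subtype.val e)) hu1'
      · have e' : k * (u : G) * k⁻¹ = u := congrArg Subtype.val e
        exact (mul_inv_eq_iff_eq_mul.1 e').symm
      · exfalso
        have e' : k * (u : G) * k⁻¹ = v := congrArg Subtype.val e
        have hkvi : k * v * k⁻¹ = v := by rw [hkv, mul_inv_cancel_right]
        conv_rhs at e' => rw [← hkvi]
        exact huv (mul_left_cancel (mul_right_cancel e'))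
      · exfalso
        have e' : k * (u : G) * k⁻¹ = u * v := congrArg Subtype.val e
        have hkvi : k * v * k⁻¹ = v := by rw [hkv, mul_inv_cancel_right]
        have e2 : k * (k * u * k⁻¹) * k⁻¹ = u := by
          rw [e', show k * ((u : G) * v) * k⁻¹ = k * u * k⁻¹ * (k * v * k⁻¹) by group, e', hkvi,
            mul_assoc, hvv, mul_one]
        have hk3' : k ^ 3 = 1 := hko ▸ pow_orderOf_eq_one k
        have e3 : k * (k * (k * u * k⁻¹) * k⁻¹) * k⁻¹ = u := by
          rw [show k * (k * (k * (u : G) * k⁻¹) * k⁻¹) * k⁻¹ = k ^ 3 * u * (k ^ 3)⁻¹ by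
            simp [pow_succ, mul_assoc], hk3']
          group
        rw [e2, e'] at e3
        exact invol_ne_one hv' (mul_eq_left.1 e3)
    have hd5 : 5 ∣ Nat.card ↥L0 := by
      have := L0.orderOf_dvd_natCard hfL
      rwa [← orderOf_coe, hf'] at this
    have hd4 : 4 ∣ Nat.card ↥L0 := hUv.1 ▸ card_dvd_of_le hCL
    have h20 : 20 ∣ Nat.card ↥L0 := Nat.Coprime.mul_dvd_of_dvd_of_dvd (by norm_num : Nat.Coprime 4 5) hd4 hd5
    have hd60 : Nat.card ↥L0 ∣ 60 := hX60 ▸ card_subgroup_dvd_card L0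
    have hne := hUv.card_ne_twenty hX60 L0 hCL
    have hle := Nat.le_of_dvd (by norm_num) hd60
    have htop : L0 = ⊤ := by
      refine eq_top_of_card_eq L0 ?_
      rw [hX60]
      obtain ⟨c, hc⟩ := h20
      have hc3 : c ≤ 3 := by omega
      have hpos : 0 < Nat.card ↥L0 := Nat.card_pos
      rw [hc] at hd60 hne hpos ⊢
      interval_cases c <;> norm_num at *
    intro x hx
    have : (⟨x, hx⟩ : ↥X0) ∈ L0 := htop ▸ mem_top _
    rw [mem_subgroupOf, mem_centralizer_singleton_iff] at this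
    exact this.symm
  -- `v` centralises `A`
  have hvA : ∀ α ∈ A, v * α = α * v := by
    set L' : Subgroup ↥A := (centralizer ({v} : Set G)).subgroupOf A with hL'
    have hWL : W.subgroupOf A ≤ L' := fun w hw =>
      mem_subgroupOf.2 (mem_centralizer_singleton_iff.2 (hvw _ hw).symm)
    have hkL : kA ∈ L' := mem_subgroupOf.2 (mem_centralizer_singleton_iff.2 hkv)
    obtain ⟨hC3, u0, hu0, hu0k⟩ := hcA.three hA60 (show orderOf kA = 3 by rw [← orderOf_coe]; exact hko)
    have hu0u : u0 * u0 = 1 := invol_mul_self hu0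
    have hu0L : u0 ∈ L' := by
      set φu : ↥A := ⟨v * u0 * v⁻¹, hvA' u0 u0.2⟩ with hφu
      have hφk : φu * kA * φu⁻¹ = kA⁻¹ := by
        apply Subtype.ext
        show v * u0 * v⁻¹ * k * (v * u0 * v⁻¹)⁻¹ = k⁻¹
        have hvk : v⁻¹ * k * v = k := by rw [mul_assoc, hkv, inv_mul_cancel_left]
        have h := congrArg Subtype.val hu0k
        change (u0 : G) * k * (u0 : G)⁻¹ = k⁻¹ at h
        calc v * u0 * v⁻¹ * k * (v * u0 * v⁻¹)⁻¹ = v * ((u0 : G) * (v⁻¹ * k * v) * (u0 : G)⁻¹) * v⁻¹ := by group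
          _ = v * k⁻¹ * v⁻¹ := by rw [hvk, h]
          _ = (v * k * v⁻¹)⁻¹ := by group
          _ = k⁻¹ := by rw [← hkv, mul_inv_cancel_right]
      have hle : zpowers kA ≤ centralizer ({kA} : Set ↥A) :=
        zpowers_le.2 (mem_centralizer_singleton_iff.2 rfl)
      have heq := eq_of_le_of_card_ge hle
        (by rw [hC3, Nat.card_zpowers, ← orderOf_coe, show orderOf (kA : G) = 3 from hko])
      have hmem : u0⁻¹ * φu ∈ zpowers kA := by
        rw [heq]
        refine mem_centralizer_singleton_iff.2 (mul_inv_eq_iff_eq_mul.1 ?_)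
        calc u0⁻¹ * φu * kA * (u0⁻¹ * φu)⁻¹ = u0⁻¹ * (φu * kA * φu⁻¹) * u0 := by group
          _ = (u0 * (kA⁻¹) * u0⁻¹) := by rw [hφk, invol_inv hu0]
          _ = (u0 * kA * u0⁻¹)⁻¹ := by group
          _ = kA := by rw [hu0k, inv_inv]
      obtain ⟨i, hi⟩ := mem_zpowers_iff.1 hmem
      have hie : φu = u0 * kA ^ i := by rw [hi, mul_inv_cancel_left]
      have hvki : v * (k ^ i) * v⁻¹ = k ^ i := by
        rw [(Commute.zpow_right (show Commute v k from hkv.symm) i).eq, mul_inv_cancel_right]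
      have e1 : v * (u0 : G) * v⁻¹ = u0 * k ^ i := by
        have := congrArg Subtype.val hie
        rw [Subgroup.coe_mul, Subgroup.coe_zpow] at this
        exact this
      have e2 : (u0 : G) = u0 * k ^ i * k ^ i := by
        conv_lhs => rw [show (u0 : G) = (v * v) * u0 * (v * v)⁻¹ by rw [hvv]; group]
        rw [show (v * v) * (u0 : G) * (v * v)⁻¹ = v * (v * u0 * v⁻¹) * v⁻¹ by group, e1,
          show v * ((u0 : G) * k ^ i) * v⁻¹ = v * u0 * v⁻¹ * (v * k ^ i * v⁻¹) by group, e1, hvki]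
      rw [mul_assoc, eq_comm, mul_eq_left, ← zpow_add] at e2
      have hki : k ^ i = 1 := by
        have h3 : (orderOf k : ℤ) ∣ i + i := orderOf_dvd_iff_zpow_eq_one.2 e2
        rw [hko] at h3
        rw [← orderOf_dvd_iff_zpow_eq_one, hko]
        omega
      rw [hki, mul_one, mul_inv_eq_iff_eq_mul] at e1
      exact mem_subgroupOf.2 (mem_centralizer_singleton_iff.2 e1.symm)
    set W' : Subgroup ↥L' := (W.subgroupOf A).subgroupOf L' with hW'
    have hcL : HJKlein.Cent W' := by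
      refine ⟨by rw [Nat.card_congr (subgroupOfEquivOfLe hWL).toEquiv, hcA.1],
        fun w hw => Subtype.ext (hcA.2.1 _ hw), fun w hw hw1 c hcw => ?_⟩
      exact hcA.2.2 _ hw (fun e => hw1 (Subtype.ext e)) _ (congrArg Subtype.val hcw)
    have hgt : 4 < Nat.card ↥L' := by
      have h3 := L'.orderOf_dvd_natCard hkL
      rw [← orderOf_coe, show orderOf (kA : G) = 3 from hko] at h3
      have h4 : 4 ∣ Nat.card ↥L' := hcA.1 ▸ card_dvd_of_le hWL
      have := Nat.le_of_dvd Nat.card_pos (Nat.Coprime.mul_dvd_of_dvd_of_dvd (by norm_num : Nat.Coprime 3 4) h3 h4)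
      omega
    rcases hcL.cases hgt with ⟨-, hn⟩ | h60
    · exfalso
      obtain ⟨g, hg⟩ := hcL.conj_mem (show orderOf (⟨u0, hu0L⟩ : ↥L') = 2 by rw [← orderOf_coe]; exact hu0)
      have huW : (⟨u0, hu0L⟩ : ↥L') ∈ W' := by
        have := hn.conj_mem _ hg g⁻¹
        rwa [show g⁻¹ * (g * (⟨u0, hu0L⟩ : ↥L') * g⁻¹) * g⁻¹⁻¹ = ⟨u0, hu0L⟩ by group] at this
      have huW' : (u0 : G) ∈ W := huW
      have h1 := hkW _ huW'
      have h := congrArg Subtype.val hu0k
      change (u0 : G) * k * (u0 : G)⁻¹ = k⁻¹ at h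
      have hkk : k * k = k⁻¹ := by
        have h3 : k ^ 3 = 1 := hko ▸ pow_orderOf_eq_one k
        rw [pow_succ, pow_two] at h3
        exact eq_inv_of_mul_eq_one_left h3
      have e : k * (u0 : G) * k⁻¹ = u0 * k := by
        calc k * (u0 : G) * k⁻¹ = ((u0 : G) * k * (u0 : G)⁻¹)⁻¹ * u0 * k⁻¹ := by rw [h, inv_inv]
          _ = u0 * (k * k)⁻¹ := by group
          _ = u0 * k := by rw [hkk, inv_inv]
      rw [e] at h1
      have hkmem : k ∈ W := by simpa using mul_mem (inv_mem huW') h1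
      have h2 : orderOf k ∣ 2 := orderOf_dvd_of_pow_eq_one (by rw [pow_two]; exact L.hW2 k hkmem)
      rw [hko] at h2
      norm_num at h2
    · intro α hα
      have htop : L' = ⊤ := eq_top_of_card_eq L' (h60.trans hA60.symm)
      have : (⟨α, hα⟩ : ↥A) ∈ L' := htop ▸ mem_top _
      rw [mem_subgroupOf, mem_centralizer_singleton_iff] at this
      exact this.symm
  exact ⟨a, W, X0, f, v, k, A,
    { L := L, hfX := hfX, hf := hf', hvX := hvX, hv := hv', hvf := hvf, hCf := hMc, hAf := hAM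
      hA := hA60, hWA := hWA, hAint := hAint, hAdec := hAdec, hAcent := hcA, hinvol := hinvol
      hkA := kA.2, hk := hko, hkX := hkX0, hkW := hkW, hkW' := hkW', hvA := hvA }⟩

end CfsgLib.InvChar.HJType
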