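import Cfsg.Agent.Lib.InvChar.HallJankoClasses
import Cfsg.Agent.Lib.Solvable.Products

/-!
Groups of Hall-Janko type: the centraliser of an involution outside `Q` inside `H` is elementary
abelian of order 16.
-/

set_option autoImplicit false

namespace CfsgLib.InvChar.HJType

open CfsgLib.Invol Subgroup
open scoped Pointwise

universe u

variable {G : Type u} [Group G] {z : G} {Q : Subgroup G}

namespace Data

variable (S : Data z Q)
include S

theorem exists_swap [Finite G] {x : G} (hx : NI z Q x) :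
    ∃ g : G, g * z * g⁻¹ = x ∧ g * x * g⁻¹ = z := by
  obtain ⟨g, hg⟩ := isConj_iff.1 (S.isConj_ni hx)
  have hy : g⁻¹ * z * g ∈ centralizer ({z} : Set G) := by
    rw [mem_centralizer_singleton_iff]
    calc g⁻¹ * z * g * z = g⁻¹ * (z * (g * z * g⁻¹)) * g := by group
      _ = g⁻¹ * (x * z) * g := by rw [hg, S.commZQ hx.1]
      _ = g⁻¹ * ((g * z * g⁻¹) * z) * g := by rw [hg]
      _ = z * (g⁻¹ * z * g) := by group
  have hc : IsConj z (g⁻¹ * z * g) := isConj_iff.2 ⟨g⁻¹, by rw [inv_inv]⟩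
  have ho : orderOf (g⁻¹ * z * g) = 2 := (orderOf_eq_of_isConj hc).trans S.hz
  have hn : NI z Q (g⁻¹ * z * g) := by
    refine ⟨S.mem_Q_of_isConj hy hc, invol_mul_self ho, invol_ne_one ho, fun e => hx.2.2.2 ?_⟩
    have h2 : z * g = g * z := by
      calc z * g = g * (g⁻¹ * z * g) := by group
        _ = g * z := by rw [e]
    rw [← hg, ← h2, mul_inv_cancel_right]
  obtain ⟨h, hh, e⟩ := S.ni_transitive hx hn
  refine ⟨g * h, ?_, ?_⟩
  · rw [show g * h * z * (g * h)⁻¹ = g * (h * z * h⁻¹) * g⁻¹ by group, S.conjZ hh, hg]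
  · rw [show g * h * x * (g * h)⁻¹ = g * (h * x * h⁻¹) * g⁻¹ by group, e]
    group

theorem cent_outer_mem [Finite G] {a x : G} (ha : Outer z Q a) (hx : NI z Q x) (hax : a * x = x * a)
    {q : G} (hq : q ∈ Q) (hqa : a * q = q * a) : q = 1 ∨ q = z ∨ q = x ∨ q = x * z := by
  obtain ⟨w, -, -, hall, -⟩ := S.outer ha.1 ha.2.1 ha.2.2
  rcases hall x hx.1 hax with e | e | e | e
  · exact absurd e hx.2.2.1
  · exact absurd e hx.2.2.2
  · subst e; exact hall q hq hqa
  · rcases hall q hq hqa with h | h | h | h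
    · exact Or.inl h
    · exact Or.inr (Or.inl h)
    · exact Or.inr (Or.inr (Or.inr (by rw [h, e, mul_assoc, S.zz, mul_one])))
    · exact Or.inr (Or.inr (Or.inl (h.trans e.symm)))

theorem exists_fixed_ni [Finite G] {a : G} (ha : Outer z Q a) : ∃ x, NI z Q x ∧ a * x = x * a := by
  obtain ⟨x, hx, hax, -, -⟩ := S.outer ha.1 ha.2.1 ha.2.2
  exact ⟨x, hx, hax⟩

/-- The centraliser of an involution outside `Q` is transitive on the conjugates of `z` in it. -/
theorem exists_cent_conj [Finite G] {a y : G} (ha : Outer z Q a) (hy : IsConj z y)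
    (hya : y * a = a * y) : ∃ n : G, n * a = a * n ∧ n * z * n⁻¹ = y := by
  obtain ⟨g, hg⟩ := isConj_iff.1 hy
  have hab : IsConj a (g⁻¹ * a * g) := isConj_iff.2 ⟨g⁻¹, by rw [inv_inv]⟩
  have ho : orderOf (g⁻¹ * a * g) = 2 := (orderOf_eq_of_isConj hab).trans ha.order
  have hb : Outer z Q (g⁻¹ * a * g) := by
    refine ⟨?_, invol_mul_self ho, fun e => S.not_isConj_outer ha ?_⟩
    · rw [mem_centralizer_singleton_iff]
      calc g⁻¹ * a * g * z = g⁻¹ * (a * (g * z * g⁻¹)) * g := by group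
        _ = g⁻¹ * (y * a) * g := by rw [hg, hya]
        _ = g⁻¹ * ((g * z * g⁻¹) * a) * g := by rw [hg]
        _ = z * (g⁻¹ * a * g) := by group
    · by_cases e' : g⁻¹ * a * g = z
      · rw [e'] at hab; exact hab.symm
      · exact (S.isConj_ni ⟨e, invol_mul_self ho, invol_ne_one ho, e'⟩).trans hab.symm
  obtain ⟨h, hh, e⟩ := (S.outer_class ha).2.2 _ hb
  have h1 : g * h * a * (g * h)⁻¹ = a := by
    rw [show g * h * a * (g * h)⁻¹ = g * (h * a * h⁻¹) * g⁻¹ by group, e]
    group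
  refine ⟨g * h, mul_inv_eq_iff_eq_mul.1 h1, ?_⟩
  rw [show g * h * z * (g * h)⁻¹ = g * (h * z * h⁻¹) * g⁻¹ by group, S.conjZ hh, hg]

/-- `R`: the largest normal `2`-subgroup of `C(z) ∩ C(x)`. -/
theorem exists_R [Finite G] {x : G} (hx : NI z Q x) :
    ∃ R U : Subgroup G, R ≤ centralizer ({z} : Set G) ⊓ centralizer ({x} : Set G) ∧
      Nat.card ↥R = 64 ∧ U ≤ R ∧ (∀ u, u ∈ U ↔ u = 1 ∨ u = z ∨ u = x ∨ u = x * z) ∧
      (∀ p ∈ R, ∀ q ∈ R, ∃ u ∈ U, p * q = q * p * u) ∧ (∀ p ∈ R, p * p ∈ U) ∧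
      (∀ c ∈ centralizer ({z} : Set G) ⊓ centralizer ({x} : Set G), c * c = 1 → c ∈ R) := by
  classical
  haveI : Fintype G := Fintype.ofFinite G
  obtain ⟨g, hgz, hgx⟩ := S.exists_swap hx
  obtain ⟨r, -, -, -, hpair, -⟩ := S.exists_five
  set L := centralizer ({z} : Set G) ⊓ centralizer ({x} : Set G) with hL
  set A := Q ⊓ centralizer ({x} : Set G) with hA
  have hmemL : ∀ {c : G}, c ∈ L ↔ c * z = z * c ∧ c * x = x * c := by
    intro c
    rw [hL, mem_inf, mem_centralizer_singleton_iff, mem_centralizer_singleton_iff]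
  have hgi : g⁻¹ * x * g = z ∧ g⁻¹ * z * g = x := by
    constructor
    · rw [← hgz]; group
    · rw [← hgx]; group
  have hgL : ∀ c ∈ L, g * c * g⁻¹ ∈ L ∧ g⁻¹ * c * g ∈ L := by
    intro c hc
    obtain ⟨h1, h2⟩ := hmemL.1 hc
    refine ⟨hmemL.2 ⟨?_, ?_⟩, hmemL.2 ⟨?_, ?_⟩⟩
    · rw [← hgx, show g * c * g⁻¹ * (g * x * g⁻¹) = g * (c * x) * g⁻¹ by group, h2]; group
    · rw [← hgz, show g * c * g⁻¹ * (g * z * g⁻¹) = g * (c * z) * g⁻¹ by group, h1]; group
    · rw [← hgi.1, show g⁻¹ * c * g * (g⁻¹ * x * g) = g⁻¹ * (c * x) * g by group, h2]; group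
    · rw [← hgi.2, show g⁻¹ * c * g * (g⁻¹ * z * g) = g⁻¹ * (c * z) * g by group, h1]; group
  have hAL : A ≤ L := fun c hc => hmemL.2 ⟨S.commZQ hc.1, mem_centralizer_singleton_iff.1 hc.2⟩
  have hAn : ∀ l ∈ L, ∀ c ∈ A, l * c * l⁻¹ ∈ A := by
    intro l hl c hc
    refine mem_inf.2 ⟨S.hnorm l hl.1 c (mem_inf.1 hc).1,
      ?_⟩
    exact
      mul_mem (mul_mem (mem_inf.1 hl).2 (mem_inf.1 hc).2) (inv_mem (mem_inf.1 hl).2)
  set B := A.map (MulAut.conj g).toMonoidHom with hB
  have hBL : B ≤ L := by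
    rintro _ ⟨c, hc, rfl⟩
    exact (hgL c (hAL hc)).1
  have hBn : ∀ l ∈ L, ∀ c ∈ B, l * c * l⁻¹ ∈ B := by
    rintro l hl _ ⟨c, hc, rfl⟩
    refine ⟨(g⁻¹ * l * g) * c * (g⁻¹ * l * g)⁻¹, hAn _ (hgL l hl).2 c hc, ?_⟩
    show g * ((g⁻¹ * l * g) * c * (g⁻¹ * l * g)⁻¹) * g⁻¹ = l * (g * c * g⁻¹) * l⁻¹
    group
  -- `|A| = 16`
  have hAc : Nat.card ↥A = 16 := by
    obtain ⟨q0, hq0, hq0x⟩ : ∃ q ∈ Q, q * x ≠ x * q := by
      by_contra hc
      push Not at hc
      rcases S.cent_Q hx.1 hc with e | e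
      exacts [hx.2.2.1 e, hx.2.2.2 e]
    have hidx : ((centralizer ({x} : Set G)).subgroupOf Q).index = 2 := by
      rw [Subgroup.index_eq_two_iff]
      refine ⟨⟨q0, hq0⟩, fun b => ?_⟩
      simp only [mem_subgroupOf, Subgroup.coe_mul, mem_centralizer_singleton_iff]
      have e0 := (S.comm_Q hq0 hx.1).resolve_left hq0x
      rcases S.comm_Q b.2 hx.1 with e | e
      · refine Or.inr ⟨e, fun h => hq0x ?_⟩
        calc q0 * x = (b : G)⁻¹ * (b * q0 * x) := by group
          _ = (b : G)⁻¹ * (x * (b * q0)) := by rw [h]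
          _ = (b : G)⁻¹ * (b * x * q0) := by rw [e]; group
          _ = x * q0 := by group
      · refine Or.inl ⟨?_, fun h => S.zne ?_⟩
        · calc (b : G) * q0 * x = (b : G) * (q0 * x) := by group
            _ = (b : G) * x * (q0 * z) := by rw [e0]; group
            _ = x * b * (z * q0) * z := by rw [e]; group
            _ = x * (b * q0) * (z * z) := by rw [← S.commZQ hq0]; group
            _ = x * ((b : G) * q0) := by rw [S.zz, mul_one]
        · rw [h] at e
          exact mul_eq_left.1 e.symm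
    have h := ((centralizer ({x} : Set G)).subgroupOf Q).card_mul_index
    rw [hidx, S.hQc] at h
    have e : A = ((centralizer ({x} : Set G)).subgroupOf Q).map Q.subtype := by
      rw [subgroupOf_map_subtype, inf_comm, hA]
    rw [e, card_map_of_injective Q.subtype_injective]
    omega
  have hBc : Nat.card ↥B = 16 := by
    rw [hB, card_map_of_injective (MulAut.conj g).injective, hAc]
  set U := A ⊓ B with hU
  have hUiff : ∀ u, u ∈ U ↔ u = 1 ∨ u = z ∨ u = x ∨ u = x * z := by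
    intro u
    constructor
    · rintro ⟨⟨huQ, hux⟩, c, hc, hcu⟩
      have hu2 : u * u = 1 := by
        rcases S.sq_Q huQ with e | e
        · exact e
        · exfalso
          change g * c * g⁻¹ = u at hcu
          rw [← hcu, show g * c * g⁻¹ * (g * c * g⁻¹) = g * (c * c) * g⁻¹ by group] at e
          rcases S.sq_Q hc.1 with e' | e' <;> rw [e'] at e
          · exact S.zne (by rw [← e]; group)
          · exact hx.2.2.2 (hgz.symm.trans e)
      by_cases e1 : u = 1
      · exact Or.inl e1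
      by_cases e2 : u = z
      · exact Or.inr (Or.inl e2)
      rcases hpair x u hx ⟨huQ, hu2, e1, e2⟩ (mem_centralizer_singleton_iff.1 hux).symm with e | e
      · exact Or.inr (Or.inr (Or.inl e))
      · exact Or.inr (Or.inr (Or.inr e))
    · have hzA : z ∈ A := ⟨S.hzQ, mem_centralizer_singleton_iff.2 (S.commZQ hx.1).symm⟩
      have hxA : x ∈ A := ⟨hx.1, mem_centralizer_singleton_iff.2 rfl⟩
      have hzB : z ∈ B := ⟨x, hxA, hgx⟩
      have hxB : x ∈ B := ⟨z, hzA, hgz⟩
      rintro (rfl | rfl | rfl | rfl)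
      exacts [one_mem _, ⟨hzA, hzB⟩, ⟨hxA, hxB⟩, mul_mem (show x ∈ U from ⟨hxA, hxB⟩) ⟨hzA, hzB⟩]
  have hUc : ∀ u ∈ U, ∀ l ∈ L, u * l = l * u := by
    intro u hu l hl
    obtain ⟨h1, h2⟩ := hmemL.1 hl
    rcases (hUiff u).1 hu with rfl | rfl | rfl | rfl
    · rw [one_mul, mul_one]
    · exact h1.symm
    · exact h2.symm
    · rw [mul_assoc, ← h1, ← mul_assoc, ← h2, mul_assoc]
  have hUcard : Nat.card ↥U = 4 := by
    rw [Nat.card_eq_fintype_card, Fintype.card_subtype]
    have : (Finset.univ.filter fun u => u ∈ U) = {1, z, x, x * z} := by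
      ext u; simp [hUiff]
    rw [this, Finset.card_insert_of_notMem, Finset.card_insert_of_notMem, Finset.card_pair]
    · exact S.mul_z_ne.symm
    · simp only [Finset.mem_insert, Finset.mem_singleton, not_or]
      exact ⟨hx.2.2.2.symm, fun e => hx.2.2.1 (mul_eq_right.1 e.symm)⟩
    · simp only [Finset.mem_insert, Finset.mem_singleton, not_or]
      exact ⟨S.zne.symm, hx.2.2.1.symm, (S.ni_mul_z hx).2.2.1.symm⟩
  set R := A ⊔ B with hR
  have hRcoe : ((R : Subgroup G) : Set G) = (A : Set G) * (B : Set G) :=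
    Subgroup.coe_mul_of_right_le_normalizer_left A B fun b hb =>
      Subgroup.mem_normalizer_iff.2 fun c => ⟨hAn b (hBL hb) c, fun h => by
        have := hAn b⁻¹ (inv_mem (hBL hb)) _ h
        rwa [show b⁻¹ * (b * c * b⁻¹) * b⁻¹⁻¹ = c by group] at this⟩
  have hRc : Nat.card ↥R = 64 := by
    have h := CfsgLib.Solvable.card_mul_set_mul_card_inf A B
    rw [hAc, hBc, ← hU, hUcard] at h
    have e : Nat.card ↥R = Nat.card ((A : Set G) * (B : Set G) : Set G) := by rw [← hRcoe]; rfl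
    omega
  have hRL : R ≤ L := sup_le hAL hBL
  have hdec : ∀ p ∈ R, ∃ a ∈ A, ∃ b ∈ B, a * b = p := by
    intro p hp
    have : p ∈ (A : Set G) * (B : Set G) := hRcoe ▸ hp
    obtain ⟨a, ha, b, hb, e⟩ := this
    exact ⟨a, ha, b, hb, e⟩
  let C : G → G → Prop := fun p q => ∃ u ∈ U, p * q = q * p * u
  have hCsymm : ∀ p q, C p q → C q p := by
    rintro p q ⟨u, hu, e⟩
    exact ⟨u⁻¹, inv_mem hu, by rw [e, mul_inv_cancel_right]⟩
  have hCmul : ∀ p ∈ L, ∀ q ∈ L, ∀ q' ∈ L, C p q → C p q' → C p (q * q') := by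
    rintro p hp q hq q' hq' ⟨u, hu, e⟩ ⟨u', hu', e'⟩
    refine ⟨u' * u, mul_mem hu' hu, ?_⟩
    calc p * (q * q') = q * p * u * q' := by rw [← mul_assoc, e]
      _ = q * p * (u * q') := by group
      _ = q * (p * q') * u := by rw [hUc u hu q' hq']; group
      _ = q * q' * p * (u' * u) := by rw [e']; group
  have hzU : z ∈ U := (hUiff z).2 (Or.inr (Or.inl rfl))
  have hxU : x ∈ U := (hUiff x).2 (Or.inr (Or.inr (Or.inl rfl)))
  have hAA : ∀ p ∈ A, ∀ q ∈ A, C p q := fun p hp q hq => by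
    rcases S.comm_Q hp.1 hq.1 with e | e
    · exact ⟨1, one_mem _, by rw [e, mul_one]⟩
    · exact ⟨z, hzU, e⟩
  have hBB : ∀ p ∈ B, ∀ q ∈ B, C p q := by
    rintro _ ⟨p, hp, rfl⟩ _ ⟨q, hq, rfl⟩
    show C (g * p * g⁻¹) (g * q * g⁻¹)
    rcases S.comm_Q hp.1 hq.1 with e | e
    · refine ⟨1, one_mem _, ?_⟩
      rw [show g * p * g⁻¹ * (g * q * g⁻¹) = g * (p * q) * g⁻¹ by group, e]
      group
    · refine ⟨x, hxU, ?_⟩
      rw [show g * p * g⁻¹ * (g * q * g⁻¹) = g * (p * q) * g⁻¹ by group, e, ← hgz]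
      group
  have hAB : ∀ p ∈ A, ∀ q ∈ B, C p q := by
    intro p hp q hq
    refine ⟨p⁻¹ * q⁻¹ * p * q, ⟨?_, ?_⟩, by group⟩
    · have := mul_mem (inv_mem hp) (hAn q⁻¹ (inv_mem (hBL hq)) p hp)
      rwa [show p⁻¹ * (q⁻¹ * p * q⁻¹⁻¹) = p⁻¹ * q⁻¹ * p * q by group] at this
    · have := mul_mem (hBn p⁻¹ (inv_mem (hAL hp)) q⁻¹ (inv_mem hq)) hq
      rwa [show p⁻¹ * q⁻¹ * p⁻¹⁻¹ * q = p⁻¹ * q⁻¹ * p * q by group] at this
  have hRR : ∀ p ∈ R, ∀ q ∈ R, C p q := by
    intro p hp q hq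
    obtain ⟨a1, ha1, b1, hb1, rfl⟩ := hdec p hp
    obtain ⟨a2, ha2, b2, hb2, rfl⟩ := hdec q hq
    have la1 := hAL ha1
    have lb1 := hBL hb1
    have la2 := hAL ha2
    have lb2 := hBL hb2
    refine hCmul _ (mul_mem la1 lb1) _ la2 _ lb2 (hCsymm _ _ ?_) (hCsymm _ _ ?_)
    · exact hCmul _ la2 _ la1 _ lb1 (hAA _ ha2 _ ha1) (hAB _ ha2 _ hb1)
    · exact hCmul _ lb2 _ la1 _ lb1 (hCsymm _ _ (hAB _ ha1 _ hb2)) (hBB _ hb2 _ hb1)
  have hsq : ∀ p ∈ R, p * p ∈ U := by
    intro p hp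
    obtain ⟨a, ha, b, hb, rfl⟩ := hdec p hp
    obtain ⟨u, hu, e⟩ := hCsymm _ _ (hAB a ha b hb)
    have haa : a * a ∈ U := by
      rcases S.sq_Q ha.1 with e | e <;> rw [e]
      exacts [one_mem _, hzU]
    have hbb : b * b ∈ U := by
      obtain ⟨c, hc, rfl⟩ := hb
      show g * c * g⁻¹ * (g * c * g⁻¹) ∈ U
      rw [show g * c * g⁻¹ * (g * c * g⁻¹) = g * (c * c) * g⁻¹ by group]
      rcases S.sq_Q hc.1 with e | e <;> rw [e]
      · simp [one_mem]
      · rw [hgz]; exact hxU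
    have h2 : a * b * (a * b) = (a * a) * ((b * b) * u) := by
      calc a * b * (a * b) = a * (b * a) * b := by group
        _ = a * a * b * (u * b) := by rw [e]; group
        _ = (a * a) * ((b * b) * u) := by rw [hUc u hu b (hBL hb)]; group
    rw [h2]
    exact mul_mem haa (mul_mem hbb hu)
  refine ⟨R, U, hRL, hRc, inf_le_left.trans le_sup_left, hUiff, hRR, hsq, ?_⟩
  intro c hc hcc
  by_contra hcR
  have hRn : (R.subgroupOf L).Normal := by
    refine ⟨fun p hp l => ?_⟩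
    rw [mem_subgroupOf] at hp ⊢
    obtain ⟨a, ha, b, hb, e⟩ := hdec _ hp
    show (l : G) * p * (l : G)⁻¹ ∈ R
    rw [← e, show (l : G) * (a * b) * (l : G)⁻¹ = l * a * (l : G)⁻¹ * (l * b * (l : G)⁻¹) by group]
    exact mul_mem (mem_sup_left (hAn l l.2 a ha)) (mem_sup_right (hBn l l.2 b hb))
  have hidx : (R.subgroupOf L).index = 3 := by
    have h := (R.subgroupOf L).card_mul_index
    rw [Nat.card_congr (subgroupOfEquivOfLe hRL).toEquiv, hRc] at h
    have h' : Nat.card ↥L = 192 := S.card_cent_ni hx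
    omega
  let π := QuotientGroup.mk' (R.subgroupOf L)
  have h2 : orderOf (π ⟨c, hc⟩) ∣ 2 := orderOf_dvd_of_pow_eq_one (by
    rw [← map_pow, pow_two, show (⟨c, hc⟩ : ↥L) * ⟨c, hc⟩ = 1 from Subtype.ext hcc, map_one])
  have h3 : orderOf (π ⟨c, hc⟩) ∣ 3 := hidx ▸ Subgroup.index_eq_card (R.subgroupOf L) ▸
    orderOf_dvd_natCard _
  have := orderOf_eq_one_iff.1 (Nat.eq_one_of_dvd_coprimes (by norm_num) h2 h3)
  rw [← MonoidHom.mem_ker, QuotientGroup.ker_mk', mem_subgroupOf] at this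
  exact hcR this

/-- The centraliser in `H` of an involution outside `Q` centralises the fixed non-central
involution and is abelian of exponent `2`. -/
theorem cent_outer_le [Finite G] {a x : G} (ha : Outer z Q a) (hx : NI z Q x) (hax : a * x = x * a) :
    (∀ c, c * z = z * c → c * a = a * c → c * x = x * c) ∧
    (∀ c d, c * z = z * c → c * a = a * c → d * z = z * d → d * a = a * d → c * d = d * c) ∧
    (∀ c, c * z = z * c → c * a = a * c → c * c = 1) := by
  classical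
  haveI : Fintype G := Fintype.ofFinite G
  obtain ⟨R, U, hRL, hRc, hUR, hUiff, hRR, hsq, hinv⟩ := S.exists_R hx
  have haR : a ∈ R := hinv a ⟨ha.1, mem_centralizer_singleton_iff.2 hax⟩ ha.2.1
  set E := centralizer ({z} : Set G) ⊓ centralizer ({a} : Set G) with hE
  have hEc := (S.outer_class ha).1
  have hU4 : Nat.card ↥U ≤ 4 := by
    rw [Nat.card_eq_fintype_card, Fintype.card_subtype]
    refine le_trans (Finset.card_le_card (t := {1, z, x, x * z}) fun u hu => ?_) Finset.card_le_four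
    simpa using (hUiff u).1 (Finset.mem_filter.1 hu).2
  have hRE : R ⊓ centralizer ({a} : Set G) = E := by
    refine eq_of_le_of_card_ge (inf_le_inf_right _ (hRL.trans inf_le_left)) ?_
    rw [hEc]
    set a' : ↥R := ⟨a, haR⟩ with ha'
    have h1 := card_class_mul_card_centralizer a'
    rw [hRc] at h1
    have h2 : Nat.card {b // IsConj a' b} ≤ 4 := by
      refine le_trans (Nat.card_le_card_of_injective
        (fun b => (⟨a⁻¹ * ((b.1 : ↥R) : G), ?_⟩ : ↥U)) ?_) hU4
      · obtain ⟨h, hh⟩ := isConj_iff.1 b.2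
        obtain ⟨u, hu, e⟩ := hRR h h.2 a haR
        obtain ⟨h1, h2⟩ := mem_inf.1 (hRL h.2)
        rw [← hh]
        show a⁻¹ * ((h : G) * a * (h : G)⁻¹) ∈ U
        have huh : u * (h : G)⁻¹ = (h : G)⁻¹ * u := by
          have hc : u * h = h * u := by
            rcases (hUiff u).1 hu with rfl | rfl | rfl | rfl
            · rw [one_mul, mul_one]
            · exact (mem_centralizer_singleton_iff.1 h1).symm
            · exact (mem_centralizer_singleton_iff.1 h2).symm
            · rw [mul_assoc, ← mem_centralizer_singleton_iff.1 h1, ← mul_assoc,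
                ← mem_centralizer_singleton_iff.1 h2, mul_assoc]
          exact (Commute.inv_right hc).eq
        rw [e, show a⁻¹ * (a * h * u * (h : G)⁻¹) = h * (u * (h : G)⁻¹) by group, huh,
          mul_inv_cancel_left]
        exact hu
      · intro b c h
        exact Subtype.ext (Subtype.ext (mul_left_cancel (congrArg (fun t : ↥U => (t : G)) h)))
    have h3 : Nat.card ↥(centralizer ({a'} : Set ↥R)) ≤
        Nat.card ↥(R ⊓ centralizer ({a} : Set G) : Subgroup G) :=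
      Nat.card_le_card_of_injective
        (fun c => ⟨(c : ↥R), (c : ↥R).2, mem_centralizer_singleton_iff.2
          (congrArg Subtype.val (mem_centralizer_singleton_iff.1 c.2))⟩)
        fun c d h => Subtype.ext (Subtype.ext
          (congrArg (fun t : ↥(R ⊓ centralizer ({a} : Set G) : Subgroup G) => (t : G)) h))
    have := Nat.mul_le_mul_right (Nat.card ↥(centralizer ({a'} : Set ↥R))) h2
    omega
  have hmemE : ∀ c, c * z = z * c → c * a = a * c → c ∈ E := fun c h1 h2 =>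
    ⟨mem_centralizer_singleton_iff.2 h1, mem_centralizer_singleton_iff.2 h2⟩
  have hER : E ≤ R := hRE ▸ inf_le_left
  have hEx : ∀ c ∈ E, c * x = x * c := fun c hc =>
    mem_centralizer_singleton_iff.1 (hRL (hER hc)).2
  -- `U ∪ a U` is central in `E`
  have hzE : z ∈ E := hmemE z rfl (S.commZ ha.1).symm
  have hxE : x ∈ E := hmemE x (S.commZQ hx.1) hax.symm
  have haE : a ∈ E := hmemE a (S.commZ ha.1) rfl
  have hcen : ∀ d ∈ ({1, z, x, x * z, a, a * z, a * x, a * (x * z)} : Finset G),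
      d ∈ E ∧ ∀ c ∈ E, c * d = d * c := by
    have m : ∀ p q : G, (p ∈ E ∧ ∀ c ∈ E, c * p = p * c) → (q ∈ E ∧ ∀ c ∈ E, c * q = q * c) →
        p * q ∈ E ∧ ∀ c ∈ E, c * (p * q) = p * q * c := fun p q hp hq =>
      ⟨mul_mem hp.1 hq.1, fun c hc => (Commute.mul_right (hp.2 c hc) (hq.2 c hc)).eq⟩
    have cz : z ∈ E ∧ ∀ c ∈ E, c * z = z * c :=
      ⟨hzE, fun c hc => mem_centralizer_singleton_iff.1 hc.1⟩
    have cx : x ∈ E ∧ ∀ c ∈ E, c * x = x * c := ⟨hxE, hEx⟩
    have ca : a ∈ E ∧ ∀ c ∈ E, c * a = a * c :=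
      ⟨haE, fun c hc => mem_centralizer_singleton_iff.1 hc.2⟩
    intro d hd
    simp only [Finset.mem_insert, Finset.mem_singleton] at hd
    rcases hd with rfl | rfl | rfl | rfl | rfl | rfl | rfl | rfl
    exacts [⟨one_mem _, fun c _ => by rw [mul_one, one_mul]⟩, cz, cx, m _ _ cx cz, ca, m _ _ ca cz,
      m _ _ ca cx, m _ _ ca (m _ _ cx cz)]
  have hD8 : ({1, z, x, x * z, a, a * z, a * x, a * (x * z)} : Finset G).card = 8 := by
    have hne : ∀ u v : G, (u = 1 ∨ u = z ∨ u = x ∨ u = x * z) →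
        (v = 1 ∨ v = z ∨ v = x ∨ v = x * z) → u ≠ a * v := by
      intro u v hu hv e
      have hQ' : ∀ w : G, (w = 1 ∨ w = z ∨ w = x ∨ w = x * z) → w ∈ Q := by
        rintro w (rfl | rfl | rfl | rfl)
        exacts [one_mem _, S.hzQ, hx.1, mul_mem hx.1 S.hzQ]
      exact ha.2.2 (by rw [eq_mul_inv_of_mul_eq e.symm]; exact mul_mem (hQ' u hu) (inv_mem (hQ' v hv)))
    have d1 := S.zne
    have d2 := hx.2.2.1
    have d3 := hx.2.2.2
    have d4 := (S.ni_mul_z hx).2.2.1
    have d5 := (S.ni_mul_z hx).2.2.2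
    have d6 : x * z ≠ x := S.mul_z_ne
    have e0 : ∀ v : G, (v = 1 ∨ v = z ∨ v = x ∨ v = x * z) → 1 ≠ a * v ∧ z ≠ a * v ∧ x ≠ a * v ∧
        x * z ≠ a * v := fun v hv =>
      ⟨hne _ v (Or.inl rfl) hv, hne _ v (Or.inr (Or.inl rfl)) hv,
        hne _ v (Or.inr (Or.inr (Or.inl rfl))) hv, hne _ v (Or.inr (Or.inr (Or.inr rfl))) hv⟩
    obtain ⟨f1, f2, f3, f4⟩ := e0 1 (Or.inl rfl)
    obtain ⟨g1, g2, g3, g4⟩ := e0 z (Or.inr (Or.inl rfl))
    obtain ⟨i1, i2, i3, i4⟩ := e0 x (Or.inr (Or.inr (Or.inl rfl)))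
    obtain ⟨j1, j2, j3, j4⟩ := e0 (x * z) (Or.inr (Or.inr (Or.inr rfl)))
    rw [mul_one] at f1 f2 f3 f4
    have k1 : a ≠ a * z := fun e => d1 (mul_eq_left.1 e.symm)
    have k2 : a ≠ a * x := fun e => d2 (mul_eq_left.1 e.symm)
    have k3 : a ≠ a * (x * z) := fun e => d4 (mul_eq_left.1 e.symm)
    simp [Finset.card_insert_of_notMem, d1.symm, d2.symm, d3.symm, d4.symm, d5.symm, d6.symm, f1, f2,
      f3, f4, g1, g2, g3, g4, i1, i2, i3, i4, j1, j2, j3, j4, k1, k2, k3]
  have hab : ∀ c ∈ E, ∀ d ∈ E, c * d = d * c := by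
    have h8 : 8 ≤ Nat.card ↥(center ↥E) := by
      rw [← hD8, ← Nat.card_eq_finsetCard]
      refine Nat.card_le_card_of_injective
        (fun d => ⟨⟨d.1, (hcen d.1 d.2).1⟩,
          mem_center_iff.2 fun c => Subtype.ext ((hcen d.1 d.2).2 c c.2)⟩)
        fun d d' h => Subtype.ext (congrArg (fun t : ↥(center ↥E) => ((t : ↥E) : G)) h)
    have hq : Nat.card (↥E ⧸ center ↥E) ≤ 2 := by
      have h := card_eq_card_quotient_mul_card_subgroup (center ↥E)
      rw [hEc] at h
      have := Nat.mul_le_mul_left (Nat.card (↥E ⧸ center ↥E)) h8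
      omega
    haveI : IsCyclic (↥E ⧸ center ↥E) := by
      rcases Nat.lt_or_ge (Nat.card (↥E ⧸ center ↥E)) 2 with h | h
      · haveI : Subsingleton (↥E ⧸ center ↥E) := Finite.card_le_one_iff_subsingleton.1 (by omega)
        exact isCyclic_of_subsingleton
      · exact isCyclic_of_prime_card (p := 2) (by omega)
    intro c hc d hd
    exact congrArg Subtype.val ((isMulCommutative_of_isCyclic_quotient_center_self ↥E).is_comm.comm
      ⟨c, hc⟩ ⟨d, hd⟩)
  refine ⟨fun c h1 h2 => hEx c (hmemE c h1 h2),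
    fun c d h1 h2 h3 h4 => hab c (hmemE c h1 h2) d (hmemE d h3 h4), fun c h1 h2 => ?_⟩
  -- squares
  by_contra hcc
  have hcE := hmemE c h1 h2
  let f : ↥E →* G := MonoidHom.mk' (fun e => (e : G) * e) fun e e' => by
    show ((e : G) * e') * (e * e') = e * e * (e' * e')
    calc ((e : G) * e') * (e * e') = e * ((e' : G) * e) * e' := by group
      _ = e * ((e : G) * e') * e' := by rw [hab _ e'.2 _ e.2]
      _ = _ := by group
  have hran : Nat.card ↥f.range ≤ 2 := by
    have h8 : 8 ≤ Nat.card ↥f.ker := by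
      rw [← hD8, ← Nat.card_eq_finsetCard]
      refine Nat.card_le_card_of_injective (fun d => ⟨⟨d.1, (hcen d.1 d.2).1⟩, ?_⟩)
        fun d d' h => Subtype.ext (congrArg (fun t : ↥f.ker => ((t : ↥E) : G)) h)
      show d.1 * d.1 = 1
      have hxz : x * z * (x * z) = 1 := (S.ni_mul_z hx).2.1
      have m : ∀ u, u ∈ E → u * u = 1 → a * u * (a * u) = 1 := fun u hu hu2 => by
        calc a * u * (a * u) = a * (u * a) * u := by group
          _ = a * (a * u) * u := by rw [hab u hu a haE]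
          _ = (a * a) * (u * u) := by group
          _ = 1 := by rw [ha.2.1, hu2, one_mul]
      have hd := d.2
      simp only [Finset.mem_insert, Finset.mem_singleton] at hd
      rcases hd with e | e | e | e | e | e | e | e <;> rw [e]
      exacts [one_mul 1, S.zz, hx.2.1, hxz, ha.2.1, m z hzE S.zz, m x hxE hx.2.1,
        m _ (mul_mem hxE hzE) hxz]
    have h := card_eq_card_quotient_mul_card_subgroup f.ker
    rw [Nat.card_congr (QuotientGroup.quotientKerEquivRange f).toEquiv, hEc] at h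
    have := Nat.mul_le_mul_left (Nat.card ↥f.range) h8
    omega
  have huni : ∀ p ∈ E, p * p ≠ 1 → p * p = c * c := by
    intro p hp hp1
    have key := (Finite.card_le_one_iff_subsingleton (α := {t : ↥f.range // t ≠ 1})).1 (by
      haveI : Fintype ↥f.range := Fintype.ofFinite _
      rw [Nat.card_eq_fintype_card, Fintype.card_subtype_compl, Fintype.card_subtype_eq,
        ← Nat.card_eq_fintype_card]
      omega)
    have := key.elim ⟨⟨p * p, ⟨p, hp⟩, rfl⟩, fun e => hp1 (congrArg Subtype.val e)⟩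
      ⟨⟨c * c, ⟨c, hcE⟩, rfl⟩, fun e => hcc (congrArg Subtype.val e)⟩
    exact congrArg (fun t : {t : ↥f.range // t ≠ 1} => ((t : ↥f.range) : G)) this
  -- the square is fixed by elements of `C(a)` moving `z` to `x` and to `x * z`
  have hfix : ∀ y n : G, NI z Q y → a * y = y * a → n * a = a * n → n * z * n⁻¹ = y →
      n * (c * c) * n⁻¹ = c * c := by
    intro y n hy hay hna hnz
    have hEy : ∀ p ∈ E, p * y = y * p := by
      intro p hp
      rcases S.cent_outer_mem ha hx hax hy.1 hay with e | e | e | e <;> rw [e]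
      · rw [mul_one, one_mul]
      · exact mem_centralizer_singleton_iff.1 hp.1
      · exact hEx p hp
      · exact ((hcen (x * z) (by simp)).2 p hp)
    have heq : E = centralizer ({y} : Set G) ⊓ centralizer ({a} : Set G) := by
      refine eq_of_le_of_card_ge (fun p hp => ⟨mem_centralizer_singleton_iff.2 (hEy p hp), hp.2⟩) ?_
      rw [hEc, ← hEc]
      refine Nat.card_le_card_of_injective (fun p => ⟨n⁻¹ * p.1 * n, ?_, ?_⟩)
        fun p q h => Subtype.ext (mul_left_cancel (mul_right_cancel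
          (congrArg (fun t : ↥E => (t : G)) h)))
      · refine mem_centralizer_singleton_iff.2 ?_
        have hp := mem_centralizer_singleton_iff.1 (mem_inf.1 p.2).1
        calc n⁻¹ * p.1 * n * z = n⁻¹ * (p.1 * (n * z * n⁻¹)) * n := by group
          _ = n⁻¹ * ((n * z * n⁻¹) * p.1) * n := by rw [hnz, hp]
          _ = z * (n⁻¹ * p.1 * n) := by group
      · refine mem_centralizer_singleton_iff.2 ?_
        have hp := mem_centralizer_singleton_iff.1 (mem_inf.1 p.2).2
        calc n⁻¹ * p.1 * n * a = n⁻¹ * p.1 * (n * a) := by group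
          _ = n⁻¹ * (p.1 * a) * n := by rw [hna]; group
          _ = n⁻¹ * a * p.1 * n := by rw [hp]; group
          _ = a * (n⁻¹ * p.1 * n) := by
            rw [show n⁻¹ * a = a * n⁻¹ from (Commute.inv_left hna).eq]; group
    have hmem : n * c * n⁻¹ ∈ E := by
      rw [heq, mem_inf, mem_centralizer_singleton_iff, mem_centralizer_singleton_iff]
      constructor
      · rw [← hnz, show n * c * n⁻¹ * (n * z * n⁻¹) = n * (c * z) * n⁻¹ by group, h1]
        group
      · have hn' : n * a * n⁻¹ = a := by rw [hna, mul_inv_cancel_right]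
        rw [← hn', show n * c * n⁻¹ * (n * a * n⁻¹) = n * (c * a) * n⁻¹ by group, h2]
        group
    have e : n * c * n⁻¹ * (n * c * n⁻¹) = n * (c * c) * n⁻¹ := by group
    have h := huni _ hmem (fun e' => hcc (by rw [e] at e'; exact conj_eq_one_iff.1 e'))
    rw [e] at h
    exact h
  have hcU : c * c ∈ U := hsq c (hER hcE)
  obtain ⟨n1, hn1a, hn1z⟩ := S.exists_cent_conj ha (S.isConj_ni hx) hax.symm
  have hxza : a * (x * z) = x * z * a := by
    rw [← mul_assoc, hax, mul_assoc, S.commZ ha.1, ← mul_assoc]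
  obtain ⟨n2, hn2a, hn2z⟩ := S.exists_cent_conj ha (S.isConj_ni (S.ni_mul_z hx)) hxza.symm
  have e1 := hfix x n1 hx hax hn1a hn1z
  have e2 := hfix (x * z) n2 (S.ni_mul_z hx) hxza hn2a hn2z
  rcases (hUiff _).1 hcU with e | e | e | e
  · exact hcc e
  · rw [e, hn1z] at e1; exact hx.2.2.2 e1
  · -- `n1` maps `z` to `x`, so it cannot fix `x`
    rw [e, ← hn1z] at e1
    have h := mul_left_cancel (mul_right_cancel e1)
    exact hx.2.2.2 (hn1z.symm.trans h)
  · rw [e, ← hn2z] at e2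
    have h := mul_left_cancel (mul_right_cancel e2)
    exact (S.ni_mul_z hx).2.2.2 (hn2z.symm.trans h)

end Data

end CfsgLib.InvChar.HJType
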