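import Cfsg.Agent.Lib.InvChar.HallJankoThree
import Cfsg.Agent.Lib.InvChar.HallJankoSetup
import Cfsg.Agent.Lib.Geom.SimpleSixty
import Cfsg.Agent.Lib.Amalgam.PCore
import Cfsg.Prelude.Def_Solvable

/-!
Groups of Hall-Janko type: the isomorphism types of the centraliser of an outer involution and of
the normaliser of its two-core.
-/

set_option autoImplicit false

namespace CfsgLib.InvChar

open CfsgLib.Invol Subgroup

universe u

/-- A group of order sixty with the four-group condition is `A₅`. -/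
theorem HJKlein.Cent.equiv_altFive {B : Type u} [Group B] [Finite B] {W : Subgroup B}
    (h : HJKlein.Cent W) (h60 : Nat.card B = 60) : Nonempty (B ≃* alternatingGroup (Fin 5)) := by
  classical
  haveI : Nontrivial B := Finite.one_lt_card_iff_nontrivial.1 (by rw [h60]; norm_num)
  haveI : IsSimpleGroup B := ⟨fun N hN => by
    by_cases h2 : 2 ∣ Nat.card ↥N
    · right
      obtain ⟨u, huN, hu⟩ := exists_invol_mem (even_iff_two_dvd.2 h2)
      have hall : ∀ w : B, orderOf w = 2 → w ∈ N := fun w hw => by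
        obtain ⟨g, rfl⟩ := isConj_iff.1 (h.conj_invol (by rw [h60]; norm_num) hu hw)
        exact hN.conj_mem u huN g
      exact h.top_of_invol h60 N hall
    · left
      have hOdd : ∀ c ∈ N, c * c = 1 → c = 1 := by
        intro c hc hcc
        by_contra hc1
        exact h2 (invol_of_mul_self hcc hc1 ▸ N.orderOf_dvd_natCard hc)
      have hfix : ∀ w ∈ W, w ≠ 1 → ∀ v ∈ N, w * v * w⁻¹ = v⁻¹ := by
        intro w hw hw1 v hv
        have hh := MonoidHom.FixedPointFree.coe_eq_inv_of_involutive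
          (φ := (MulAut.conjNormal w : MulAut ↥N)) (fun v hv => ?_) (fun v => ?_)
        · exact congrArg Subtype.val (congrFun hh ⟨v, hv⟩)
        · have he : w * (v : B) * w⁻¹ = v := congrArg Subtype.val hv
          exact Subtype.ext (hOdd _ v.2 (h.2.1 _
            (h.2.2 w hw hw1 _ (mul_inv_eq_iff_eq_mul.1 he).symm)))
        · apply Subtype.ext
          show w * (w * (v : B) * w⁻¹) * w⁻¹ = v
          rw [show w * (w * (v : B) * w⁻¹) * w⁻¹ = (w * w) * v * (w * w)⁻¹ by group, h.2.1 w hw]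
          group
      haveI : Fintype ↥W := Fintype.ofFinite _
      obtain ⟨w₁, w₂, hw₁, hw₂, h12⟩ : ∃ w₁ w₂ : ↥W, w₁ ≠ 1 ∧ w₂ ≠ 1 ∧ w₁ ≠ w₂ := by
        have hc' : 1 < (Finset.univ.erase (1 : ↥W)).card := by
          rw [Finset.card_erase_of_mem (Finset.mem_univ _), Finset.card_univ, ← Nat.card_eq_fintype_card,
            h.1]
          norm_num
        obtain ⟨a, b, ha, hb, hab⟩ := Finset.one_lt_card_iff.1 hc'
        exact ⟨a, b, Finset.ne_of_mem_erase ha, Finset.ne_of_mem_erase hb, hab⟩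
      rw [eq_bot_iff]
      intro v hv
      rw [mem_bot]
      have h3 : ((w₁ : B) * w₂) ≠ 1 := fun e => h12 (Subtype.ext (by
        rw [eq_inv_of_mul_eq_one_left e, inv_eq_of_mul_eq_one_right (h.2.1 _ w₂.2)]))
      refine hOdd v hv (h.2.1 _ (h.2.2 _ (mul_mem w₁.2 w₂.2) h3 v ?_))
      refine (mul_inv_eq_iff_eq_mul.1 ?_).symm
      rw [show (w₁ : B) * w₂ * v * ((w₁ : B) * w₂)⁻¹ = w₁ * ((w₂ : B) * v * (w₂ : B)⁻¹) * (w₁ : B)⁻¹ by
        group, hfix _ w₂.2 (fun e => hw₂ (Subtype.ext e)) v hv,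
        hfix _ w₁.2 (fun e => hw₁ (Subtype.ext e)) _ (inv_mem hv), inv_inv]⟩
  exact CfsgLib.Geom.equiv_altFive_of_simple_sixty h60

/-- A four-group of exponent two. -/
theorem equiv_fourGroup {B : Type u} [Group B] [Finite B] (h4 : Nat.card B = 4)
    (hsq : ∀ b : B, b * b = 1) :
    Nonempty (B ≃* Multiplicative (ZMod 2) × Multiplicative (ZMod 2)) := by
  classical
  haveI : Nontrivial B := Finite.one_lt_card_iff_nontrivial.1 (by rw [h4]; norm_num)
  haveI hB : IsKleinFour B := ⟨h4, by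
    refine Nat.dvd_antisymm (Monoid.exponent_dvd_of_forall_pow_eq_one fun b => by
      rw [pow_two]; exact hsq b) ?_
    obtain ⟨b, hb⟩ := exists_ne (1 : B)
    have := Monoid.order_dvd_exponent b
    rwa [invol_of_mul_self (hsq b) hb] at this⟩
  haveI : IsKleinFour (Multiplicative (ZMod 2) × Multiplicative (ZMod 2)) := ⟨by
    rw [Nat.card_prod]; simp, by
    refine Nat.dvd_antisymm (Monoid.exponent_dvd_of_forall_pow_eq_one (by decide)) ?_
    have := Monoid.order_dvd_exponent ((Multiplicative.ofAdd (1 : ZMod 2), 1) :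
      Multiplicative (ZMod 2) × Multiplicative (ZMod 2))
    rwa [orderOf_eq_prime (p := 2) (by decide) (by decide)] at this⟩
  exact IsKleinFour.nonempty_mulEquiv

namespace HJType

variable {G : Type u} [Group G] {z : G} {Q : Subgroup G} {a f v k : G} {W X0 A : Subgroup G}

namespace Five

variable (F : Five z Q a W X0 f v k A)
include F

theorem outer_structure [Finite G] (S : Data z Q) :
    Nonempty (↥(centralizer ({a} : Set G)) ≃*
        (Multiplicative (ZMod 2) × Multiplicative (ZMod 2)) × alternatingGroup (Fin 5)) ∧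
      (Cfsg.pCore 2 ↥(centralizer ({a} : Set G))).map (centralizer ({a} : Set G)).subtype = W ∧
      Nonempty (↥(normalizer (W : Set G)) ≃* alternatingGroup (Fin 4) × alternatingGroup (Fin 5)) := by
  classical
  haveI : Fact (Nat.Prime 2) := ⟨Nat.prime_two⟩
  set X := centralizer ({a} : Set G) with hX
  have hz0 := F.L.zX0 S
  have hcU := F.L.X0_cent S hz0 S.zz S.zne
  obtain ⟨eX0⟩ := hcU.equiv_altFive F.L.hX0c
  obtain ⟨eW⟩ := equiv_fourGroup (B := ↥W) F.L.hWc fun w => Subtype.ext (F.L.hW2 w w.2)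
  let φ : ↥W × ↥X0 →* ↥X := MonoidHom.mk'
    (fun p => ⟨(p.1 : G) * p.2, mul_mem (F.L.hWX p.1.2) (F.L.hX0X p.2.2)⟩) fun p q => Subtype.ext (by
      show ((p.1 : G) * q.1) * ((p.2 : G) * q.2) = (p.1 : G) * p.2 * (q.1 * q.2)
      calc ((p.1 : G) * q.1) * ((p.2 : G) * q.2) = p.1 * ((q.1 : G) * p.2) * q.2 := by group
        _ = _ := by rw [F.L.hWcen _ q.1.2 _ (F.L.hX0X p.2.2)]; group)
  have hφ : Function.Bijective φ := by
    refine ⟨fun p q h => Subgroup.mul_injective_of_disjoint (disjoint_iff.2 F.L.hWX0)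
      (congrArg Subtype.val h), ?_⟩
    rintro ⟨c, hc⟩
    obtain ⟨d, hd, y, hy, rfl⟩ := F.L.hdec c hc
    exact ⟨(⟨d, hd⟩, ⟨y, hy⟩), rfl⟩
  let eX : ↥W × ↥X0 ≃* ↥X := MulEquiv.ofBijective φ hφ
  refine ⟨⟨eX.symm.trans (eW.prodCongr eX0)⟩, ?_, ?_⟩
  · -- the two-core
    refine le_antisymm ?_ ?_
    · let π : ↥X →* ↥X0 := (MonoidHom.snd _ _).comp eX.symm.toMonoidHom
      have hπ : Function.Surjective π := fun y => ⟨eX (1, y), by simp [π]⟩
      haveI hn : (Cfsg.pCore 2 ↥X).Normal := CfsgLib.Amalgam.normal_pCore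
      haveI := hn.map π hπ
      haveI : IsSimpleGroup ↥X0 := by
        haveI : IsSimpleGroup (alternatingGroup (Fin 5)) :=
          alternatingGroup.isSimpleGroup_five
        haveI : Nontrivial ↥X0 := Finite.one_lt_card_iff_nontrivial.1 (by rw [F.L.hX0c]; norm_num)
        exact IsSimpleGroup.isSimpleGroup_of_surjective eX0.symm.toMonoidHom eX0.symm.surjective
      have hbot : (Cfsg.pCore 2 ↥X).map π = ⊥ := by
        refine ((inferInstance : ((Cfsg.pCore 2 ↥X).map π).Normal).eq_bot_or_eq_top).resolve_right fun e => ?_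
        have hp : IsPGroup 2 ↥((Cfsg.pCore 2 ↥X).map π) := CfsgLib.Amalgam.isPGroup_pCore.map π
        rw [e] at hp
        obtain ⟨j, hj⟩ := hp.exists_card_eq
        rw [Subgroup.card_top, F.L.hX0c] at hj
        have : 3 ∣ 2 ^ j := hj ▸ (by norm_num : (3 : ℕ) ∣ 60)
        have := (Nat.prime_dvd_prime_iff_eq Nat.prime_three Nat.prime_two).1
          (Nat.prime_three.dvd_of_dvd_pow this)
        omega
      rintro _ ⟨c, hc, rfl⟩
      obtain ⟨⟨d, y⟩, rfl⟩ := eX.surjective c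
      have hy : π (eX (d, y)) ∈ (Cfsg.pCore 2 ↥X).map π := ⟨_, hc, rfl⟩
      rw [hbot, mem_bot] at hy
      have hy1 : y = 1 := by simpa [π] using hy
      show ((φ (d, y) : ↥X) : G) ∈ W
      rw [hy1]
      show (d : G) * ((1 : ↥X0) : G) ∈ W
      rw [OneMemClass.coe_one, mul_one]
      exact d.2
    · intro w hw
      refine ⟨⟨w, F.L.hWX hw⟩, CfsgLib.Amalgam.le_pCore (N := W.subgroupOf X) ?_ ?_ hw, rfl⟩
      · exact ⟨fun d hd g => by
          rw [mem_subgroupOf] at hd ⊢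
          show (g : G) * d * (g : G)⁻¹ ∈ W
          rwa [← F.L.hWcen d hd g g.2, mul_inv_cancel_right]⟩
      · exact (IsPGroup.of_card (p := 2) (n := 2) (by
          rw [Nat.card_congr (subgroupOfEquivOfLe F.L.hWX).toEquiv, F.L.hWc]; norm_num))
  -- the normaliser
  set N := normalizer (W : Set G) with hN
  have hk3 : k ^ 3 = 1 := F.hk ▸ pow_orderOf_eq_one k
  have hkk : k * k = k⁻¹ := eq_inv_of_mul_eq_one_left (by rw [← hk3, pow_succ, pow_two])
  have hkN : k ∈ N := by
    refine mem_normalizer_iff.2 fun w => ⟨F.hkW w, fun h => ?_⟩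
    have h2 := F.hkW _ (F.hkW _ h)
    rwa [show k * (k * (k * w * k⁻¹) * k⁻¹) * k⁻¹ = k ^ 3 * w * (k ^ 3)⁻¹ by
      simp [pow_succ, mul_assoc], hk3, one_mul, inv_one, mul_one] at h2
  have hXN : X ≤ N := by
    intro c hc
    have key : ∀ w ∈ W, c * w * c⁻¹ = w := fun w hw => by
      rw [← F.L.hWcen w hw c hc, mul_inv_cancel_right]
    refine mem_normalizer_iff.2 fun w => ⟨fun hw => by rw [key w hw]; exact hw, fun hw => ?_⟩
    have := key _ hw
    rw [mul_left_inj, mul_right_inj] at this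
    rwa [this] at hw
  set K : Subgroup G := W ⊔ zpowers k with hK
  have hKN : K ≤ N := sup_le le_normalizer (zpowers_le.2 hkN)
  have hmemK : ∀ c ∈ K, ∃ d ∈ W, ∃ q ∈ zpowers k, d * q = c := by
    intro c hc
    have hc' : c ∈ ((W ⊔ zpowers k : Subgroup G) : Set G) := hc
    rw [Subgroup.coe_mul_of_right_le_normalizer_left W (zpowers k) (zpowers_le.2 hkN)] at hc'
    obtain ⟨d, hd, q, hq, rfl⟩ := Set.mem_mul.1 hc'
    exact ⟨d, hd, q, hq, rfl⟩
  have hKX0 : ∀ c ∈ K, ∀ y ∈ X0, c * y = y * c := by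
    intro c hc y hy
    obtain ⟨d, hd, q, hq, rfl⟩ := hmemK c hc
    obtain ⟨i, rfl⟩ := mem_zpowers_iff.1 hq
    exact ((show Commute d y from F.L.hWcen d hd y (F.L.hX0X hy)).mul_left
      ((show Commute k y from F.hkX y hy).zpow_left i)).eq
  have hkX : ∀ i : ℤ, k ^ i ∈ X → k ^ i = 1 := by
    intro i hi
    have ha1 := invol_ne_one F.L.ha.order
    rcases mem_zpowers_three F.hk (zpow_mem (mem_zpowers k) i) with e | e | e
    · exact e
    · exfalso
      rw [e] at hi
      exact F.hkW' a F.L.haW ha1 (by rw [mem_centralizer_singleton_iff.1 hi, mul_inv_cancel_right])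
    · exfalso
      rw [e] at hi
      have hi' := inv_mem hi
      rw [inv_inv] at hi'
      exact F.hkW' a F.L.haW ha1 (by rw [mem_centralizer_singleton_iff.1 hi', mul_inv_cancel_right])
  have hdisj : Disjoint K X0 := by
    rw [disjoint_iff, eq_bot_iff]
    rintro c ⟨hcK, hcX⟩
    obtain ⟨d, hd, q, hq, rfl⟩ := hmemK c hcK
    obtain ⟨i, rfl⟩ := mem_zpowers_iff.1 hq
    have hki : k ^ i ∈ X := by
      have := mul_mem (inv_mem (F.L.hWX hd)) (F.L.hX0X hcX)
      rwa [inv_mul_cancel_left] at this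
    rw [hkX i hki, mul_one] at hcX ⊢
    have : d ∈ W ⊓ X0 := ⟨hd, hcX⟩
    rwa [F.L.hWX0] at this
  let ψ : ↥K × ↥X0 →* ↥N := MonoidHom.mk'
    (fun p => ⟨(p.1 : G) * p.2, mul_mem (hKN p.1.2) (hXN (F.L.hX0X p.2.2))⟩) fun p q => Subtype.ext (by
      show ((p.1 : G) * q.1) * ((p.2 : G) * q.2) = (p.1 : G) * p.2 * (q.1 * q.2)
      calc ((p.1 : G) * q.1) * ((p.2 : G) * q.2) = p.1 * ((q.1 : G) * p.2) * q.2 := by group
        _ = _ := by rw [hKX0 _ q.1.2 _ p.2.2]; group)
  have hψ : Function.Bijective ψ := by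
    refine ⟨fun p q h => Subgroup.mul_injective_of_disjoint hdisj (congrArg Subtype.val h), ?_⟩
    rintro ⟨n, hn⟩
    -- some power of `k` moves `a` as `n` does
    have ha1 := invol_ne_one F.L.ha.order
    have h1 : n * a * n⁻¹ ∈ W := (mem_normalizer_iff.1 hn a).1 F.L.haW
    have hka : k * a * k⁻¹ ∈ W := F.hkW a F.L.haW
    have hkka : k * (k * a * k⁻¹) * k⁻¹ ∈ W := F.hkW _ hka
    have hn1 : n * a * n⁻¹ ≠ 1 := fun e => ha1 (conj_eq_one_iff.1 e)
    have hka1 : k * a * k⁻¹ ≠ 1 := fun e => ha1 (conj_eq_one_iff.1 e)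
    haveI : Fintype ↥W := Fintype.ofFinite _
    have h3 : ({⟨n * a * n⁻¹, h1⟩} : Finset ↥W) ⊆
        {⟨a, F.L.haW⟩, ⟨k * a * k⁻¹, hka⟩, ⟨k * (k * a * k⁻¹) * k⁻¹, hkka⟩} := by
      have huniv : (Finset.univ.erase (1 : ↥W)) =
          {⟨a, F.L.haW⟩, ⟨k * a * k⁻¹, hka⟩, ⟨k * (k * a * k⁻¹) * k⁻¹, hkka⟩} := by
        refine (Finset.eq_of_subset_of_card_le ?_ ?_).symm
        · intro x hx
          simp only [Finset.mem_insert, Finset.mem_singleton] at hx
          refine Finset.mem_erase.2 ⟨fun e => ?_, Finset.mem_univ _⟩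
          rcases hx with rfl | rfl | rfl
          · exact ha1 (congrArg Subtype.val e)
          · exact hka1 (congrArg Subtype.val e)
          · exact hka1 (conj_eq_one_iff.1 (congrArg Subtype.val e))
        · rw [Finset.card_erase_of_mem (Finset.mem_univ _), Finset.card_univ, ← Nat.card_eq_fintype_card,
            F.L.hWc]
          have e1 : a ≠ k * a * k⁻¹ := (F.hkW' a F.L.haW ha1).symm
          have e2 : k * a * k⁻¹ ≠ k * (k * a * k⁻¹) * k⁻¹ := (F.hkW' _ hka hka1).symm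
          have e3 : a ≠ k * (k * a * k⁻¹) * k⁻¹ := fun e => e1 (by
            calc a = k * (k * (k * a * k⁻¹) * k⁻¹) * k⁻¹ := by
                  rw [show k * (k * (k * a * k⁻¹) * k⁻¹) * k⁻¹ = k ^ 3 * a * (k ^ 3)⁻¹ by
                    simp [pow_succ, mul_assoc], hk3]
                  group
              _ = k * a * k⁻¹ := by rw [← e])
          refine le_of_eq (Eq.symm ?_)
          simp [e1, e2, e3]
      rw [Finset.singleton_subset_iff, ← huniv]
      exact Finset.mem_erase.2 ⟨fun e => hn1 (congrArg Subtype.val e), Finset.mem_univ _⟩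
    rw [Finset.singleton_subset_iff] at h3
    simp only [Finset.mem_insert, Finset.mem_singleton, Subtype.mk.injEq] at h3
    obtain ⟨q, hq, hqn⟩ : ∃ q ∈ zpowers k, q * a * q⁻¹ = n * a * n⁻¹ := by
      rcases h3 with e | e | e
      · exact ⟨1, one_mem _, by rw [e]; group⟩
      · exact ⟨k, mem_zpowers k, e.symm⟩
      · exact ⟨k * k, mul_mem (mem_zpowers k) (mem_zpowers k), by rw [e]; group⟩
    have hc : q⁻¹ * n ∈ X := by
      refine mem_centralizer_singleton_iff.2 (mul_inv_eq_iff_eq_mul.1 ?_)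
      rw [show q⁻¹ * n * a * (q⁻¹ * n)⁻¹ = q⁻¹ * (n * a * n⁻¹) * q by group, ← hqn]
      group
    obtain ⟨d, hd, y, hy, hdy⟩ := F.L.hdec _ hc
    refine ⟨(⟨q * d, mul_mem (mem_sup_right hq) (mem_sup_left hd)⟩, ⟨y, hy⟩), Subtype.ext ?_⟩
    show q * d * y = n
    rw [mul_assoc, hdy, mul_inv_cancel_left]
  -- `K` is the alternating group of degree four
  have hK12 : Nat.card ↥K = 12 := by
    refine Eq.trans (Nat.card_eq_of_bijective (fun p : ↥W × ↥(zpowers k) =>
      (⟨(p.1 : G) * p.2, mul_mem (mem_sup_left p.1.2) (mem_sup_right p.2.2)⟩ : ↥K)) ⟨?_, ?_⟩).symm ?_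
    · intro p q h
      refine Subgroup.mul_injective_of_disjoint ?_ (congrArg Subtype.val h)
      rw [disjoint_iff, eq_bot_iff]
      rintro c ⟨hc1, hc2⟩
      obtain ⟨i, rfl⟩ := mem_zpowers_iff.1 hc2
      exact mem_bot.2 (hkX i (F.L.hWX hc1))
    · rintro ⟨c, hc⟩
      obtain ⟨d, hd, q, hq, rfl⟩ := hmemK c hc
      exact ⟨(⟨d, hd⟩, ⟨q, hq⟩), rfl⟩
    · rw [Nat.card_prod, F.L.hWc, Nat.card_zpowers, F.hk]
  set Y : Subgroup ↥K := (zpowers k).subgroupOf K with hY
  have hYK : zpowers k ≤ K := le_sup_right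
  have hYc : Nat.card ↥Y = 3 := by
    rw [Nat.card_congr (subgroupOfEquivOfLe hYK).toEquiv, Nat.card_zpowers, F.hk]
  have hY4 : Y.index = 4 := by
    have := Y.card_mul_index
    rw [hYc, hK12] at this
    omega
  have hcore : Y.normalCore = ⊥ := by
    rcases (Nat.dvd_prime Nat.prime_three).1 (hYc ▸ card_dvd_of_le Y.normalCore_le) with e | e
    · exact Subgroup.card_eq_one.1 e
    · exfalso
      have he := eq_of_le_of_card_ge Y.normalCore_le (by rw [e, hYc])
      have hn : Y.Normal := he ▸ Y.normalCore_normal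
      have h2 := hn.conj_mem ⟨k, hYK (mem_zpowers k)⟩ (mem_subgroupOf.2 (mem_zpowers k))
        ⟨a, mem_sup_left F.L.haW⟩
      rw [mem_subgroupOf] at h2
      change a * k * a⁻¹ ∈ zpowers k at h2
      have h3 : k⁻¹ * (a * k * a⁻¹) ∈ W := by
        rw [show k⁻¹ * (a * k * a⁻¹) = (k⁻¹ * a * k) * a⁻¹ by group]
        refine mul_mem ?_ (inv_mem F.L.haW)
        have := F.hkW _ (F.hkW a F.L.haW)
        rwa [show k * (k * a * k⁻¹) * k⁻¹ = (k * k) * a * (k * k)⁻¹ by group, hkk, inv_inv] at this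
      obtain ⟨i, hi⟩ := mem_zpowers_iff.1 (mul_mem (inv_mem (mem_zpowers k)) h2)
      rw [← hi] at h3
      have h4 := hkX i (F.L.hWX h3)
      rw [hi, inv_mul_eq_one, eq_mul_inv_iff_mul_eq] at h4
      exact F.hkW' a F.L.haW (invol_ne_one F.L.ha.order) (by rw [h4, mul_inv_cancel_right])
  haveI : Fintype (↥K ⧸ Y) := Fintype.ofFinite _
  obtain ⟨eK⟩ := CfsgLib.Classical.equiv_alternating_of_embedding
    ((Fintype.equivFinOfCardEq (show Fintype.card (↥K ⧸ Y) = 4 by
      rw [← Nat.card_eq_fintype_card, ← Subgroup.index_eq_card, hY4])).permCongrHom.toMonoidHom.comp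
      (MulAction.toPermHom ↥K (↥K ⧸ Y)))
    ((Equiv.permCongrHom _).injective.comp
      ((MonoidHom.ker_eq_bot_iff _).1 (by rw [← Subgroup.normalCore_eq_ker, hcore])))
    (by rw [hK12, Fintype.card_fin]; rfl)
  exact ⟨(MulEquiv.ofBijective ψ hψ).symm.trans (eK.prodCongr eX0)⟩

end Five

end HJType

end CfsgLib.InvChar
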