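import Cfsg.Agent.Lib.InvChar.HallJankoLocal
import Cfsg.Agent.S1875

/-!
Groups of Hall-Janko type have order 604800.
-/

set_option autoImplicit false

namespace CfsgLib.InvChar.HJType

open CfsgLib.Invol Subgroup

universe u

variable {G : Type u} [Group G] {z : G} {Q : Subgroup G}

namespace Data

variable (S : Data z Q)
include S

theorem comm_ni_iff [Finite G] {x y : G} (hx : NI z Q x) (hy : NI z Q y) :
    x * y = y * x ↔ (y = x ∨ y = x * z) := by
  obtain ⟨r, -, -, -, hpair, -⟩ := S.exists_five
  refine ⟨hpair x y hx hy, ?_⟩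
  rintro (rfl | rfl)
  · rfl
  · rw [mul_assoc x z x, ← S.commZQ hx.1]

theorem card_ni_finset [Fintype G] [DecidablePred (NI z Q)] :
    (Finset.univ.filter (NI z Q)).card = 10 := by
  obtain ⟨r, -, -, h10, -, -⟩ := S.exists_five
  rw [← h10, Nat.card_eq_fintype_card, Fintype.card_subtype]

/-- The contribution of `z` to the order formula. -/
theorem count_z [Finite G] {a : G} (ha : Outer z Q a) :
    Nat.card {q : G × G // IsConj z q.1 ∧ IsConj a q.2 ∧ z ∈ zpowers (q.1 * q.2)} = 960 := by
  classical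
  haveI : Fintype G := Fintype.ofFinite G
  set Sf : Finset G := Finset.univ.filter (NI z Q) with hSf
  set Tf : Finset G := Finset.univ.filter (Outer z Q) with hTf
  have hS : Sf.card = 10 := S.card_ni_finset
  have hT : Tf.card = 120 := by
    rw [← (S.outer_class ha).2.1, Nat.card_eq_fintype_card, Fintype.card_subtype]
  have hconjT : ∀ b, (IsConj a b ∧ b * z = z * b) ↔ Outer z Q b := by
    intro b
    constructor
    · rintro ⟨hb, hbz⟩
      have ho := (orderOf_eq_of_isConj hb).trans ha.order
      refine ⟨mem_centralizer_singleton_iff.2 hbz, invol_mul_self ho, fun hbQ => ?_⟩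
      refine S.not_isConj_outer ha ?_
      by_cases e : b = z
      · rw [e] at hb; exact hb.symm
      · exact (S.isConj_ni ⟨hbQ, invol_mul_self ho, invol_ne_one ho, e⟩).trans hb.symm
    · intro hb
      obtain ⟨h, -, hh⟩ := (S.outer_class ha).2.2 b hb
      exact ⟨isConj_iff.2 ⟨h, hh⟩, mem_centralizer_singleton_iff.1 hb.1⟩
  -- commuting pairs
  have hcomm : ((Sf ×ˢ Tf).filter fun q => q.1 * q.2 = q.2 * q.1).card = 240 := by
    rw [Finset.card_eq_sum_card_fiberwise (f := fun q : G × G => q.2) (t := Tf)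
      (fun q hq => (Finset.mem_product.1 (Finset.mem_filter.1 hq).1).2)]
    have hfib : ∀ b ∈ Tf, (((Sf ×ˢ Tf).filter fun q => q.1 * q.2 = q.2 * q.1).filter
        fun q => q.2 = b).card = 2 := by
      intro b hb
      have hb' := (Finset.mem_filter.1 hb).2
      obtain ⟨x, hx, hbx⟩ := S.exists_fixed_ni hb'
      have e : ((Sf ×ˢ Tf).filter fun q => q.1 * q.2 = q.2 * q.1).filter (fun q => q.2 = b) =
          {(x, b), (x * z, b)} := by
        ext ⟨p, q⟩
        simp only [Finset.mem_filter, Finset.mem_product, Finset.mem_insert, Finset.mem_singleton,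
          Prod.mk.injEq, hSf, Finset.mem_univ, true_and]
        constructor
        · rintro ⟨⟨⟨hp, -⟩, hc⟩, rfl⟩
          rcases S.cent_outer_mem hb' hx hbx hp.1 hc.symm with e | e | e | e
          · exact absurd e hp.2.2.1
          · exact absurd e hp.2.2.2
          · exact Or.inl ⟨e, rfl⟩
          · exact Or.inr ⟨e, rfl⟩
        · rintro (⟨rfl, rfl⟩ | ⟨rfl, rfl⟩)
          · exact ⟨⟨⟨hx, hb⟩, hbx.symm⟩, rfl⟩
          · exact ⟨⟨⟨S.ni_mul_z hx, hb⟩, (S.outer_xz hb' hbx).symm⟩, rfl⟩
      rw [e, Finset.card_pair fun h => S.mul_z_ne (congrArg Prod.fst h).symm]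
    rw [Finset.sum_congr rfl hfib, Finset.sum_const, hT, smul_eq_mul]
  have htot := Finset.card_filter_add_card_filter_not (s := Sf ×ˢ Tf)
    (fun q : G × G => q.1 * q.2 = q.2 * q.1)
  rw [hcomm, Finset.card_product, hS, hT] at htot
  rw [Nat.card_eq_fintype_card, Fintype.card_subtype,
    show (Finset.univ.filter fun q : G × G => IsConj z q.1 ∧ IsConj a q.2 ∧
      z ∈ zpowers (q.1 * q.2)) = (Sf ×ˢ Tf).filter fun q => ¬ q.1 * q.2 = q.2 * q.1 from ?_]
  · omega
  ext ⟨x, y⟩
  simp only [Finset.mem_filter, Finset.mem_product, Finset.mem_univ, true_and, hSf, hTf]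
  constructor
  · rintro ⟨hx, hy, hw⟩
    have hxo : orderOf x = 2 := (orderOf_eq_of_isConj hx).trans S.hz
    have hyo : orderOf y = 2 := (orderOf_eq_of_isConj hy).trans ha.order
    obtain ⟨i, hi⟩ := mem_zpowers_iff.1 hw
    have hxz : x * z = z * x := by
      have h := zpow_conj_left hxo hyo i
      rw [two_mul, zpow_add, hi, S.zz, one_mul] at h
      exact (mul_inv_eq_iff_eq_mul.1 h).symm
    have hxyz : (x * y) * z = z * (x * y) := by
      rw [← hi]; exact (Commute.self_zpow (x * y) i).eq
    have hyz : y * z = z * y := by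
      calc y * z = x⁻¹ * ((x * y) * z) := by group
        _ = x⁻¹ * (z * (x * y)) := by rw [hxyz]
        _ = x⁻¹ * (x * z) * y := by rw [hxz]; group
        _ = z * y := by group
    have hyT := (hconjT y).1 ⟨hy, hyz⟩
    have hor : ∀ p : G, p * p = 1 → z ∈ zpowers p → z = p := by
      intro p hp hm
      obtain ⟨j, hj⟩ := mem_zpowers_iff.1 hm
      rcases Int.even_or_odd j with ⟨l, hl⟩ | ⟨l, hl⟩
      · exfalso
        rw [hl, ← two_mul, zpow_mul, zpow_two, hp, one_zpow] at hj
        exact S.zne hj.symm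
      · rw [hl, zpow_add_one, zpow_mul, zpow_two, hp, one_zpow, one_mul] at hj
        exact hj.symm
    have hsqc : x * y = y * x → (x * y) * (x * y) = 1 := fun h => by
      calc x * y * (x * y) = x * (y * x) * y := by group
        _ = x * (x * y) * y := by rw [h]
        _ = (x * x) * (y * y) := by group
        _ = 1 := by rw [invol_mul_self hxo, hyT.2.1, one_mul]
    refine ⟨⟨⟨S.mem_Q_of_isConj (mem_centralizer_singleton_iff.2 hxz) hx, invol_mul_self hxo,
      invol_ne_one hxo, ?_⟩, hyT⟩, fun hc => ?_⟩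
    · intro e
      have h := hor _ (hsqc (by rw [e, hyz])) hw
      rw [e] at h
      exact invol_ne_one hyo (mul_eq_left.1 h.symm)
    · have h := hor _ (hsqc hc) hw
      refine hyT.2.2 ?_
      rw [show y = x⁻¹ * (x * y) by group, ← h]
      exact mul_mem (inv_mem (S.mem_Q_of_isConj (mem_centralizer_singleton_iff.2 hxz) hx)) S.hzQ
  · rintro ⟨⟨hxN, hyT⟩, hnc⟩
    refine ⟨S.isConj_ni hxN, ((hconjT y).2 hyT).1, ?_⟩
    have hyi : y⁻¹ = y := inv_eq_of_mul_eq_one_right hyT.2.1
    have hN' : NI z Q (y * x * y⁻¹) := S.ni_conj hyT.1 hxN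
    set d := (x * y) * (x * y) with hd
    have hde : d = x * (y * x * y⁻¹) := by rw [hd, hyi]; group
    have hdz : d ∈ zpowers (x * y) := mul_mem (mem_zpowers _) (mem_zpowers _)
    by_cases hco : x * (y * x * y⁻¹) = (y * x * y⁻¹) * x
    · rcases (S.comm_ni_iff hxN hN').1 hco with e | e
      · exact absurd (mul_inv_eq_iff_eq_mul.1 e).symm hnc
      · rw [hde, e, ← mul_assoc, hxN.2.1, one_mul] at hdz
        exact hdz
    · have hdQ : d ∈ Q := hde ▸ mul_mem hxN.1 hN'.1
      rcases S.sq_Q hdQ with e | e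
      · -- `d` would be an involution or trivial, hence the two would commute
        rcases S.comm_Q hxN.1 hN'.1 with c | c
        · exact absurd c hco
        · have hdd : d * d = z := by
            calc d * d = x * (y * x * y⁻¹) * (x * (y * x * y⁻¹)) := by rw [hde]
              _ = (y * x * y⁻¹) * x * z * (x * (y * x * y⁻¹)) := by rw [c]
              _ = (y * x * y⁻¹) * x * (z * x) * (y * x * y⁻¹) := by group
              _ = (y * x * y⁻¹) * x * (x * z) * (y * x * y⁻¹) := by rw [S.commZQ hxN.1]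
              _ = (y * x * y⁻¹) * (x * x) * (z * (y * x * y⁻¹)) := by group
              _ = (y * x * y⁻¹) * ((y * x * y⁻¹) * z) := by
                rw [hxN.2.1, mul_one, S.commZQ hN'.1]
              _ = z := by rw [← mul_assoc, hN'.2.1, one_mul]
          exact absurd (hdd.symm.trans e) S.zne
      · rw [← e]; exact mul_mem hdz hdz

/-- The contribution of an involution outside `Q`. -/
theorem count_outer [Finite G] {a : G} (ha : Outer z Q a) :
    ∃ k : ℕ, (k = 3 ∨ k = 15) ∧ Nat.card ↥(centralizer ({a} : Set G)) = 16 * k ∧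
      Nat.card {q : G × G // IsConj z q.1 ∧ IsConj a q.2 ∧ a ∈ zpowers (q.1 * q.2)} = k * (k - 2) := by
  classical
  haveI : Fintype G := Fintype.ofFinite G
  obtain ⟨W, X0, k, hk, hWX, hX0X, -, haW, hW2, hWc, hWX0, hdec, -, hXc, hzX0, hX0z, hY, hCsq⟩ :=
    S.local_structure ha
  refine ⟨k, hk, hXc, ?_⟩
  set X := centralizer ({a} : Set G) with hX
  have haa := ha.2.1
  set Y : Finset G := Finset.univ.filter fun y => y ∈ X ∧ IsConj z y with hYdef
  have hYc : Y.card = k := by rw [← hY, Nat.card_eq_fintype_card, Fintype.card_subtype]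
  have hmY : ∀ {y : G}, y ∈ Y ↔ y ∈ X ∧ IsConj z y := by intro y; simp [hYdef]
  have hYo : ∀ {y : G}, y ∈ Y → orderOf y = 2 := fun hy =>
    (orderOf_eq_of_isConj (hmY.1 hy).2).trans S.hz
  -- each member of `Y` commutes with three
  have hthree : ∀ y ∈ Y, (Y.filter fun v => y * v = v * y).card = 3 := by
    intro y hy
    obtain ⟨n, hna, hnz⟩ := S.exists_cent_conj ha (hmY.1 hy).2
      (mem_centralizer_singleton_iff.1 (hmY.1 hy).1)
    obtain ⟨x, hx, hax⟩ := S.exists_fixed_ni ha
    have hn' : n * a * n⁻¹ = a := by rw [hna, mul_inv_cancel_right]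
    have hn'' : n⁻¹ * a * n = a := by rw [mul_assoc, ← hna, inv_mul_cancel_left]
    have e : (Y.filter fun v => y * v = v * y) =
        ({z, x, x * z} : Finset G).image fun v => n * v * n⁻¹ := by
      ext v
      simp only [Finset.mem_filter, Finset.mem_image, hmY]
      constructor
      · rintro ⟨⟨hvX, hvc⟩, hyv⟩
        refine ⟨n⁻¹ * v * n, ?_, by group⟩
        have h1 : IsConj z (n⁻¹ * v * n) := hvc.trans (isConj_iff.2 ⟨n⁻¹, by rw [inv_inv]⟩)
        have h2 : n⁻¹ * v * n * z = z * (n⁻¹ * v * n) := by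
          calc n⁻¹ * v * n * z = n⁻¹ * (v * (n * z * n⁻¹)) * n := by group
            _ = n⁻¹ * ((n * z * n⁻¹) * v) * n := by rw [hnz, hyv]
            _ = z * (n⁻¹ * v * n) := by group
        have h3 : n⁻¹ * v * n * a = a * (n⁻¹ * v * n) := by
          calc n⁻¹ * v * n * a = n⁻¹ * v * n * (n⁻¹ * a * n) := by rw [hn'']
            _ = n⁻¹ * (v * a) * n := by group
            _ = n⁻¹ * (a * v) * n := by rw [mem_centralizer_singleton_iff.1 hvX]
            _ = (n⁻¹ * a * n) * (n⁻¹ * v * n) := by group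
            _ = a * (n⁻¹ * v * n) := by rw [hn'']
        rcases S.fixed_cases ha hx hax h1 h2 h3 with e | e | e <;> rw [e] <;> simp
      · rintro ⟨w, hw, rfl⟩
        have hw' : IsConj z w ∧ w * a = a * w ∧ z * w = w * z := by
          simp only [Finset.mem_insert, Finset.mem_singleton] at hw
          rcases hw with rfl | rfl | rfl
          · exact ⟨IsConj.refl _, (S.commZ ha.1).symm, rfl⟩
          · exact ⟨S.isConj_ni hx, hax.symm, (S.commZQ hx.1).symm⟩
          · exact ⟨S.isConj_ni (S.ni_mul_z hx), (S.outer_xz ha hax).symm,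
              (S.commZQ (S.ni_mul_z hx).1).symm⟩
        refine ⟨⟨mem_centralizer_singleton_iff.2 ?_, hw'.1.trans (isConj_iff.2 ⟨n, rfl⟩)⟩, ?_⟩
        · calc n * w * n⁻¹ * a = n * w * n⁻¹ * (n * a * n⁻¹) := by rw [hn']
            _ = n * (w * a) * n⁻¹ := by group
            _ = n * (a * w) * n⁻¹ := by rw [hw'.2.1]
            _ = (n * a * n⁻¹) * (n * w * n⁻¹) := by group
            _ = a * (n * w * n⁻¹) := by rw [hn']
        · rw [← hnz, show n * z * n⁻¹ * (n * w * n⁻¹) = n * (z * w) * n⁻¹ by group, hw'.2.2]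
          group
    rw [e, Finset.card_image_of_injective _ fun p q h => mul_left_cancel (mul_right_cancel h),
      Finset.card_insert_of_notMem, Finset.card_pair]
    · exact fun h => S.mul_z_ne h.symm
    · simp only [Finset.mem_insert, Finset.mem_singleton, not_or]
      exact ⟨hx.2.2.2.symm, (S.ni_mul_z hx).2.2.2.symm⟩
  -- the pairs
  let P : Finset (G × G) := (Y ×ˢ Y).filter fun q => q.2 = q.1 ∨ q.1 * q.2 ≠ q.2 * q.1
  have hP : P.card = k * (k - 2) := by
    rw [Finset.card_eq_sum_card_fiberwise (f := fun q : G × G => q.1) (t := Y)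
      (fun q hq => (Finset.mem_product.1 (Finset.mem_filter.1 hq).1).1)]
    have hfib : ∀ y ∈ Y, (P.filter fun q => q.1 = y).card = k - 2 := by
      intro y hy
      have e : (P.filter fun q => q.1 = y) =
          (Y.filter fun v => v = y ∨ y * v ≠ v * y).image fun v => (y, v) := by
        ext ⟨p, q⟩
        simp only [P, Finset.mem_filter, Finset.mem_product, Finset.mem_image, Prod.mk.injEq]
        constructor
        · rintro ⟨⟨⟨hp, hq⟩, hc⟩, rfl⟩
          exact ⟨q, ⟨hq, hc⟩, rfl, rfl⟩
        · rintro ⟨v, ⟨hv, hc⟩, rfl, rfl⟩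
          exact ⟨⟨⟨hy, hv⟩, hc⟩, rfl⟩
      rw [e, Finset.card_image_of_injective _ fun p q h => congrArg Prod.snd h]
      have e2 : (Y.filter fun v => v = y ∨ y * v ≠ v * y) =
          insert y (Y.filter fun v => ¬ y * v = v * y) := by
        ext v
        simp only [Finset.mem_filter, Finset.mem_insert]
        constructor
        · rintro ⟨hv, h | h⟩
          exacts [Or.inl h, Or.inr ⟨hv, h⟩]
        · rintro (rfl | ⟨hv, h⟩)
          exacts [⟨hy, Or.inl rfl⟩, ⟨hv, Or.inr h⟩]
      rw [e2, Finset.card_insert_of_notMem (by simp)]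
      have h := Finset.card_filter_add_card_filter_not (s := Y) (fun v => y * v = v * y)
      rw [hthree y hy, hYc] at h
      omega
    rw [Finset.sum_congr rfl hfib, Finset.sum_const, hYc, smul_eq_mul]
  rw [← hP, ← Nat.card_eq_finsetCard]
  have hWaX0 : ∀ {d y : G}, d ∈ W → y ∈ X0 → d * y ∈ W → y = 1 := fun {d y} hd hy h => by
    have : y ∈ W ⊓ X0 := ⟨by simpa using mul_mem (inv_mem hd) h, hy⟩
    rwa [hWX0, mem_bot] at this
  have hfwd : ∀ p : {q : G × G // IsConj z q.1 ∧ IsConj a q.2 ∧ a ∈ zpowers (q.1 * q.2)},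
      (p.1.1, a * p.1.2) ∈ P := by
    rintro ⟨⟨y, b⟩, hy, hb, hw⟩
    have hyo : orderOf y = 2 := (orderOf_eq_of_isConj hy).trans S.hz
    have hbo : orderOf b = 2 := (orderOf_eq_of_isConj hb).trans ha.order
    obtain ⟨i, hi⟩ := mem_zpowers_iff.1 hw
    have hya : y * a = a * y := by
      have h := zpow_conj_left hyo hbo i
      rw [two_mul, zpow_add, hi, haa, one_mul] at h
      exact (mul_inv_eq_iff_eq_mul.1 h).symm
    have hyba : (y * b) * a = a * (y * b) := by
      rw [← hi]; exact (Commute.self_zpow (y * b) i).eq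
    have hba : b * a = a * b := by
      calc b * a = y⁻¹ * ((y * b) * a) := by group
        _ = y⁻¹ * (a * (y * b)) := by rw [hyba]
        _ = y⁻¹ * (y * a) * b := by rw [hya]; group
        _ = a * b := by group
    have hyX : y ∈ X := mem_centralizer_singleton_iff.2 hya
    have hyX0 := hzX0 y hyX hy
    obtain ⟨d, hd, v, hv, hdv⟩ := hdec b (mem_centralizer_singleton_iff.2 hba)
    have hvv : v * v = 1 := by
      have h := invol_mul_self hbo
      rw [← hdv, show d * v * (d * v) = d * (v * d) * v by group, ← hWc d hd v (hX0X hv),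
        show d * (d * v) * v = (d * d) * (v * v) by group, hW2 d hd, one_mul] at h
      exact h
    have hyb : y * b = d * (y * v) := by
      rw [← hdv, ← mul_assoc, ← hWc d hd y hyX, mul_assoc]
    have hcom : Commute d (y * v) := hWc d hd _ (mul_mem hyX (hX0X hv))
    rw [hyb, hcom.mul_zpow] at hi
    have hyv1 : (y * v) ^ i = 1 := by
      refine hWaX0 (zpow_mem hd i) (zpow_mem (mul_mem hyX0 hv) i) ?_
      rw [hi]; exact haW
    rw [hyv1, mul_one] at hi
    obtain ⟨l, hl⟩ : Odd i := by
      rcases Int.even_or_odd i with ⟨l, hl⟩ | h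
      · exfalso
        rw [hl, ← two_mul, zpow_mul, zpow_two, hW2 d hd, one_zpow] at hi
        exact invol_ne_one ha.order hi.symm
      · exact h
    rw [hl, zpow_add_one, zpow_mul, zpow_two, hW2 d hd, one_zpow, one_mul] at hi
    subst hi
    have hv' : d * b = v := by rw [← hdv, ← mul_assoc, haa, one_mul]
    have hodd : (y * v) * (y * v) = 1 → y * v = 1 := fun h => by
      rw [hl, zpow_add_one, zpow_mul, zpow_two, h, one_zpow, one_mul] at hyv1
      exact hyv1
    have hv1 : v ≠ 1 := fun e => invol_ne_one hyo (by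
      have := hodd (by rw [e, mul_one]; exact invol_mul_self hyo)
      rwa [e, mul_one] at this)
    refine Finset.mem_filter.2 ⟨Finset.mem_product.2 ⟨hmY.2 ⟨hyX, hy⟩, ?_⟩, ?_⟩
    · show d * b ∈ Y
      rw [hv']
      exact hmY.2 ⟨hX0X hv, hX0z v hv hvv hv1⟩
    · show d * b = y ∨ y * (d * b) ≠ d * b * y
      rw [hv']
      by_cases hc : y * v = v * y
      · left
        have h := hodd (by
          calc y * v * (y * v) = y * (v * y) * v := by group
            _ = y * (y * v) * v := by rw [hc]
            _ = (y * y) * (v * v) := by group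
            _ = 1 := by rw [invol_mul_self hyo, hvv, one_mul])
        rw [eq_inv_of_mul_eq_one_right h, invol_inv hyo]
      · exact Or.inr hc
  have hbwd : ∀ p : P, IsConj z p.1.1 ∧ IsConj a (a * p.1.2) ∧ a ∈ zpowers (p.1.1 * (a * p.1.2)) := by
    rintro ⟨⟨y, v⟩, hp⟩
    obtain ⟨hp1, hp2⟩ := Finset.mem_filter.1 hp
    obtain ⟨hy, hv⟩ := Finset.mem_product.1 hp1
    change y ∈ Y at hy
    change v ∈ Y at hv
    change v = y ∨ y * v ≠ v * y at hp2
    obtain ⟨hyX, hyz⟩ := hmY.1 hy
    obtain ⟨hvX, hvz⟩ := hmY.1 hv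
    have hva : a * v = v * a := (mem_centralizer_singleton_iff.1 hvX).symm
    have hvv := invol_mul_self (hYo hv)
    have hb2 : a * v * (a * v) = 1 := by
      calc a * v * (a * v) = a * (v * a) * v := by group
        _ = a * (a * v) * v := by rw [hva]
        _ = (a * a) * (v * v) := by group
        _ = 1 := by rw [haa, hvv, one_mul]
    have hvX0 := hzX0 v hvX hvz
    have hyX0 := hzX0 y hyX hyz
    have hb1 : a * v ≠ 1 := fun e => invol_ne_one (hYo hv) (hWaX0 haW hvX0 (by rw [e]; exact one_mem _))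
    refine ⟨hyz, (S.conj_cases ha (invol_of_mul_self hb2 hb1)).resolve_left fun h => ?_, ?_⟩
    · have := hzX0 _ (mul_mem (mem_centralizer_singleton_iff.2 rfl) hvX) h
      have h2 : a ∈ W ⊓ X0 := ⟨haW, by simpa using mul_mem this (inv_mem hvX0)⟩
      rw [hWX0, mem_bot] at h2
      exact invol_ne_one ha.order h2
    · show a ∈ zpowers (y * (a * v))
      have e : y * (a * v) = a * (y * v) := by
        rw [← mul_assoc, mem_centralizer_singleton_iff.1 hyX, mul_assoc]
      rw [e]
      have hcom : Commute a (y * v) :=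
        (mem_centralizer_singleton_iff.1 (mul_mem hyX hvX)).symm
      obtain ⟨l, hl⟩ : Odd (orderOf (y * v)) := by
        rcases hp2 with rfl | hnc
        · rw [invol_mul_self (hYo hy), orderOf_one]; exact odd_one
        · rw [← Nat.not_even_iff_odd]
          intro hev
          obtain ⟨m, hm⟩ := hev
          set u := (y * v) ^ m with hu
          have hpos := orderOf_pos (y * v)
          have huu : u * u = 1 := by rw [hu, ← pow_add, ← hm, pow_orderOf_eq_one]
          have hu1 : u ≠ 1 := pow_ne_one_of_lt_orderOf (by omega) (by omega)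
          have hsq := hCsq (y * v) (mul_mem hyX0 hvX0) u (pow_mem (mul_mem hyX0 hvX0) m) huu hu1
            (Commute.self_pow (y * v) m).eq
          refine hnc ?_
          have hi := inv_eq_of_mul_eq_one_right hsq
          rw [_root_.mul_inv_rev, invol_inv (hYo hv), invol_inv (hYo hy)] at hi
          exact hi.symm
      refine mem_zpowers_iff.2 ⟨((orderOf (y * v) : ℕ) : ℤ), ?_⟩
      rw [zpow_natCast, hcom.mul_pow, pow_orderOf_eq_one, mul_one, hl, pow_succ, pow_mul, pow_two, haa,
        one_pow, one_mul]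
  exact Nat.card_congr
    { toFun := fun p => ⟨(p.1.1, a * p.1.2), hfwd p⟩
      invFun := fun p => ⟨(p.1.1, a * p.1.2), hbwd p⟩
      left_inv := fun p => Subtype.ext (Prod.ext rfl (by
        show a * (a * p.1.2) = p.1.2
        rw [← mul_assoc, haa, one_mul]))
      right_inv := fun p => Subtype.ext (Prod.ext rfl (by
        show a * (a * p.1.2) = p.1.2
        rw [← mul_assoc, haa, one_mul])) }

/-- The order of a group of Hall-Janko type and of the centraliser of an outer involution. -/
theorem order_eq [Finite G] :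
    Nat.card G = 604800 ∧ ∀ a, Outer z Q a → Nat.card ↥(centralizer ({a} : Set G)) = 240 := by
  classical
  haveI : Fintype G := Fintype.ofFinite G
  have key : ∀ a, Outer z Q a →
      Nat.card G = 604800 ∧ Nat.card ↥(centralizer ({a} : Set G)) = 240 := by
    intro a ha
    obtain ⟨k, hk, hXc, hat⟩ := S.count_outer ha
    have hza : ¬ IsConj z a := S.not_isConj_outer ha
    have hne : z ≠ a := fun e => hza (e ▸ IsConj.refl z)
    have hform := Cfsg.Agent.S1875.result z a S.hz ha.order hza ({z, a} : Finset G)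
      (by intro w hw; simp only [Finset.mem_insert, Finset.mem_singleton] at hw
          rcases hw with rfl | rfl
          exacts [S.hz, ha.order])
      (by intro v hv
          rcases S.conj_cases ha hv with h | h
          · refine ⟨z, by simp, h.symm, fun w hw hw' => ?_⟩
            simp only [Finset.mem_insert, Finset.mem_singleton] at hw
            rcases hw with rfl | rfl
            · rfl
            · exact absurd (h.trans hw') hza
          · refine ⟨a, by simp, h.symm, fun w hw hw' => ?_⟩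
            simp only [Finset.mem_insert, Finset.mem_singleton] at hw
            rcases hw with rfl | rfl
            · exact absurd (hw'.symm.trans h.symm) hza
            · rfl)
    rw [Finset.sum_pair hne, S.count_z ha, hat, S.card_H, hXc] at hform
    rcases hk with rfl | rfl
    · exfalso
      have hG : Nat.card G = 51840 := by
        have : (Nat.card G : ℚ) = ((51840 : ℕ) : ℚ) := by rw [hform]; norm_num
        exact_mod_cast this
      have hcl := card_class_mul_card_centralizer z
      rw [hG, S.card_H] at hcl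
      have h27 : Nat.card {t : G // IsConj z t} = 27 := by omega
      -- at least eighty conjugates of `z`
      set Sf : Finset G := Finset.univ.filter (NI z Q) with hSf
      have hS : Sf.card = 10 := S.card_ni_finset
      set P : Finset (G × G) := (Sf ×ˢ Sf).filter fun q => q.1 * q.2 ≠ q.2 * q.1 with hPdef
      have hmS : ∀ {x : G}, x ∈ Sf ↔ NI z Q x := by intro x; simp [hSf]
      have hP : P.card = 80 := by
        have htot := Finset.card_filter_add_card_filter_not (s := Sf ×ˢ Sf)
          (fun q : G × G => q.1 * q.2 = q.2 * q.1)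
        have hc : ((Sf ×ˢ Sf).filter fun q => q.1 * q.2 = q.2 * q.1).card = 20 := by
          rw [Finset.card_eq_sum_card_fiberwise (f := fun q : G × G => q.1) (t := Sf)
            (fun q hq => (Finset.mem_product.1 (Finset.mem_filter.1 hq).1).1)]
          have hfib : ∀ x ∈ Sf, (((Sf ×ˢ Sf).filter fun q => q.1 * q.2 = q.2 * q.1).filter
              fun q => q.1 = x).card = 2 := by
            intro x hx
            have hx' := hmS.1 hx
            have e : ((Sf ×ˢ Sf).filter fun q => q.1 * q.2 = q.2 * q.1).filter (fun q => q.1 = x) =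
                {(x, x), (x, x * z)} := by
              ext ⟨p, q⟩
              simp only [Finset.mem_filter, Finset.mem_product, Finset.mem_insert,
                Finset.mem_singleton, Prod.mk.injEq, hmS]
              constructor
              · rintro ⟨⟨⟨hp, hq⟩, hc⟩, rfl⟩
                rcases (S.comm_ni_iff hp hq).1 hc with e | e
                exacts [Or.inl ⟨rfl, e⟩, Or.inr ⟨rfl, e⟩]
              · rintro (⟨rfl, rfl⟩ | ⟨rfl, rfl⟩)
                · exact ⟨⟨⟨hx', hx'⟩, rfl⟩, rfl⟩
                · exact ⟨⟨⟨hx', S.ni_mul_z hx'⟩, (S.comm_ni_iff hx' (S.ni_mul_z hx')).2 (Or.inr rfl)⟩, rfl⟩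
            rw [e, Finset.card_pair fun h => S.mul_z_ne (congrArg Prod.snd h).symm]
          rw [Finset.sum_congr rfl hfib, Finset.sum_const, hS, smul_eq_mul]
        rw [hc, Finset.card_product, hS] at htot
        show ((Sf ×ˢ Sf).filter fun q => ¬ q.1 * q.2 = q.2 * q.1).card = 80
        omega
      have hswap : ∀ x : {x : G // NI z Q x}, ∃ g : G, g * z * g⁻¹ = x.1 ∧ g * x.1 * g⁻¹ = z :=
        fun x => S.exists_swap x.2
      choose g hgz hgx using hswap
      have hmem : ∀ q : P, NI z Q q.1.1 ∧ NI z Q q.1.2 ∧ q.1.1 * q.1.2 ≠ q.1.2 * q.1.1 := fun q => by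
        obtain ⟨h1, h2⟩ := Finset.mem_filter.1 q.2
        exact ⟨hmS.1 (Finset.mem_product.1 h1).1, hmS.1 (Finset.mem_product.1 h1).2, h2⟩
      let f : P → {t : G // IsConj z t} := fun q =>
        ⟨g ⟨q.1.1, (hmem q).1⟩ * q.1.2 * (g ⟨q.1.1, (hmem q).1⟩)⁻¹,
          (S.isConj_ni (hmem q).2.1).trans (isConj_iff.2 ⟨_, rfl⟩)⟩
      have hrec : ∀ q : P, z * (f q).1 * (z * (f q).1) = q.1.1 := by
        intro q
        obtain ⟨h1, h2, h3⟩ := hmem q
        set x := q.1.1 with hx
        set v := q.1.2 with hv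
        have hc := (S.comm_Q h1.1 h2.1).resolve_left h3
        have e : x * v * (x * v) = z := by
          calc x * v * (x * v) = v * x * z * (x * v) := by rw [hc]
            _ = v * x * (z * x) * v := by group
            _ = v * x * (x * z) * v := by rw [S.commZQ h1.1]
            _ = v * (x * x) * (z * v) := by group
            _ = v * (v * z) := by rw [h1.2.1, mul_one, S.commZQ h2.1]
            _ = z := by rw [← mul_assoc, h2.2.1, one_mul]
        show z * (g ⟨x, h1⟩ * v * (g ⟨x, h1⟩)⁻¹) * (z * (g ⟨x, h1⟩ * v * (g ⟨x, h1⟩)⁻¹)) = x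
        calc z * (g ⟨x, h1⟩ * v * (g ⟨x, h1⟩)⁻¹) * (z * (g ⟨x, h1⟩ * v * (g ⟨x, h1⟩)⁻¹))
            = (g ⟨x, h1⟩ * x * (g ⟨x, h1⟩)⁻¹) * (g ⟨x, h1⟩ * v * (g ⟨x, h1⟩)⁻¹) *
              ((g ⟨x, h1⟩ * x * (g ⟨x, h1⟩)⁻¹) * (g ⟨x, h1⟩ * v * (g ⟨x, h1⟩)⁻¹)) := by
              rw [hgx ⟨x, h1⟩]
          _ = g ⟨x, h1⟩ * (x * v * (x * v)) * (g ⟨x, h1⟩)⁻¹ := by group
          _ = x := by rw [e, hgz ⟨x, h1⟩]
      have hf : Function.Injective f := by
        intro q q' h
        have h1 : q.1.1 = q'.1.1 := by rw [← hrec q, ← hrec q', h]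
        have e := congrArg Subtype.val h
        have eg : g ⟨q.1.1, (hmem q).1⟩ = g ⟨q'.1.1, (hmem q').1⟩ := congrArg g (Subtype.ext h1)
        change g ⟨q.1.1, (hmem q).1⟩ * q.1.2 * (g ⟨q.1.1, (hmem q).1⟩)⁻¹ =
          g ⟨q'.1.1, (hmem q').1⟩ * q'.1.2 * (g ⟨q'.1.1, (hmem q').1⟩)⁻¹ at e
        rw [eg] at e
        exact Subtype.ext (Prod.ext h1 (mul_left_cancel (mul_right_cancel e)))
      have := Nat.card_le_card_of_injective f hf
      rw [Nat.card_eq_finsetCard, hP, h27] at this
      omega
    · refine ⟨?_, hXc⟩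
      have : (Nat.card G : ℚ) = ((604800 : ℕ) : ℚ) := by rw [hform]; norm_num
      exact_mod_cast this
  obtain ⟨a, ha, -⟩ := S.exists_outer
  exact ⟨(key a ha).1, fun b hb => (key b hb).2⟩

end Data

end CfsgLib.InvChar.HJType
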