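import Cfsg.Agent.Lib.InvChar.SporJ2
import Cfsg.Agent.Lib.InvChar.SporData.J2NA.Main
import Cfsg.Agent.Lib.InvChar.SporData.J2NB.Main
import Cfsg.Agent.Lib.InvChar.SporData.J2NC.Main

/-!
# A presentation of the Hall-Janko group from an involution centraliser

Five letters generate the normal extraspecial subgroup of an involution centraliser, the sixth is an
involution commuting with a complement; certified enumerations show that the relators define the
Hall-Janko group.
-/

set_option autoImplicit false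
set_option maxRecDepth 100000

namespace CfsgLib.InvChar.SporJ2N

open CfsgLib.InvChar.Coset CfsgLib.InvChar.SporJ2

/-- The relators. -/
def rels : List (List ℕ) := [[0, 0], [1, 1], [2, 2], [3, 3], [4, 4], [5, 5], [1, 3, 1, 3, 0, 4, 0, 4], [1, 4, 1, 4, 0, 4, 0, 4], [2, 3, 2, 3, 0, 4, 0, 4], [2, 4, 2, 4, 0, 4, 0, 4], [3, 4, 3, 4, 0, 4, 0, 4], [4, 0, 4, 0, 4, 0, 4, 0], [4, 0, 4, 0, 1, 0, 4, 0, 4, 1], [4, 0, 4, 0, 2, 0, 4, 0, 4, 2], [4, 0, 4, 0, 3, 0, 4, 0, 4, 3], [0, 1, 2, 3, 4], [4, 0, 4, 0, 5, 4, 0, 4, 0, 5, 4, 0, 4, 0, 5, 4, 0, 4, 0, 5, 4, 0, 4, 0, 5], [0, 4, 0, 4, 0, 5, 0, 4, 0, 4, 0, 5, 0, 4, 0, 4, 0, 5], [1, 4, 0, 4, 0, 5, 1, 4, 0, 4, 0, 5, 1, 4, 0, 4, 0, 5], [2, 4, 0, 4, 0, 5, 2, 4, 0, 4, 0, 5, 2, 4, 0, 4, 0, 5], [3, 4, 0, 4, 0, 5, 3, 4, 0, 4, 0, 5, 3, 4, 0, 4, 0, 5], [0, 4, 0, 5, 0, 4, 0, 5, 0, 4, 0, 5], [0, 4, 0, 4, 0, 4, 0, 4]]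

/-- The presentation. -/
def pres : WordPres where
  g := 6
  rels := rels
  pos := by decide
  lt := by decide +kernel
  sq := by decide +kernel

/-- The presented group. -/
abbrev N : Type := pres.Grp

/-- Its generators. -/
noncomputable abbrev gen : ℕ → N := pres.gen

theorem card_le : Finite N ∧ Nat.card N ≤ 604800 := by
  have h0 := card_lettersClosure_nil gen
  have h1 := J2NC.covered.chain_step gen pres.gen_mul_self J2NC.emb [] rfl
    (pres.rels_subGen _ _ (by decide +kernel)) (by decide) (by decide +kernel) h0.1 h0.2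
  have h2 := J2NB.covered.chain_step gen pres.gen_mul_self J2NB.emb J2NC.emb rfl
    (pres.rels_subGen _ _ (by decide +kernel)) (by decide) (by decide +kernel) h1.1 h1.2
  have h3 := J2NA.covered.chain_step gen pres.gen_mul_self J2NA.emb J2NB.emb rfl
    (pres.rels_subGen _ _ (by decide +kernel)) (by decide) (by decide +kernel) h2.1 h2.2
  have h := pres.card_le_of_lettersClosure (emb := J2NA.emb) (by decide) h3
  exact ⟨h.1, h.2.trans (le_of_eq rfl)⟩

/-- The six generators inside the five-reflection model. -/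
def imgWord (x : ℕ) : List ℕ := [[3], [4], [1, 0, 1], [1, 2, 1, 0, 1, 2, 1], [1, 0, 2, 1, 0, 1, 2, 1, 3, 4], [1, 3, 2, 1, 4, 2, 4, 1, 2, 3, 1]].getD x []

/-- The five reflections as words in the six generators. -/
def backWord (k : ℕ) : List ℕ := [[0, 1, 0, 1], [0, 5, 4, 5, 2, 5, 4, 5, 0], [4, 0, 5, 1, 5, 0, 4], [0], [1]].getD k []

/-- A word read in the five-reflection model. -/
def expand (L : List ℕ) : List ℕ := (L.map imgWord).flatten

theorem seeds_fix : ∀ L ∈ rels.map expand ++ (List.range 5).map (fun k => expand (backWord k) ++ [k]),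
    ∀ i < 100, J2A.table.follow L i = i := by decide +kernel

theorem seeds_lt : ∀ L ∈ rels.map expand ++ (List.range 5).map (fun k => expand (backWord k) ++ [k]),
    ∀ x ∈ L, x < 5 := by decide +kernel

theorem wprod_seed {L : List ℕ}
    (h : L ∈ rels.map expand ++ (List.range 5).map (fun k => expand (backWord k) ++ [k])) :
    wprod SporJ2.gen L = 1 := by
  have hlt := seeds_lt L h
  apply SporJ2.card_eq.2
  rw [map_one, map_wprod rep SporJ2.gen SporJ2.perm L fun x hx => rep_gen x (hlt x hx), ← inv_eq_one]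
  ext i
  show ((wprod (J2A.valid.toPerm J2A.sq) L)⁻¹ i : ℕ) = _
  rw [← J2A.valid.follow_eq J2A.sq L hlt i, seeds_fix L h i i.2, Equiv.Perm.one_apply]

theorem wprod_flatten {K : Type*} [Monoid K] (f : ℕ → K) (w : ℕ → List ℕ) (L : List ℕ) :
    wprod f (L.map w).flatten = wprod (fun x => wprod f (w x)) L := by
  induction L with
  | nil => rfl
  | cons a L ih =>
    simp only [wprod, List.map_cons, List.flatten_cons, List.map_append, List.prod_append,
      List.prod_cons] at ih ⊢
    rw [ih]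

/-- The presented group is the Hall-Janko group. -/
theorem exists_equiv : Nat.card N = 604800 ∧ Nonempty (N ≃* SporJ2.P) := by
  obtain ⟨φ, hφ⟩ := pres.exists_hom (fun x => wprod SporJ2.gen (imgWord x)) fun r hr => by
    rw [← wprod_flatten]
    exact wprod_seed (List.mem_append_left _ (List.mem_map.2 ⟨r, hr, rfl⟩))
  have hs : Function.Surjective φ := by
    rw [← MonoidHom.range_eq_top, eq_top_iff, ← SporJ2.pres.closure_gen, Subgroup.closure_le]
    rintro _ ⟨k, hk, rfl⟩
    have hk : k < 5 := hk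
    have h := wprod_seed (List.mem_append_right _ (List.mem_map.2 ⟨k, List.mem_range.2 hk, rfl⟩))
    rw [wprod_append, expand, wprod_flatten] at h
    have hb : ∀ x ∈ backWord k, x < 6 :=
      (by decide +kernel : ∀ k < 5, ∀ x ∈ backWord k, x < 6) k hk
    rw [← map_wprod φ gen _ (backWord k) fun x hx => hφ x (hb x hx)] at h
    refine ⟨wprod gen (backWord k), ?_⟩
    have hg : SporJ2.gen k * SporJ2.gen k = 1 := SporJ2.pres.gen_mul_self k
    simp only [wprod, List.map_cons, List.map_nil, List.prod_cons, List.prod_nil, mul_one] at h ⊢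
    exact (eq_inv_of_mul_eq_one_left h).trans (inv_eq_of_mul_eq_one_right hg)
  haveI := card_le.1
  have hb : Function.Bijective φ :=
    hs.bijective_of_nat_card_le (by rw [SporJ2.card_eq.1]; exact card_le.2)
  exact ⟨(Nat.card_eq_of_bijective φ hb).trans SporJ2.card_eq.1, ⟨MulEquiv.ofBijective φ hb⟩⟩

theorem isSimpleGroup : IsSimpleGroup N := by
  obtain ⟨e⟩ := exists_equiv.2
  exact e.isSimpleGroup

/-- A group of order 604800 with six non-trivial elements satisfying the relators is isomorphic to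
the presented group. -/
theorem equiv_of_rels {K : Type*} [Group K] [Finite K] (f : ℕ → K)
    (hf : ∀ r ∈ rels, wprod f r = 1) (h0 : f 0 ≠ 1) (hcard : Nat.card K = 604800) :
    Nonempty (K ≃* SporJ2.P) := by
  obtain ⟨φ, hφ⟩ := pres.exists_hom f hf
  haveI := isSimpleGroup
  haveI := card_le.1
  have hinj : Function.Injective φ := by
    rw [← MonoidHom.ker_eq_bot_iff]
    refine (IsSimpleGroup.eq_bot_or_eq_top_of_normal φ.ker inferInstance).resolve_right fun h => ?_
    refine h0 ?_
    rw [← hφ 0 (by decide)]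
    exact MonoidHom.mem_ker.1 (h ▸ Subgroup.mem_top _)
  obtain ⟨e⟩ := exists_equiv.2
  exact ⟨((MulEquiv.ofBijective φ (hinj.bijective_of_nat_card_le
    (by rw [exists_equiv.1, hcard]))).symm).trans e⟩

end CfsgLib.InvChar.SporJ2N
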