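import Cfsg.Agent.Lib.InvChar.HallJankoFive
import Cfsg.Agent.Lib.InvChar.HallJankoTypeOrder
import Cfsg.Agent.Lib.InvChar.HallJankoOuterCentralizer
import Cfsg.Agent.Lib.InvChar.SporJ2N

/-!
# Six elements of a group of Hall-Janko type satisfying the relators of the presented model

Five non-central involutions of `Q` forming one orbit of a complement `A ≅ A₅`, and the product of
`z` with an element of order five inverted by `z` and centralised by `A`.
-/

set_option autoImplicit false
set_option linter.unusedSimpArgs false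
set_option linter.unusedVariables false

namespace CfsgLib.InvChar.HJType

open CfsgLib.Invol Subgroup

local notation "A5" => alternatingGroup (Fin 5)

universe u

set_option synthInstance.maxSize 512 in
set_option synthInstance.maxHeartbeats 200000 in
/-- In `A₅`, an element of order five inverted by an involution `v` gives, itself or squared, a
product of order three with a second involution commuting with `v`. -/
theorem a5_order_three : ∀ v : A5, v * v = 1 → v ≠ 1 → ∀ f : A5, f ^ 5 = 1 → f ≠ 1 →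
    v * f * v = f ^ 4 → ∀ w : A5, w * w = 1 → w ≠ 1 → w ≠ v → w * v = v * w →
      (w * f) ^ 3 = 1 ∨ (w * f ^ 2) ^ 3 = 1 := by
  decide +kernel

/-- Products of five involutions with all commutators equal to a central involution. -/
theorem five_product {G : Type u} [Group G] (a b c d e z : G)
    (hz : z * z = 1) (ha : a * a = 1) (hb : b * b = 1) (hc : c * c = 1) (hd : d * d = 1)
    (he : e * e = 1) (za : z * a = a * z) (zb : z * b = b * z) (zc : z * c = c * z)
    (zd : z * d = d * z) (ze : z * e = e * z) (ba : b * a = a * b * z) (ca : c * a = a * c * z)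
    (da : d * a = a * d * z) (ea : e * a = a * e * z) (cb : c * b = b * c * z)
    (db : d * b = b * d * z) (eb : e * b = b * e * z) (dc : d * c = c * d * z)
    (ec : e * c = c * e * z) (ed : e * d = d * e * z) :
    (a * b * c * d * e) * (a * b * c * d * e) = 1 ∧
    (a * b * c * d * e) * a = a * (a * b * c * d * e) ∧
    (a * b * c * d * e) * b = b * (a * b * c * d * e) ∧
    b * a * c * d * e = a * b * c * d * e * z := by
  have sw : ∀ {x y : G}, x * y = y * x * z → ∀ t, x * (y * t) = y * (x * (z * t)) := by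
    intro x y h t; rw [← mul_assoc, h]; group
  have sz : ∀ {y : G}, z * y = y * z → ∀ t, z * (y * t) = y * (z * t) := by
    intro y h t; rw [← mul_assoc, h]; group
  have sq : ∀ {y : G}, y * y = 1 → ∀ t, y * (y * t) = t := by
    intro y h t; rw [← mul_assoc, h, one_mul]
  refine ⟨?_, ?_, ?_, ?_⟩ <;>
    simp [mul_assoc, sw ba, sw ca, sw da, sw ea, sw cb, sw db, sw eb, sw dc, sw ec, sw ed,
      sz za, sz zb, sz zc, sz zd, sz ze, sq hz, sq ha, sq hb, sq hc, sq hd, sq he,
      ba, ca, da, ea, cb, db, eb, dc, ec, ed, za, zb, zc, zd, ze, hz, ha, hb, hc, hd, he]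

variable {G : Type u} [Group G] {z : G} {Q : Subgroup G}

namespace Data

variable (S : Data z Q)
include S

/-- A complement of order sixty in the centraliser of `z`, an element of order five inverted by `z`
and centralised by it, and a fixed involution of `Q` of a subgroup of order twelve. -/
theorem exists_complement [Finite G] :
    ∃ (A : Subgroup G) (f x : G), A ≤ centralizer ({z} : Set G) ∧ Nat.card ↥A = 60 ∧
      NI z Q x ∧ 12 ∣ Nat.card ↥(A ⊓ centralizer ({x} : Set G) : Subgroup G) ∧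
      f ^ 5 = 1 ∧ z * f * z⁻¹ = f⁻¹ ∧ (∀ α ∈ A, α * f = f * α) ∧ (x * f) ^ 3 = 1 := by
  classical
  obtain ⟨a, W, X0, f, v, k, A, F⟩ := S.exists_five_config
  have L := F.L
  have hvv : v * v = 1 := invol_mul_self F.hv
  have hv1 : v ≠ 1 := invol_ne_one F.hv
  have hvi : v⁻¹ = v := invol_inv F.hv
  have hC := L.X0_cent S F.hvX hvv hv1
  obtain ⟨e⟩ := hC.equiv_altFive L.hX0c
  set C := centralizer ({(⟨v, F.hvX⟩ : ↥X0)} : Set ↥X0) with hCdef
  haveI : Fintype ↥C := Fintype.ofFinite _
  obtain ⟨w, hw1, hwv⟩ : ∃ w : ↥C, (w : ↥X0) ≠ 1 ∧ (w : ↥X0) ≠ ⟨v, F.hvX⟩ := by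
    obtain ⟨w, -, hw⟩ := Finset.exists_mem_notMem_of_card_lt_card
      (s := ({(1 : ↥C), ⟨⟨v, F.hvX⟩, mem_centralizer_singleton_iff.2 rfl⟩} : Finset ↥C))
      (t := (Finset.univ : Finset ↥C)) (by
        have h4 : Fintype.card ↥C = 4 := by rw [← Nat.card_eq_fintype_card]; exact hC.1
        rw [Finset.card_univ, h4]
        exact lt_of_le_of_lt Finset.card_le_two (by norm_num))
    rw [Finset.mem_insert, Finset.mem_singleton, not_or] at hw
    exact ⟨w, fun h => hw.1 (Subtype.ext h), fun h => hw.2 (Subtype.ext h)⟩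
  have hwc : (w : ↥X0) * ⟨v, F.hvX⟩ = ⟨v, F.hvX⟩ * w := mem_centralizer_singleton_iff.1 w.2
  have hww : (w : ↥X0) * w = 1 := hC.2.1 _ w.2
  -- choose between `f` and its square
  have hf5 : (⟨f, F.hfX⟩ : ↥X0) ^ 5 = 1 := Subtype.ext (by
    show f ^ 5 = 1
    rw [← F.hf]; exact pow_orderOf_eq_one f)
  have hf1 : f ≠ 1 := fun h => by have := F.hf; rw [h, orderOf_one] at this; norm_num at this
  have h5 : f ^ 5 = 1 := by rw [← F.hf]; exact pow_orderOf_eq_one f
  have hinv : f⁻¹ = f ^ 4 := inv_eq_of_mul_eq_one_right (by rw [← pow_succ']; exact h5)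
  have key := a5_order_three (e ⟨v, F.hvX⟩)
    (by rw [← map_mul, ← map_one e]; exact congrArg e (Subtype.ext hvv))
    (fun h => hv1 (congrArg Subtype.val (e.injective (h.trans (map_one e).symm))))
    (e ⟨f, F.hfX⟩) (by rw [← map_pow, hf5, map_one])
    (fun h => hf1 (congrArg Subtype.val (e.injective (h.trans (map_one e).symm))))
    (by
      rw [← map_mul, ← map_mul, ← map_pow]
      refine congrArg e (Subtype.ext ?_)
      show v * f * v = f ^ 4
      nth_rw 2 [← hvi]
      rw [F.hvf, hinv])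
    (e w) (by rw [← map_mul, hww, map_one])
    (fun h => hw1 (e.injective (h.trans (map_one e).symm)))
    (fun h => hwv (e.injective h)) (by rw [← map_mul, ← map_mul, hwc])
  obtain ⟨f', hf'A, hf'5, hf'v, hf'3⟩ : ∃ f' : G, (∀ α ∈ A, α * f' = f' * α) ∧ f' ^ 5 = 1 ∧
      v * f' * v⁻¹ = f'⁻¹ ∧ ((w : ↥X0) : G) * f' * (((w : ↥X0) : G) * f') *
        (((w : ↥X0) : G) * f') = 1 := by
    have hA : ∀ α ∈ A, Commute α f := fun α hα => mem_centralizer_singleton_iff.1 (F.hAf hα)
    rcases key with h | h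
    · rw [← map_mul, ← map_pow, ← map_one e] at h
      refine ⟨f, fun α hα => hA α hα, h5, F.hvf, ?_⟩
      have := congrArg Subtype.val (e.injective h)
      simpa [pow_succ, mul_assoc] using this
    · rw [← map_pow, ← map_mul, ← map_pow, ← map_one e] at h
      refine ⟨f ^ 2, fun α hα => ((hA α hα).pow_right 2).eq,
        by rw [← pow_mul, mul_comm, pow_mul, h5, one_pow], ?_, ?_⟩
      · rw [← inv_pow, ← F.hvf, conj_pow]
      · have := congrArg Subtype.val (e.injective h)
        simpa [pow_succ, mul_assoc] using this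
  -- move `v` to `z`
  obtain ⟨g, hg⟩ := isConj_iff.1 (L.hX0z v F.hvX hvv hv1)
  set c : MulAut G := MulAut.conj g⁻¹ with hc
  have hcv : c v = z := by rw [hc, MulAut.conj_apply, ← hg]; group
  set x := c ((w : ↥X0) : G) with hx
  have hwG : ((w : ↥X0) : G) * ((w : ↥X0) : G) = 1 := congrArg Subtype.val hww
  have hwG1 : ((w : ↥X0) : G) ≠ 1 := fun h => hw1 (Subtype.ext h)
  have hxH : x ∈ centralizer ({z} : Set G) := mem_centralizer_singleton_iff.2 (by
    rw [hx, ← hcv, ← map_mul, ← map_mul]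
    exact congrArg c (congrArg Subtype.val hwc))
  have hxc : IsConj z x :=
    (L.hX0z _ (w : ↥X0).2 hwG hwG1).trans (isConj_iff.2 ⟨g⁻¹, rfl⟩)
  have hxNI : NI z Q x := by
    refine ⟨S.mem_Q_of_isConj hxH hxc, by rw [hx, ← map_mul, hwG, map_one],
      fun h => hwG1 (c.injective (h.trans (map_one c).symm)), fun h => ?_⟩
    rw [← hcv] at h
    exact hwv (Subtype.ext (c.injective h))
  refine ⟨A.map c.toMonoidHom, c f', x, ?_, ?_, hxNI, ?_, by rw [← map_pow, hf'5, map_one], ?_, ?_, ?_⟩
  · rintro _ ⟨α, hα, rfl⟩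
    refine mem_centralizer_singleton_iff.2 ?_
    show c α * z = z * c α
    rw [← hcv, ← map_mul, ← map_mul, F.hvA α hα]
  · rw [card_map_of_injective c.injective, F.hA]
  · set St := A ⊓ centralizer ({((w : ↥X0) : G)} : Set G) with hSt
    have hW : W ≤ St := fun d hd => ⟨F.hWA hd,
      mem_centralizer_singleton_iff.2 (L.hWcen d hd _ (L.hX0X (w : ↥X0).2))⟩
    have hk : k ∈ St := ⟨F.hkA, mem_centralizer_singleton_iff.2 (F.hkX _ (w : ↥X0).2)⟩
    have h4 : 4 ∣ Nat.card ↥St := L.hWc ▸ card_dvd_of_le hW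
    have h3 : 3 ∣ Nat.card ↥St := F.hk ▸ St.orderOf_dvd_natCard hk
    have h12 : 12 ∣ Nat.card ↥St := Nat.Coprime.mul_dvd_of_dvd_of_dvd (by norm_num) h4 h3
    rw [← card_map_of_injective (K := St) (f := c.toMonoidHom) c.injective] at h12
    refine h12.trans (card_dvd_of_le ?_)
    rintro _ ⟨α, ⟨hα, hαw⟩, rfl⟩
    refine ⟨⟨α, hα, rfl⟩, mem_centralizer_singleton_iff.2 ?_⟩
    show c α * x = x * c α
    rw [hx, ← map_mul, ← map_mul, mem_centralizer_singleton_iff.1 hαw]
  · rw [← hcv, ← map_inv, ← map_mul, ← map_mul, hf'v, map_inv]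
  · rintro _ ⟨α, hα, rfl⟩
    show c α * c f' = c f' * c α
    rw [← map_mul, ← map_mul, hf'A α hα]
  · rw [hx, pow_succ, pow_two, ← map_mul, ← map_mul, ← map_mul, hf'3, map_one]

/-- Five pairwise non-commuting involutions of `Q` with product one. -/
theorem exists_five_orbit [Finite G] :
    ∃ (p : Fin 5 → G) (f : G), (∀ i, NI z Q (p i)) ∧ (∀ i j, i ≠ j → p i * p j ≠ p j * p i) ∧
      p 0 * p 1 * p 2 * p 3 * p 4 = 1 ∧ f ^ 5 = 1 ∧ z * f * z⁻¹ = f⁻¹ ∧
      ∀ i, (p i * f) ^ 3 = 1 := by
  classical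
  obtain ⟨A, f, x, hAH, hA, hx, h12, hf5, hzf, hAf, h3⟩ := S.exists_complement
  set B : Subgroup G := A ⊓ centralizer ({x} : Set G) with hB
  have hBA : B ≤ A := inf_le_left
  have hne60 : Nat.card ↥B ≠ 60 := by
    intro h
    have hd : Nat.card ↥B ∣ Nat.card ↥(centralizer ({z} : Set G) ⊓ centralizer ({x} : Set G) :
        Subgroup G) := card_dvd_of_le (inf_le_inf_right _ hAH)
    rw [S.card_cent_ni hx, h] at hd
    norm_num at hd
  have hcases : ∀ K : Subgroup G, B ≤ K → K ≤ A → Nat.card ↥K = 12 ∨ Nat.card ↥K = 60 := by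
    intro K h1 h2
    have d1 := hA ▸ card_dvd_of_le h2
    have d2 := h12.trans (card_dvd_of_le h1)
    obtain ⟨m, hm⟩ := d2
    rw [hm] at d1 ⊢
    have : m ∣ 5 := Nat.dvd_of_mul_dvd_mul_left (by norm_num : 0 < 12) (by simpa using d1)
    rcases (Nat.dvd_prime (by norm_num : Nat.Prime 5)).1 this with rfl | rfl <;> simp
  have hB12 : Nat.card ↥B = 12 := (hcases B le_rfl hBA).resolve_right hne60
  -- the elements of `A` moving `x` inside `{x, x z}` fix it
  have hpair : ∀ α ∈ A, α * x * α⁻¹ = x * z → False := by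
    intro α hα hαx
    let K : Subgroup G :=
      { carrier := {β | β ∈ A ∧ (β * x * β⁻¹ = x ∨ β * x * β⁻¹ = x * z)}
        one_mem' := ⟨one_mem A, Or.inl (by simp)⟩
        mul_mem' := by
          rintro β γ ⟨hβ, hb⟩ ⟨hγ, hc⟩
          have hzb : β * z * β⁻¹ = z := S.conjZ (hAH hβ)
          refine ⟨mul_mem hβ hγ, ?_⟩
          have e : β * γ * x * (β * γ)⁻¹ = β * (γ * x * γ⁻¹) * β⁻¹ := by group
          rw [e]
          rcases hc with hc | hc <;> rw [hc]
          · exact hb
          · rw [show β * (x * z) * β⁻¹ = β * x * β⁻¹ * (β * z * β⁻¹) by group, hzb]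
            rcases hb with hb | hb <;> rw [hb]
            · exact Or.inr rfl
            · exact Or.inl (by rw [mul_assoc, S.zz, mul_one])
        inv_mem' := by
          rintro β ⟨hβ, hb⟩
          have hzb : β⁻¹ * z * β = z := by simpa using S.conjZ (hAH (inv_mem hβ))
          refine ⟨inv_mem hβ, ?_⟩
          rw [inv_inv]
          rcases hb with hb | hb
          · refine Or.inl ?_
            calc β⁻¹ * x * β = β⁻¹ * (β * x * β⁻¹) * β := by rw [hb]
              _ = x := by group
          · refine Or.inr ?_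
            calc β⁻¹ * x * β = β⁻¹ * (β * x * β⁻¹ * z⁻¹) * β := by rw [hb, mul_inv_cancel_right]
              _ = x * (β⁻¹ * z * β)⁻¹ := by group
              _ = x * z := by rw [hzb, S.zInv] }
    have hBK : B ≤ K := fun β hβ => ⟨hβ.1, Or.inl (mul_inv_eq_iff_eq_mul.2
      (mem_centralizer_singleton_iff.1 hβ.2))⟩
    have hKA : K ≤ A := fun β hβ => hβ.1
    have hαK : α ∈ K := ⟨hα, Or.inr hαx⟩
    rcases hcases K hBK hKA with h | h
    · have hBK' := eq_of_le_of_card_ge hBK (by rw [h, hB12])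
      have := mem_centralizer_singleton_iff.1 (hBK' ▸ hαK : α ∈ B).2
      rw [mul_inv_eq_iff_eq_mul.2 this] at hαx
      exact S.mul_z_ne hαx.symm
    · -- then `A` preserves a pair, so a subgroup of index at most two fixes `x`
      have hKeq := eq_of_le_of_card_ge hKA (by rw [h, hA])
      set B' := B.subgroupOf A with hB'
      have hi : B'.index = 5 := by
        have h1 := B'.card_mul_index
        rw [Nat.card_congr (subgroupOfEquivOfLe hBA).toEquiv, hB12, hA] at h1
        omega
      have hle : Nat.card (↥A ⧸ B') ≤ Nat.card ↥({x, x * z} : Finset G) := by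
        refine Nat.card_le_card_of_injective (Quotient.lift
          (fun β : ↥A => (⟨(β : G) * x * (β : G)⁻¹, ?_⟩ : ↥({x, x * z} : Finset G))) ?_) ?_
        · rw [Finset.mem_insert, Finset.mem_singleton]
          exact ((hKeq.symm ▸ β.2 : (β : G) ∈ K)).2
        · intro β γ hbc
          have hm := QuotientGroup.leftRel_apply.1 hbc
          rw [hB', mem_subgroupOf] at hm
          have hm' := mem_centralizer_singleton_iff.1 hm.2
          refine Subtype.ext ?_
          change ((β⁻¹ * γ : ↥A) : G) * x = x * ((β⁻¹ * γ : ↥A) : G) at hm'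
          simp only [Subgroup.coe_mul, InvMemClass.coe_inv] at hm'
          show (β : G) * x * (β : G)⁻¹ = γ * x * (γ : G)⁻¹
          calc (β : G) * x * (β : G)⁻¹ = β * (x * ((β : G)⁻¹ * γ)) * (γ : G)⁻¹ := by group
            _ = β * (((β : G)⁻¹ * γ) * x) * (γ : G)⁻¹ := by rw [hm']
            _ = γ * x * (γ : G)⁻¹ := by group
        · intro q r
          refine Quotient.inductionOn₂ q r fun β γ hbc => Quotient.sound ?_
          have hbc' : (β : G) * x * (β : G)⁻¹ = γ * x * (γ : G)⁻¹ := congrArg Subtype.val hbc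
          refine QuotientGroup.leftRel_apply.2 ?_
          rw [hB', mem_subgroupOf]
          refine ⟨(β⁻¹ * γ).2, mem_centralizer_singleton_iff.2 ?_⟩
          show ((β⁻¹ * γ : ↥A) : G) * x = x * ((β⁻¹ * γ : ↥A) : G)
          simp only [Subgroup.coe_mul, InvMemClass.coe_inv]
          calc (β : G)⁻¹ * γ * x = (β : G)⁻¹ * (γ * x * (γ : G)⁻¹) * γ := by group
            _ = (β : G)⁻¹ * (β * x * (β : G)⁻¹) * γ := by rw [hbc']
            _ = x * ((β : G)⁻¹ * γ) := by group
      rw [← Subgroup.index, hi, Nat.card_eq_finsetCard] at hle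
      have := hle.trans Finset.card_le_two
      omega
  -- one representative for each coset
  set B' := B.subgroupOf A with hB'
  have hi : Nat.card (↥A ⧸ B') = 5 := by
    have h1 := B'.card_mul_index
    rw [Nat.card_congr (subgroupOfEquivOfLe hBA).toEquiv, hB12, hA] at h1
    show B'.index = 5
    omega
  obtain ⟨e⟩ : Nonempty (Fin 5 ≃ ↥A ⧸ B') := by
    haveI : Fintype (↥A ⧸ B') := Fintype.ofFinite _
    exact ⟨(Fintype.equivFinOfCardEq (by rw [← Nat.card_eq_fintype_card, hi])).symm⟩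
  let r : Fin 5 → ↥A := fun i => (e i).out
  let p : Fin 5 → G := fun i => (r i : G) * x * (r i : G)⁻¹
  have hp : ∀ i, NI z Q (p i) := fun i => S.ni_conj (hAH (r i).2) hx
  have hne : ∀ i j, i ≠ j → p i * p j ≠ p j * p i := by
    intro i j hij hc
    have hzr : (r i : G) * z * (r i : G)⁻¹ = z := S.conjZ (hAH (r i).2)
    have hzi : ((r i : G)⁻¹) * z * (r i : G) = z := by simpa using S.conjZ (hAH (inv_mem (r i).2))
    rcases (S.comm_ni_iff (hp i) (hp j)).1 hc with h | h
    · refine hij (e.injective ?_)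
      rw [← QuotientGroup.out_eq' (e i), ← QuotientGroup.out_eq' (e j)]
      refine (QuotientGroup.eq).2 ?_
      show (((r i)⁻¹ * r j : ↥A) : G) ∈ B
      refine ⟨((r i)⁻¹ * r j).2, mem_centralizer_singleton_iff.2 ?_⟩
      show (((r i)⁻¹ * r j : ↥A) : G) * x = x * (((r i)⁻¹ * r j : ↥A) : G)
      simp only [Subgroup.coe_mul, InvMemClass.coe_inv]
      calc (r i : G)⁻¹ * r j * x = (r i : G)⁻¹ * p j * r j := by simp only [p]; group
        _ = (r i : G)⁻¹ * p i * r j := by rw [h]
        _ = x * ((r i : G)⁻¹ * r j) := by simp only [p]; group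
    · refine hpair _ (mul_mem (inv_mem (r i).2) (r j).2) ?_
      calc (r i : G)⁻¹ * r j * x * ((r i : G)⁻¹ * r j)⁻¹ = (r i : G)⁻¹ * p j * r i := by
            simp only [p]; group
        _ = (r i : G)⁻¹ * (p i * z) * r i := by rw [h]
        _ = x * ((r i : G)⁻¹ * z * r i) := by simp only [p]; group
        _ = x * z := by rw [hzi]
  have hsw : ∀ i j, i ≠ j → p i * p j = p j * p i * z := fun i j hij =>
    (S.comm_Q (hp i).1 (hp j).1).resolve_left (hne i j hij)
  have hzp : ∀ i, z * p i = p i * z := fun i => (S.commZQ (hp i).1).symm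
  obtain ⟨hP2, hP0, hP1, hswap⟩ := five_product (p 0) (p 1) (p 2) (p 3) (p 4) z S.zz (hp 0).2.1
    (hp 1).2.1 (hp 2).2.1 (hp 3).2.1 (hp 4).2.1 (hzp 0) (hzp 1) (hzp 2) (hzp 3) (hzp 4)
    (hsw 1 0 (by decide)) (hsw 2 0 (by decide)) (hsw 3 0 (by decide)) (hsw 4 0 (by decide))
    (hsw 2 1 (by decide)) (hsw 3 1 (by decide)) (hsw 4 1 (by decide)) (hsw 3 2 (by decide))
    (hsw 4 2 (by decide)) (hsw 4 3 (by decide))
  have hfi : ∀ i, (p i * f) ^ 3 = 1 := by
    intro i
    have e1 : (r i : G) * f * (r i : G)⁻¹ = f := mul_inv_eq_iff_eq_mul.2 (hAf _ (r i).2)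
    rw [show p i * f = (r i : G) * (x * f) * (r i : G)⁻¹ from by
      conv_lhs => rw [← e1]
      simp only [p]; group, conj_pow, h3]
    group
  set P := p 0 * p 1 * p 2 * p 3 * p 4 with hP
  have hPQ : P ∈ Q := mul_mem (mul_mem (mul_mem (mul_mem (hp 0).1 (hp 1).1) (hp 2).1) (hp 3).1) (hp 4).1
  by_cases h1 : P = 1
  · exact ⟨p, f, hp, hne, h1, hf5, hzf, hfi⟩
  by_cases h2 : P = z
  · refine ⟨p ∘ Equiv.swap 0 1, f, fun i => hp _, fun i j hij => hne _ _
      (fun h => hij ((Equiv.swap (0 : Fin 5) 1).injective h)), ?_, hf5, hzf, fun i => hfi _⟩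
    simp only [Function.comp_apply, Equiv.swap_apply_left, Equiv.swap_apply_right,
      Equiv.swap_apply_of_ne_of_ne (show (2 : Fin 5) ≠ 0 by decide) (show (2 : Fin 5) ≠ 1 by decide),
      Equiv.swap_apply_of_ne_of_ne (show (3 : Fin 5) ≠ 0 by decide) (show (3 : Fin 5) ≠ 1 by decide),
      Equiv.swap_apply_of_ne_of_ne (show (4 : Fin 5) ≠ 0 by decide) (show (4 : Fin 5) ≠ 1 by decide)]
    rw [hswap, h2, S.zz]
  exfalso
  have hPN : NI z Q P := ⟨hPQ, hP2, h1, h2⟩
  have h0 := (S.comm_ni_iff (hp 0) hPN).1 hP0.symm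
  have h0' := (S.comm_ni_iff (hp 1) hPN).1 hP1.symm
  have hzz : ∀ {s t : G}, s * z = t * z → s = t := fun h => mul_right_cancel h
  refine hne 1 0 (by decide) ((S.comm_ni_iff (hp 1) (hp 0)).2 ?_)
  rcases h0 with h | h <;> rcases h0' with h' | h'
  · exact Or.inl (h.symm.trans h')
  · exact Or.inr (h.symm.trans h')
  · refine Or.inr ?_
    rw [h'] at h
    rw [h, mul_assoc, S.zz, mul_one]
  · exact Or.inl (hzz (h.symm.trans h'))

end Data

end CfsgLib.InvChar.HJType
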