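import Cfsg.Agent.Lib.InvChar.HallJankoClasses
import Cfsg.Agent.Lib.InvChar.SimpleInvol

/-!
# Fusion of the central involution into `Q` in a simple group with two classes of involutions
-/

set_option autoImplicit false

namespace CfsgLib.InvChar.HJType

open CfsgLib.Invol Subgroup

universe u

variable {G : Type u} [Group G] {z : G} {Q : Subgroup G}

namespace Pre

variable (S : Pre z Q)
include S

theorem not_comm [Finite G] : ¬ IsMulCommutative G := by
  intro h
  have hc : Nat.card ↥(center ↥Q) = 32 := by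
    have ht : center ↥Q = ⊤ := eq_top_iff.2 fun q _ =>
      mem_center_iff.2 fun p => Subtype.ext (h.is_comm.comm (p : G) (q : G))
    rw [ht, card_top, S.hQc]
  rw [S.hes.2] at hc
  norm_num at hc

/-- If there are exactly two classes of involutions and `G` is simple, `z` is not weakly closed
in `Q`. -/
theorem fus_of_simple [Finite G] [IsSimpleGroup G]
    (htwo : ∃ x y : G, orderOf x = 2 ∧ orderOf y = 2 ∧ ¬ IsConj x y ∧
      ∀ w : G, orderOf w = 2 → IsConj w x ∨ IsConj w y) :
    ∃ g : G, g * z * g⁻¹ ∈ Q ∧ g * z * g⁻¹ ≠ z := by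
  by_contra hno
  push Not at hno
  have hQz : ∀ q ∈ Q, IsConj z q → q = z := by
    intro q hq hc
    obtain ⟨g, rfl⟩ := isConj_iff.1 hc
    exact hno g hq
  -- two classes: an involution not conjugate to `z` is conjugate to every other such involution
  have hother : ∀ p q : G, orderOf p = 2 → orderOf q = 2 → ¬ IsConj z p → ¬ IsConj z q →
      IsConj p q := by
    obtain ⟨x, y, -, -, -, hall⟩ := htwo
    intro p q hp hq hzp hzq
    rcases hall z S.hz with hz | hz <;> rcases hall p hp with h | h <;> rcases hall q hq with h' | h'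
    all_goals first
      | exact h.trans h'.symm
      | exact absurd (hz.trans h.symm) hzp
      | exact absurd (hz.trans h'.symm) hzq
  obtain ⟨g₀, hg₀⟩ : ∃ g : G, Commute z (g * z * g⁻¹) ∧ g * z * g⁻¹ ≠ z := by
    by_contra h
    push Not at h
    exact not_isolated_of_simple S.not_comm (z := z) ⟨S.hz, h⟩
  set a := g₀ * z * g₀⁻¹ with ha
  have ha2 : orderOf a = 2 := by rw [ha, orderOf_conj_eq]; exact S.hz
  have hza : IsConj z a := isConj_iff.2 ⟨g₀, rfl⟩
  have hA : Outer z Q a := ⟨mem_centralizer_singleton_iff.2 hg₀.1.eq.symm, invol_mul_self ha2,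
    fun h => hg₀.2 (hQz a h hza)⟩
  obtain ⟨x, hx, hax, -, -⟩ := S.outer hA.1 hA.2.1 hA.2.2
  have hxz : NI z Q (x * z) := S.ni_mul_z hx
  obtain ⟨g, hg⟩ := isConj_iff.1 hza.symm
  -- the other class meets `H` only inside `Q`
  have hin : ∀ y, NI z Q y → a * y = y * a → g * y * g⁻¹ ∈ Q := by
    intro y hy hay
    by_contra hout
    have hnot : ¬ IsConj z y := fun h => hy.2.2.2 (hQz y hy.1 h)
    have hy2 : orderOf (g * y * g⁻¹) = 2 := by rw [orderOf_conj_eq]; exact hy.order
    have hmem : g * y * g⁻¹ ∈ centralizer ({z} : Set G) := mem_centralizer_singleton_iff.2 (by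
      rw [← hg]
      calc g * y * g⁻¹ * (g * a * g⁻¹) = g * (y * a) * g⁻¹ := by group
        _ = g * (a * y) * g⁻¹ := by rw [hay]
        _ = g * a * g⁻¹ * (g * y * g⁻¹) := by group)
    obtain ⟨h, -, hh⟩ := (S.outer_class hA).2.2 _ ⟨hmem, invol_mul_self hy2, hout⟩
    exact hnot ((hza.trans (isConj_iff.2 ⟨h, hh⟩)).trans (isConj_iff.2 ⟨g, rfl⟩ : IsConj y _).symm)
  have haxz : a * (x * z) = x * z * a := by
    rw [← mul_assoc, hax, mul_assoc, hg₀.1.eq.symm, ← mul_assoc]
  have hmem : g * z * g⁻¹ ∈ Q := by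
    have h := mul_mem (hin x hx hax) (hin _ hxz haxz)
    rwa [show g * x * g⁻¹ * (g * (x * z) * g⁻¹) = g * (x * x * z) * g⁻¹ by group, hx.2.1,
      one_mul] at h
  have hzz := hno g hmem
  exact hg₀.2 (mul_left_cancel (mul_right_cancel (hg.trans hzz.symm)))

end Pre

end CfsgLib.InvChar.HJType
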