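import Cfsg.Agent.Lib.InvChar.BSWSmall
import Mathlib.GroupTheory.Nilpotent
import Mathlib.GroupTheory.Transfer

/-!
Groups in which each involution of a four-group has that four-group as centraliser.
-/

set_option autoImplicit false

namespace CfsgLib.InvChar.HJKlein

open CfsgLib.Invol Subgroup

/-- An involution normalising a subgroup of odd prime order centralises or inverts it. -/
theorem invol_conj_eq {G : Type*} [Group G] {u y : G} {q : ℕ} (hq : q.Prime) (hu : u * u = 1)
    (hy : orderOf y = q) (h : u * y * u⁻¹ ∈ zpowers y) : u * y * u⁻¹ = y ∨ u * y * u⁻¹ = y⁻¹ := by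
  obtain ⟨i, hi⟩ := mem_zpowers_iff.1 h
  have h2 : y = y ^ (i * i) := by
    rw [zpow_mul, hi, show (u * y * u⁻¹) ^ i = u * y ^ i * u⁻¹ from
      (map_zpow (MulAut.conj u) y i).symm, hi,
      show u * (u * y * u⁻¹) * u⁻¹ = (u * u) * y * (u * u)⁻¹ by group, hu]
    group
  have h3 : (q : ℤ) ∣ (i - 1) * (i + 1) := by
    rw [show (i - 1) * (i + 1) = i * i - 1 by ring, ← hy, orderOf_dvd_iff_zpow_eq_one, zpow_sub_one,
      ← h2, mul_inv_cancel]
  rcases (Nat.prime_iff_prime_int.1 hq).dvd_mul.1 h3 with h | h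
  · left
    rw [← hy, orderOf_dvd_iff_zpow_eq_one, zpow_sub_one, hi, mul_inv_eq_one] at h
    exact h
  · right
    rw [← hy, orderOf_dvd_iff_zpow_eq_one, zpow_add_one, hi, mul_eq_one_iff_eq_inv] at h
    exact h

/-- A four-group cannot act fixed-point-freely on a group of odd prime order. -/
theorem exists_commute_of_normalizes {G : Type*} [Group G] [Finite G] {W : Subgroup G}
    (h4 : Nat.card ↥W = 4) (hsq : ∀ w ∈ W, w * w = 1) {y : G} {q : ℕ} (hq : q.Prime)
    (hy : orderOf y = q) (hn : ∀ w ∈ W, w * y * w⁻¹ ∈ zpowers y) :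
    ∃ w ∈ W, w ≠ 1 ∧ w * y = y * w := by
  classical
  haveI : Fintype ↥W := Fintype.ofFinite _
  obtain ⟨w₁, w₂, hw₁, hw₂, h12⟩ : ∃ w₁ w₂ : ↥W, w₁ ≠ 1 ∧ w₂ ≠ 1 ∧ w₁ ≠ w₂ := by
    have hc : 3 ≤ (Finset.univ.erase (1 : ↥W)).card := by
      rw [Finset.card_erase_of_mem (Finset.mem_univ _), Finset.card_univ, ← Nat.card_eq_fintype_card,
        h4]
    obtain ⟨a, b, ha, hb, hab⟩ := Finset.one_lt_card_iff.1 (show 1 < (Finset.univ.erase (1 : ↥W)).card by omega)
    exact ⟨a, b, Finset.ne_of_mem_erase ha, Finset.ne_of_mem_erase hb, hab⟩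
  rcases invol_conj_eq hq (hsq _ w₁.2) hy (hn _ w₁.2) with e1 | e1
  · exact ⟨w₁, w₁.2, fun e => hw₁ (Subtype.ext e), mul_inv_eq_iff_eq_mul.1 e1⟩
  rcases invol_conj_eq hq (hsq _ w₂.2) hy (hn _ w₂.2) with e2 | e2
  · exact ⟨w₂, w₂.2, fun e => hw₂ (Subtype.ext e), mul_inv_eq_iff_eq_mul.1 e2⟩
  refine ⟨(w₁ : G) * w₂, mul_mem w₁.2 w₂.2, fun e => h12 (Subtype.ext ?_), mul_inv_eq_iff_eq_mul.1 ?_⟩
  · rw [eq_inv_of_mul_eq_one_left e, inv_eq_of_mul_eq_one_right (hsq _ w₂.2)]
  · rw [show (w₁ : G) * w₂ * y * ((w₁ : G) * w₂)⁻¹ = w₁ * ((w₂ : G) * y * (w₂ : G)⁻¹) * (w₁ : G)⁻¹ by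
      group, e2, show (w₁ : G) * y⁻¹ * (w₁ : G)⁻¹ = ((w₁ : G) * y * (w₁ : G)⁻¹)⁻¹ by group, e1, inv_inv]

theorem zmod_three_pow_five : ∀ j : ZMod 3, j ^ 5 = 1 → j = 1 := by decide

universe u

variable {B : Type u} [Group B] [Finite B]

/-- The hypothesis. -/
def Cent (W : Subgroup B) : Prop :=
  Nat.card ↥W = 4 ∧ (∀ w ∈ W, w * w = 1) ∧ ∀ w ∈ W, w ≠ 1 → ∀ c, c * w = w * c → c ∈ W

variable {W : Subgroup B}

theorem Cent.comm (h : Cent W) : ∀ p ∈ W, ∀ q ∈ W, p * q = q * p := by
  intro p hp q hq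
  have h3 := inv_eq_of_mul_eq_one_right (h.2.1 _ (mul_mem hp hq))
  rw [_root_.mul_inv_rev, inv_eq_of_mul_eq_one_right (h.2.1 p hp),
    inv_eq_of_mul_eq_one_right (h.2.1 q hq)] at h3
  exact h3.symm

/-- A Sylow subgroup. -/
theorem Cent.sylow (h : Cent W) : ∃ T : Sylow 2 B, (T : Subgroup B) = W := by
  haveI : Fact (Nat.Prime 2) := ⟨Nat.prime_two⟩
  obtain ⟨T, hT⟩ := (IsPGroup.of_card (p := 2) (n := 2) (by rw [h.1]; norm_num) :
    IsPGroup 2 ↥W).exists_le_sylow
  refine ⟨T, le_antisymm (fun t ht => ?_) hT⟩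
  haveI : Nontrivial ↥W := Finite.one_lt_card_iff_nontrivial.1 (by rw [h.1]; norm_num)
  haveI : Nontrivial ↥(T : Subgroup B) := by
    obtain ⟨w, hw⟩ := exists_ne (1 : ↥W)
    exact ⟨⟨⟨w, hT w.2⟩, 1, fun e => hw (Subtype.ext (congrArg (fun t : ↥(T : Subgroup B) => (t : B)) e))⟩⟩
  haveI := T.2.center_nontrivial
  obtain ⟨c, hc⟩ := exists_ne (1 : ↥(center ↥(T : Subgroup B)))
  have hcomm : ∀ d ∈ (T : Subgroup B), d * ((c : ↥(T : Subgroup B)) : B) = (c : ↥(T : Subgroup B)) * d :=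
    fun d hd => congrArg Subtype.val (mem_center_iff.1 c.2 ⟨d, hd⟩)
  obtain ⟨w, hw⟩ := exists_ne (1 : ↥W)
  have hw1 : (w : B) ≠ 1 := fun e => hw (Subtype.ext e)
  have hcW : ((c : ↥(T : Subgroup B)) : B) ∈ W := h.2.2 w w.2 hw1 _ (hcomm w (hT w.2)).symm
  exact h.2.2 _ hcW (fun e => hc (Subtype.ext (Subtype.ext e))) t (hcomm t ht)

theorem Cent.conj_mem (h : Cent W) {u : B} (hu : orderOf u = 2) : ∃ g, g * u * g⁻¹ ∈ W := by
  obtain ⟨T, hT⟩ := h.sylow
  obtain ⟨g, hg⟩ := exists_conj_invol_mem_sylow T hu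
  exact ⟨g, hT ▸ hg⟩

/-- Fusion of the three involutions. -/
theorem Cent.exists_cycle (h : Cent W) (hbig : 4 < Nat.card B) :
    ∃ n ∈ normalizer (W : Set B), n ∉ W ∧ ∀ w ∈ W, w ≠ 1 → n * w * n⁻¹ ≠ w := by
  classical
  haveI : Fact (Nat.Prime 2) := ⟨Nat.prime_two⟩
  suffices hne : ∃ n ∈ normalizer (W : Set B), n ∉ W by
    obtain ⟨n, hn, hnW⟩ := hne
    exact ⟨n, hn, hnW, fun w hw hw1 e => hnW (h.2.2 w hw hw1 n (mul_inv_eq_iff_eq_mul.1 e))⟩
  by_contra hc
  push Not at hc
  obtain ⟨T, hT⟩ := h.sylow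
  have hP : normalizer ((T : Subgroup B) : Set B) ≤ centralizer ((T : Subgroup B) : Set B) := by
    rw [hT]
    exact fun n hn => mem_centralizer_iff.2 fun w hw => h.comm w hw n (hc n hn)
  have hcomp := MonoidHom.ker_transferSylow_isComplement' T hP
  set O := (MonoidHom.transferSylow T hP).ker with hO
  have hOodd : ∀ x ∈ O, x ∈ W → x = 1 := fun x hx hxW => by
    have : x ∈ O ⊓ (T : Subgroup B) := ⟨hx, hT.symm ▸ hxW⟩
    rwa [hcomp.disjoint.eq_bot, mem_bot] at this
  have hfix : ∀ w ∈ W, w ≠ 1 → ∀ v ∈ O, w * v * w⁻¹ = v⁻¹ := by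
    intro w hw hw1 v hv
    have hh := MonoidHom.FixedPointFree.coe_eq_inv_of_involutive
      (φ := (MulAut.conjNormal w : MulAut ↥O)) (fun v hv => ?_) (fun v => ?_)
    · exact congrArg Subtype.val (congrFun hh ⟨v, hv⟩)
    · have he : w * (v : B) * w⁻¹ = v := congrArg Subtype.val hv
      exact Subtype.ext (hOodd _ v.2 (h.2.2 w hw hw1 _ (mul_inv_eq_iff_eq_mul.1 he).symm))
    · apply Subtype.ext
      show w * (w * (v : B) * w⁻¹) * w⁻¹ = v
      rw [show w * (w * (v : B) * w⁻¹) * w⁻¹ = (w * w) * v * (w * w)⁻¹ by group, h.2.1 w hw]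
      group
  obtain ⟨w₁, w₂, hw₁, hw₂, h12⟩ : ∃ w₁ w₂ : ↥W, w₁ ≠ 1 ∧ w₂ ≠ 1 ∧ w₁ ≠ w₂ := by
    haveI : Fintype ↥W := Fintype.ofFinite _
    have hc' : 1 < (Finset.univ.erase (1 : ↥W)).card := by
      rw [Finset.card_erase_of_mem (Finset.mem_univ _), Finset.card_univ, ← Nat.card_eq_fintype_card,
        h.1]
      norm_num
    obtain ⟨a, b, ha, hb, hab⟩ := Finset.one_lt_card_iff.1 hc'
    exact ⟨a, b, Finset.ne_of_mem_erase ha, Finset.ne_of_mem_erase hb, hab⟩
  have hObot : ∀ v ∈ O, v = 1 := by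
    intro v hv
    have h3 : ((w₁ : B) * w₂) ≠ 1 := fun e => h12 (Subtype.ext (by
      rw [eq_inv_of_mul_eq_one_left e, inv_eq_of_mul_eq_one_right (h.2.1 _ w₂.2)]))
    refine hOodd v hv (h.2.2 _ (mul_mem w₁.2 w₂.2) h3 v ?_)
    refine (mul_inv_eq_iff_eq_mul.1 ?_).symm
    rw [show (w₁ : B) * w₂ * v * ((w₁ : B) * w₂)⁻¹ = w₁ * ((w₂ : B) * v * (w₂ : B)⁻¹) * (w₁ : B)⁻¹ by
      group, hfix _ w₂.2 (fun e => hw₂ (Subtype.ext e)) v hv,
      hfix _ w₁.2 (fun e => hw₁ (Subtype.ext e)) _ (inv_mem hv), inv_inv]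
  have hO1 : Nat.card ↥O = 1 := by rw [Subgroup.card_eq_one, eq_bot_iff]; exact fun v hv => mem_bot.2 (hObot v hv)
  have := hcomp.card_mul
  rw [hO1, hT, h.1] at this
  omega

theorem Cent.conj_invol (h : Cent W) (hbig : 4 < Nat.card B) {u v : B} (hu : orderOf u = 2)
    (hv : orderOf v = 2) : IsConj u v := by
  classical
  obtain ⟨n, hn, -, hnf⟩ := h.exists_cycle hbig
  obtain ⟨g, hg⟩ := h.conj_mem hu
  obtain ⟨g', hg'⟩ := h.conj_mem hv
  have h1 : g * u * g⁻¹ ≠ 1 := fun e => invol_ne_one hu (conj_eq_one_iff.1 e)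
  have h2 : g' * v * g'⁻¹ ≠ 1 := fun e => invol_ne_one hv (conj_eq_one_iff.1 e)
  refine (isConj_iff.2 ⟨g, rfl⟩ : IsConj u _).trans (IsConj.trans ?_ (isConj_iff.2 ⟨g', rfl⟩ : IsConj v _).symm)
  set p := g * u * g⁻¹ with hp
  set q := g' * v * g'⁻¹ with hq
  set p1 := n * p * n⁻¹ with hp1
  set p2 := n * p1 * n⁻¹ with hp2
  have hpW1 : p1 ∈ W := (mem_normalizer_iff.1 hn p).1 hg
  have hpW2 : p2 ∈ W := (mem_normalizer_iff.1 hn p1).1 hpW1
  have hp11 : p1 ≠ 1 := fun e => h1 (conj_eq_one_iff.1 e)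
  have hne1 : p1 ≠ p := hnf p hg h1
  have hne2 : p2 ≠ p1 := hnf p1 hpW1 hp11
  by_cases e : p2 = p
  · exfalso
    -- then `n` fixes the third involution
    refine hnf (p * p1) (mul_mem hg hpW1) (fun e' => hne1 ?_) ?_
    · rw [eq_inv_of_mul_eq_one_left e', inv_eq_of_mul_eq_one_right (h.2.1 _ hpW1)]
    · rw [show n * (p * p1) * n⁻¹ = (n * p * n⁻¹) * (n * p1 * n⁻¹) by group, ← hp1, ← hp2, e,
        h.comm _ hpW1 _ hg]
  · haveI : Fintype ↥W := Fintype.ofFinite _
    have hall : ∀ x ∈ W, x = 1 ∨ x = p ∨ x = p1 ∨ x = p2 := by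
      intro x hx
      by_contra hx'
      push Not at hx'
      have hsub : ({1, p, p1, p2, x} : Finset B) ⊆ (Finset.univ : Finset ↥W).image Subtype.val := by
        intro y hy
        simp only [Finset.mem_insert, Finset.mem_singleton] at hy
        refine Finset.mem_image.2 ⟨⟨y, ?_⟩, Finset.mem_univ _, rfl⟩
        rcases hy with rfl | rfl | rfl | rfl | rfl
        exacts [one_mem _, hg, hpW1, hpW2, hx]
      have hc := (Finset.card_le_card hsub).trans Finset.card_image_le
      have hp21 : p2 ≠ 1 := fun e => hp11 (conj_eq_one_iff.1 e)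
      rw [Finset.card_univ, ← Nat.card_eq_fintype_card, h.1] at hc
      simp [h1.symm, hp11.symm, hp21.symm, hx'.1.symm, hne1.symm, Ne.symm e, hx'.2.1.symm,
        hne2.symm, hx'.2.2.1.symm, hx'.2.2.2.symm] at hc
    rcases hall q hg' with e' | e' | e' | e'
    · exact absurd e' h2
    · rw [e']
    · rw [e']; exact isConj_iff.2 ⟨n, rfl⟩
    · rw [e']; exact (isConj_iff.2 ⟨n, rfl⟩ : IsConj p p1).trans (isConj_iff.2 ⟨n, rfl⟩)

theorem Cent.cases (h : Cent W) (hbig : 4 < Nat.card B) :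
    (Nat.card B = 12 ∧ W.Normal) ∨ Nat.card B = 60 := by
  classical
  haveI : Fintype B := Fintype.ofFinite B
  haveI : Fintype ↥W := Fintype.ofFinite _
  haveI : Fact (Nat.Prime 2) := ⟨Nat.prime_two⟩
  obtain ⟨a, b, ha, hb, hab⟩ : ∃ a b : ↥W, a ≠ 1 ∧ b ≠ 1 ∧ a ≠ b := by
    have hc' : 1 < (Finset.univ.erase (1 : ↥W)).card := by
      rw [Finset.card_erase_of_mem (Finset.mem_univ _), Finset.card_univ, ← Nat.card_eq_fintype_card,
        h.1]
      norm_num
    obtain ⟨a, b, ha, hb, hab⟩ := Finset.one_lt_card_iff.1 hc'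
    exact ⟨a, b, Finset.ne_of_mem_erase ha, Finset.ne_of_mem_erase hb, hab⟩
  have ha1 : (a : B) ≠ 1 := fun e => ha (Subtype.ext e)
  have hb1 : (b : B) ≠ 1 := fun e => hb (Subtype.ext e)
  have hao := invol_of_mul_self (h.2.1 _ a.2) ha1
  have hbo := invol_of_mul_self (h.2.1 _ b.2) hb1
  have hCa : centralizer ({(a : B)} : Set B) = W := le_antisymm
    (fun c hc => h.2.2 _ a.2 ha1 c (mem_centralizer_singleton_iff.1 hc))
    fun c hc => mem_centralizer_singleton_iff.2 (h.comm c hc _ a.2)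
  have hK : ∀ c ∈ zpowers (a : B), c = 1 ∨ c = a := by
    intro c hc
    obtain ⟨i, rfl⟩ := mem_zpowers_iff.1 hc
    rcases Int.even_or_odd i with ⟨l, rfl⟩ | ⟨l, rfl⟩
    · left; rw [← two_mul, zpow_mul, zpow_two, h.2.1 _ a.2, one_zpow]
    · right; rw [zpow_add_one, zpow_mul, zpow_two, h.2.1 _ a.2, one_zpow, one_mul]
  have hba : (b : B) * a = a * b := h.comm _ b.2 _ a.2
  have hbK : (b : B) ∉ zpowers (a : B) := fun hh =>
    (hK _ hh).elim hb1 fun e => hab (Subtype.ext e.symm)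
  have hk2 : Nat.card ↥(zpowers (a : B)) = 2 := by rw [Nat.card_zpowers, hao]
  have hsetup : CfsgLib.InvChar.BSW.Setup (a : B) (zpowers (a : B)) (b : B) :=
    { ht := hao
      hcomm := fun p hp q hq => by
        obtain ⟨i, rfl⟩ := mem_zpowers_iff.1 hp
        obtain ⟨j, rfl⟩ := mem_zpowers_iff.1 hq
        exact (Commute.zpow_zpow_self (a : B) i j).eq
      hKH := zpowers_le.2 (mem_centralizer_singleton_iff.2 rfl)
      htK := mem_zpowers _
      hs := hbo
      hsH := mem_centralizer_singleton_iff.2 hba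
      hsK := hbK
      hH := by
        rw [hCa]
        refine eq_of_le_of_card_ge (sup_le (zpowers_le.2 a.2) (zpowers_le.2 b.2)) ?_
        rw [h.1]
        have hlt : zpowers (a : B) < zpowers (a : B) ⊔ zpowers (b : B) :=
          lt_of_le_of_ne le_sup_left fun e => hbK (e ▸ mem_sup_right (mem_zpowers _))
        have hd := card_dvd_of_le hlt.le
        have hl : Nat.card ↥(zpowers (a : B)) < Nat.card ↥(zpowers (a : B) ⊔ zpowers (b : B)) :=
          lt_of_not_ge fun hge => hlt.ne (eq_of_le_of_card_ge hlt.le hge)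
        rw [hk2] at hd hl
        omega
      hCK := by
        refine le_antisymm inf_le_left fun c hc => ⟨hc, mem_centralizer_singleton_iff.2 ?_⟩
        rcases hK c hc with rfl | rfl
        · rw [one_mul, mul_one]
        · exact hba.symm
      hinv := fun c hc => by
        rcases hK c hc with rfl | rfl
        · group
        · rw [inv_eq_of_mul_eq_one_right (h.2.1 _ a.2), hba, mul_inv_cancel_right]
      hTI := fun g hg => by
        rw [eq_bot_iff]
        rintro c ⟨hc, d, hd, rfl⟩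
        rw [mem_bot]
        rcases hK d hd with rfl | rfl
        · exact map_one _
        · rcases hK _ hc with e | e
          · exact e
          · exact absurd (mem_centralizer_singleton_iff.2 (mul_inv_eq_iff_eq_mul.1 e)) hg
      hconj := fun p q hp hq => h.conj_invol hbig hp hq }
  rcases hsetup.card_cases_of_two hk2 with ⟨h12, T, hT⟩ | h60
  · refine Or.inl ⟨h12, ?_⟩
    obtain ⟨T', hT'⟩ := h.sylow
    have he : T' = T := by
      haveI := Sylow.unique_of_normal T hT
      exact Subsingleton.elim _ _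
    rw [← hT', he]
    exact hT
  · exact Or.inr h60

theorem Cent.card_invol (h : Cent W) (hbig : 4 < Nat.card B) :
    4 * Nat.card {u : B // orderOf u = 2} = Nat.card B := by
  classical
  haveI : Fintype ↥W := Fintype.ofFinite _
  obtain ⟨a, ha⟩ : ∃ a : ↥W, a ≠ 1 := by
    haveI : Nontrivial ↥W := Finite.one_lt_card_iff_nontrivial.1 (by rw [h.1]; norm_num)
    exact exists_ne 1
  have ha1 : (a : B) ≠ 1 := fun e => ha (Subtype.ext e)
  have hao := invol_of_mul_self (h.2.1 _ a.2) ha1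
  have hc := card_class_mul_card_centralizer (a : B)
  rw [show centralizer ({(a : B)} : Set B) = W from le_antisymm
    (fun c hc => h.2.2 _ a.2 ha1 c (mem_centralizer_singleton_iff.1 hc))
    fun c hc => mem_centralizer_singleton_iff.2 (h.comm c hc _ a.2), h.1,
    Nat.card_congr (Equiv.subtypeEquivRight fun u => (⟨fun hu => (orderOf_eq_of_isConj hu).trans hao,
      fun hu => h.conj_invol hbig hao hu⟩ : IsConj (a : B) u ↔ orderOf u = 2))] at hc
  omega

/-- Elements centralising an involution have square one. -/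
theorem Cent.sq_of_commute (h : Cent W) {c u : B} (hu : orderOf u = 2)
    (hcu : c * u = u * c) : c * c = 1 := by
  obtain ⟨g, hg⟩ := h.conj_mem hu
  have hgu1 : g * u * g⁻¹ ≠ 1 := fun e => invol_ne_one hu (conj_eq_one_iff.1 e)
  have := h.2.2 _ hg hgu1 (g * c * g⁻¹) (by
    rw [show g * c * g⁻¹ * (g * u * g⁻¹) = g * (c * u) * g⁻¹ by group, hcu]; group)
  have hh := h.2.1 _ this
  rw [show g * c * g⁻¹ * (g * c * g⁻¹) = g * (c * c) * g⁻¹ by group, conj_eq_one_iff] at hh
  exact hh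

theorem Cent.odd_cent (h : Cent W) {y : B} {q : ℕ} (hq : q.Prime) (hq2 : q ≠ 2)
    (hy : orderOf y = q) : ¬ 2 ∣ Nat.card ↥(centralizer ({y} : Set B)) := by
  intro h2
  obtain ⟨u, hu, hu2⟩ := exists_invol_mem (even_iff_two_dvd.2 h2)
  have hs := h.sq_of_commute hu2 (mem_centralizer_singleton_iff.1 hu).symm
  have h3 : q ∣ 2 := hy ▸ orderOf_dvd_of_pow_eq_one (by rw [pow_two]; exact hs)
  rcases (Nat.dvd_prime Nat.prime_two).1 h3 with e | e
  · exact hq.ne_one e
  · exact hq2 e

theorem Cent.no_normalizes (h : Cent W) {y : B} {q : ℕ} (hq : q.Prime) (hq2 : q ≠ 2)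
    (hy : orderOf y = q) : ∃ w ∈ W, w * y * w⁻¹ ∉ zpowers y := by
  by_contra hc
  push Not at hc
  obtain ⟨w, hw, hw1, hwy⟩ := exists_commute_of_normalizes h.1 h.2.1 hq hy hc
  refine h.odd_cent hq hq2 hy ?_
  rw [← invol_of_mul_self (h.2.1 w hw) hw1]
  exact (centralizer ({y} : Set B)).orderOf_dvd_natCard (mem_centralizer_singleton_iff.2 hwy)

theorem Cent.five (h : Cent W) (h60 : Nat.card B = 60) {y : B} (hy : orderOf y = 5) :
    Nat.card ↥(centralizer ({y} : Set B)) = 5 ∧ (∃ u, orderOf u = 2 ∧ u * y * u⁻¹ = y⁻¹) ∧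
      ∀ c, c * y * c⁻¹ ∈ zpowers y → c * y * c⁻¹ = y ∨ c * y * c⁻¹ = y⁻¹ := by
  classical
  haveI : Fact (Nat.Prime 5) := ⟨by norm_num⟩
  obtain ⟨P, hP⟩ := (IsPGroup.of_card (p := 5) (n := 1) (by rw [Nat.card_zpowers, hy]; norm_num) :
    IsPGroup 5 ↥(zpowers y)).exists_le_sylow
  have hP5 : Nat.card ↥(P : Subgroup B) = 5 := by
    rw [P.card_eq_multiplicity, h60, show Nat.factorization 60 5 = 1 by
      rw [show (60 : ℕ) = 5 * 12 by norm_num, Nat.factorization_mul (by norm_num) (by norm_num),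
        Finsupp.add_apply, Nat.Prime.factorization_self (by norm_num),
        Nat.factorization_eq_zero_of_not_dvd (by norm_num)]]
    norm_num
  have hPy : zpowers y = (P : Subgroup B) := eq_of_le_of_card_ge hP (by rw [hP5, Nat.card_zpowers, hy])
  have h1 := P.card_eq_index_normalizer
  have h2 := card_sylow_modEq_one 5 B
  have h3 := (normalizer (P : Set B)).card_mul_index
  rw [← h1, h60] at h3
  have h4 : Nat.card (Sylow 5 B) ∣ 12 := by
    have := P.card_dvd_index
    rwa [show (P : Subgroup B).index = 12 by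
      have := (P : Subgroup B).card_mul_index; rw [hP5, h60] at this; omega] at this
  have hne1 : Nat.card (Sylow 5 B) ≠ 1 := fun e => by
    obtain ⟨w, -, hw⟩ := h.no_normalizes (q := 5) (by norm_num) (by norm_num) hy
    apply hw
    haveI : Subsingleton (Sylow 5 B) := Finite.card_le_one_iff_subsingleton.1 e.le
    haveI : (P : Subgroup B).Normal := P.normal_of_subsingleton
    rw [hPy]
    exact Normal.conj_mem inferInstance y (hPy ▸ mem_zpowers y) w
  have hN : Nat.card ↥(normalizer (P : Set B)) = 10 := by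
    have hle := Nat.le_of_dvd (by norm_num) h4
    unfold Nat.ModEq at h2
    generalize Nat.card (Sylow 5 B) = m at *
    interval_cases m <;> omega
  have hCN : centralizer ({y} : Set B) ≤ normalizer (P : Set B) := by
    intro c hc
    show c ∈ normalizer ((P : Subgroup B) : Set B)
    rw [← hPy]
    refine mem_normalizer_iff.2 fun d => ?_
    have key : ∀ d ∈ zpowers y, c * d * c⁻¹ = d := fun d hd => by
      obtain ⟨i, rfl⟩ := mem_zpowers_iff.1 hd
      rw [((show Commute c y from mem_centralizer_singleton_iff.1 hc).zpow_right i).eq, mul_inv_cancel_right]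
    refine ⟨fun hd => by rw [key d hd]; exact hd, fun hd => ?_⟩
    have := key _ hd
    rw [mul_left_inj, mul_right_inj] at this
    rwa [this] at hd
  have hodd := h.odd_cent (q := 5) (by norm_num) (by norm_num) hy
  have hd := card_dvd_of_le hCN
  rw [hN] at hd
  have hd5 : 5 ∣ Nat.card ↥(centralizer ({y} : Set B)) :=
    hy ▸ (centralizer ({y} : Set B)).orderOf_dvd_natCard (mem_centralizer_singleton_iff.2 rfl)
  have hC5 : Nat.card ↥(centralizer ({y} : Set B)) = 5 := by
    have hle := Nat.le_of_dvd (by norm_num) hd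
    generalize Nat.card ↥(centralizer ({y} : Set B)) = m at *
    interval_cases m <;> omega
  obtain ⟨u, huN, hu⟩ := exists_invol_mem (show Even (Nat.card ↥(normalizer (P : Set B))) by rw [hN]; decide)
  have huy : u * y * u⁻¹ = y⁻¹ := by
    refine (invol_conj_eq (q := 5) (by norm_num) (invol_mul_self hu) hy ?_).resolve_left fun e => ?_
    · rw [hPy]; exact (mem_normalizer_iff.1 huN y).1 (hPy ▸ mem_zpowers y)
    · have := (centralizer ({y} : Set B)).orderOf_dvd_natCard
        (mem_centralizer_singleton_iff.2 (mul_inv_eq_iff_eq_mul.1 e))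
      rw [hu, hC5] at this
      norm_num at this
  refine ⟨hC5, ⟨u, hu, huy⟩, fun c hc => ?_⟩
  by_cases hcy : c * y * c⁻¹ = y
  · exact Or.inl hcy
  right
  have hcN : c ∈ normalizer (P : Set B) := by
    show c ∈ normalizer ((P : Subgroup B) : Set B)
    rw [← hPy]
    have e : (zpowers y).map (MulAut.conj c).toMonoidHom = zpowers y := by
      rw [MonoidHom.map_zpowers]
      refine eq_of_le_of_card_ge (zpowers_le.2 hc) ?_
      rw [Nat.card_zpowers, Nat.card_zpowers]
      show orderOf y ≤ orderOf (c * y * c⁻¹)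
      rw [orderOf_conj_eq]
    refine mem_normalizer_iff.2 fun d => ⟨fun hd => e ▸ (⟨d, hd, rfl⟩ : c * d * c⁻¹ ∈
      (zpowers y).map (MulAut.conj c).toMonoidHom), fun hd => ?_⟩
    rw [← e] at hd
    obtain ⟨d', hd', e'⟩ := hd
    change c * d' * c⁻¹ = c * d * c⁻¹ at e'
    rwa [← mul_left_cancel (mul_right_cancel e')]
  have hidx : ((centralizer ({y} : Set B)).subgroupOf (normalizer (P : Set B))).index = 2 := by
    have := ((centralizer ({y} : Set B)).subgroupOf (normalizer (P : Set B))).card_mul_index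
    rw [Nat.card_congr (subgroupOfEquivOfLe hCN).toEquiv, hC5, hN] at this
    omega
  have hmem := (mul_mem_iff_of_index_two hidx (a := ⟨u, huN⟩) (b := ⟨c, hcN⟩))
  simp only [mem_subgroupOf, Subgroup.coe_mul, mem_centralizer_singleton_iff] at hmem
  have hne : ¬ u * y = y * u := fun e => by
    have := (centralizer ({y} : Set B)).orderOf_dvd_natCard (mem_centralizer_singleton_iff.2 e)
    rw [hu, hC5] at this
    norm_num at this
  have hne' : ¬ c * y = y * c := fun e => hcy (mul_inv_eq_iff_eq_mul.2 e)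
  have huc : u * c * y = y * (u * c) := hmem.2 ⟨fun e => absurd e hne, fun e => absurd e hne'⟩
  calc c * y * c⁻¹ = u⁻¹ * (u * c * y) * c⁻¹ := by group
    _ = u⁻¹ * y * u := by rw [huc]; group
    _ = u * y * u⁻¹ := by rw [invol_inv hu]
    _ = y⁻¹ := huy

theorem Cent.three (h : Cent W) (h60 : Nat.card B = 60) {y : B} (hy : orderOf y = 3) :
    Nat.card ↥(centralizer ({y} : Set B)) = 3 ∧ ∃ u, orderOf u = 2 ∧ u * y * u⁻¹ = y⁻¹ := by
  classical
  haveI : Fact (Nat.Prime 3) := ⟨by norm_num⟩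
  obtain ⟨P, hP⟩ := (IsPGroup.of_card (p := 3) (n := 1) (by rw [Nat.card_zpowers, hy]; norm_num) :
    IsPGroup 3 ↥(zpowers y)).exists_le_sylow
  have hP3 : Nat.card ↥(P : Subgroup B) = 3 := by
    rw [P.card_eq_multiplicity, h60, show Nat.factorization 60 3 = 1 by
      rw [show (60 : ℕ) = 3 * 20 by norm_num, Nat.factorization_mul (by norm_num) (by norm_num),
        Finsupp.add_apply, Nat.Prime.factorization_self (by norm_num),
        Nat.factorization_eq_zero_of_not_dvd (by norm_num)]]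
    norm_num
  have hPy : zpowers y = (P : Subgroup B) := eq_of_le_of_card_ge hP (by rw [hP3, Nat.card_zpowers, hy])
  have h1 := P.card_eq_index_normalizer
  have h2 := card_sylow_modEq_one 3 B
  have h3 := (normalizer (P : Set B)).card_mul_index
  rw [← h1, h60] at h3
  have h4 : Nat.card (Sylow 3 B) ∣ 20 := by
    have := P.card_dvd_index
    rwa [show (P : Subgroup B).index = 20 by
      have := (P : Subgroup B).card_mul_index; rw [hP3, h60] at this; omega] at this
  have hne1 : Nat.card (Sylow 3 B) ≠ 1 := fun e => by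
    obtain ⟨w, -, hw⟩ := h.no_normalizes (q := 3) (by norm_num) (by norm_num) hy
    apply hw
    haveI : Subsingleton (Sylow 3 B) := Finite.card_le_one_iff_subsingleton.1 e.le
    haveI : (P : Subgroup B).Normal := P.normal_of_subsingleton
    rw [hPy]
    exact Normal.conj_mem inferInstance y (hPy ▸ mem_zpowers y) w
  have hCN : centralizer ({y} : Set B) ≤ normalizer (P : Set B) := by
    intro c hc
    show c ∈ normalizer ((P : Subgroup B) : Set B)
    rw [← hPy]
    refine mem_normalizer_iff.2 fun d => ?_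
    have key : ∀ d ∈ zpowers y, c * d * c⁻¹ = d := fun d hd => by
      obtain ⟨i, rfl⟩ := mem_zpowers_iff.1 hd
      rw [((show Commute c y from mem_centralizer_singleton_iff.1 hc).zpow_right i).eq, mul_inv_cancel_right]
    refine ⟨fun hd => by rw [key d hd]; exact hd, fun hd => ?_⟩
    have := key _ hd
    rw [mul_left_inj, mul_right_inj] at this
    rwa [this] at hd
  have hN : Nat.card ↥(normalizer (P : Set B)) = 6 := by
    have hle := Nat.le_of_dvd (by norm_num) h4
    unfold Nat.ModEq at h2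
    have hcases : Nat.card ↥(normalizer (P : Set B)) = 6 ∨ Nat.card ↥(normalizer (P : Set B)) = 15 := by
      generalize Nat.card (Sylow 3 B) = m at *
      interval_cases m <;> omega
    refine hcases.resolve_right fun h15 => ?_
    -- an element of order five of the normaliser would centralise `y`
    haveI : Fact (Nat.Prime 5) := ⟨by norm_num⟩
    obtain ⟨⟨f, hfN⟩, hf⟩ := exists_prime_orderOf_dvd_card' (G := ↥(normalizer (P : Set B))) 5
      (by rw [h15]; norm_num)
    rw [← orderOf_coe] at hf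
    change orderOf f = 5 at hf
    obtain ⟨i, hi⟩ := mem_zpowers_iff.1 (show f * y * f⁻¹ ∈ zpowers y by
      rw [hPy]; exact (mem_normalizer_iff.1 hfN y).1 (hPy ▸ mem_zpowers y))
    have hpow : ∀ n : ℕ, f ^ n * y * (f ^ n)⁻¹ = y ^ (i ^ n) := by
      intro n
      induction n with
      | zero => simp
      | succ n ih =>
        rw [pow_succ', show f * f ^ n * y * (f * f ^ n)⁻¹ = f * (f ^ n * y * (f ^ n)⁻¹) * f⁻¹ by group,
          ih, show f * y ^ i ^ n * f⁻¹ = (f * y * f⁻¹) ^ i ^ n from map_zpow (MulAut.conj f) y _, ← hi,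
          ← zpow_mul, pow_succ']
    have h5 := hpow 5
    rw [show f ^ 5 = 1 by rw [← hf, pow_orderOf_eq_one], inv_one, one_mul, mul_one] at h5
    have hd : (3 : ℤ) ∣ i ^ 5 - 1 := by
      have hd0 : (orderOf y : ℤ) ∣ i ^ 5 - 1 := by
        rw [orderOf_dvd_iff_zpow_eq_one, zpow_sub_one, ← h5, mul_inv_cancel]
      rwa [hy] at hd0
    have hi1 : (3 : ℤ) ∣ i - 1 := by
      have e0 := (ZMod.intCast_zmod_eq_zero_iff_dvd (i ^ 5 - 1) 3).2 hd
      push_cast at e0
      have e1 := zmod_three_pow_five (i : ZMod 3) (sub_eq_zero.1 e0)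
      refine (ZMod.intCast_zmod_eq_zero_iff_dvd (i - 1) 3).1 ?_
      push_cast
      rw [e1, sub_self]
    have hfy : f * y = y * f := by
      refine mul_inv_eq_iff_eq_mul.1 ?_
      rw [← hi]
      have hh : y ^ (i - 1) = 1 := by
        rw [← orderOf_dvd_iff_zpow_eq_one, hy]; exact hi1
      rwa [zpow_sub_one, mul_inv_eq_one] at hh
    have := (centralizer ({f} : Set B)).orderOf_dvd_natCard (mem_centralizer_singleton_iff.2 hfy.symm)
    rw [hy, (h.five h60 hf).1] at this
    norm_num at this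
  have hodd := h.odd_cent (q := 3) (by norm_num) (by norm_num) hy
  have hd := card_dvd_of_le hCN
  rw [hN] at hd
  have hd3 : 3 ∣ Nat.card ↥(centralizer ({y} : Set B)) :=
    hy ▸ (centralizer ({y} : Set B)).orderOf_dvd_natCard (mem_centralizer_singleton_iff.2 rfl)
  have hC3 : Nat.card ↥(centralizer ({y} : Set B)) = 3 := by
    have hle := Nat.le_of_dvd (by norm_num) hd
    generalize Nat.card ↥(centralizer ({y} : Set B)) = m at *
    interval_cases m <;> omega
  refine ⟨hC3, ?_⟩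
  obtain ⟨u, huN, hu⟩ := exists_invol_mem (show Even (Nat.card ↥(normalizer (P : Set B))) by rw [hN]; decide)
  refine ⟨u, hu, (invol_conj_eq (q := 3) (by norm_num) (invol_mul_self hu) hy ?_).resolve_left fun e => ?_⟩
  · rw [hPy]; exact (mem_normalizer_iff.1 huN y).1 (hPy ▸ mem_zpowers y)
  · have := (centralizer ({y} : Set B)).orderOf_dvd_natCard
      (mem_centralizer_singleton_iff.2 (mul_inv_eq_iff_eq_mul.1 e))
    rw [hu, hC3] at this
    norm_num at this

theorem Cent.card_ne_twenty (h : Cent W) (h60 : Nat.card B = 60) (L : Subgroup B) (hWL : W ≤ L) :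
    Nat.card ↥L ≠ 20 := by
  classical
  intro h20
  haveI : Fact (Nat.Prime 5) := ⟨by norm_num⟩
  obtain ⟨⟨f, hfL⟩, hf⟩ := exists_prime_orderOf_dvd_card' (G := ↥L) 5 (by rw [h20]; norm_num)
  obtain ⟨P, hP⟩ := (IsPGroup.of_card (p := 5) (n := 1) (by rw [Nat.card_zpowers, hf]; norm_num) :
    IsPGroup 5 ↥(zpowers (⟨f, hfL⟩ : ↥L))).exists_le_sylow
  have hP5 : Nat.card ↥(P : Subgroup ↥L) = 5 := by
    rw [P.card_eq_multiplicity, h20, show Nat.factorization 20 5 = 1 by
      rw [show (20 : ℕ) = 5 * 4 by norm_num, Nat.factorization_mul (by norm_num) (by norm_num),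
        Finsupp.add_apply, Nat.Prime.factorization_self (by norm_num),
        Nat.factorization_eq_zero_of_not_dvd (by norm_num)]]
    norm_num
  have hPy : zpowers (⟨f, hfL⟩ : ↥L) = (P : Subgroup ↥L) :=
    eq_of_le_of_card_ge hP (by rw [hP5, Nat.card_zpowers, hf])
  have h4' : Nat.card (Sylow 5 ↥L) ∣ 4 := by
    have := P.card_dvd_index
    rwa [show (P : Subgroup ↥L).index = 4 by
      have := (P : Subgroup ↥L).card_mul_index; rw [hP5, h20] at this; omega] at this
  have h2 := card_sylow_modEq_one 5 ↥L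
  have hone : Nat.card (Sylow 5 ↥L) = 1 := by
    have hle := Nat.le_of_dvd (by norm_num) h4'
    unfold Nat.ModEq at h2
    generalize Nat.card (Sylow 5 ↥L) = m at *
    interval_cases m <;> omega
  haveI : Subsingleton (Sylow 5 ↥L) := Finite.card_le_one_iff_subsingleton.1 hone.le
  haveI : (P : Subgroup ↥L).Normal := P.normal_of_subsingleton
  rw [← orderOf_coe] at hf
  change orderOf f = 5 at hf
  obtain ⟨w, hw, hwn⟩ := h.no_normalizes (q := 5) (by norm_num) (by norm_num) hf
  apply hwn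
  have := Normal.conj_mem (inferInstance : (P : Subgroup ↥L).Normal) ⟨f, hfL⟩
    (hPy ▸ mem_zpowers _) ⟨w, hWL hw⟩
  rw [← hPy] at this
  obtain ⟨i, hi⟩ := mem_zpowers_iff.1 this
  exact mem_zpowers_iff.2 ⟨i, by simpa using congrArg Subtype.val hi⟩

/-- The elements of a four-group. -/
theorem Cent.mem_cases (h : Cent W) {p q x : B} (hp : p ∈ W) (hq : q ∈ W) (hp1 : p ≠ 1) (hq1 : q ≠ 1)
    (hpq : p ≠ q) (hx : x ∈ W) : x = 1 ∨ x = p ∨ x = q ∨ x = p * q := by
  classical
  haveI : Fintype ↥W := Fintype.ofFinite _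
  by_contra hx'
  push Not at hx'
  have hpq1 : p * q ≠ 1 := fun e => hpq (by
    rw [eq_inv_of_mul_eq_one_left e, inv_eq_of_mul_eq_one_right (h.2.1 q hq)])
  have hpqp : p * q ≠ p := fun e => hq1 (mul_eq_left.1 e)
  have hpqq : p * q ≠ q := fun e => hp1 (mul_eq_right.1 e)
  have hsub : ({1, p, q, p * q, x} : Finset B) ⊆ (Finset.univ : Finset ↥W).image Subtype.val := by
    intro y hy
    simp only [Finset.mem_insert, Finset.mem_singleton] at hy
    refine Finset.mem_image.2 ⟨⟨y, ?_⟩, Finset.mem_univ _, rfl⟩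
    rcases hy with rfl | rfl | rfl | rfl | rfl
    exacts [one_mem _, hp, hq, mul_mem hp hq, hx]
  have hc := (Finset.card_le_card hsub).trans Finset.card_image_le
  rw [Finset.card_univ, ← Nat.card_eq_fintype_card, h.1] at hc
  simp [hp1.symm, hq1.symm, hpq1.symm, hx'.1.symm, hpq, hpqp.symm, hx'.2.1.symm, hpqq.symm,
    hx'.2.2.1.symm, hx'.2.2.2.symm] at hc

/-- An element of the normaliser moving every involution has its cube in the four-group. -/
theorem Cent.cube_mem (h : Cent W) {n : B} (hn : ∀ w ∈ W, n * w * n⁻¹ ∈ W)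
    (hnf : ∀ w ∈ W, w ≠ 1 → n * w * n⁻¹ ≠ w) : n * n * n ∈ W := by
  haveI : Nontrivial ↥W := Finite.one_lt_card_iff_nontrivial.1 (by rw [h.1]; norm_num)
  obtain ⟨⟨p, hp⟩, hpne⟩ := exists_ne (1 : ↥W)
  have hp1 : p ≠ 1 := fun e => hpne (Subtype.ext e)
  set q := n * p * n⁻¹ with hqdef
  have hq := hn p hp
  have hq1 : q ≠ 1 := fun e => hp1 (conj_eq_one_iff.1 e)
  have hqp : p ≠ q := (hnf p hp hp1).symm
  have hr := hn q hq
  have hr' : n * q * n⁻¹ = p * q := by
    rcases h.mem_cases hp hq hp1 hq1 hqp hr with e | e | e | e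
    · exact absurd (conj_eq_one_iff.1 e) hq1
    · exfalso
      have hpq1 : p * q ≠ 1 := fun e' => hqp (by
        rw [eq_inv_of_mul_eq_one_left e', inv_eq_of_mul_eq_one_right (h.2.1 q hq)])
      refine hnf (p * q) (mul_mem hp hq) hpq1 ?_
      rw [show n * (p * q) * n⁻¹ = n * p * n⁻¹ * (n * q * n⁻¹) by group, e, ← hqdef, h.comm q hq p hp]
    · exact absurd e (hnf q hq hq1)
    · exact e
  refine h.2.2 p hp hp1 _ ?_
  rw [← mul_inv_eq_iff_eq_mul,
    show n * n * n * p * (n * n * n)⁻¹ = n * (n * (n * p * n⁻¹) * n⁻¹) * n⁻¹ by group, ← hqdef, hr',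
    show n * (p * q) * n⁻¹ = n * p * n⁻¹ * (n * q * n⁻¹) by group, ← hqdef, hr', ← mul_assoc,
    h.comm q hq p hp, mul_assoc, h.2.1 q hq, mul_one]

/-- A subgroup containing all involutions is everything. -/
theorem Cent.top_of_invol (h : Cent W) (h60 : Nat.card B = 60) (L : Subgroup B)
    (hL : ∀ u, orderOf u = 2 → u ∈ L) : L = ⊤ := by
  classical
  have h15 := h.card_invol (by omega)
  have hWL : W ≤ L := fun w hw => by
    by_cases e : w = 1
    · rw [e]; exact one_mem L
    · exact hL w (invol_of_mul_self (h.2.1 w hw) e)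
  have h4 := card_dvd_of_le hWL
  rw [h.1] at h4
  have hd := card_subgroup_dvd_card L
  rw [h60] at hd
  have hge : 15 < Nat.card ↥L := by
    have hle := Nat.card_le_card_of_injective (fun o : Option {u : B // orderOf u = 2} =>
      match o with
      | none => (1 : ↥L)
      | some u => (⟨u.1, hL u.1 u.2⟩ : ↥L)) (by
        rintro (_ | ⟨u, hu⟩) (_ | ⟨v, hv⟩) e
        · rfl
        · exact absurd (congrArg Subtype.val e).symm (invol_ne_one hv)
        · exact absurd (congrArg Subtype.val e) (invol_ne_one hu)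
        · have e' : u = v := congrArg Subtype.val e
          subst e'; rfl)
    rw [Finite.card_option] at hle
    omega
  have hcases : Nat.card ↥L = 60 ∨ Nat.card ↥L = 20 := by
    have hle := Nat.le_of_dvd (by norm_num) hd
    generalize Nat.card ↥L = m at *
    interval_cases m <;> omega
  rcases hcases with h' | h20
  · exact eq_top_of_card_eq L (h'.trans h60.symm)
  exact absurd h20 (h.card_ne_twenty h60 L hWL)

end CfsgLib.InvChar.HJKlein
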