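import Cfsg.Agent.Lib.InvChar.HallJankoFour
import Cfsg.Agent.Lib.InvChar.BSWSmall
import Cfsg.Agent.Lib.Perm.AbelianZStar
import Cfsg.Agent.Lib.Transfer.Focal
import Cfsg.Agent.Lib.Transfer.Basic
import Cfsg.Agent.Lib.Solvable.PCore

/-!
Groups of Hall-Janko type: the centraliser of an involution which is not conjugate to `z`.
-/

set_option autoImplicit false

namespace CfsgLib.InvChar.HJType

open CfsgLib.Invol Subgroup
open scoped Pointwise commutatorElement

universe u

variable {G : Type u} [Group G] {z : G} {Q : Subgroup G}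

namespace Data

variable (S : Data z Q)
include S

theorem fixed_cases [Finite G] {a x y : G} (ha : Outer z Q a) (hx : NI z Q x) (hax : a * x = x * a)
    (hy : IsConj z y) (hyz : y * z = z * y) (hya : y * a = a * y) : y = z ∨ y = x ∨ y = x * z := by
  have hyQ := S.mem_Q_of_isConj (mem_centralizer_singleton_iff.2 hyz) hy
  rcases S.cent_outer_mem ha hx hax hyQ hya.symm with e | e | e | e
  · exact absurd e (invol_ne_one ((orderOf_eq_of_isConj hy).trans S.hz))
  · exact Or.inl e
  · exact Or.inr (Or.inl e)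
  · exact Or.inr (Or.inr e)

theorem outer_xz [Finite G] {a x : G} (ha : Outer z Q a) (hax : a * x = x * a) :
    a * (x * z) = x * z * a := by
  rw [← mul_assoc, hax, mul_assoc, S.commZ ha.1, ← mul_assoc]

/-- The centraliser in `C(a)` of each of `x`, `x * z` is that of `z`. -/
theorem cent_pair_iff [Finite G] {a x y : G} (ha : Outer z Q a) (hx : NI z Q x)
    (hax : a * x = x * a) (hy : y = z ∨ y = x ∨ y = x * z) (c : G) :
    (c * y = y * c ∧ c * a = a * c) ↔ (c * z = z * c ∧ c * a = a * c) := by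
  have hya : y * a = a * y := by
    rcases hy with rfl | rfl | rfl
    exacts [(S.commZ ha.1).symm, hax.symm, (S.outer_xz ha hax).symm]
  have hyc : IsConj z y := by
    rcases hy with rfl | rfl | rfl
    exacts [IsConj.refl _, S.isConj_ni hx, S.isConj_ni (S.ni_mul_z hx)]
  have hle : ∀ c, c * z = z * c ∧ c * a = a * c → c * y = y * c ∧ c * a = a * c := by
    rintro c ⟨h1, h2⟩
    have hx' := (S.cent_outer_le ha hx hax).1 c h1 h2
    refine ⟨?_, h2⟩
    rcases hy with rfl | rfl | rfl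
    exacts [h1, hx', (Commute.mul_right hx' h1).eq]
  refine ⟨fun h => ?_, hle c⟩
  obtain ⟨n, hna, hnz⟩ := S.exists_cent_conj ha hyc hya
  have heq : centralizer ({z} : Set G) ⊓ centralizer ({a} : Set G) =
      centralizer ({y} : Set G) ⊓ centralizer ({a} : Set G) := by
    refine eq_of_le_of_card_ge (fun d hd => ?_) ?_
    · simp only [mem_inf, mem_centralizer_singleton_iff] at hd ⊢
      exact hle d hd
    · rw [(S.outer_class ha).1, ← (S.outer_class ha).1]
      have hmem : ∀ p : ↥(centralizer ({y} : Set G) ⊓ centralizer ({a} : Set G) : Subgroup G),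
          n⁻¹ * p.1 * n ∈ centralizer ({z} : Set G) ⊓ centralizer ({a} : Set G) := by
        rintro ⟨p, hp⟩
        simp only [mem_inf, mem_centralizer_singleton_iff] at hp ⊢
        constructor
        · calc n⁻¹ * p * n * z = n⁻¹ * (p * (n * z * n⁻¹)) * n := by group
            _ = n⁻¹ * ((n * z * n⁻¹) * p) * n := by rw [hnz, hp.1]
            _ = z * (n⁻¹ * p * n) := by group
        · calc n⁻¹ * p * n * a = n⁻¹ * p * (n * a) := by group
            _ = n⁻¹ * (p * a) * n := by rw [hna]; group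
            _ = n⁻¹ * a * p * n := by rw [hp.2]; group
            _ = a * (n⁻¹ * p * n) := by
              rw [show n⁻¹ * a = a * n⁻¹ from (Commute.inv_left hna).eq]; group
      exact Nat.card_le_card_of_injective (fun p => ⟨_, hmem p⟩) fun p q h => Subtype.ext
        (mul_left_cancel (mul_right_cancel (congrArg
          (fun t : ↥(centralizer ({z} : Set G) ⊓ centralizer ({a} : Set G) : Subgroup G) => (t : G)) h)))
  have : c ∈ centralizer ({z} : Set G) ⊓ centralizer ({a} : Set G) := by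
    rw [heq]
    exact ⟨mem_centralizer_singleton_iff.2 h.1, mem_centralizer_singleton_iff.2 h.2⟩
  simpa only [mem_inf, mem_centralizer_singleton_iff] using this

/-- An element of `C(a)` permuting `z`, `x`, `x * z` cyclically. -/
theorem exists_cycle [Finite G] {a x : G} (ha : Outer z Q a) (hx : NI z Q x) (hax : a * x = x * a) :
    ∃ n : G, n * a = a * n ∧ n * z * n⁻¹ = x ∧ n * x * n⁻¹ = x * z ∧ n * (x * z) * n⁻¹ = z := by
  obtain ⟨n, hna, hnz⟩ := S.exists_cent_conj ha (S.isConj_ni hx) hax.symm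
  have hc : IsConj z (n * x * n⁻¹) := (S.isConj_ni hx).trans (isConj_iff.2 ⟨n, rfl⟩)
  have hnx : n * x * n⁻¹ * x = x * (n * x * n⁻¹) := by
    rw [← hnz]
    calc n * (n * z * n⁻¹) * n⁻¹ * (n * z * n⁻¹) = n * ((n * z * n⁻¹) * z) * n⁻¹ := by group
      _ = n * (z * (n * z * n⁻¹)) * n⁻¹ := by rw [hnz, S.commZQ hx.1]
      _ = n * z * n⁻¹ * (n * (n * z * n⁻¹) * n⁻¹) := by group
  have hnxa : n * x * n⁻¹ * a = a * (n * x * n⁻¹) := by
    have hn' : n * a * n⁻¹ = a := by rw [hna, mul_inv_cancel_right]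
    conv_lhs => rw [← hn']
    conv_rhs => rw [← hn']
    rw [show n * x * n⁻¹ * (n * a * n⁻¹) = n * (x * a) * n⁻¹ by group, ← hax]
    group
  have hz' := ((S.cent_pair_iff ha hx hax (Or.inr (Or.inl rfl)) _).1 ⟨hnx, hnxa⟩).1
  have e3 : n * x * n⁻¹ = x * z := by
    rcases S.fixed_cases ha hx hax hc hz' hnxa with e | e | e
    · exfalso
      -- then `n` fixes `x * z`
      have hf : n * (x * z) = x * z * n := by
        rw [← mul_inv_eq_iff_eq_mul,
          show n * (x * z) * n⁻¹ = n * x * n⁻¹ * (n * z * n⁻¹) by group, e, hnz, S.commZQ hx.1]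
      have hnzc := ((S.cent_pair_iff ha hx hax (Or.inr (Or.inr rfl)) n).1 ⟨hf, hna⟩).1
      exact hx.2.2.2 (by rw [← hnz, hnzc, mul_inv_cancel_right])
    · exfalso
      conv_rhs at e => rw [← hnz]
      exact hx.2.2.2 (mul_left_cancel (mul_right_cancel e))
    · exact e
  refine ⟨n, hna, hnz, e3, ?_⟩
  rw [show n * (x * z) * n⁻¹ = n * x * n⁻¹ * (n * z * n⁻¹) by group, e3, hnz, S.commZQ hx.1,
    mul_assoc, hx.2.1, mul_one]

/-- The structure of the centraliser of an involution outside `Q`. -/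
theorem local_structure [Finite G] {a : G} (ha : Outer z Q a) :
    ∃ (W X0 : Subgroup G) (k : ℕ), (k = 3 ∨ k = 15) ∧
      W ≤ centralizer ({a} : Set G) ∧ X0 ≤ centralizer ({a} : Set G) ∧
      Nat.card ↥W = 4 ∧ a ∈ W ∧ (∀ d ∈ W, d * d = 1) ∧
      (∀ d ∈ W, ∀ c ∈ centralizer ({a} : Set G), d * c = c * d) ∧ W ⊓ X0 = ⊥ ∧
      (∀ c ∈ centralizer ({a} : Set G), ∃ d ∈ W, ∃ y ∈ X0, d * y = c) ∧
      Nat.card ↥X0 = 4 * k ∧ Nat.card ↥(centralizer ({a} : Set G)) = 16 * k ∧
      (∀ y ∈ centralizer ({a} : Set G), IsConj z y → y ∈ X0) ∧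
      (∀ v ∈ X0, v * v = 1 → v ≠ 1 → IsConj z v) ∧
      Nat.card {y : G // y ∈ centralizer ({a} : Set G) ∧ IsConj z y} = k ∧
      (∀ c ∈ X0, ∀ v ∈ X0, v * v = 1 → v ≠ 1 → c * v = v * c → c * c = 1) := by
  classical
  haveI : Fact (Nat.Prime 2) := ⟨Nat.prime_two⟩
  haveI : Fintype G := Fintype.ofFinite G
  obtain ⟨x, hx, hax⟩ := S.exists_fixed_ni ha
  obtain ⟨hEx, hEab, hEsq⟩ := S.cent_outer_le ha hx hax
  obtain ⟨n, hna, hnz, hnx, hnxz⟩ := S.exists_cycle ha hx hax
  set X := centralizer ({a} : Set G) with hX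
  have hmX : ∀ {c : G}, c ∈ X ↔ c * a = a * c := fun {c} => mem_centralizer_singleton_iff
  have hzX : z ∈ X := hmX.2 (S.commZ ha.1).symm
  have hxX : x ∈ X := hmX.2 hax.symm
  have hxzX : x * z ∈ X := mul_mem hxX hzX
  set z' : ↥X := ⟨z, hzX⟩ with hz'
  set x' : ↥X := ⟨x, hxX⟩ with hx'
  set a' : ↥X := ⟨a, hmX.2 rfl⟩ with ha'
  set n' : ↥X := ⟨n, hmX.2 hna⟩ with hn'
  set E : Subgroup ↥X := centralizer ({z'} : Set ↥X) with hE
  have hmE : ∀ {c : ↥X}, c ∈ E ↔ (c : G) * z = z * c := by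
    intro c
    rw [hE, mem_centralizer_singleton_iff]
    exact ⟨fun h => congrArg Subtype.val h, fun h => Subtype.ext h⟩
  have hEc : Nat.card ↥E = 16 := by
    rw [← (S.outer_class ha).1]
    exact Nat.card_congr
      { toFun := fun c => ⟨((c : ↥X) : G), mem_centralizer_singleton_iff.2 (hmE.1 c.2), (c : ↥X).2⟩
        invFun := fun c => ⟨⟨c.1, c.2.2⟩, hmE.2 (mem_centralizer_singleton_iff.1 c.2.1)⟩
        left_inv := fun _ => rfl
        right_inv := fun _ => rfl }
  have hEcomm : ∀ c ∈ E, ∀ d ∈ E, c * d = d * c := fun c hc d hd => Subtype.ext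
    (hEab _ _ (hmE.1 hc) (hmX.1 c.2) (hmE.1 hd) (hmX.1 d.2))
  have hEinv : ∀ c ∈ E, c * c = 1 := fun c hc => Subtype.ext (hEsq _ (hmE.1 hc) (hmX.1 c.2))
  have hzE : z' ∈ E := hmE.2 rfl
  have hxE : x' ∈ E := hmE.2 (S.commZQ hx.1)
  have haE : a' ∈ E := hmE.2 (S.commZ ha.1)
  -- the normaliser of `E`
  have hEpair : ∀ (y : G), (y = z ∨ y = x ∨ y = x * z) → ∀ c : ↥X,
      ((c : G) * y = y * c ↔ c ∈ E) := fun y hy c =>
    ⟨fun h => hmE.2 ((S.cent_pair_iff ha hx hax hy _).1 ⟨h, hmX.1 c.2⟩).1,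
      fun h => ((S.cent_pair_iff ha hx hax hy _).2 ⟨hmE.1 h, hmX.1 c.2⟩).1⟩
  set N := normalizer (E : Set ↥X) with hN
  have hNiff : ∀ g : ↥X, g ∈ N ↔
      ((g : G) * z * (g : G)⁻¹ = z ∨ (g : G) * z * (g : G)⁻¹ = x ∨ (g : G) * z * (g : G)⁻¹ = x * z) := by
    intro g
    constructor
    · intro hg
      have h := (mem_normalizer_iff.1 hg z').1 hzE
      exact S.fixed_cases ha hx hax (isConj_iff.2 ⟨g, rfl⟩) (hmE.1 h) (hmX.1 (g * z' * g⁻¹).2)
    · intro hg
      refine mem_normalizer_iff.2 fun c => ?_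
      rw [← hEpair _ hg (g * c * g⁻¹), hmE]
      show (c : G) * z = z * c ↔
        (g : G) * c * (g : G)⁻¹ * (g * z * (g : G)⁻¹) = g * z * (g : G)⁻¹ * (g * c * (g : G)⁻¹)
      exact (show _ ↔ _ from ⟨fun h => by
        rw [show (g : G) * c * (g : G)⁻¹ * (g * z * (g : G)⁻¹) = g * ((c : G) * z) * (g : G)⁻¹ by group,
          h]
        group, fun h => by
        rw [show (g : G) * c * (g : G)⁻¹ * (g * z * (g : G)⁻¹) = g * ((c : G) * z) * (g : G)⁻¹ by group,
          show (g : G) * z * (g : G)⁻¹ * (g * c * (g : G)⁻¹) = g * (z * (c : G)) * (g : G)⁻¹ by group] at h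
        exact mul_left_cancel (mul_right_cancel h)⟩)
  have hnN : n' ∈ N := (hNiff n').2 (Or.inr (Or.inl hnz))
  have hn2 : ((n' * n' : ↥X) : G) * z * ((n' * n' : ↥X) : G)⁻¹ = x * z := by
    show n * n * z * (n * n)⁻¹ = x * z
    rw [show n * n * z * (n * n)⁻¹ = n * (n * z * n⁻¹) * n⁻¹ by group, hnz, hnx]
  have hrep : ∀ g ∈ N, g ∈ E ∨ n'⁻¹ * g ∈ E ∨ (n' * n')⁻¹ * g ∈ E := by
    have key : ∀ (g h : ↥X), (g : G) * z * (g : G)⁻¹ = (h : G) * z * (h : G)⁻¹ → h⁻¹ * g ∈ E := by
      intro g h e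
      refine hmE.2 ?_
      show (h : G)⁻¹ * g * z = z * ((h : G)⁻¹ * g)
      rw [← mul_inv_eq_iff_eq_mul,
        show (h : G)⁻¹ * g * z * ((h : G)⁻¹ * g)⁻¹ = (h : G)⁻¹ * ((g : G) * z * (g : G)⁻¹) * h by group, e]
      group
    intro g hg
    rcases (hNiff g).1 hg with e | e | e
    · left
      simpa using key g 1 (by simpa using e)
    · exact Or.inr (Or.inl (key g n' (e.trans hnz.symm)))
    · exact Or.inr (Or.inr (key g (n' * n') (e.trans hn2.symm)))
  have hEN : E ≤ N := le_normalizer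
  have hNc : Nat.card ↥N = 48 := by
    haveI : Fintype ↥N := Fintype.ofFinite _
    set zN : ↥N := ⟨z', hEN hzE⟩ with hzN
    have h := card_class_mul_card_centralizer zN
    have h3 : Nat.card {b // IsConj zN b} = 3 := by
      let F : {b : ↥N // IsConj zN b} → G := fun b => ((b.1 : ↥X) : G)
      have hF : Function.Injective F := fun b c e => Subtype.ext (Subtype.ext (Subtype.ext e))
      rw [← Set.ncard_range_of_injective hF,
        show Set.range F = ({z, x, x * z} : Set G) from ?_]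
      · rw [Set.ncard_eq_three]
        exact ⟨z, x, x * z, hx.2.2.2.symm, (S.ni_mul_z hx).2.2.2.symm, S.mul_z_ne.symm, rfl⟩
      · ext y
        simp only [Set.mem_range, Set.mem_insert_iff, Set.mem_singleton_iff, F]
        constructor
        · rintro ⟨⟨b, hb⟩, rfl⟩
          obtain ⟨g, rfl⟩ := isConj_iff.1 hb
          exact (hNiff g).1 g.2
        · rintro (rfl | rfl | rfl)
          · exact ⟨⟨zN, IsConj.refl _⟩, rfl⟩
          · exact ⟨⟨⟨n', hnN⟩ * zN * ⟨n', hnN⟩⁻¹, isConj_iff.2 ⟨_, rfl⟩⟩, hnz⟩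
          · exact ⟨⟨⟨n' * n', mul_mem hnN hnN⟩ * zN * ⟨n' * n', mul_mem hnN hnN⟩⁻¹,
              isConj_iff.2 ⟨_, rfl⟩⟩, hn2⟩
    have h16 : Nat.card ↥(centralizer ({zN} : Set ↥N)) = 16 := by
      rw [← hEc]
      exact Nat.card_congr
        { toFun := fun c => ⟨((c : ↥N) : ↥X), hmE.2 (congrArg (fun t : ↥N => ((t : ↥X) : G))
            (mem_centralizer_singleton_iff.1 c.2))⟩
          invFun := fun c => ⟨⟨c.1, hEN c.2⟩, mem_centralizer_singleton_iff.2
            (Subtype.ext (Subtype.ext (hmE.1 c.2)))⟩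
          left_inv := fun _ => rfl
          right_inv := fun _ => rfl }
    rw [h3, h16] at h
    omega
  -- `E` is a Sylow subgroup
  have hEp : IsPGroup 2 ↥E := IsPGroup.of_card (n := 4) (by rw [hEc]; norm_num)
  obtain ⟨T, hT⟩ := hEp.exists_le_sylow
  have hTE : (T : Subgroup ↥X) = E := by
    by_contra hne
    haveI : Group.IsNilpotent ↥(T : Subgroup ↥X) := T.2.isNilpotent
    have hlt : E.subgroupOf T < ⊤ := lt_top_iff_ne_top.2 fun e =>
      hne (le_antisymm (subgroupOf_eq_top.1 e) hT)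
    obtain ⟨t, htN, htE⟩ := SetLike.exists_of_lt (normalizerCondition_of_isNilpotent _ hlt)
    rw [mem_subgroupOf] at htE
    have htN' : (t : ↥X) ∈ N := by
      refine (hNiff _).2 ?_
      have := ((mem_normalizer_iff.1 htN) ⟨z', hT hzE⟩).1 (mem_subgroupOf.2 hzE)
      rw [mem_subgroupOf] at this
      exact S.fixed_cases ha hx hax (isConj_iff.2 ⟨((t : ↥X) : G), rfl⟩) (hmE.1 this)
        (hmX.1 ((t : ↥X) * z' * (t : ↥X)⁻¹).2)
    have hlt' : E < (T : Subgroup ↥X) ⊓ N :=
      lt_of_le_of_ne (le_inf hT hEN) fun e => htE (e.symm ▸ (⟨t.2, htN'⟩ : (t : ↥X) ∈ (T : Subgroup ↥X) ⊓ N))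
    obtain ⟨j, hj⟩ := (T.2.to_le (inf_le_left : (T : Subgroup ↥X) ⊓ N ≤ T)).exists_card_eq
    have h1 := card_dvd_of_le (inf_le_right : (T : Subgroup ↥X) ⊓ N ≤ N)
    rw [hj, hNc] at h1
    have h2 : 16 < 2 ^ j := by
      rw [← hj, ← hEc]
      refine lt_of_not_ge fun hge => hlt'.ne (eq_of_le_of_card_ge hlt'.le hge)
    have h5 : 5 ≤ j := by
      by_contra hc
      have : 2 ^ j ≤ 2 ^ 4 := Nat.pow_le_pow_right (by norm_num) (by omega)
      omega
    have h32 : 2 ^ 5 ∣ 48 := (pow_dvd_pow 2 h5).trans h1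
    norm_num at h32
  haveI hTcomm : IsMulCommutative ↥(T : Subgroup ↥X) :=
    ⟨⟨fun c d => Subtype.ext (hEcomm c (hTE ▸ c.2) d (hTE ▸ d.2))⟩⟩
  -- the odd core is trivial
  have hO : Cfsg.oddCore ↥X = ⊥ := by
    have hM : ∀ M : Subgroup ↥X, M.Normal → (Nat.card ↥M).Coprime 2 → M = ⊥ := by
      intro M hMn hM2
      have hone : ∀ w ∈ M, w ∈ E → w = 1 := fun w hw hwE => by
        have h2 : orderOf w ∣ 2 := orderOf_dvd_of_pow_eq_one (by rw [sq]; exact hEinv w hwE)
        exact orderOf_eq_one_iff.1 (Nat.eq_one_of_dvd_coprimes hM2 (M.orderOf_dvd_natCard hw) h2)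
      have hinv : ∀ (y : G) (hy : y = z ∨ y = x ∨ y = x * z) (hyX : y ∈ X), ∀ w ∈ M,
          (⟨y, hyX⟩ : ↥X) * w * (⟨y, hyX⟩ : ↥X)⁻¹ = w⁻¹ := by
        intro y hy hyX w hw
        set j : ↥X := ⟨y, hyX⟩ with hj
        have hyy : j * j = 1 := by
          refine Subtype.ext ?_
          show y * y = 1
          rcases hy with rfl | rfl | rfl
          exacts [S.zz, hx.2.1, (S.ni_mul_z hx).2.1]
        have h := MonoidHom.FixedPointFree.coe_eq_inv_of_involutive
          (φ := (MulAut.conjNormal j : MulAut ↥M)) (fun v hv => ?_) (fun v => ?_)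
        · exact congrArg Subtype.val (congrFun h ⟨w, hw⟩)
        · have he : j * (v : ↥X) * j⁻¹ = v := congrArg Subtype.val hv
          refine Subtype.ext (hone _ v.2 ((hEpair y hy _).1 ?_))
          exact (congrArg Subtype.val (mul_inv_eq_iff_eq_mul.1 he)).symm
        · apply Subtype.ext
          show j * (j * (v : ↥X) * j⁻¹) * j⁻¹ = v
          calc j * (j * (v : ↥X) * j⁻¹) * j⁻¹ = (j * j) * v * (j * j)⁻¹ := by group
            _ = v := by rw [hyy]; group
      rw [eq_bot_iff]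
      intro w hw
      rw [mem_bot]
      refine hone w hw ((hEpair (x * z) (Or.inr (Or.inr rfl)) w).1 ?_)
      have e1 := hinv z (Or.inl rfl) hzX w hw
      have e2 := hinv x (Or.inr (Or.inl rfl)) hxX _ (inv_mem hw)
      have e3 : (x' * z') * w * (x' * z')⁻¹ = w := by
        calc (x' * z') * w * (x' * z')⁻¹ = x' * (z' * w * z'⁻¹) * x'⁻¹ := by group
          _ = w := by rw [e1, e2, inv_inv]
      exact (congrArg Subtype.val (mul_inv_eq_iff_eq_mul.1 e3)).symm
    exact hM _ (CfsgLib.Solvable.pPrimeCore_normal 2 _) (CfsgLib.Solvable.pPrimeCore_coprime 2)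
  -- `U = Q ∩ C(a)`
  set U : Subgroup ↥X := Q.subgroupOf X with hU
  have hUiff : ∀ c : ↥X, c ∈ U ↔ (c = 1 ∨ c = z' ∨ c = x' ∨ c = x' * z') := by
    intro c
    rw [hU, mem_subgroupOf]
    constructor
    · intro hc
      rcases S.cent_outer_mem ha hx hax hc (hmX.1 c.2).symm with e | e | e | e
      · exact Or.inl (Subtype.ext e)
      · exact Or.inr (Or.inl (Subtype.ext e))
      · exact Or.inr (Or.inr (Or.inl (Subtype.ext e)))
      · exact Or.inr (Or.inr (Or.inr (Subtype.ext e)))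
    · rintro (rfl | rfl | rfl | rfl)
      exacts [one_mem _, S.hzQ, hx.1, mul_mem hx.1 S.hzQ]
  have hUE : U ≤ E := fun c hc => hmE.2 (S.commZQ (mem_subgroupOf.1 hc))
  have hnU1 : n' * z' * n'⁻¹ = x' := Subtype.ext hnz
  have hnU2 : n' * x' * n'⁻¹ = x' * z' := Subtype.ext hnx
  have hnU3 : n' * (x' * z') * n'⁻¹ = z' := Subtype.ext hnxz
  have hnU : ∀ c ∈ U, n' * c * n'⁻¹ ∈ U := by
    intro c hc
    rw [hUiff]
    rcases (hUiff c).1 hc with rfl | rfl | rfl | rfl
    · exact Or.inl (by group)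
    · exact Or.inr (Or.inr (Or.inl hnU1))
    · exact Or.inr (Or.inr (Or.inr hnU2))
    · exact Or.inr (Or.inl hnU3)
  have hU4 : Nat.card ↥U ≤ 4 := by
    haveI : Fintype ↥X := Fintype.ofFinite _
    rw [Nat.card_eq_fintype_card, Fintype.card_subtype]
    refine le_trans (Finset.card_le_card (t := {1, z', x', x' * z'}) fun u hu => ?_) Finset.card_le_four
    simpa using (hUiff u).1 (Finset.mem_filter.1 hu).2
  have haQ' : ∀ c ∈ U, a' * c ∉ U := fun c hc h => ha.2.2 (by
    have := mul_mem h (inv_mem hc)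
    rwa [mul_inv_cancel_right, mem_subgroupOf] at this)
  have haz : ∀ g : ↥X, g * a' = a' * g := fun g => Subtype.ext (hmX.1 g.2)
  -- an element outside `U ∪ a U`
  obtain ⟨b, hbE, hbU, hbaU⟩ : ∃ b ∈ E, b ∉ U ∧ a' * b ∉ U := by
    by_contra hc
    push Not at hc
    haveI : Fintype ↥X := Fintype.ofFinite _
    have hsub : (Finset.univ.filter fun c : ↥X => c ∈ E) ⊆
        (Finset.univ.filter fun c : ↥X => c ∈ U) ∪
          (Finset.univ.filter fun c : ↥X => c ∈ U).image (a' * ·) := by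
      intro c hc'
      have hcE := (Finset.mem_filter.1 hc').2
      by_cases h : c ∈ U
      · exact Finset.mem_union_left _ (Finset.mem_filter.2 ⟨Finset.mem_univ _, h⟩)
      · refine Finset.mem_union_right _ (Finset.mem_image.2 ⟨a' * c,
          Finset.mem_filter.2 ⟨Finset.mem_univ _, hc c hcE h⟩, ?_⟩)
        rw [← mul_assoc, show a' * a' = 1 from Subtype.ext ha.2.1, one_mul]
    have h1 := Finset.card_le_card hsub
    have h2 := (Finset.card_union_le _ _).trans' h1
    have h3 : ((Finset.univ.filter fun c : ↥X => c ∈ U).image (a' * ·)).card ≤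
        (Finset.univ.filter fun c : ↥X => c ∈ U).card := Finset.card_image_le
    rw [← Fintype.card_subtype, ← Nat.card_eq_fintype_card, hEc] at h2
    rw [← Fintype.card_subtype, ← Nat.card_eq_fintype_card] at h2 h3
    omega
  -- `n` acts trivially on `E / U`
  have hbn : b⁻¹ * (n' * b * n'⁻¹) ∈ U := by
    set d := b⁻¹ * (n' * b * n'⁻¹) with hd
    by_contra hdU
    have hdE : d ∈ E := mul_mem (inv_mem hbE) ((mem_normalizer_iff.1 hnN b).1 hbE)
    -- the four cosets of `U`
    have hcos : ∀ c ∈ E, c ∈ U ∨ a' * c ∈ U ∨ b * c ∈ U ∨ a' * (b * c) ∈ U := by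
      intro c hc
      by_contra hn4
      push Not at hn4
      haveI : Fintype ↥X := Fintype.ofFinite _
      let F : Fin 5 × ↥U → ↥E := fun p =>
        ⟨![1, a', b, a' * b, c] p.1 * (p.2 : ↥X), by
          refine mul_mem ?_ (hUE p.2.2)
          obtain ⟨i, u⟩ := p
          fin_cases i
          exacts [one_mem _, haE, hbE, mul_mem haE hbE, hc]⟩
      have hrel : ∀ p q : ↥X, p ∈ E → q ∈ E → ∀ u ∈ U, ∀ v ∈ U, p * u = q * v → p * q ∈ U := by
        intro p q hp hq u hu v hv e
        have : p = q * (v * u⁻¹) := by rw [← mul_assoc, ← e, mul_inv_cancel_right]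
        rw [this, mul_assoc, hEcomm _ (hUE (mul_mem hv (inv_mem hu))) q hq, ← mul_assoc, hEinv q hq, one_mul]
        exact mul_mem hv (inv_mem hu)
      have hF : Function.Injective F := by
        rintro ⟨i, u⟩ ⟨j, v⟩ e
        have e' := congrArg Subtype.val e
        change ![1, a', b, a' * b, c] i * (u : ↥X) = ![1, a', b, a' * b, c] j * (v : ↥X) at e'
        by_cases hij : i = j
        · subst hij
          exact Prod.ext rfl (Subtype.ext (mul_left_cancel e'))
        exfalso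
        have habE := mul_mem haE hbE
        have haa : a' * a' = 1 := Subtype.ext ha.2.1
        have ha1 : a' ∉ U := fun h => haQ' 1 (one_mem _) (by rwa [mul_one])
        have n1 : a' * (a' * b) ∉ U := by rwa [← mul_assoc, haa, one_mul]
        have n2 : b * (a' * b) ∉ U := by
          rw [← mul_assoc, hEcomm b hbE a' haE, mul_assoc, hEinv b hbE, mul_one]; exact ha1
        have n3 : a' * b * c ∉ U := by rw [mul_assoc]; exact hn4.2.2.2
        have key : ∀ p q : ↥X, p ∈ E → q ∈ E → p * q ∉ U → p * (u : ↥X) ≠ q * (v : ↥X) ∧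
            q * (u : ↥X) ≠ p * (v : ↥X) := fun p q hp hq h =>
          ⟨fun e => h (hrel p q hp hq _ u.2 _ v.2 e),
            fun e => h (hEcomm q hq p hp ▸ hrel q p hq hp _ u.2 _ v.2 e)⟩
        have k01 := key 1 a' (one_mem _) haE (by rwa [one_mul])
        have k02 := key 1 b (one_mem _) hbE (by rwa [one_mul])
        have k03 := key 1 (a' * b) (one_mem _) habE (by rwa [one_mul])
        have k04 := key 1 c (one_mem _) hc (by rw [one_mul]; exact hn4.1)
        have k12 := key a' b haE hbE hbaU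
        have k13 := key a' (a' * b) haE habE n1
        have k14 := key a' c haE hc hn4.2.1
        have k23 := key b (a' * b) hbE habE n2
        have k24 := key b c hbE hc hn4.2.2.1
        have k34 := key (a' * b) c habE hc n3
        fin_cases i <;> fin_cases j <;>
          first
          | exact hij rfl
          | exact k01.1 e' | exact k01.2 e' | exact k02.1 e' | exact k02.2 e'
          | exact k03.1 e' | exact k03.2 e' | exact k04.1 e' | exact k04.2 e'
          | exact k12.1 e' | exact k12.2 e' | exact k13.1 e' | exact k13.2 e'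
          | exact k14.1 e' | exact k14.2 e' | exact k23.1 e' | exact k23.2 e'
          | exact k24.1 e' | exact k24.2 e' | exact k34.1 e' | exact k34.2 e'
      have h := Nat.card_le_card_of_injective F hF
      rw [Nat.card_prod, Nat.card_fin, hEc] at h
      have h4 : 4 ≤ Nat.card ↥U := by
        have hs : ({1, z', x', x' * z'} : Finset ↥X) ⊆ Finset.univ.filter fun c => c ∈ U := fun c hc => by
          simpa [hUiff] using hc
        have := Finset.card_le_card hs
        rw [← Fintype.card_subtype, ← Nat.card_eq_fintype_card, Finset.card_insert_of_notMem,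
          Finset.card_insert_of_notMem, Finset.card_pair] at this
        · exact this
        · exact fun e => S.mul_z_ne (congrArg Subtype.val e).symm
        · simp only [Finset.mem_insert, Finset.mem_singleton, not_or]
          exact ⟨fun e => hx.2.2.2 (congrArg Subtype.val e).symm,
            fun e => hx.2.2.1 (mul_eq_right.1 (congrArg Subtype.val e).symm)⟩
        · simp only [Finset.mem_insert, Finset.mem_singleton, not_or]
          exact ⟨fun e => S.zne (congrArg Subtype.val e).symm,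
            fun e => hx.2.2.1 (congrArg Subtype.val e).symm,
            fun e => (S.ni_mul_z hx).2.2.1 (congrArg Subtype.val e).symm⟩
      omega
    -- `n ^ 3` centralises `b`, and `n` centralises `a`
    obtain ⟨φ, hφ⟩ : ∃ φ : ↥X → ↥X, φ = fun g => n' * g * n'⁻¹ := ⟨_, rfl⟩
    have hφU : ∀ g ∈ U, φ g ∈ U := fun g hg => by rw [hφ]; exact hnU g hg
    have hφm : ∀ g h, φ (g * h) = φ g * φ h := fun g h => by simp only [hφ]; group
    have hn3 : n' * n' * n' ∈ E := hmE.2 (by
      show n * n * n * z = z * (n * n * n)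
      rw [← mul_inv_eq_iff_eq_mul,
        show n * n * n * z * (n * n * n)⁻¹ = n * (n * (n * z * n⁻¹) * n⁻¹) * n⁻¹ by group, hnz, hnx, hnxz])
    have h3 : φ (φ (φ b)) = b := by
      have : φ (φ (φ b)) = n' * n' * n' * b * (n' * n' * n')⁻¹ := by simp only [hφ]; group
      rw [this, hEcomm _ hn3 b hbE, mul_inv_cancel_right]
    have hb1 : φ b = b * d := by simp only [hφ, hd]; rw [mul_inv_cancel_left]
    have hφa : φ a' = a' := by simp only [hφ]; rw [haz, mul_inv_cancel_right]
    rcases hcos d hdE with h | h | h | h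
    · exact hdU h
    · -- `φ b = b a u`
      set u := a' * d with hu
      have hd' : d = a' * u := by rw [hu, ← mul_assoc, show a' * a' = 1 from Subtype.ext ha.2.1, one_mul]
      have p1 : φ b = b * (a' * u) := by rw [hb1, hd']
      simp only [p1, hφm, hφa] at h3
      have e : b * (a' * a' * a') * (u * φ u * φ (φ u)) = b := by
        refine Eq.trans ?_ h3
        have c1 : u * a' = a' * u := haz u
        have c2 : φ u * a' = a' * φ u := haz _
        calc b * (a' * a' * a') * (u * φ u * φ (φ u))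
            = b * (a' * (a' * (a' * u) * φ u)) * φ (φ u) := by group
          _ = b * (a' * (a' * (u * a') * φ u)) * φ (φ u) := by rw [c1]
          _ = b * (a' * ((a' * u) * (a' * φ u))) * φ (φ u) := by group
          _ = b * (a' * ((u * a') * (a' * φ u))) * φ (φ u) := by rw [c1]
          _ = b * (a' * u * (a' * (a' * φ u))) * φ (φ u) := by group
          _ = b * (a' * u * (a' * (φ u * a'))) * φ (φ u) := by rw [c2]
          _ = b * (a' * u) * (a' * φ u) * (a' * φ (φ u)) := by group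
      rw [mul_assoc, mul_eq_left, show a' * a' = 1 from Subtype.ext ha.2.1, one_mul] at e
      refine haQ' _ (mul_mem (mul_mem h (hφU _ h)) (hφU _ (hφU _ h))) ?_
      rw [e]; exact one_mem _
    · -- `φ b ∈ U`
      have hφb : φ b ∈ U := by rw [hb1]; exact h
      exact hbU (h3 ▸ hφU _ (hφU _ hφb))
    · -- `φ b ∈ a U`
      have hφb : a' * φ b ∈ U := by rw [hb1]; exact h
      have h' := hφU _ (hφU _ hφb)
      rw [hφm, hφm, hφa, hφa, h3] at h'
      exact hbaU h'
  obtain ⟨v, hvU, hv⟩ : ∃ v ∈ U, v * (n' * v * n'⁻¹) = b⁻¹ * (n' * b * n'⁻¹) := by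
    have hxx : x' * x' = 1 := Subtype.ext hx.2.1
    have hzz : z' * z' = 1 := Subtype.ext S.zz
    have hzx : z' * x' = x' * z' := Subtype.ext (S.commZQ hx.1).symm
    rcases (hUiff _).1 hbn with e | e | e | e <;> rw [e]
    · exact ⟨1, one_mem _, by group⟩
    · refine ⟨x', (hUiff _).2 (Or.inr (Or.inr (Or.inl rfl))), ?_⟩
      rw [hnU2, ← mul_assoc, hxx, one_mul]
    · refine ⟨x' * z', (hUiff _).2 (Or.inr (Or.inr (Or.inr rfl))), ?_⟩
      rw [hnU3, mul_assoc, hzz, mul_one]
    · refine ⟨z', (hUiff _).2 (Or.inr (Or.inl rfl)), ?_⟩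
      rw [hnU1, hzx]
  set w := b * v with hw
  have hwE : w ∈ E := mul_mem hbE (hUE hvU)
  have hnw : n' * w * n'⁻¹ = w := by
    have e1 : n' * b * n'⁻¹ = b * (v * (n' * v * n'⁻¹)) := by rw [hv, mul_inv_cancel_left]
    calc n' * w * n'⁻¹ = (n' * b * n'⁻¹) * (n' * v * n'⁻¹) := by rw [hw]; group
      _ = b * v * ((n' * v * n'⁻¹) * (n' * v * n'⁻¹)) := by rw [e1]; group
      _ = w := by rw [hEinv _ (hUE (hnU v hvU)), mul_one]
  have hwfix : ∀ g ∈ normalizer ((T : Subgroup ↥X) : Set ↥X), g * w * g⁻¹ = w := by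
    intro g hg
    rw [hTE] at hg
    rcases hrep g hg with h | h | h
    · rw [hEcomm g h w hwE, mul_inv_cancel_right]
    · rw [show g * w * g⁻¹ = n' * ((n'⁻¹ * g) * w * (n'⁻¹ * g)⁻¹) * n'⁻¹ by group,
        hEcomm _ h w hwE, mul_inv_cancel_right, hnw]
    · rw [show g * w * g⁻¹ =
        n' * (n' * (((n' * n')⁻¹ * g) * w * ((n' * n')⁻¹ * g)⁻¹) * n'⁻¹) * n'⁻¹ by group,
        hEcomm _ h w hwE, mul_inv_cancel_right, hnw, hnw]
  have hwc : w ∈ center ↥X := CfsgLib.Perm.AbelianZStar.mem_center hO T (show w ∈ (T : Subgroup ↥X) by rw [hTE]; exact hwE) hwfix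
  have hac : a' ∈ center ↥X := mem_center_iff.2 haz
  set W : Subgroup ↥X := center ↥X ⊓ E with hW
  have hwU : w ∉ U := fun h => hbU (by
    have := mul_mem h (inv_mem hvU)
    rwa [hw, mul_inv_cancel_right] at this)
  have hawU : a' * w ∉ U := fun h => hbaU (by
    have := mul_mem h (inv_mem hvU)
    rwa [hw, ← mul_assoc, mul_inv_cancel_right] at this)
  have hWU : W ⊓ U = ⊥ := by
    rw [eq_bot_iff]
    intro c hc
    rw [mem_inf, mem_inf] at hc
    rw [mem_bot]
    have hcn := (mem_center_iff.1 hc.1.1 n')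
    rcases (hUiff c).1 hc.2 with e | e | e | e <;> subst e
    · rfl
    · exfalso
      have := congrArg (fun t : ↥X => (t : G)) hnU1
      rw [show n' * z' * n'⁻¹ = z' by rw [hcn, mul_inv_cancel_right]] at hnU1
      exact hx.2.2.2 (congrArg Subtype.val hnU1).symm
    · exfalso
      rw [show n' * x' * n'⁻¹ = x' by rw [hcn, mul_inv_cancel_right]] at hnU2
      exact S.mul_z_ne (congrArg Subtype.val hnU2).symm
    · exfalso
      rw [show n' * (x' * z') * n'⁻¹ = x' * z' by rw [hcn, mul_inv_cancel_right]] at hnU3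
      exact (S.ni_mul_z hx).2.2.2 (congrArg Subtype.val hnU3)
  have haa : a' * a' = 1 := Subtype.ext ha.2.1
  have hne1 : a' ≠ 1 := fun e => haQ' 1 (one_mem _) (by rw [e, one_mul]; exact one_mem _)
  have hWc : Nat.card ↥W = 4 := by
    refine le_antisymm ?_ ?_
    · -- `W × U` embeds in `E`
      have hU4' : Nat.card ↥U = 4 := by
        haveI : Fintype ↥X := Fintype.ofFinite _
        refine le_antisymm hU4 ?_
        have hs : ({1, z', x', x' * z'} : Finset ↥X) ⊆ Finset.univ.filter fun c => c ∈ U := fun c hc => by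
          simpa [hUiff] using hc
        have := Finset.card_le_card hs
        rw [← Fintype.card_subtype, ← Nat.card_eq_fintype_card, Finset.card_insert_of_notMem,
          Finset.card_insert_of_notMem, Finset.card_pair] at this
        · exact this
        · exact fun e => S.mul_z_ne (congrArg Subtype.val e).symm
        · simp only [Finset.mem_insert, Finset.mem_singleton, not_or]
          exact ⟨fun e => hx.2.2.2 (congrArg Subtype.val e).symm,
            fun e => hx.2.2.1 (mul_eq_right.1 (congrArg Subtype.val e).symm)⟩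
        · simp only [Finset.mem_insert, Finset.mem_singleton, not_or]
          exact ⟨fun e => S.zne (congrArg Subtype.val e).symm,
            fun e => hx.2.2.1 (congrArg Subtype.val e).symm,
            fun e => (S.ni_mul_z hx).2.2.1 (congrArg Subtype.val e).symm⟩
      have h := Nat.card_le_card_of_injective
        (fun p : ↥W × ↥U => (⟨(p.1 : ↥X) * p.2, mul_mem p.1.2.2 (hUE p.2.2)⟩ : ↥E))
        fun p q e => Subgroup.mul_injective_of_disjoint (disjoint_iff.2 hWU)
          (congrArg (fun t : ↥E => (t : ↥X)) e)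
      rw [Nat.card_prod, hU4', hEc] at h
      omega
    · have hs : ({1, a', w, a' * w} : Finset ↥X).card ≤ Nat.card ↥W := by
        rw [← Nat.card_eq_finsetCard]
        refine Nat.card_le_card_of_injective (fun c => (⟨c.1, ?_⟩ : ↥W)) fun c d e => Subtype.ext
          (congrArg (fun t : ↥W => (t : ↥X)) e)
        have hc := c.2
        simp only [Finset.mem_insert, Finset.mem_singleton] at hc
        rcases hc with e | e | e | e <;> rw [e]
        exacts [one_mem _, ⟨hac, haE⟩, ⟨hwc, hwE⟩, mul_mem (show a' ∈ W from ⟨hac, haE⟩) ⟨hwc, hwE⟩]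
      rw [Finset.card_insert_of_notMem, Finset.card_insert_of_notMem, Finset.card_pair] at hs
      · exact hs
      · exact fun e => hne1 (mul_eq_right.1 e.symm)
      · simp only [Finset.mem_insert, Finset.mem_singleton, not_or]
        refine ⟨fun e => hawU ?_, fun e => hwU ?_⟩
        · rw [← e, haa]; exact one_mem _
        · rw [mul_eq_left.1 e.symm]; exact one_mem _
      · simp only [Finset.mem_insert, Finset.mem_singleton, not_or]
        exact ⟨hne1.symm, fun e => hwU (e ▸ one_mem _), fun e => hawU (e ▸ one_mem _)⟩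
  have hEdec : ∀ c ∈ E, ∃ d ∈ W, ∃ u ∈ U, d * u = c := by
    have hbij : Function.Bijective
        (fun p : ↥W × ↥U => (⟨(p.1 : ↥X) * p.2, mul_mem p.1.2.2 (hUE p.2.2)⟩ : ↥E)) := by
      refine (show Function.Injective _ from fun p q e =>
        Subgroup.mul_injective_of_disjoint (disjoint_iff.2 hWU)
          (congrArg (fun t : ↥E => (t : ↥X)) e)).bijective_of_nat_card_le ?_
      haveI : Fintype ↥X := Fintype.ofFinite _
      have hs : ({1, z', x', x' * z'} : Finset ↥X) ⊆ Finset.univ.filter fun c => c ∈ U := fun c hc => by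
        simpa [hUiff] using hc
      have := Finset.card_le_card hs
      rw [← Fintype.card_subtype, ← Nat.card_eq_fintype_card, Finset.card_insert_of_notMem,
        Finset.card_insert_of_notMem, Finset.card_pair] at this
      · rw [Nat.card_prod, hWc, hEc]; omega
      · exact fun e => S.mul_z_ne (congrArg Subtype.val e).symm
      · simp only [Finset.mem_insert, Finset.mem_singleton, not_or]
        exact ⟨fun e => hx.2.2.2 (congrArg Subtype.val e).symm,
          fun e => hx.2.2.1 (mul_eq_right.1 (congrArg Subtype.val e).symm)⟩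
      · simp only [Finset.mem_insert, Finset.mem_singleton, not_or]
        exact ⟨fun e => S.zne (congrArg Subtype.val e).symm,
          fun e => hx.2.2.1 (congrArg Subtype.val e).symm,
          fun e => (S.ni_mul_z hx).2.2.1 (congrArg Subtype.val e).symm⟩
    intro c hc
    obtain ⟨⟨d, u⟩, hdu⟩ := hbij.2 ⟨c, hc⟩
    exact ⟨d, d.2, u, u.2, congrArg (fun t : ↥E => (t : ↥X)) hdu⟩
  -- the subgroup `X₀ = O²(X)`
  set X0 := Cfsg.pResidual 2 ↥X with hX0
  haveI hX0n : X0.Normal := CfsgLib.Transfer.pResidual_normal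
  have hTX0 : E ⊓ X0 = U := by
    have hfoc : E ⊓ X0 = ⁅E, N⁆ := by
      have h := CfsgLib.Transfer.inf_pResidual_abelian_sylow T
      rwa [hTE] at h
    rw [hfoc]
    refine le_antisymm ?_ ?_
    · rw [commutator_le]
      intro e he g hg
      obtain ⟨d, hd, u, hu, rfl⟩ := hEdec e he
      have hdc : ∀ g : ↥X, g * d = d * g := fun g => mem_center_iff.1 (mem_inf.1 hd).1 g
      have hug : g * u⁻¹ * g⁻¹ ∈ U := by
        have hnU' : ∀ m : ↥X, (∀ c ∈ U, m * c * m⁻¹ ∈ U) → ∀ k : ↥X, k ∈ E → ∀ c ∈ U,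
            m * k * c * (m * k)⁻¹ ∈ U := fun m hm k hk c hc => by
          rw [show m * k * c * (m * k)⁻¹ = m * (k * c * k⁻¹) * m⁻¹ by group,
            hEcomm k hk c (hUE hc), mul_inv_cancel_right]
          exact hm c hc
        rcases hrep g hg with h | h | h
        · rw [hEcomm g h _ (hUE (inv_mem hu)), mul_inv_cancel_right]; exact inv_mem hu
        · have := hnU' n' hnU _ h _ (inv_mem hu)
          rwa [mul_inv_cancel_left] at this
        · have := hnU' (n' * n') (fun c hc => by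
            rw [show n' * n' * c * (n' * n')⁻¹ = n' * (n' * c * n'⁻¹) * n'⁻¹ by group]
            exact hnU _ (hnU c hc)) _ h _ (inv_mem hu)
          rwa [mul_inv_cancel_left] at this
      have hcd : Commute g d⁻¹ := (show Commute g d from hdc g).inv_right
      rw [commutatorElement_def, _root_.mul_inv_rev,
        show d * u * g * (u⁻¹ * d⁻¹) * g⁻¹ = d * u * (g * u⁻¹ * g⁻¹) * (g * d⁻¹ * g⁻¹) by group,
        hcd.eq, mul_inv_cancel_right, mul_assoc d, ← hdc, mul_inv_cancel_right]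
      exact mul_mem hu hug
    · have h1 : ⁅z', n'⁆ ∈ ⁅E, N⁆ := commutator_mem_commutator hzE hnN
      have h2 : ⁅x', n'⁆ ∈ ⁅E, N⁆ := commutator_mem_commutator hxE hnN
      have hzi : z'⁻¹ = z' := inv_eq_of_mul_eq_one_right (hEinv _ hzE)
      have hxi : x'⁻¹ = x' := inv_eq_of_mul_eq_one_right (hEinv _ hxE)
      have hzx : z' * x' = x' * z' := hEcomm _ hzE _ hxE
      have e1 : ⁅z', n'⁆ = x' * z' := by
        rw [commutatorElement_def, hzi, show z' * n' * z' * n'⁻¹ = z' * (n' * z' * n'⁻¹) by group,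
          hnU1, hzx]
      have e2 : ⁅x', n'⁆ = z' := by
        rw [commutatorElement_def, hxi, show x' * n' * x' * n'⁻¹ = x' * (n' * x' * n'⁻¹) by group,
          hnU2, ← mul_assoc, hEinv _ hxE, one_mul]
      rw [e1] at h1
      rw [e2] at h2
      have h3 : x' ∈ ⁅E, N⁆ := by
        have := mul_mem h1 h2
        rwa [mul_assoc, hEinv _ hzE, mul_one] at this
      intro c hc
      rcases (hUiff c).1 hc with rfl | rfl | rfl | rfl
      exacts [one_mem _, h2, h3, h1]
  have hdec : ∀ g : ↥X, ∃ d ∈ W, ∃ y ∈ X0, d * y = g := by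
    intro g
    have h := CfsgLib.Transfer.pResidual_sup_sylow (p := 2) T
    rw [hTE, ← hX0] at h
    have hg : g ∈ ((X0 ⊔ E : Subgroup ↥X) : Set ↥X) := by rw [h]; trivial
    rw [Subgroup.normal_mul] at hg
    obtain ⟨y, hy, e, he, hye⟩ := hg
    obtain ⟨d, hd, u, hu, rfl⟩ := hEdec e he
    have huX0 : u ∈ X0 := by
      have : u ∈ E ⊓ X0 := by rw [hTX0]; exact hu
      exact (mem_inf.1 this).2
    refine ⟨d, hd, y * u, mul_mem hy huX0, ?_⟩
    have hcy := mem_center_iff.1 (mem_inf.1 hd).1 y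
    rw [← hye, ← mul_assoc, ← hcy, mul_assoc]
  have hWX0 : W ⊓ X0 = ⊥ := by
    rw [eq_bot_iff, ← hWU, ← hTX0]
    intro c hc
    exact ⟨hc.1, hc.1.2, hc.2⟩
  have hzX0 : z' ∈ X0 := by
    have : z' ∈ E ⊓ X0 := by rw [hTX0]; exact (hUiff _).2 (Or.inr (Or.inl rfl))
    exact this.2
  have hxX0 : x' ∈ X0 := by
    have : x' ∈ E ⊓ X0 := by rw [hTX0]; exact (hUiff _).2 (Or.inr (Or.inr (Or.inl rfl)))
    exact this.2
  -- involutions of `X₀` are conjugate to `z` in `X₀`
  have hX0conj : ∀ v : ↥X, v ∈ X0 → v * v = 1 → v ≠ 1 → ∃ y ∈ X0, y * z' * y⁻¹ = v := by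
    intro v hv hvv hv1
    obtain ⟨g, hg⟩ := exists_conj_invol_mem_sylow T (invol_of_mul_self hvv hv1)
    have hg' : g * v * g⁻¹ ∈ (T : Subgroup ↥X) := hg
    rw [hTE] at hg'
    have hgE : g * v * g⁻¹ ∈ E ⊓ X0 := ⟨hg', hX0n.conj_mem v hv g⟩
    rw [hTX0, hUiff] at hgE
    obtain ⟨m, hm⟩ : ∃ m : ↥X, m * z' * m⁻¹ = g * v * g⁻¹ := by
      rcases hgE with e | e | e | e
      · exact absurd (conj_eq_one_iff.1 e) hv1
      · exact ⟨1, by rw [e]; group⟩
      · exact ⟨n', hnU1.trans e.symm⟩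
      · exact ⟨n' * n', by
          rw [show n' * n' * z' * (n' * n')⁻¹ = n' * (n' * z' * n'⁻¹) * n'⁻¹ by group, hnU1, hnU2, e]⟩
    have hv' : (g⁻¹ * m) * z' * (g⁻¹ * m)⁻¹ = v := by
      rw [show g⁻¹ * m * z' * (g⁻¹ * m)⁻¹ = g⁻¹ * (m * z' * m⁻¹) * g by group, hm]
      group
    obtain ⟨d, hd, y, hy, hdy⟩ := hdec (g⁻¹ * m)
    refine ⟨y, hy, ?_⟩
    rw [← hdy] at hv'
    rw [← hv', show d * y * z' * (d * y)⁻¹ = d * (y * z' * y⁻¹) * d⁻¹ by group,
      ← mem_center_iff.1 (mem_inf.1 hd).1 (y * z' * y⁻¹), mul_inv_cancel_right]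
  have hCX0 : ∀ c ∈ X0, c * z' = z' * c → c = 1 ∨ c = z' ∨ c = x' ∨ c = x' * z' := by
    intro c hc hcz
    have : c ∈ E ⊓ X0 := ⟨mem_centralizer_singleton_iff.2 hcz, hc⟩
    rwa [hTX0, hUiff] at this
  set zz' : ↥X0 := ⟨z', hzX0⟩ with hzz'
  set xx' : ↥X0 := ⟨x', hxX0⟩ with hxx'
  have hzzo : orderOf zz' = 2 := by rw [← orderOf_coe, ← orderOf_coe]; exact S.hz
  have hxxo : orderOf xx' = 2 := by rw [← orderOf_coe, ← orderOf_coe]; exact hx.order
  have hKc : ∀ c ∈ zpowers zz', c = 1 ∨ c = zz' := by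
    intro c hc
    obtain ⟨i, rfl⟩ := mem_zpowers_iff.1 hc
    rcases Int.even_or_odd i with ⟨l, rfl⟩ | ⟨l, rfl⟩
    · left; rw [← two_mul, zpow_mul, zpow_two, invol_mul_self hzzo, one_zpow]
    · right; rw [zpow_add_one, zpow_mul, zpow_two, invol_mul_self hzzo, one_zpow, one_mul]
  have hxnz : xx' ≠ zz' := fun e =>
    hx.2.2.2 (congrArg (fun t : ↥X0 => ((t : ↥X) : G)) e)
  have hzxc : zz' * xx' = xx' * zz' := Subtype.ext (hEcomm _ hzE _ hxE)
  have hsetup : CfsgLib.InvChar.BSW.Setup zz' (zpowers zz') xx' :=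
    { ht := hzzo
      hcomm := fun p hp q hq => by
        obtain ⟨i, rfl⟩ := mem_zpowers_iff.1 hp
        obtain ⟨j, rfl⟩ := mem_zpowers_iff.1 hq
        exact (Commute.zpow_zpow_self zz' i j).eq
      hKH := zpowers_le.2 (mem_centralizer_singleton_iff.2 rfl)
      htK := mem_zpowers _
      hs := hxxo
      hsH := mem_centralizer_singleton_iff.2 hzxc.symm
      hsK := fun h => (hKc _ h).elim (invol_ne_one hxxo) hxnz
      hH := by
        refine le_antisymm (sup_le (zpowers_le.2 (mem_centralizer_singleton_iff.2 rfl))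
          (zpowers_le.2 (mem_centralizer_singleton_iff.2 hzxc.symm))) fun c hc => ?_
        have hcz := mem_centralizer_singleton_iff.1 hc
        have hs1 : zz' ∈ zpowers zz' ⊔ zpowers xx' := mem_sup_left (mem_zpowers _)
        have hs2 : xx' ∈ zpowers zz' ⊔ zpowers xx' := mem_sup_right (mem_zpowers _)
        rcases hCX0 c c.2 (congrArg Subtype.val hcz) with e | e | e | e
        · rw [show c = 1 from Subtype.ext e]; exact one_mem _
        · rw [show c = zz' from Subtype.ext e]; exact hs1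
        · rw [show c = xx' from Subtype.ext e]; exact hs2
        · rw [show c = xx' * zz' from Subtype.ext e]; exact mul_mem hs2 hs1
      hCK := by
        refine le_antisymm inf_le_left fun c hc => ⟨hc, mem_centralizer_singleton_iff.2 ?_⟩
        rcases hKc c hc with rfl | rfl
        · rw [one_mul, mul_one]
        · exact hzxc
      hinv := fun c hc => by
        rcases hKc c hc with rfl | rfl
        · group
        · rw [invol_inv hzzo, ← hzxc, mul_inv_cancel_right]
      hTI := fun g hg => by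
        rw [eq_bot_iff]
        rintro c ⟨hc, d, hd, rfl⟩
        rw [mem_bot]
        rcases hKc d hd with rfl | rfl
        · exact map_one _
        · rcases hKc _ hc with e | e
          · exact e
          · exact absurd (mem_centralizer_singleton_iff.2 (mul_inv_eq_iff_eq_mul.1 e)) hg
      hconj := fun p q hp hq => by
        have key : ∀ p : ↥X0, orderOf p = 2 → IsConj zz' p := fun p hp => by
          obtain ⟨y, hy, e⟩ := hX0conj p p.2 (congrArg Subtype.val (invol_mul_self hp))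
            fun e => invol_ne_one hp (Subtype.ext e)
          exact isConj_iff.2 ⟨⟨y, hy⟩, Subtype.ext e⟩
        exact (key p hp).symm.trans (key q hq) }
  haveI : Fintype ↥X0 := Fintype.ofFinite _
  have hk2 : Nat.card ↥(zpowers zz') = 2 := by rw [Nat.card_zpowers, hzzo]
  -- the number of involutions
  have hcl := card_class_mul_card_centralizer zz'
  have hC4 : Nat.card ↥(centralizer ({zz'} : Set ↥X0)) = 4 := by
    rw [hsetup.card_H, hk2]
  rw [hC4] at hcl
  obtain ⟨k, hk⟩ : ∃ k, k = Nat.card {p // IsConj zz' p} := ⟨_, rfl⟩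
  rw [← hk] at hcl
  have hX0c : Nat.card ↥X0 = 4 * k := by omega
  have hk315 : k = 3 ∨ k = 15 := by
    rcases hsetup.card_cases_of_two hk2 with ⟨h, -⟩ | h <;> omega
  have hXc : Nat.card ↥X = 16 * k := by
    have hb : Function.Bijective (fun p : ↥W × ↥X0 => (p.1 : ↥X) * p.2) :=
      ⟨Subgroup.mul_injective_of_disjoint (disjoint_iff.2 hWX0), fun g => by
        obtain ⟨d, hd, y, hy, e⟩ := hdec g
        exact ⟨(⟨d, hd⟩, ⟨y, hy⟩), e⟩⟩
    rw [← Nat.card_eq_of_bijective _ hb, Nat.card_prod, hWc, hX0c]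
    omega
  have hzX0' : ∀ y (hy : y ∈ X), IsConj z y → (⟨y, hy⟩ : ↥X) ∈ X0 := by
    intro y hy hyc
    obtain ⟨m, hma, hmz⟩ := S.exists_cent_conj ha hyc (hmX.1 hy)
    have := hX0n.conj_mem z' hzX0 ⟨m, hmX.2 hma⟩
    rwa [show (⟨m, hmX.2 hma⟩ : ↥X) * z' * (⟨m, hmX.2 hma⟩ : ↥X)⁻¹ = ⟨y, hy⟩ from
      Subtype.ext hmz] at this
  refine ⟨W.map X.subtype, X0.map X.subtype, k, hk315, map_subtype_le _, map_subtype_le _, ?_,
    ⟨a', ⟨hac, haE⟩, rfl⟩, ?_, ?_, ?_, ?_, ?_, hXc, ?_, ?_, ?_, ?_⟩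
  · rw [card_map_of_injective X.subtype_injective, hWc]
  · rintro _ ⟨d, hd, rfl⟩
    exact congrArg Subtype.val (hEinv d hd.2)
  · rintro _ ⟨d, hd, rfl⟩ c hc
    exact congrArg Subtype.val (mem_center_iff.1 hd.1 ⟨c, hc⟩).symm
  · rw [← map_inf _ _ _ X.subtype_injective, hWX0, Subgroup.map_bot]
  · intro c hc
    obtain ⟨d, hd, y, hy, e⟩ := hdec ⟨c, hc⟩
    exact ⟨d, ⟨d, hd, rfl⟩, y, ⟨y, hy, rfl⟩, congrArg Subtype.val e⟩
  · rw [card_map_of_injective X.subtype_injective, hX0c]
  · exact fun y hy hyc => ⟨⟨y, hy⟩, hzX0' y hy hyc, rfl⟩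
  · rintro _ ⟨v, hv, rfl⟩ hvv hv1
    obtain ⟨y, -, e⟩ := hX0conj v hv (Subtype.ext hvv) fun e => hv1 (congrArg Subtype.val e)
    exact isConj_iff.2 ⟨(y : G), congrArg Subtype.val e⟩
  · rw [hk]
    refine Nat.card_eq_of_bijective (fun p => ⟨⟨⟨p.1, p.2.1⟩, hzX0' _ p.2.1 p.2.2⟩, ?_⟩) ⟨?_, ?_⟩
    · have hp : orderOf p.1 = 2 := (orderOf_eq_of_isConj p.2.2).trans S.hz
      obtain ⟨y, hy, e⟩ := hX0conj ⟨p.1, p.2.1⟩ (hzX0' _ p.2.1 p.2.2)
        (Subtype.ext (invol_mul_self hp)) fun e => invol_ne_one hp (congrArg Subtype.val e)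
      exact isConj_iff.2 ⟨⟨y, hy⟩, Subtype.ext e⟩
    · exact fun p q h => Subtype.ext (congrArg (fun t : {p // IsConj zz' p} => ((t.1 : ↥X) : G)) h)
    · rintro ⟨p, hp⟩
      obtain ⟨y, hy⟩ := isConj_iff.1 hp
      refine ⟨⟨((p : ↥X) : G), (p : ↥X).2, isConj_iff.2 ⟨((y : ↥X) : G), ?_⟩⟩, rfl⟩
      rw [← hy]
      rfl
  · rintro _ ⟨c, hc, rfl⟩ _ ⟨v, hv, rfl⟩ hvv hv1 hcv
    obtain ⟨y, hy, e⟩ := hX0conj v hv (Subtype.ext hvv) fun e => hv1 (congrArg Subtype.val e)
    have hcy : y⁻¹ * c * y ∈ E := by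
      refine mem_centralizer_singleton_iff.2 ?_
      have hcv' : c * v = v * c := Subtype.ext hcv
      calc y⁻¹ * c * y * z' = y⁻¹ * (c * (y * z' * y⁻¹)) * y := by group
        _ = y⁻¹ * ((y * z' * y⁻¹) * c) * y := by rw [e, hcv']
        _ = z' * (y⁻¹ * c * y) := by group
    have h := hEinv _ hcy
    rw [show y⁻¹ * c * y * (y⁻¹ * c * y) = y⁻¹ * (c * c) * y⁻¹⁻¹ by group, conj_eq_one_iff] at h
    exact congrArg Subtype.val h

end Data

end CfsgLib.InvChar.HJType
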