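import Cfsg.Agent.Lib.InvChar.HallJankoTypeOrder
import Cfsg.Agent.Lib.InvChar.HallJankoKlein

/-!
Groups of Hall-Janko type: elements of odd order in the centraliser of an outer involution, and
their centralisers.
-/

set_option autoImplicit false

namespace CfsgLib.InvChar.HJType

open CfsgLib.Invol Subgroup

universe u

variable {G : Type u} [Group G] {z : G} {Q : Subgroup G}

/-- The centraliser of the outer involution `a` as a product `W × X₀`. -/
structure Loc (z : G) (Q : Subgroup G) (a : G) (W X0 : Subgroup G) : Prop where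
  ha : Outer z Q a
  hWX : W ≤ centralizer ({a} : Set G)
  hX0X : X0 ≤ centralizer ({a} : Set G)
  hWc : Nat.card ↥W = 4
  haW : a ∈ W
  hW2 : ∀ d ∈ W, d * d = 1
  hWcen : ∀ d ∈ W, ∀ c ∈ centralizer ({a} : Set G), d * c = c * d
  hWX0 : W ⊓ X0 = ⊥
  hdec : ∀ c ∈ centralizer ({a} : Set G), ∃ d ∈ W, ∃ y ∈ X0, d * y = c
  hX0c : Nat.card ↥X0 = 60
  hXc : Nat.card ↥(centralizer ({a} : Set G)) = 240
  hzX0 : ∀ y ∈ centralizer ({a} : Set G), IsConj z y → y ∈ X0
  hX0z : ∀ v ∈ X0, v * v = 1 → v ≠ 1 → IsConj z v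
  hCsq : ∀ c ∈ X0, ∀ v ∈ X0, v * v = 1 → v ≠ 1 → c * v = v * c → c * c = 1

theorem Data.exists_loc [Finite G] (S : Data z Q) :
    ∃ (a : G) (W X0 : Subgroup G), Loc z Q a W X0 := by
  obtain ⟨a, ha, -⟩ := S.exists_outer
  obtain ⟨W, X0, k, -, h1, h2, h3, h4, h5, h6, h7, h8, h9, h10, h11, h12, -, h13⟩ := S.local_structure ha
  have hk := (S.order_eq).2 a ha
  rw [h10] at hk
  refine ⟨a, W, X0, ⟨ha, h1, h2, h3, h4, h5, h6, h7, h8, ?_, ?_, h11, h12, h13⟩⟩
  · omega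
  · omega

variable {a : G} {W X0 : Subgroup G}

namespace Loc

variable (S : Data z Q) (L : Loc z Q a W X0)
include S L

theorem zX0 [Finite G] : z ∈ X0 :=
  L.hzX0 z (mem_centralizer_singleton_iff.2 (S.commZ L.ha.1).symm) (IsConj.refl z)

theorem W_outer [Finite G] {w : G} (hw : w ∈ W) (hw1 : w ≠ 1) :
    orderOf w = 2 ∧ IsConj a w ∧ centralizer ({w} : Set G) = centralizer ({a} : Set G) := by
  have ho := invol_of_mul_self (L.hW2 w hw) hw1
  have hc : IsConj a w := by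
    refine (S.conj_cases L.ha ho).resolve_left fun h => hw1 ?_
    have : w ∈ W ⊓ X0 := ⟨hw, L.hzX0 w (L.hWX hw) h⟩
    rwa [L.hWX0, mem_bot] at this
  refine ⟨ho, hc, (eq_of_le_of_card_ge
    (fun c hcX => mem_centralizer_singleton_iff.2 (L.hWcen w hw c hcX).symm) ?_).symm⟩
  obtain ⟨g, hg⟩ := isConj_iff.1 hc
  rw [← hg]
  refine Nat.card_le_card_of_injective (fun c => ⟨g⁻¹ * c.1 * g, mem_centralizer_singleton_iff.2 ?_⟩)
    fun c d h => Subtype.ext (mul_left_cancel (mul_right_cancel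
      (congrArg (fun t : ↥(centralizer ({a} : Set G)) => (t : G)) h)))
  have := mem_centralizer_singleton_iff.1 c.2
  calc g⁻¹ * c.1 * g * a = g⁻¹ * (c.1 * (g * a * g⁻¹)) * g := by group
    _ = g⁻¹ * ((g * a * g⁻¹) * c.1) * g := by rw [this]
    _ = a * (g⁻¹ * c.1 * g) := by group

theorem not_isConj_W [Finite G] {w : G} (hw : w ∈ W) (hw1 : w ≠ 1) : ¬ IsConj z w := fun h =>
  S.not_isConj_outer L.ha (h.trans (L.W_outer S hw hw1).2.1.symm)

theorem dec_unique {d d' y y' : G} (hd : d ∈ W) (hd' : d' ∈ W) (hy : y ∈ X0) (hy' : y' ∈ X0)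
    (h : d * y = d' * y') : d = d' ∧ y = y' := by
  have := Subgroup.mul_injective_of_disjoint (disjoint_iff.2 L.hWX0)
    (a₁ := (⟨d, hd⟩, ⟨y, hy⟩)) (a₂ := (⟨d', hd'⟩, ⟨y', hy'⟩)) h
  exact ⟨congrArg (fun p : ↥W × ↥X0 => (p.1 : G)) this, congrArg (fun p : ↥W × ↥X0 => (p.2 : G)) this⟩

/-- `X₀` satisfies the Klein centraliser condition. -/
theorem X0_cent [Finite G] {v : G} (hv : v ∈ X0) (hvv : v * v = 1) (hv1 : v ≠ 1) :
    HJKlein.Cent (centralizer ({(⟨v, hv⟩ : ↥X0)} : Set ↥X0)) := by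
  classical
  have hcard : ∀ (u : G) (hu : u ∈ X0), u * u = 1 → u ≠ 1 →
      Nat.card ↥(centralizer ({(⟨u, hu⟩ : ↥X0)} : Set ↥X0)) = 4 := by
    intro u hu huu hu1
    obtain ⟨n, hna, hnz⟩ := S.exists_cent_conj L.ha (L.hX0z u hu huu hu1)
      (mem_centralizer_singleton_iff.1 (L.hX0X hu))
    have hn' : n * a * n⁻¹ = a := by rw [hna, mul_inv_cancel_right]
    have h16 : Nat.card {c : G // c * a = a * c ∧ c * u = u * c} = 16 := by
      rw [← (S.outer_class L.ha).1]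
      refine Nat.card_congr
        { toFun := fun c => ⟨n⁻¹ * c.1 * n, mem_centralizer_singleton_iff.2 ?_,
            mem_centralizer_singleton_iff.2 ?_⟩
          invFun := fun c => ⟨n * c.1 * n⁻¹, ?_, ?_⟩
          left_inv := fun c => Subtype.ext (by group)
          right_inv := fun c => Subtype.ext (by group) }
      · calc n⁻¹ * c.1 * n * z = n⁻¹ * (c.1 * (n * z * n⁻¹)) * n := by group
          _ = n⁻¹ * ((n * z * n⁻¹) * c.1) * n := by rw [hnz, c.2.2]
          _ = z * (n⁻¹ * c.1 * n) := by group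
      · calc n⁻¹ * c.1 * n * a = n⁻¹ * (c.1 * (n * a * n⁻¹)) * n := by group
          _ = n⁻¹ * ((n * a * n⁻¹) * c.1) * n := by rw [hn', c.2.1]
          _ = a * (n⁻¹ * c.1 * n) := by group
      · have := mem_centralizer_singleton_iff.1 (mem_inf.1 c.2).2
        calc n * c.1 * n⁻¹ * a = n * c.1 * n⁻¹ * (n * a * n⁻¹) := by rw [hn']
          _ = n * (c.1 * a) * n⁻¹ := by group
          _ = n * (a * c.1) * n⁻¹ := by rw [this]
          _ = (n * a * n⁻¹) * (n * c.1 * n⁻¹) := by group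
          _ = a * (n * c.1 * n⁻¹) := by rw [hn']
      · have := mem_centralizer_singleton_iff.1 (mem_inf.1 c.2).1
        calc n * c.1 * n⁻¹ * u = n * c.1 * n⁻¹ * (n * z * n⁻¹) := by rw [hnz]
          _ = n * (c.1 * z) * n⁻¹ := by group
          _ = n * (z * c.1) * n⁻¹ := by rw [this]
          _ = (n * z * n⁻¹) * (n * c.1 * n⁻¹) := by group
          _ = u * (n * c.1 * n⁻¹) := by rw [hnz]
    set C := centralizer ({(⟨u, hu⟩ : ↥X0)} : Set ↥X0) with hC
    have hb : Nat.card (↥W × ↥C) = Nat.card {c : G // c * a = a * c ∧ c * u = u * c} := by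
      refine Nat.card_eq_of_bijective
        (fun p => ⟨(p.1 : G) * ((p.2 : ↥X0) : G), ?_, ?_⟩) ⟨?_, ?_⟩
      · exact mem_centralizer_singleton_iff.1 (mul_mem (L.hWX p.1.2) (L.hX0X (p.2 : ↥X0).2))
      · have := congrArg Subtype.val (mem_centralizer_singleton_iff.1 p.2.2)
        change ((p.2 : ↥X0) : G) * u = u * (p.2 : ↥X0) at this
        rw [mul_assoc, this, ← mul_assoc, L.hWcen _ p.1.2 u (L.hX0X hu), mul_assoc]
      · intro p q h
        obtain ⟨h1, h2⟩ := L.dec_unique S p.1.2 q.1.2 (p.2 : ↥X0).2 (q.2 : ↥X0).2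
          (congrArg Subtype.val h)
        exact Prod.ext (Subtype.ext h1) (Subtype.ext (Subtype.ext h2))
      · rintro ⟨c, hca, hcu⟩
        obtain ⟨d, hd, y, hy, rfl⟩ := L.hdec c (mem_centralizer_singleton_iff.2 hca)
        refine ⟨(⟨d, hd⟩, ⟨⟨y, hy⟩, mem_centralizer_singleton_iff.2 (Subtype.ext ?_)⟩), rfl⟩
        show y * u = u * y
        rw [← mul_assoc u d y, ← L.hWcen d hd u (L.hX0X hu), mul_assoc, mul_assoc] at hcu
        exact mul_left_cancel hcu
    rw [Nat.card_prod, L.hWc, h16] at hb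
    omega
  have hsq : ∀ (u : G) (hu : u ∈ X0), u * u = 1 → u ≠ 1 → ∀ c ∈ centralizer ({(⟨u, hu⟩ : ↥X0)} : Set ↥X0),
      c * c = 1 := fun u hu huu hu1 c hc => Subtype.ext
    (L.hCsq c c.2 u hu huu hu1 (congrArg Subtype.val (mem_centralizer_singleton_iff.1 hc)))
  refine ⟨hcard v hv hvv hv1, hsq v hv hvv hv1, fun w hw hw1 c hcw => ?_⟩
  have hww := hsq v hv hvv hv1 w hw
  have hw1' : (w : G) ≠ 1 := fun e => hw1 (Subtype.ext e)
  have hle : centralizer ({(⟨v, hv⟩ : ↥X0)} : Set ↥X0) ≤ centralizer ({w} : Set ↥X0) := by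
    intro d hd
    refine mem_centralizer_singleton_iff.2 ?_
    have h3 := inv_eq_of_mul_eq_one_right (hsq v hv hvv hv1 _ (mul_mem hd hw))
    rw [_root_.mul_inv_rev, inv_eq_of_mul_eq_one_right hww,
      inv_eq_of_mul_eq_one_right (hsq v hv hvv hv1 d hd)] at h3
    exact h3.symm
  have := eq_of_le_of_card_ge hle (by
    rw [hcard v hv hvv hv1, hcard (w : G) w.2 (congrArg Subtype.val hww) hw1'])
  rw [this]
  exact mem_centralizer_singleton_iff.2 hcw

/-- The centraliser of an element of odd prime order of `X₀` contains `W`; its size is one of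
three values. -/
theorem cent_elem [Finite G] {y : G} {q : ℕ} (hq : q.Prime) (hq2 : q ≠ 2) (hyX0 : y ∈ X0)
    (hy : orderOf y = q) (hCy : ∀ c ∈ X0, c * y = y * c → c ∈ zpowers y)
    (hbig : 4 * q < Nat.card ↥(centralizer ({y} : Set G))) :
    ((Nat.card ↥(centralizer ({y} : Set G)) = 12 * q ∧
        ∀ c ∈ centralizer ({y} : Set G), ∀ w ∈ W, c * w * c⁻¹ ∈ W) ∨
      Nat.card ↥(centralizer ({y} : Set G)) = 60 * q) ∧
    (∀ u, u * y = y * u → orderOf u = 2 →
      ∃ m, m * y = y * m ∧ m * u * m⁻¹ ∈ W) ∧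
    ∃ n, n * y = y * n ∧ (∀ w ∈ W, n * w * n⁻¹ ∈ W) ∧ ∀ w ∈ W, w ≠ 1 → n * w * n⁻¹ ≠ w := by
  classical
  set M := centralizer ({y} : Set G) with hM
  have hyM : y ∈ M := mem_centralizer_singleton_iff.2 rfl
  have hWM : W ≤ M := fun w hw => mem_centralizer_singleton_iff.2 (L.hWcen w hw y (L.hX0X hyX0))
  set y' : ↥M := ⟨y, hyM⟩ with hy'
  set Y := zpowers y' with hY
  haveI hYn : Y.Normal := ⟨fun c hc g => by
    obtain ⟨i, rfl⟩ := mem_zpowers_iff.1 hc
    have hcy : Commute g y' := Subtype.ext (mem_centralizer_singleton_iff.1 g.2)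
    rw [(hcy.zpow_right i).eq, mul_inv_cancel_right]
    exact hc⟩
  let π := QuotientGroup.mk' Y
  have hπy : π y' = 1 := (QuotientGroup.eq_one_iff y').2 (mem_zpowers _)
  have hkerπ : ∀ c, π c = 1 → ∃ i : ℤ, (c : G) = y ^ i := by
    intro c hc
    obtain ⟨i, rfl⟩ := mem_zpowers_iff.1 ((QuotientGroup.eq_one_iff c).1 hc)
    exact ⟨i, rfl⟩
  -- an involution times a power of `y` squares to one only if the power is trivial
  have hpow : ∀ (w : G) (i : ℤ), w * w = 1 → w * y = y * w → (w * y ^ i) * (w * y ^ i) = 1 → y ^ i = 1 := by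
    intro w i hw hwy h
    have hc : w * y ^ i = y ^ i * w := ((show Commute w y from hwy).zpow_right i).eq
    rw [show w * y ^ i * (w * y ^ i) = w * (y ^ i * w) * y ^ i by group, ← hc,
      show w * (w * y ^ i) * y ^ i = (w * w) * (y ^ i * y ^ i) by group, hw, one_mul, ← pow_two] at h
    have h2 : orderOf (y ^ i) ∣ 2 := orderOf_dvd_of_pow_eq_one h
    have h3 : orderOf (y ^ i) ∣ q := orderOf_dvd_of_pow_eq_one (by
      rw [← hy, ← zpow_natCast, ← zpow_mul, mul_comm, zpow_mul, zpow_natCast, pow_orderOf_eq_one,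
        one_zpow])
    exact orderOf_eq_one_iff.1 (Nat.eq_one_of_dvd_coprimes
      ((Nat.coprime_primes Nat.prime_two hq).2 (Ne.symm hq2)) h2 h3)
  set Wb := (W.subgroupOf M).map π with hWb
  have hinj : ∀ w : ↥M, (w : G) ∈ W → π w = 1 → w = 1 := by
    intro w hw h
    obtain ⟨i, hi⟩ := hkerπ w h
    have hwy : (w : G) * y = y * w := mem_centralizer_singleton_iff.1 w.2
    have h1 : y ^ i = 1 := hpow w (-i) (L.hW2 _ hw) hwy (by
      rw [hi, ← zpow_add, add_neg_cancel, zpow_zero, one_mul]) |> fun h => by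
        rw [zpow_neg, inv_eq_one] at h; exact h
    exact Subtype.ext (hi.trans h1)
  have hWbc : Nat.card ↥Wb = 4 := by
    rw [← L.hWc]
    refine (Nat.card_eq_of_bijective (fun w : ↥W => (⟨π ⟨w, hWM w.2⟩, ⟨w, hWM w.2⟩, w.2, rfl⟩ : ↥Wb))
      ⟨?_, ?_⟩).symm
    · intro w w' h
      have h' : π ((⟨w, hWM w.2⟩ : ↥M)⁻¹ * ⟨w', hWM w'.2⟩) = 1 := by
        have he : π ⟨w, hWM w.2⟩ = π ⟨w', hWM w'.2⟩ := congrArg Subtype.val h
        rw [map_mul, map_inv, he, inv_mul_cancel]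
      have h'' := inv_mul_eq_one.1 (hinj _ (mul_mem (inv_mem w.2) w'.2) h')
      exact Subtype.ext (congrArg (fun t : ↥M => (t : G)) h'')
    · rintro ⟨_, c, hc, rfl⟩
      exact ⟨⟨c, hc⟩, rfl⟩
  have hcent : HJKlein.Cent Wb := by
    refine ⟨hWbc, ?_, ?_⟩
    · rintro _ ⟨w, hw, rfl⟩
      rw [← map_mul, show w * w = 1 from Subtype.ext (L.hW2 _ hw), map_one]
    · rintro _ ⟨w, hw, rfl⟩ hw1 cb
      obtain ⟨c, rfl⟩ := QuotientGroup.mk'_surjective Y cb
      intro hcw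
      have hwW : (w : G) ∈ W := hw
      have hw1' : (w : G) ≠ 1 := fun e => hw1 (by rw [show w = 1 from Subtype.ext e, map_one])
      have hwy : (w : G) * y = y * w := mem_centralizer_singleton_iff.1 w.2
      have hc1 : π (w⁻¹ * (c * w * c⁻¹)) = 1 := by
        rw [map_mul, map_mul, map_mul, map_inv, map_inv, hcw, mul_inv_cancel_right, inv_mul_cancel]
      obtain ⟨i, hi⟩ := hkerπ _ hc1
      change (w : G)⁻¹ * ((c : G) * w * (c : G)⁻¹) = y ^ i at hi
      have hcwc : (c : G) * w * (c : G)⁻¹ = w * y ^ i := by rw [← hi, mul_inv_cancel_left]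
      have hyi : y ^ i = 1 := hpow w i (L.hW2 _ hwW) hwy (by
        rw [← hcwc, show (c : G) * w * (c : G)⁻¹ * ((c : G) * w * (c : G)⁻¹) =
          c * ((w : G) * w) * (c : G)⁻¹ by group, L.hW2 _ hwW]
        group)
      rw [hyi, mul_one, mul_inv_eq_iff_eq_mul] at hcwc
      have hcX : (c : G) ∈ centralizer ({a} : Set G) := by
        rw [← (L.W_outer S hwW hw1').2.2]; exact mem_centralizer_singleton_iff.2 hcwc
      obtain ⟨d, hd, x0, hx0, hdx⟩ := L.hdec _ hcX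
      have hxy : x0 * y = y * x0 := by
        have h := mem_centralizer_singleton_iff.1 c.2
        rw [← hdx, ← mul_assoc y d x0, ← L.hWcen d hd y (L.hX0X hyX0), mul_assoc, mul_assoc] at h
        exact mul_left_cancel h
      obtain ⟨j, hj⟩ := mem_zpowers_iff.1 (hCy x0 hx0 hxy)
      refine ⟨⟨d, hWM hd⟩, hd, ?_⟩
      have e : c = ⟨d, hWM hd⟩ * y' ^ j := Subtype.ext (by
        show (c : G) = d * ((y' ^ j : ↥M) : G)
        rw [Subgroup.coe_zpow, ← hdx, ← hj])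
      rw [e, map_mul, map_zpow, hπy, one_zpow, mul_one]
  have hBc : Nat.card ↥M = Nat.card (↥M ⧸ Y) * q := by
    rw [card_eq_card_quotient_mul_card_subgroup Y, hY, Nat.card_zpowers,
      show orderOf y' = q from (orderOf_coe y').symm.trans hy]
  have hB4 : 4 < Nat.card (↥M ⧸ Y) := Nat.lt_of_mul_lt_mul_right (hBc ▸ hbig)
  have hlift : ∀ c : ↥M, ∀ u : ↥M, (u : G) * u = 1 → π (c * u * c⁻¹) ∈ Wb →
      (c : G) * u * (c : G)⁻¹ ∈ W := by
    intro c u hu2 h
    obtain ⟨w, hw, hwe⟩ := h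
    have h1 : π (w⁻¹ * (c * u * c⁻¹)) = 1 := by rw [map_mul, map_inv, hwe, inv_mul_cancel]
    obtain ⟨i, hi⟩ := hkerπ _ h1
    change (w : G)⁻¹ * ((c : G) * u * (c : G)⁻¹) = y ^ i at hi
    have hwW : (w : G) ∈ W := hw
    have hyi : y ^ i = 1 := hpow w i (L.hW2 _ hwW) (mem_centralizer_singleton_iff.1 w.2) (by
      rw [← hi, mul_inv_cancel_left, show (c : G) * u * (c : G)⁻¹ * ((c : G) * u * (c : G)⁻¹) =
          c * ((u : G) * u) * (c : G)⁻¹ by group, hu2]
      group)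
    rw [hyi, inv_mul_eq_one] at hi
    rwa [← hi]
  refine ⟨?_, ?_, ?_⟩
  · rcases hcent.cases hB4 with ⟨h12, hn⟩ | h60
    · refine Or.inl ⟨by rw [hBc, h12], fun c hc w hw => ?_⟩
      exact hlift ⟨c, hc⟩ ⟨w, hWM hw⟩ (L.hW2 w hw)
        (by rw [map_mul, map_mul, map_inv]; exact hn.conj_mem _ ⟨_, hw, rfl⟩ _)
    · exact Or.inr (by rw [hBc, h60])
  · intro u huy hu
    set u' : ↥M := ⟨u, mem_centralizer_singleton_iff.2 huy⟩ with hu'
    have hπu : orderOf (π u') = 2 := by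
      refine invol_of_mul_self (by rw [← map_mul, show u' * u' = 1 from Subtype.ext (invol_mul_self hu),
        map_one]) fun e => ?_
      obtain ⟨i, hi⟩ := hkerπ _ e
      change u = y ^ i at hi
      have h2 : orderOf u ∣ q := hi ▸ orderOf_dvd_of_pow_eq_one (by
        rw [← hy, ← zpow_natCast, ← zpow_mul, mul_comm, zpow_mul, zpow_natCast, pow_orderOf_eq_one,
          one_zpow])
      rw [hu] at h2
      exact hq2 ((Nat.prime_dvd_prime_iff_eq Nat.prime_two hq).1 h2).symm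
    obtain ⟨gb, hg⟩ := hcent.conj_mem hπu
    obtain ⟨g, rfl⟩ := QuotientGroup.mk'_surjective Y gb
    exact ⟨g, mem_centralizer_singleton_iff.1 g.2, hlift g u' (invol_mul_self hu)
      (by rw [map_mul, map_mul, map_inv]; exact hg)⟩
  · obtain ⟨nb, hnb, -, hnf⟩ := hcent.exists_cycle hB4
    obtain ⟨n, rfl⟩ := QuotientGroup.mk'_surjective Y nb
    have hnW : ∀ w ∈ W, (n : G) * w * (n : G)⁻¹ ∈ W := fun w hw =>
      hlift n ⟨w, hWM hw⟩ (L.hW2 w hw)
        (by rw [map_mul, map_mul, map_inv]; exact (mem_normalizer_iff.1 hnb _).1 ⟨_, hw, rfl⟩)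
    refine ⟨n, mem_centralizer_singleton_iff.1 n.2, hnW, fun w hw hw1 e => ?_⟩
    refine hnf (π ⟨w, hWM hw⟩) ⟨_, hw, rfl⟩ (fun h => hw1 (congrArg Subtype.val (hinj _ hw h))) ?_
    rw [← map_inv, ← map_mul, ← map_mul,
      show n * ⟨w, hWM hw⟩ * n⁻¹ = (⟨w, hWM hw⟩ : ↥M) from Subtype.ext e]

end Loc

end CfsgLib.InvChar.HJType
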