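import Cfsg.Agent.Lib.InvChar.HallJankoQ

/-!
Groups of Hall-Janko type: `H/Q` on the five pairs of non-central involutions of `Q`, and the
involutions of `H` outside `Q`.
-/

set_option autoImplicit false

namespace CfsgLib.InvChar.HJType

open CfsgLib.Invol Subgroup

universe u

variable {G : Type u} [Group G] {z : G} {Q : Subgroup G}

local notation "A5" => alternatingGroup (Fin 5)

namespace Pre

variable (S : Pre z Q)
include S

theorem exists_action [Finite G] :
    ∃ (x : Fin 5 → G) (r : G) (ψ : ↥(centralizer ({z} : Set G)) →* Equiv.Perm (Fin 5)),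
      r ∈ centralizer ({z} : Set G) ∧ (∀ i, NI z Q (x i)) ∧
      (∀ i j, x i = x j ∨ x i = x j * z → i = j) ∧
      (∀ y, NI z Q y → ∃ i, y = x i ∨ y = x i * z) ∧
      (∀ i, r * x i * r⁻¹ = x (i + 1)) ∧
      (∀ (h : ↥(centralizer ({z} : Set G))) i, (h : G) * x i * (h : G)⁻¹ = x (ψ h i) ∨ (h : G) * x i * (h : G)⁻¹ = x (ψ h i) * z) ∧
      (∀ h, Equiv.Perm.sign (ψ h) = 1) ∧
      (∀ h : ↥(centralizer ({z} : Set G)), ψ h = 1 → (h : G) ∈ Q) := by
  classical
  obtain ⟨r, hrH, hr5, h10, -, hfix⟩ := S.exists_five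
  obtain ⟨⟨x0, hx0⟩⟩ := (Nat.card_pos_iff.1 (by rw [h10]; norm_num)).1
  let x : Fin 5 → G := fun i => r ^ (i : ℕ) * x0 * (r ^ (i : ℕ))⁻¹
  have hx : ∀ i, NI z Q (x i) := fun i => S.ni_conj (pow_mem hrH _) hx0
  have hshift : ∀ i, r * x i * r⁻¹ = x (i + 1) := by
    intro i
    have e : r ^ ((i + 1 : Fin 5) : ℕ) = r * r ^ (i : ℕ) := by
      have h := pow_mod_orderOf r ((i : ℕ) + 1)
      rw [hr5] at h
      rw [Fin.val_add, ← pow_succ']
      exact h
    simp only [x, e]
    group
  have hinj : ∀ i j, x i = x j ∨ x i = x j * z → i = j := by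
    intro i j h
    by_contra hij
    obtain ⟨k, hk5, hk0, hk⟩ : ∃ k, k < 5 ∧ k ≠ 0 ∧
        (r ^ k * x0 * (r ^ k)⁻¹ = x0 ∨ r ^ k * x0 * (r ^ k)⁻¹ = x0 * z) := by
      refine ⟨((i : ℕ) + 5 - (j : ℕ)) % 5, Nat.mod_lt _ (by norm_num), ?_, ?_⟩
      · intro e
        apply hij
        apply Fin.ext
        omega
      · have e : r ^ (j : ℕ) * r ^ (((i : ℕ) + 5 - (j : ℕ)) % 5) = r ^ (i : ℕ) := by
          rw [← pow_add, ← pow_mod_orderOf, hr5, ← pow_mod_orderOf (n := (i : ℕ)), hr5]
          congr 1
          omega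
        have hd : r ^ (((i : ℕ) + 5 - (j : ℕ)) % 5) * x0 * (r ^ (((i : ℕ) + 5 - (j : ℕ)) % 5))⁻¹ =
            (r ^ (j : ℕ))⁻¹ * x i * r ^ (j : ℕ) := by
          simp only [x, ← e]
          group
        rcases h with h | h
        · left
          rw [hd, h]
          simp only [x]
          group
        · right
          rw [hd, h]
          simp only [x]
          have hz' := S.commZ (pow_mem hrH (j : ℕ))
          calc (r ^ (j : ℕ))⁻¹ * (r ^ (j : ℕ) * x0 * (r ^ (j : ℕ))⁻¹ * z) * r ^ (j : ℕ)
              = x0 * ((r ^ (j : ℕ))⁻¹ * (z * r ^ (j : ℕ))) := by group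
            _ = x0 * z := by rw [← hz', inv_mul_cancel_left]
    have h2 : r ^ (2 * k) * x0 * (r ^ (2 * k))⁻¹ = x0 := by
      rcases hk with hk | hk
      · rw [two_mul, pow_add, _root_.mul_inv_rev,
          show r ^ k * r ^ k * x0 * ((r ^ k)⁻¹ * (r ^ k)⁻¹) =
            r ^ k * (r ^ k * x0 * (r ^ k)⁻¹) * (r ^ k)⁻¹ by group, hk, hk]
      · rw [two_mul, pow_add, _root_.mul_inv_rev,
          show r ^ k * r ^ k * x0 * ((r ^ k)⁻¹ * (r ^ k)⁻¹) =
            r ^ k * (r ^ k * x0 * (r ^ k)⁻¹) * (r ^ k)⁻¹ by group, hk,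
          show r ^ k * (x0 * z) * (r ^ k)⁻¹ =
            r ^ k * x0 * (r ^ k)⁻¹ * (r ^ k * z * (r ^ k)⁻¹) by group,
          S.conjZ (pow_mem hrH k), hk, mul_assoc, S.zz, mul_one]
    obtain ⟨m, hm⟩ := exists_pow_eq_self_of_coprime (x := r) (n := 2 * k) (by
      rw [hr5]; interval_cases k <;> simp_all <;> decide)
    have hc : r ∈ centralizer ({x0} : Set G) :=
      hm ▸ pow_mem (mem_centralizer_singleton_iff.2 (mul_inv_eq_iff_eq_mul.1 h2)) m
    rcases hfix x0 hx0.1 (mul_inv_eq_iff_eq_mul.2 (mem_centralizer_singleton_iff.1 hc)) with e | e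
    · exact hx0.2.2.1 e
    · exact hx0.2.2.2 e
  have hall : ∀ y, NI z Q y → ∃ i, y = x i ∨ y = x i * z := by
    intro y hy
    let f : Fin 5 × Bool → {y : G // NI z Q y} := fun p =>
      if p.2 then ⟨x p.1 * z, S.ni_mul_z (hx p.1)⟩ else ⟨x p.1, hx p.1⟩
    have hf : Function.Injective f := by
      rintro ⟨i, a⟩ ⟨j, b⟩ h
      have h' := congrArg Subtype.val h
      cases a <;> cases b <;> simp only [f, Bool.false_eq_true, if_false, if_true] at h'
      · rw [hinj i j (Or.inl h')]
      · have := hinj i j (Or.inr h')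
        subst this
        exact absurd h'.symm S.mul_z_ne
      · have := hinj j i (Or.inr h'.symm)
        subst this
        exact absurd h' S.mul_z_ne
      · rw [hinj i j (Or.inl (mul_right_cancel h'))]
    obtain ⟨⟨i, b⟩, hp⟩ := (hf.bijective_of_nat_card_le (by simp [h10])).2 ⟨y, hy⟩
    have h' := congrArg Subtype.val hp
    refine ⟨i, ?_⟩
    cases b <;> simp only [f, Bool.false_eq_true, if_false, if_true] at h'
    · exact Or.inl h'.symm
    · exact Or.inr h'.symm
  have hidx : ∀ (h : ↥(centralizer ({z} : Set G))) i, ∃ j,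
      (h : G) * x i * (h : G)⁻¹ = x j ∨ (h : G) * x i * (h : G)⁻¹ = x j * z := fun h i =>
    hall _ (S.ni_conj h.2 (hx i))
  choose σ hσ using hidx
  have huniq : ∀ (h : ↥(centralizer ({z} : Set G))) i j,
      ((h : G) * x i * (h : G)⁻¹ = x j ∨ (h : G) * x i * (h : G)⁻¹ = x j * z) → σ h i = j := by
    intro h i j hj
    refine hinj _ _ ?_
    rcases hσ h i with e | e <;> rcases hj with e' | e'
    · exact Or.inl (e.symm.trans e')
    · exact Or.inr (e.symm.trans e')
    · refine Or.inr ?_
      rw [← e', e, mul_assoc, S.zz, mul_one]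
    · exact Or.inl (mul_right_cancel (e.symm.trans e'))
  have hone : ∀ i, σ 1 i = i := fun i => huniq 1 i i (Or.inl (by simp))
  have hmul : ∀ g h i, σ (g * h) i = σ g (σ h i) := by
    intro g h i
    refine huniq _ i _ ?_
    rw [Subgroup.coe_mul, show (g : G) * h * x i * ((g : G) * h)⁻¹ =
      g * ((h : G) * x i * (h : G)⁻¹) * (g : G)⁻¹ by group]
    rcases hσ h i with e | e <;> rw [e]
    · exact hσ g (σ h i)
    · rw [show (g : G) * (x (σ h i) * z) * (g : G)⁻¹ =
        g * x (σ h i) * (g : G)⁻¹ * (g * z * (g : G)⁻¹) by group, S.conjZ g.2]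
      rcases hσ g (σ h i) with e' | e' <;> rw [e']
      · exact Or.inr rfl
      · exact Or.inl (by rw [mul_assoc, S.zz, mul_one])
  let ψ : ↥(centralizer ({z} : Set G)) →* Equiv.Perm (Fin 5) := MonoidHom.mk'
    (fun h => ⟨σ h, σ h⁻¹, fun i => by rw [← hmul, inv_mul_cancel, hone],
      fun i => by rw [← hmul, mul_inv_cancel, hone]⟩) fun g h => Equiv.ext fun i => hmul g h i
  obtain ⟨π, hπ, hk⟩ := S.hquot
  have hQker : π.ker ≤ ψ.ker := by
    intro h hh
    rw [hk, mem_subgroupOf] at hh
    refine Equiv.ext fun i => huniq h i i ?_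
    rcases S.comm_Q hh (hx i).1 with e | e
    · exact Or.inl (mul_inv_eq_iff_eq_mul.2 e)
    · refine Or.inr (mul_inv_eq_iff_eq_mul.2 ?_)
      rw [e, mul_assoc, S.commZQ hh, ← mul_assoc]
  have hdich : ∀ N : Subgroup ↥(centralizer ({z} : Set G)), N.Normal → π.ker ≤ N →
      N = ⊤ ∨ N ≤ π.ker := by
    intro N hN hkN
    rcases Subgroup.Normal.eq_bot_or_eq_top (hN.map π hπ) with h | h
    · exact Or.inr ((map_eq_bot_iff N).1 h)
    · refine Or.inl ?_
      have := congrArg (comap π) h
      rwa [comap_map_eq, sup_eq_left.2 hkN, comap_top] at this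
  refine ⟨x, r, ψ, hrH, hx, hinj, hall, hshift, hσ, ?_, ?_⟩
  · intro h
    let f := Equiv.Perm.sign.comp ψ
    rcases hdich f.ker inferInstance (hQker.trans fun g hg => by
      show Equiv.Perm.sign (ψ g) = 1
      rw [hg, map_one]) with e | e
    · exact (e ▸ mem_top h : h ∈ f.ker)
    · exfalso
      have h1 := card_eq_card_quotient_mul_card_subgroup f.ker
      rw [Nat.card_congr (QuotientGroup.quotientKerEquivRange f).toEquiv, S.card_H] at h1
      have h2 : Nat.card ↥f.ker ≤ 32 := by
        refine (Subgroup.card_le_of_le e).trans (le_of_eq ?_)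
        rw [hk, Nat.card_congr (subgroupOfEquivOfLe S.hQH).toEquiv, S.hQc]
      have h3 : Nat.card ↥f.range ≤ 2 := by
        refine (card_le_card_group f.range).trans (le_of_eq ?_)
        rw [Nat.card_eq_fintype_card]
        rfl
      have h4 := Nat.mul_le_mul h3 h2
      omega
  · intro h hh
    rcases hdich ψ.ker inferInstance hQker with e | e
    · exfalso
      have hr1 : ψ ⟨r, hrH⟩ = 1 := MonoidHom.mem_ker.1 (e ▸ mem_top _)
      have := huniq ⟨r, hrH⟩ 0 1 (Or.inl (hshift 0))
      rw [show σ ⟨r, hrH⟩ 0 = 0 from DFunLike.congr_fun hr1 0] at this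
      exact absurd this (by decide)
    · have := e (MonoidHom.mem_ker.2 hh)
      rwa [hk, mem_subgroupOf] at this

set_option maxHeartbeats 1000000 in
theorem outer [Finite G] {a : G} (ha : a ∈ centralizer ({z} : Set G)) (ha2 : a * a = 1)
    (haQ : a ∉ Q) :
    ∃ x, NI z Q x ∧ a * x = x * a ∧
      (∀ q ∈ Q, a * q = q * a → q = 1 ∨ q = z ∨ q = x ∨ q = x * z) ∧
      Nat.card {q : G // q ∈ Q ∧ a * q * a = q⁻¹} ≤ 8 := by
  classical
  obtain ⟨x, r, ψ, hrH, hx, hinj, -, hshift, hψ, hsgn, hker⟩ := S.exists_action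
  have hai : a⁻¹ = a := inv_eq_of_mul_eq_one_right ha2
  set s : Equiv.Perm (Fin 5) := ψ ⟨a, ha⟩ with hs
  have hs2 : s * s = 1 := by
    rw [hs, ← map_mul, show (⟨a, ha⟩ : ↥(centralizer ({z} : Set G))) * ⟨a, ha⟩ = 1 from
      Subtype.ext ha2, map_one]
  obtain ⟨i, k, m, hi, hk, hki, hkj, hm, -⟩ :=
    even_invol_shape s (hsgn _) hs2 fun e => haQ (hker _ e)
  have hsi : s (s i) = i := by
    rw [← Equiv.Perm.mul_apply, hs2, Equiv.Perm.one_apply]
  have hsk : s (s k) = k := by
    rw [← Equiv.Perm.mul_apply, hs2, Equiv.Perm.one_apply]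
  have hconj : ∀ n, a * x n * a = x (s n) ∨ a * x n * a = x (s n) * z := fun n => by
    have := hψ ⟨a, ha⟩ n
    change a * x n * a⁻¹ = _ ∨ a * x n * a⁻¹ = _ at this
    rwa [hai] at this
  have hQn : (center ↥Q).Normal := inferInstance
  letI : CommGroup (↥Q ⧸ center ↥Q) :=
    { (inferInstance : Group (↥Q ⧸ center ↥Q)) with
      mul_comm := fun p q => QuotientGroup.induction_on p fun p => QuotientGroup.induction_on q fun q => by
        rw [← QuotientGroup.mk_mul, ← QuotientGroup.mk_mul, QuotientGroup.eq, S.center_iff]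
        show ((p : G) * q)⁻¹ * ((q : G) * p) = 1 ∨ ((p : G) * q)⁻¹ * ((q : G) * p) = z
        rcases S.comm_Q q.2 p.2 with e | e
        · exact Or.inl (by rw [e, inv_mul_cancel])
        · exact Or.inr (by rw [e, inv_mul_cancel_left]) }
  let mk : ↥Q →* ↥Q ⧸ center ↥Q := QuotientGroup.mk' _
  have hmk : ∀ p q : ↥Q, mk p = mk q ↔ (q : G) = p ∨ (q : G) = p * z := by
    intro p q
    show (p : ↥Q ⧸ center ↥Q) = q ↔ _
    rw [QuotientGroup.eq, S.center_iff]
    show (p : G)⁻¹ * q = 1 ∨ (p : G)⁻¹ * q = z ↔ _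
    rw [inv_mul_eq_one, inv_mul_eq_iff_eq_mul]
    exact or_congr_left eq_comm
  let w : Fin 5 → ↥Q := fun n => ⟨x n, (hx n).1⟩
  let v : Fin 5 → ↥Q ⧸ center ↥Q := fun n => mk (w n)
  have hvinj : Function.Injective v := fun n n' h => (hinj n' n ((hmk _ _).1 h)).symm
  have hv1 : ∀ n, v n ≠ 1 := fun n h => by
    rw [← map_one mk, eq_comm, hmk] at h
    change x n = 1 ∨ x n = 1 * z at h
    rw [one_mul] at h
    exact h.elim (hx n).2.2.1 (hx n).2.2.2
  have hv2 : ∀ n, v n * v n = 1 := fun n => by
    show mk (w n) * mk (w n) = 1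
    rw [← map_mul, show w n * w n = 1 from Subtype.ext (hx n).2.1, map_one]
  let conjOn : (h : G) → h ∈ centralizer ({z} : Set G) → ↥Q →* ↥Q := fun h hh => MonoidHom.mk'
    (fun q => ⟨h * q * h⁻¹, S.hnorm h hh q q.2⟩) fun p q => Subtype.ext (by
      show h * ((p : G) * q) * h⁻¹ = h * p * h⁻¹ * (h * q * h⁻¹)
      group)
  have hcz : ∀ h hh, center ↥Q ≤ (center ↥Q).comap (conjOn h hh) := by
    intro h hh c hc
    rw [mem_comap, S.center_iff]
    show h * (c : G) * h⁻¹ = 1 ∨ h * (c : G) * h⁻¹ = z
    rcases (S.center_iff c).1 hc with e | e <;> rw [e]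
    · exact Or.inl (by group)
    · exact Or.inr (S.conjZ hh)
  let R : ↥Q ⧸ center ↥Q →* ↥Q ⧸ center ↥Q := QuotientGroup.map _ _ (conjOn r hrH) (hcz r hrH)
  let A : ↥Q ⧸ center ↥Q →* ↥Q ⧸ center ↥Q := QuotientGroup.map _ _ (conjOn a ha) (hcz a ha)
  have hR : ∀ n, R (v n) = v (n + 1) := fun n => by
    show mk (conjOn r hrH (w n)) = mk (w (n + 1))
    rw [show conjOn r hrH (w n) = w (n + 1) from Subtype.ext (hshift n)]
  have hA : ∀ q : ↥Q, A (mk q) = mk (conjOn a ha q) := fun q => rfl
  have hAv : ∀ n, A (v n) = v (s n) := fun n => by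
    rw [hA, eq_comm, hmk]
    show a * x n * a⁻¹ = x (s n) ∨ a * x n * a⁻¹ = x (s n) * z
    rw [hai]
    exact hconj n
  -- four of the `v n` never multiply to one
  have hprod : ∀ b : Fin 5, (∏ n, v n) ≠ v b := by
    intro b hb
    have h1 : R (∏ n, v n) = ∏ n, v n := by
      rw [map_prod]
      simp only [hR]
      exact Equiv.prod_comp (Equiv.addRight (1 : Fin 5)) v
    rw [hb, hR] at h1
    exact (show ∀ c : Fin 5, c + 1 ≠ c by decide) b (hvinj h1)
  have hmi : m ≠ i := fun e => hi (by rw [← e, hm])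
  have hmk' : m ≠ k := fun e => hk (by rw [← e, hm])
  set j := s i with hj
  set l := s k with hl
  have hij : i ≠ j := fun e => hi e.symm
  have hkl : k ≠ l := fun e => hk e.symm
  have hli : l ≠ i := fun e => hkj (by rw [← hsk, e])
  have hlj : l ≠ j := fun e => hki (s.injective e)
  have hmj : m ≠ j := fun e => hij (s.injective (by rw [← e, hm, e]))
  have hml : m ≠ l := fun e => hkl (s.injective (by rw [← e, hm, e]))
  have hnm : v i * v j * (v k * v l) ≠ 1 := by
    intro h
    refine hprod m ?_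
    have huniv : (Finset.univ : Finset (Fin 5)) = {i, j, k, l, m} := by
      symm
      apply Finset.eq_univ_of_card
      rw [Fintype.card_fin, Finset.card_insert_of_notMem, Finset.card_insert_of_notMem,
        Finset.card_insert_of_notMem, Finset.card_insert_of_notMem, Finset.card_singleton] <;>
        simp [hij, hkl, hki.symm, hkj.symm, hli.symm, hlj.symm, hmi.symm, hmk'.symm, hmj.symm,
          hml.symm]
    rw [huniv, Finset.prod_insert, Finset.prod_insert, Finset.prod_insert, Finset.prod_insert,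
      Finset.prod_singleton, ← mul_assoc (v i), ← mul_assoc (v k), ← mul_assoc, h, one_mul] <;>
      simp [hij, hkl, hki.symm, hkj.symm, hli.symm, hlj.symm, hmi.symm, hmk'.symm, hmj.symm,
        hml.symm]
  -- the map `v ↦ v * A v`
  let D : ↥Q ⧸ center ↥Q →* ↥Q ⧸ center ↥Q := MonoidHom.mk' (fun p => p * A p) fun p q => by
    rw [map_mul, mul_mul_mul_comm]
  have hAA : ∀ p, A (A p) = p := fun p => QuotientGroup.induction_on p fun q => by
    show A (A (mk q)) = mk q
    rw [hA, hA]
    congr 1
    refine Subtype.ext ?_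
    show a * (a * (q : G) * a⁻¹) * a⁻¹ = q
    rw [show a * (a * (q : G) * a⁻¹) * a⁻¹ = a * a * q * (a * a)⁻¹ by group, ha2]
    group
  have hsq : ∀ p : ↥Q ⧸ center ↥Q, p * p = 1 := fun p => QuotientGroup.induction_on p fun q => by
    show mk q * mk q = 1
    rw [← map_mul, ← map_one mk, eq_comm, hmk]
    show (q : G) * q = 1 ∨ (q : G) * q = 1 * z
    rw [one_mul]
    exact S.sq_Q q.2
  have hran : D.range ≤ D.ker := by
    rintro _ ⟨p, rfl⟩
    show p * A p * A (p * A p) = 1
    rw [map_mul, hAA, mul_comm (A p) p]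
    exact hsq _
  have h16 : Nat.card (↥Q ⧸ center ↥Q) = 16 := by
    have h := card_eq_card_quotient_mul_card_subgroup (center ↥Q)
    rw [S.hQc, S.hes.2] at h
    omega
  have hp12 : v i * v j ≠ v k * v l := fun h => hnm (by rw [h]; exact hsq _)
  have hp1 : v i * v j ≠ 1 := fun h => hij (hvinj (by
    rw [← mul_one (v i), ← hv2 j, ← mul_assoc, h, one_mul]))
  have hp2 : v k * v l ≠ 1 := fun h => hkl (hvinj (by
    rw [← mul_one (v k), ← hv2 l, ← mul_assoc, h, one_mul]))
  let P4 : Finset (↥Q ⧸ center ↥Q) := {1, v i * v j, v k * v l, v i * v j * (v k * v l)}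
  have hP4 : P4.card = 4 := by
    have a1 : v i * v j ≠ v i * v j * (v k * v l) := fun h => hp2 (mul_eq_left.1 h.symm)
    have a2 : v k * v l ≠ v i * v j * (v k * v l) := fun h => hp1 (mul_eq_right.1 h.symm)
    simp only [P4]
    rw [Finset.card_insert_of_notMem, Finset.card_insert_of_notMem, Finset.card_pair a2]
    · simp [hp12, a1]
    · simp [hp1.symm, hp2.symm, hnm.symm]
  have hD : ∀ n, D (v n) = v n * v (s n) := fun n => by
    show v n * A (v n) = _
    rw [hAv]
  have hP4r : ∀ p ∈ P4, p ∈ D.range := by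
    have r1 : v i * v j ∈ D.range := ⟨v i, hD i⟩
    have r2 : v k * v l ∈ D.range := ⟨v k, hD k⟩
    intro p hp
    simp only [P4, Finset.mem_insert, Finset.mem_singleton] at hp
    rcases hp with rfl | rfl | rfl | rfl
    exacts [one_mem _, r1, r2, mul_mem r1 r2]
  haveI : Fintype G := Fintype.ofFinite G
  haveI : Fintype (↥Q ⧸ center ↥Q) := Fintype.ofFinite _
  have hr4 : 4 ≤ Nat.card ↥D.range := by
    rw [← hP4, Nat.card_eq_fintype_card, Fintype.card_subtype]
    exact Finset.card_le_card fun p hp => Finset.mem_filter.2 ⟨Finset.mem_univ _, hP4r p hp⟩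
  have hk4 : Nat.card ↥D.ker ≤ 4 := by
    have h := card_eq_card_quotient_mul_card_subgroup D.ker
    rw [Nat.card_congr (QuotientGroup.quotientKerEquivRange D).toEquiv, h16] at h
    have := Nat.mul_le_mul_right (Nat.card ↥D.ker) hr4
    omega
  have hkerP : ∀ p ∈ D.ker, p ∈ P4 := by
    intro p hp
    have h1 : P4 ⊆ Finset.univ.filter fun q => q ∈ D.ker := fun q hq =>
      Finset.mem_filter.2 ⟨Finset.mem_univ _, hran (hP4r q hq)⟩
    rw [Finset.eq_of_subset_of_card_le h1 (by
      rw [← Fintype.card_subtype, ← Nat.card_eq_fintype_card, hP4]; exact hk4)]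
    exact Finset.mem_filter.2 ⟨Finset.mem_univ _, hp⟩
  -- products of two of the involutions are inverted by `a`
  have hinv : ∀ n, n ≠ s n → a * (x n * x (s n)) * a = x n * x (s n) * z := by
    intro n hn
    have hns : s (s n) = n := by rw [← Equiv.Perm.mul_apply, hs2, Equiv.Perm.one_apply]
    have hnc : x n * x (s n) ≠ x (s n) * x n := by
      intro hc
      obtain ⟨r', -, -, -, hp, -⟩ := S.exists_five
      exact hn (hinj _ _ (hp _ _ (hx n) (hx (s n)) hc)).symm
    have hswap : a * (x n * x (s n)) * a = x (s n) * x n := by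
      have haa : a * (x n * x (s n)) * a = a * x n * a * (a * x (s n) * a) := by
        calc a * (x n * x (s n)) * a = a * x n * (a * a) * x (s n) * a := by rw [ha2]; group
          _ = _ := by group
      have hback : ∀ (y t : G), a * y * a = t → a * t * a = y := fun y t h => by
        rw [← h, show a * (a * y * a) * a = a * a * y * (a * a) by group, ha2]; group
      have hza : a * z * a = z := by rw [S.commZ ha, mul_assoc, ha2, mul_one]
      rw [haa]
      rcases hconj n with e | e
      · rw [e, hback _ _ e]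
      · have : a * x (s n) * a = x n * z := by
          have h := hback _ _ e
          calc a * x (s n) * a = a * (x (s n) * z * z) * a := by rw [mul_assoc (x (s n)), S.zz, mul_one]
            _ = a * (x (s n) * z) * (a * a) * z * a := by rw [ha2]; group
            _ = a * (x (s n) * z) * a * (a * z * a) := by group
            _ = x n * z := by rw [h, hza]
        rw [e, this]
        calc x (s n) * z * (x n * z) = x (s n) * (z * x n) * z := by group
          _ = x (s n) * x n * (z * z) := by rw [← S.commZQ (hx n).1]; group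
          _ = _ := by rw [S.zz, mul_one]
    rw [hswap]
    exact ((S.comm_Q (hx (s n)).1 (hx n).1).resolve_left fun e => hnc e.symm)
  have hsqn : ∀ n, n ≠ s n → x n * x (s n) * (x n * x (s n)) ≠ 1 := by
    intro n hn hc
    have h2 := hinv n hn
    obtain ⟨r', -, -, -, hp, -⟩ := S.exists_five
    refine hn (hinj _ _ (hp _ _ (hx n) (hx (s n)) ?_)).symm
    have : (x n * x (s n))⁻¹ = x n * x (s n) := inv_eq_of_mul_eq_one_right hc
    rw [_root_.mul_inv_rev, invol_inv (hx n).order, invol_inv (hx (s n)).order] at this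
    exact this.symm
  -- the fixed pair
  have hvm : v m = v i * v j * (v k * v l) := by
    have hmker : v m ∈ D.ker := by
      rw [MonoidHom.mem_ker, hD, hm]
      exact hv2 m
    have := hkerP _ hmker
    simp only [P4, Finset.mem_insert, Finset.mem_singleton] at this
    have hne : ∀ n, n ≠ s n → v m ≠ v n * v (s n) := by
      intro n hn e
      change mk (w m) = mk (w n) * mk (w (s n)) at e
      rw [← map_mul, hmk] at e
      change x n * x (s n) = x m ∨ x n * x (s n) = x m * z at e
      refine hsqn n hn ?_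
      rcases e with e | e <;> rw [e]
      · exact (hx m).2.1
      · exact (S.ni_mul_z (hx m)).2.1
    rcases this with h | h | h | h
    · exact absurd h (hv1 m)
    · exact absurd h (hne i hij)
    · exact absurd h (hne k hkl)
    · exact h
  have hxm : a * x m = x m * a := by
    have e : x m = x i * x j * (x k * x l) ∨ x m = x i * x j * (x k * x l) * z := by
      change mk (w m) = mk (w i) * mk (w j) * (mk (w k) * mk (w l)) at hvm
      rw [← map_mul, ← map_mul, ← map_mul, eq_comm, hmk] at hvm
      exact hvm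
    have hzk : z * (x k * x l) = x k * x l * z := (S.commZQ (mul_mem (hx k).1 (hx l).1)).symm
    have hI : a * (x i * x j) * a = x i * x j * z := hinv i hij
    have hK : a * (x k * x l) * a = x k * x l * z := hinv k hkl
    have hw : a * (x i * x j * (x k * x l)) * a = x i * x j * (x k * x l) := by
      calc a * (x i * x j * (x k * x l)) * a
          = a * (x i * x j) * (a * a) * (x k * x l) * a := by rw [ha2]; group
        _ = (a * (x i * x j) * a) * (a * (x k * x l) * a) := by group
        _ = x i * x j * (z * (x k * x l)) * z := by rw [hI, hK]; group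
        _ = x i * x j * (x k * x l) * (z * z) := by rw [hzk]; group
        _ = _ := by rw [S.zz, mul_one]
    have h : a * x m * a = x m := by
      rcases e with e | e <;> rw [e]
      · exact hw
      · calc a * (x i * x j * (x k * x l) * z) * a
            = a * (x i * x j * (x k * x l)) * (z * a) := by group
          _ = a * (x i * x j * (x k * x l)) * a * z := by rw [← S.commZ ha]; group
          _ = _ := by rw [hw]
    calc a * x m = a * x m * (a * a) := by rw [ha2, mul_one]
      _ = a * x m * a * a := by group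
      _ = x m * a := by rw [h]
  -- the preimage of the kernel
  let P8 : Subgroup ↥Q := D.ker.comap mk
  have hP8 : Nat.card ↥P8 ≤ 8 := by
    have h1 := P8.card_mul_index
    rw [show P8.index = D.ker.index from index_comap_of_surjective _ (QuotientGroup.mk'_surjective _),
      S.hQc] at h1
    have h2 := D.ker.card_mul_index
    rw [h16] at h2
    have h3 : 0 < D.ker.index := Nat.pos_of_ne_zero index_ne_zero_of_finite
    nlinarith
  refine ⟨x m, hx m, hxm, ?_, ?_⟩
  · intro q hq hqa
    let C : Subgroup ↥Q := (centralizer ({a} : Set G)).subgroupOf Q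
    have hCle : C ≤ P8 := fun p hp => by
      rw [mem_subgroupOf, mem_centralizer_singleton_iff] at hp
      show mk p * A (mk p) = 1
      rw [hA, show conjOn a ha p = p from Subtype.ext (mul_inv_eq_iff_eq_mul.2 hp.symm)]
      exact hsq _
    have hnot : w i * w j ∈ P8 ∧ w i * w j ∉ C := by
      refine ⟨?_, fun h => ?_⟩
      · show mk (w i * w j) ∈ D.ker
        rw [map_mul]
        exact hran ⟨v i, hD i⟩
      · rw [mem_subgroupOf, mem_centralizer_singleton_iff] at h
        change x i * x j * a = a * (x i * x j) at h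
        have := hinv i hij
        rw [← h, mul_assoc, ha2, mul_one] at this
        exact S.mul_z_ne this.symm
    have hC4 : Nat.card ↥C ≤ 4 := by
      have hd := card_dvd_of_le hCle
      have hlt : Nat.card ↥C < Nat.card ↥P8 := lt_of_not_ge fun h => hnot.2 (by
        rw [eq_of_le_of_card_ge hCle h]; exact hnot.1)
      obtain ⟨c, hc⟩ := hd
      have hc2 : 2 ≤ c := by
        rcases c with _ | _ | c
        · rw [mul_zero] at hc; omega
        · rw [zero_add, mul_one] at hc; omega
        · omega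
      nlinarith [Nat.mul_le_mul_left (Nat.card ↥C) hc2]
    have hzC : (⟨z, S.hzQ⟩ : ↥Q) ∈ C := by
      rw [mem_subgroupOf, mem_centralizer_singleton_iff]
      exact (S.commZ ha).symm
    have hmC : w m ∈ C := by
      rw [mem_subgroupOf, mem_centralizer_singleton_iff]
      exact hxm.symm
    have hsub : ({1, ⟨z, S.hzQ⟩, w m, w m * ⟨z, S.hzQ⟩} : Finset ↥Q) =
        Finset.univ.filter fun p => p ∈ C := by
      refine Finset.eq_of_subset_of_card_le ?_ ?_
      · intro p hp
        simp only [Finset.mem_insert, Finset.mem_singleton] at hp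
        refine Finset.mem_filter.2 ⟨Finset.mem_univ _, ?_⟩
        rcases hp with rfl | rfl | rfl | rfl
        exacts [one_mem _, hzC, hmC, mul_mem hmC hzC]
      · rw [← Fintype.card_subtype, ← Nat.card_eq_fintype_card, Finset.card_insert_of_notMem,
          Finset.card_insert_of_notMem, Finset.card_pair]
        · exact hC4
        · exact fun e => S.mul_z_ne (congrArg Subtype.val e).symm
        · simp only [Finset.mem_insert, Finset.mem_singleton, not_or]
          exact ⟨fun e => (hx m).2.2.2 (congrArg Subtype.val e).symm,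
            fun e => (hx m).2.2.1 (mul_eq_right.1 (congrArg Subtype.val e).symm)⟩
        · simp only [Finset.mem_insert, Finset.mem_singleton, not_or]
          exact ⟨fun e => S.zne (congrArg Subtype.val e).symm,
            fun e => (hx m).2.2.1 (congrArg Subtype.val e).symm,
            fun e => (S.ni_mul_z (hx m)).2.2.1 (congrArg Subtype.val e).symm⟩
    have hqC : (⟨q, hq⟩ : ↥Q) ∈ Finset.univ.filter fun p => p ∈ C := by
      refine Finset.mem_filter.2 ⟨Finset.mem_univ _, ?_⟩
      rw [mem_subgroupOf, mem_centralizer_singleton_iff]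
      exact hqa.symm
    rw [← hsub] at hqC
    simp only [Finset.mem_insert, Finset.mem_singleton, Subtype.ext_iff] at hqC
    exact hqC
  · refine le_trans ?_ hP8
    refine Nat.card_le_card_of_injective
      (fun q => (⟨⟨q.1, q.2.1⟩, ?_⟩ : ↥P8)) fun p q h => Subtype.ext
        (congrArg (fun t : ↥P8 => ((t : ↥Q) : G)) h)
    show mk ⟨q.1, q.2.1⟩ * A (mk ⟨q.1, q.2.1⟩) = 1
    rw [hA, show conjOn a ha ⟨q.1, q.2.1⟩ = (⟨q.1, q.2.1⟩ : ↥Q)⁻¹ from
      Subtype.ext (by show a * q.1 * a⁻¹ = q.1⁻¹; rw [hai]; exact q.2.2), map_inv, mul_inv_cancel]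

end Pre

end CfsgLib.InvChar.HJType
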