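import Cfsg.Agent.Lib.InvChar.HallJankoCount
import Cfsg.Agent.Lib.Invol.Basic

/-!
Groups of Hall-Janko type: the action of the centraliser `H` of the central involution `z` on the
extraspecial group `Q` of order 32.
-/

set_option autoImplicit false

namespace CfsgLib.InvChar.HJType

open CfsgLib.Invol Subgroup

local notation "A5" => alternatingGroup (Fin 5)

theorem a5_invol_cent : ∀ s : A5, s * s = 1 → s ≠ 1 →
    ((Finset.univ : Finset A5).filter fun t => t * s = s * t).card = 4 := by decide +kernel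

theorem even_invol_shape : ∀ s : Equiv.Perm (Fin 5), Equiv.Perm.sign s = 1 → s * s = 1 → s ≠ 1 →
    ∃ i k m : Fin 5, s i ≠ i ∧ s k ≠ k ∧ k ≠ i ∧ k ≠ s i ∧ s m = m ∧ ∀ n, s n = n → n = m := by
  decide +kernel

universe u

variable {G : Type u} [Group G]

/-- The hypotheses on the centraliser of the involution alone. -/
structure Pre (z : G) (Q : Subgroup G) : Prop where
  hz : orderOf z = 2
  hQH : Q ≤ centralizer ({z} : Set G)
  hnorm : ∀ h ∈ centralizer ({z} : Set G), ∀ q ∈ Q, h * q * h⁻¹ ∈ Q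
  hzQ : z ∈ Q
  hes : Cfsg.IsExtraspecial 2 ↥Q
  hQc : Nat.card ↥Q = 32
  hC : centralizer (Q : Set G) ≤ Q
  hquot : ∃ π : ↥(centralizer ({z} : Set G)) →* A5,
    Function.Surjective π ∧ π.ker = Q.subgroupOf (centralizer ({z} : Set G))

/-- The hypotheses for a group of Hall-Janko type. -/
structure Data (z : G) (Q : Subgroup G) : Prop extends Pre z Q where
  hfus : ∃ g : G, g * z * g⁻¹ ∈ Q ∧ g * z * g⁻¹ ≠ z
  hcl : ∃ x y : G, orderOf x = 2 ∧ orderOf y = 2 ∧ ¬ IsConj x y

/-- A non-central involution of `Q`. -/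
def NI (z : G) (Q : Subgroup G) (x : G) : Prop := x ∈ Q ∧ x * x = 1 ∧ x ≠ 1 ∧ x ≠ z

variable {z : G} {Q : Subgroup G}

theorem NI.order {x : G} (h : NI z Q x) : orderOf x = 2 := invol_of_mul_self h.2.1 h.2.2.1

namespace Pre

variable (S : Pre z Q)
include S

theorem zz : z * z = 1 := invol_mul_self S.hz

theorem zInv : z⁻¹ = z := invol_inv S.hz

theorem zne : z ≠ 1 := invol_ne_one S.hz

theorem zH : z ∈ centralizer ({z} : Set G) := mem_centralizer_singleton_iff.2 rfl

theorem commZ {h : G} (hh : h ∈ centralizer ({z} : Set G)) : h * z = z * h :=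
  mem_centralizer_singleton_iff.1 hh

theorem commZQ {q : G} (hq : q ∈ Q) : q * z = z * q := S.commZ (S.hQH hq)

theorem conjZ {h : G} (hh : h ∈ centralizer ({z} : Set G)) : h * z * h⁻¹ = z := by
  rw [S.commZ hh, mul_inv_cancel_right]

theorem mul_z_ne {x : G} : x * z ≠ x := fun e => S.zne (mul_eq_left.1 e)

theorem card_H [Finite G] : Nat.card ↥(centralizer ({z} : Set G)) = 1920 := by
  obtain ⟨π, hπ, hk⟩ := S.hquot
  have h := card_eq_card_quotient_mul_card_subgroup π.ker
  rw [Nat.card_congr (QuotientGroup.quotientKerEquivOfSurjective π hπ).toEquiv,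
    nat_card_alternatingGroup, Nat.card_fin, hk,
    Nat.card_congr (subgroupOfEquivOfLe S.hQH).toEquiv, S.hQc] at h
  simpa [Nat.factorial] using h

theorem center_iff [Finite G] (a : ↥Q) : a ∈ center ↥Q ↔ (a : G) = 1 ∨ (a : G) = z := by
  have hzc : (⟨z, S.hzQ⟩ : ↥Q) ∈ center ↥Q :=
    mem_center_iff.2 fun b => Subtype.ext (S.commZQ b.2)
  constructor
  · intro ha
    by_cases h1 : a = 1
    · exact Or.inl (by rw [h1]; rfl)
    · exact Or.inr (congrArg Subtype.val (CfsgLib.Transfer.es_two_central_eq S.hes ha hzc h1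
        fun e => S.zne (congrArg Subtype.val e)))
  · rintro (h | h)
    · rw [show a = 1 from Subtype.ext h]; exact one_mem _
    · rw [show a = ⟨z, S.hzQ⟩ from Subtype.ext h]; exact hzc

theorem cent_Q [Finite G] {q : G} (hq : q ∈ Q) (h : ∀ p ∈ Q, p * q = q * p) : q = 1 ∨ q = z :=
  (S.center_iff ⟨q, hq⟩).1 (mem_center_iff.2 fun p => Subtype.ext (h p p.2))

theorem sq_Q [Finite G] {q : G} (hq : q ∈ Q) : q * q = 1 ∨ q * q = z := by
  have h := (S.center_iff _).1 (CfsgLib.Transfer.es_two_sq_mem S.hes ⟨q, hq⟩)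
  rwa [pow_two] at h

theorem comm_Q [Finite G] {p q : G} (hp : p ∈ Q) (hq : q ∈ Q) :
    p * q = q * p ∨ p * q = q * p * z := by
  have hc : (⟨p, hp⟩ : ↥Q)⁻¹ * ⟨q, hq⟩⁻¹ * ⟨p, hp⟩ * ⟨q, hq⟩ ∈ center ↥Q := by
    rw [← S.hes.1.2.2]
    have := Subgroup.commutator_mem_commutator (H₁ := (⊤ : Subgroup ↥Q)) (H₂ := ⊤)
      (mem_top (⟨p, hp⟩ : ↥Q)⁻¹) (mem_top (⟨q, hq⟩ : ↥Q)⁻¹)
    rw [commutatorElement_def, inv_inv, inv_inv] at this
    exact this
  rcases (S.center_iff _).1 hc with h | h <;>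
    change p⁻¹ * q⁻¹ * p * q = _ at h
  · exact Or.inl (by
      calc p * q = q * p * (p⁻¹ * q⁻¹ * p * q) := by group
        _ = q * p := by rw [h, mul_one])
  · exact Or.inr (by
      calc p * q = q * p * (p⁻¹ * q⁻¹ * p * q) := by group
        _ = q * p * z := by rw [h])

theorem ni_conj {h x : G} (hh : h ∈ centralizer ({z} : Set G)) (hx : NI z Q x) :
    NI z Q (h * x * h⁻¹) := by
  refine ⟨S.hnorm h hh x hx.1, ?_, fun e => hx.2.2.1 (conj_eq_one_iff.1 e), fun e => hx.2.2.2 ?_⟩
  · rw [show h * x * h⁻¹ * (h * x * h⁻¹) = h * (x * x) * h⁻¹ by group, hx.2.1]; group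
  · rw [← S.conjZ hh] at e
    exact mul_left_cancel (mul_right_cancel e)

theorem ni_mul_z {x : G} (hx : NI z Q x) : NI z Q (x * z) := by
  have hc := S.commZQ hx.1
  refine ⟨mul_mem hx.1 S.hzQ, ?_, fun e => hx.2.2.2 ?_, fun e => hx.2.2.1 (mul_eq_right.1 e)⟩
  · calc x * z * (x * z) = x * (z * x) * z := by group
      _ = (x * x) * (z * z) := by rw [← hc]; group
      _ = 1 := by rw [hx.2.1, S.zz, one_mul]
  · rw [eq_inv_of_mul_eq_one_left e, S.zInv]

/-- An element of order five of `H` and its action. -/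
theorem exists_five [Finite G] : ∃ r ∈ centralizer ({z} : Set G), orderOf r = 5 ∧
    Nat.card {x : G // NI z Q x} = 10 ∧
    (∀ x y : G, NI z Q x → NI z Q y → x * y = y * x → y = x ∨ y = x * z) ∧
    (∀ q ∈ Q, r * q * r⁻¹ = q → q = 1 ∨ q = z) := by
  classical
  obtain ⟨r', hr'⟩ := exists_prime_orderOf_dvd_card' (G := ↥(centralizer ({z} : Set G))) (p := 5)
    (hp := ⟨by norm_num⟩) (by rw [S.card_H]; norm_num)
  obtain ⟨r, hrH⟩ := r'
  rw [← orderOf_coe] at hr'
  change orderOf r = 5 at hr'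
  have hr5 : r ^ 5 = 1 := hr' ▸ pow_orderOf_eq_one r
  let ρ : MulAut ↥Q :=
    { toFun := fun q => ⟨r * q * r⁻¹, S.hnorm r hrH q q.2⟩
      invFun := fun q => ⟨r⁻¹ * q * r, by
        simpa using S.hnorm r⁻¹ (inv_mem hrH) q q.2⟩
      left_inv := fun q => Subtype.ext (by
        show r⁻¹ * (r * (q : G) * r⁻¹) * r = q
        group)
      right_inv := fun q => Subtype.ext (by
        show r * (r⁻¹ * (q : G) * r) * r⁻¹ = q
        group)
      map_mul' := fun p q => Subtype.ext (by
        show r * ((p : G) * q) * r⁻¹ = r * p * r⁻¹ * (r * q * r⁻¹)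
        group) }
  have hρ : ∀ q : ↥Q, ((ρ q : ↥Q) : G) = r * q * r⁻¹ := fun _ => rfl
  have hρ5 : ρ ^ 5 = 1 := by
    refine MulEquiv.ext fun q => Subtype.ext ?_
    simp only [pow_succ, pow_zero, one_mul, MulAut.mul_apply, MulAut.one_apply, hρ]
    calc r * (r * (r * (r * (r * (q : G) * r⁻¹) * r⁻¹) * r⁻¹) * r⁻¹) * r⁻¹
        = r ^ 5 * q * (r ^ 5)⁻¹ := by simp [pow_succ, mul_assoc]
      _ = q := by rw [hr5, one_mul, inv_one, mul_one]
  have hρ1 : ρ ≠ 1 := fun h => by
    have hrQ : r ∈ Q := S.hC (mem_centralizer_iff.2 fun q hq => by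
      have := congrArg Subtype.val (DFunLike.congr_fun h ⟨q, hq⟩)
      rw [hρ, MulAut.one_apply] at this
      exact (mul_inv_eq_iff_eq_mul.1 this).symm)
    have := Q.orderOf_dvd_natCard hrQ
    rw [hr', S.hQc] at this
    norm_num at this
  obtain ⟨hN, hcom⟩ := CfsgLib.InvChar.HJ.extraspecial_five S.hes S.hQc ρ hρ5 hρ1
  refine ⟨r, hrH, hr', ?_, ?_, ?_⟩
  · haveI : Fintype G := Fintype.ofFinite G
    have h1 : Nat.card {x : ↥Q // x ^ 2 = 1} =
        (Finset.univ.filter fun x : G => x ∈ Q ∧ x * x = 1).card := by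
      rw [← Fintype.card_subtype, ← Nat.card_eq_fintype_card]
      exact Nat.card_congr
        { toFun := fun a => ⟨a.1, a.1.2, by
            have := congrArg Subtype.val a.2; rwa [pow_two] at this⟩
          invFun := fun a => ⟨⟨a.1, a.2.1⟩, by rw [pow_two]; exact Subtype.ext a.2.2⟩
          left_inv := fun _ => rfl
          right_inv := fun _ => rfl }
    have h2 : (Finset.univ.filter fun x : G => x ∈ Q ∧ x * x = 1) =
        insert 1 (insert z (Finset.univ.filter fun x : G => NI z Q x)) := by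
      ext x
      simp only [Finset.mem_insert, Finset.mem_filter, Finset.mem_univ, true_and]
      constructor
      · intro h
        by_cases e1 : x = 1
        · exact Or.inl e1
        · by_cases e2 : x = z
          · exact Or.inr (Or.inl e2)
          · exact Or.inr (Or.inr ⟨h.1, h.2, e1, e2⟩)
      · rintro (rfl | rfl | h)
        · exact ⟨one_mem _, one_mul 1⟩
        · exact ⟨S.hzQ, S.zz⟩
        · exact ⟨h.1, h.2.1⟩
    rw [hN, h2, Finset.card_insert_of_notMem, Finset.card_insert_of_notMem, ← Fintype.card_subtype,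
      ← Nat.card_eq_fintype_card] at h1
    · omega
    · exact fun h => (Finset.mem_filter.1 h).2.2.2.2 rfl
    · intro h
      rcases Finset.mem_insert.1 h with h | h
      · exact S.zne h.symm
      · exact (Finset.mem_filter.1 h).2.2.2.1 rfl
  · intro x y hx hy hxy
    have nc : ∀ a : G, (ha : NI z Q a) → (⟨a, ha.1⟩ : ↥Q) ∉ center ↥Q := fun a ha hc =>
      ((S.center_iff _).1 hc).elim ha.2.2.1 ha.2.2.2
    have h := (S.center_iff _).1 (hcom ⟨x, hx.1⟩ ⟨y, hy.1⟩
      (by rw [pow_two]; exact Subtype.ext hx.2.1) (by rw [pow_two]; exact Subtype.ext hy.2.1)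
      (nc x hx) (nc y hy) (Subtype.ext hxy))
    change x⁻¹ * y = 1 ∨ x⁻¹ * y = z at h
    rcases h with h | h
    · exact Or.inl (inv_mul_eq_one.1 h).symm
    · exact Or.inr (by rw [← h, mul_inv_cancel_left])
  · intro q hq hqr
    by_contra hne
    push Not at hne
    -- the fixed points of `ρ` are central
    have hmod : 32 ≡ Nat.card {p : ↥Q // ρ p = p} [MOD 5] := by
      haveI : Fintype ↥Q := Fintype.ofFinite _
      haveI : Fact (Nat.Prime 5) := ⟨by norm_num⟩
      let f : Function.End ↥Q := fun p => ρ p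
      have hf : f ^ 5 ^ 1 = 1 := funext fun p => by
        have := DFunLike.congr_fun hρ5 p
        show ρ (ρ (ρ (ρ (ρ p)))) = p
        simpa [pow_succ, MulAut.mul_apply] using this
      have h1 := Equiv.Perm.card_fixedPoints_modEq hf
      rw [← S.hQc, Nat.card_eq_fintype_card, Nat.card_eq_fintype_card]
      refine h1.trans (congrArg (· % 5) (Fintype.card_congr (Equiv.subtypeEquivRight fun p => ?_)))
      rfl
    let F : Subgroup ↥Q :=
      { carrier := {p | ρ p = p}
        one_mem' := map_one ρ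
        mul_mem' := fun {a b} (ha : ρ a = a) (hb : ρ b = b) =>
          show ρ (a * b) = a * b by rw [map_mul, ha, hb]
        inv_mem' := fun {a} (ha : ρ a = a) => show ρ a⁻¹ = a⁻¹ by rw [map_inv, ha] }
    have hd : Nat.card ↥F ∣ 2 ^ 5 := by
      have := card_subgroup_dvd_card F
      rw [S.hQc] at this
      simpa using this
    obtain ⟨i, hi, hFc⟩ := (Nat.dvd_prime_pow Nat.prime_two).1 hd
    have hF3 : 3 ≤ Nat.card ↥F := by
      haveI : Fintype G := Fintype.ofFinite G
      have hsub : ({1, z, q} : Finset G) ⊆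
          Finset.univ.filter fun x : G => ∃ hx : x ∈ Q, ρ ⟨x, hx⟩ = ⟨x, hx⟩ := by
        intro x hx
        simp only [Finset.mem_insert, Finset.mem_singleton] at hx
        refine Finset.mem_filter.2 ⟨Finset.mem_univ _, ?_⟩
        rcases hx with rfl | rfl | rfl
        · exact ⟨one_mem _, Subtype.ext (by rw [hρ]; simp)⟩
        · exact ⟨S.hzQ, Subtype.ext (by rw [hρ]; exact S.conjZ hrH)⟩
        · exact ⟨hq, Subtype.ext (by rw [hρ]; exact hqr)⟩
      have hc := Finset.card_le_card hsub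
      rw [Finset.card_insert_of_notMem (by simp [S.zne.symm, hne.1.symm]),
        Finset.card_pair hne.2.symm, ← Fintype.card_subtype, ← Nat.card_eq_fintype_card] at hc
      refine hc.trans (le_of_eq (Nat.card_congr
        { toFun := fun a => ⟨⟨a.1, a.2.1⟩, a.2.2⟩
          invFun := fun a => ⟨a.1.1, a.1.2, a.2⟩
          left_inv := fun _ => rfl
          right_inv := fun _ => rfl }))
    have hmod' : 32 ≡ Nat.card ↥F [MOD 5] := hmod
    rw [hFc] at hmod' hF3
    have hne5 : i ≠ 5 := fun e => hρ1 (MulEquiv.ext fun p => by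
      have : F = ⊤ := eq_top_of_card_eq F (by rw [hFc, e, S.hQc]; rfl)
      have hp : p ∈ F := this ▸ mem_top p
      exact hp)
    unfold Nat.ModEq at hmod'
    interval_cases i <;> omega

end Pre

end CfsgLib.InvChar.HJType
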