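import Cfsg.Agent.Lib.InvChar.HallJankoFrame
import Cfsg.Agent.Lib.InvChar.IcoJ2

/-!
# A group of Hall-Janko type is the Hall-Janko group
-/

set_option autoImplicit false
set_option linter.unusedSimpArgs false

namespace CfsgLib.InvChar.HJType

open CfsgLib.Invol Subgroup CfsgLib.InvChar.Coset

universe u

variable {G : Type u} [Group G] {z : G} {Q : Subgroup G}

namespace Data

variable (S : Data z Q)
include S

/-- Six elements satisfying the relators, the first of them not trivial. -/
theorem exists_rels [Finite G] :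
    ∃ F : ℕ → G, (∀ r ∈ SporJ2N.rels, wprod F r = 1) ∧ F 0 ≠ 1 := by
  classical
  obtain ⟨p, f, hp, hne, hprod, hf5, hzf, h3⟩ := S.exists_five_orbit
  set u := z * f with hu
  set F : ℕ → G := fun n => if h : n < 5 then p ⟨n, h⟩ else u with hF
  refine ⟨F, ?_, (hp 0).2.2.1⟩
  have e0 : F 0 = p 0 := rfl
  have e1 : F 1 = p 1 := rfl
  have e2 : F 2 = p 2 := rfl
  have e3 : F 3 = p 3 := rfl
  have e4 : F 4 = p 4 := rfl
  have e5 : F 5 = u := rfl
  have hzp : ∀ i t, z * (p i * t) = p i * (z * t) := fun i t => by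
    rw [← mul_assoc, ← S.commZQ (hp i).1, mul_assoc]
  have hzp1 : ∀ i, z * p i = p i * z := fun i => (S.commZQ (hp i).1).symm
  have hpp : ∀ i t, p i * (p i * t) = t := fun i t => by rw [← mul_assoc, (hp i).2.1, one_mul]
  have hz2 : ∀ t, z * (z * t) = t := fun t => by rw [← mul_assoc, S.zz, one_mul]
  have hpair : ∀ i j, i ≠ j → ∀ t, p i * (p j * (p i * (p j * t))) = z * t := by
    intro i j hij t
    have h := (S.comm_Q (hp i).1 (hp j).1).resolve_left (hne i j hij)
    rw [← mul_assoc (p i), h]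
    simp only [mul_assoc, hzp, hpp]
  have hu2 : u * u = 1 := by
    have h : z * f * z = f⁻¹ := by rw [← hzf, S.zInv]
    rw [hu, ← mul_assoc, h, inv_mul_cancel]
  have hu2' : ∀ t, u * (u * t) = t := fun t => by rw [← mul_assoc, hu2, one_mul]
  have hzu : ∀ t, z * (u * t) = f * t := fun t => by
    rw [hu, ← mul_assoc, ← mul_assoc, S.zz, one_mul]
  have hzu1 : z * u = f := by rw [hu, ← mul_assoc, S.zz, one_mul]
  have hf5' : f * (f * (f * (f * f))) = 1 := by rw [← hf5]; simp [pow_succ, mul_assoc]
  have h3' : ∀ i, p i * (f * (p i * (f * (p i * f)))) = 1 := fun i => by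
    rw [← h3 i]; simp [pow_succ, mul_assoc]
  have hprod' : p 0 * (p 1 * (p 2 * (p 3 * p 4))) = 1 := by
    simpa [mul_assoc] using hprod
  have hsand : ∀ t, p 0 * (p 4 * (p 0 * t)) = p 4 * (z * t) := fun t => by
    rw [← hpp 4 t, hpair 0 4 (by decide), hpp, hzp]
  intro r hr
  simp only [SporJ2N.rels, List.mem_cons, List.not_mem_nil, or_false] at hr
  rcases hr with h | h | h | h | h | h | h | h | h | h | h | h | h | h | h | h | h | h | h | h | h | h | h <;>
    subst h <;>
    simp only [wprod, List.map_cons, List.map_nil, List.prod_cons, List.prod_nil, e0, e1, e2, e3, e4, e5] <;>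
    first
      | simpa [(hp 0).2.1] using (hp _).2.1
      | simpa using hu2
      | simpa [mul_assoc] using hprod'
      | simp [mul_assoc, hpair 1 3 (by decide), hpair 1 4 (by decide), hpair 2 3 (by decide),
          hpair 2 4 (by decide), hpair 3 4 (by decide), hpair 0 4 (by decide), hpair 4 0 (by decide),
          hzp, hzp1, hpp, hzu, hzu1, hz2, S.zz, (hp 0).2.1, (hp 1).2.1, (hp 2).2.1, (hp 3).2.1, (hp 4).2.1,
          hf5', h3', hsand]

end Data

end CfsgLib.InvChar.HJType

namespace CfsgLib.InvChar.HJType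

universe u

/-- **A group of Hall-Janko type is isomorphic to the Hall-Janko group.** -/
theorem Data.iso_J2 {G : Type u} [Group G] [Finite G] {z : G} {Q : Subgroup G} (S : Data z Q) :
    Cfsg.Spor.IsoJ2 G := by
  obtain ⟨F, hF, hF0⟩ := S.exists_rels
  obtain ⟨e⟩ := SporJ2N.equiv_of_rels F hF hF0 S.order_eq.1
  exact ⟨e.trans Ico.equivP.symm⟩

end CfsgLib.InvChar.HJType
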