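import Cfsg.Agent.Lib.InvChar.HallJankoFive

/-!
Groups of Hall-Janko type: the Sylow subgroups for the prime five.
-/

set_option autoImplicit false

namespace CfsgLib.InvChar.HJType

open CfsgLib.Invol Subgroup

universe u

variable {G : Type u} [Group G] {z : G} {Q : Subgroup G} {a f v k f' : G} {W X0 A : Subgroup G}

namespace Five

variable (F : Five z Q a W X0 f v k A)
include F

/-- An element of order five of `A` is its own centraliser in `A` up to powers. -/
theorem cent_A_five [Finite G] (hfA : f' ∈ A) (hf' : orderOf f' = 5) {c : G} (hc : c ∈ A)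
    (hcf : c * f' = f' * c) : c ∈ zpowers f' := by
  have h5 := (F.hAcent.five F.hA (y := ⟨f', hfA⟩) (by rw [← orderOf_coe]; exact hf')).1
  have hle : zpowers (⟨f', hfA⟩ : ↥A) ≤ centralizer ({(⟨f', hfA⟩ : ↥A)} : Set ↥A) :=
    zpowers_le.2 (mem_centralizer_singleton_iff.2 rfl)
  have he := eq_of_le_of_card_ge hle (by
    rw [h5, Nat.card_zpowers, ← orderOf_coe]
    exact le_of_eq hf'.symm)
  have : (⟨c, hc⟩ : ↥A) ∈ zpowers (⟨f', hfA⟩ : ↥A) := by
    rw [he]; exact mem_centralizer_singleton_iff.2 (Subtype.ext hcf)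
  obtain ⟨i, hi⟩ := mem_zpowers_iff.1 this
  exact mem_zpowers_iff.2 ⟨i, by simpa using congrArg Subtype.val hi⟩

theorem commute_f {c : G} (hc : c ∈ A) : Commute c f :=
  mem_centralizer_singleton_iff.1 (F.hAf hc)

theorem mem_P0 [Finite G] (hfA : f' ∈ A) (hf' : orderOf f' = 5) {c : G}
    (hc : c ∈ centralizer ({f} : Set G) ⊓ centralizer ({f'} : Set G)) :
    ∃ i j : ℤ, c = f ^ i * f' ^ j := by
  obtain ⟨hc1, hc2⟩ := mem_inf.1 hc
  obtain ⟨i, α, hα, rfl⟩ := F.hAdec c hc1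
  have hcf := mem_centralizer_singleton_iff.1 hc2
  have hαf : α * f' = f' * α := by
    have hif : f ^ i * f' = f' * f ^ i := ((F.commute_f hfA).zpow_right i).eq.symm
    rw [← mul_assoc f' (f ^ i) α, ← hif, mul_assoc, mul_assoc] at hcf
    exact mul_left_cancel hcf
  obtain ⟨j, rfl⟩ := mem_zpowers_iff.1 (F.cent_A_five hfA hf' hα hαf)
  exact ⟨i, j, rfl⟩

theorem pow_five_P0 [Finite G] (hfA : f' ∈ A) (hf' : orderOf f' = 5) {c : G}
    (hc : c ∈ centralizer ({f} : Set G) ⊓ centralizer ({f'} : Set G)) : c ^ 5 = 1 := by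
  obtain ⟨i, j, rfl⟩ := F.mem_P0 hfA hf' hc
  have hcomm : Commute (f ^ i) (f' ^ j) := ((F.commute_f hfA).symm.zpow_left i).zpow_right j
  have h1 : (f ^ i) ^ 5 = 1 := by
    rw [← zpow_natCast, ← zpow_mul, mul_comm, zpow_mul, zpow_natCast, ← F.hf, pow_orderOf_eq_one,
      one_zpow]
  have h2 : (f' ^ j) ^ 5 = 1 := by
    rw [← zpow_natCast, ← zpow_mul, mul_comm, zpow_mul, zpow_natCast, ← hf', pow_orderOf_eq_one,
      one_zpow]
  rw [hcomm.mul_pow, h1, h2, one_mul]

theorem comm_P0 [Finite G] (hfA : f' ∈ A) (hf' : orderOf f' = 5) {c d : G}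
    (hc : c ∈ centralizer ({f} : Set G) ⊓ centralizer ({f'} : Set G))
    (hd : d ∈ centralizer ({f} : Set G) ⊓ centralizer ({f'} : Set G)) : c * d = d * c := by
  obtain ⟨i, j, rfl⟩ := F.mem_P0 hfA hf' hc
  obtain ⟨hd1, hd2⟩ := mem_inf.1 hd
  have h1 : Commute d f := mem_centralizer_singleton_iff.1 hd1
  have h2 : Commute d f' := mem_centralizer_singleton_iff.1 hd2
  exact ((h1.zpow_right i).mul_right (h2.zpow_right j)).eq.symm

theorem card_P0 [Finite G] (hfA : f' ∈ A) (hf' : orderOf f' = 5) :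
    Nat.card ↥(centralizer ({f} : Set G) ⊓ centralizer ({f'} : Set G) : Subgroup G) = 25 := by
  have hff : Commute f' f := F.commute_f hfA
  have key : Function.Bijective (fun p : ↥(zpowers f) × ↥(zpowers f') =>
      (⟨(p.1 : G) * p.2, mul_mem
        (zpowers_le.2 (mem_inf.2 ⟨mem_centralizer_singleton_iff.2 rfl,
          mem_centralizer_singleton_iff.2 hff.symm⟩) p.1.2)
        (zpowers_le.2 (mem_inf.2 ⟨mem_centralizer_singleton_iff.2 hff,
          mem_centralizer_singleton_iff.2 rfl⟩) p.2.2)⟩ :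
        ↥(centralizer ({f} : Set G) ⊓ centralizer ({f'} : Set G) : Subgroup G))) := by
    refine ⟨fun p q h => Subgroup.mul_injective_of_disjoint (disjoint_iff.2 ?_) (congrArg Subtype.val h), ?_⟩
    · rw [eq_bot_iff]
      rintro c ⟨hc1, hc2⟩
      exact mem_bot.2 (F.hAint c ((zpowers_le.2 hfA) hc2) hc1)
    · rintro ⟨c, hc⟩
      obtain ⟨i, j, rfl⟩ := F.mem_P0 hfA hf' hc
      exact ⟨(⟨f ^ i, zpow_mem (mem_zpowers f) i⟩, ⟨f' ^ j, zpow_mem (mem_zpowers f') j⟩), rfl⟩
  rw [← Nat.card_eq_of_bijective _ key, Nat.card_prod, Nat.card_zpowers, Nat.card_zpowers, F.hf, hf']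

/-- The centraliser of an element of order five of `A`. -/
theorem card_cent_fprime [Finite G] (S : Data z Q) (hfA : f' ∈ A) (hf' : orderOf f' = 5) :
    Nat.card ↥(centralizer ({f'} : Set G)) = 50 := by
  classical
  haveI : Fact (Nat.Prime 2) := ⟨Nat.prime_two⟩
  haveI : Fact (Nat.Prime 5) := ⟨by norm_num⟩
  set M := centralizer ({f'} : Set G) with hM
  have hvM : v ∈ M := mem_centralizer_singleton_iff.2 (F.hvA f' hfA)
  have hfM : f ∈ M := mem_centralizer_singleton_iff.2 (F.commute_f hfA).symm.eq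
  have hf'M : f' ∈ M := mem_centralizer_singleton_iff.2 rfl
  have hvv : v * v = 1 := invol_mul_self F.hv
  set v' : ↥M := ⟨v, hvM⟩ with hv'def
  have hv'2 : orderOf v' = 2 := by rw [← orderOf_coe]; exact F.hv
  -- `v` is conjugate to `z`
  obtain ⟨g, hg⟩ := isConj_iff.1 (F.L.hX0z v F.hvX hvv (invol_ne_one F.hv))
  have h10 : Nat.card ↥(centralizer ({v'} : Set ↥M)) = 10 := by
    have hy : g⁻¹ * f' * g ∈ centralizer ({z} : Set G) := by
      refine mem_centralizer_singleton_iff.2 ?_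
      calc g⁻¹ * f' * g * z = g⁻¹ * (f' * (g * z * g⁻¹)) * g := by group
        _ = g⁻¹ * ((g * z * g⁻¹) * f') * g := by rw [hg, F.hvA f' hfA]
        _ = z * (g⁻¹ * f' * g) := by group
    have hyo : orderOf (g⁻¹ * f' * g) = 5 := by
      have e := orderOf_conj_eq g⁻¹ f'
      rw [inv_inv] at e
      rw [e, hf']
    rw [← S.cent_five_H hy hyo]
    refine Nat.card_congr
      { toFun := fun c => ⟨g⁻¹ * (c : ↥M) * g, mem_inf.2 ⟨?_, ?_⟩⟩
        invFun := fun c => ⟨⟨g * c * g⁻¹, ?_⟩, ?_⟩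
        left_inv := fun c => Subtype.ext (Subtype.ext (by show g * (g⁻¹ * ((c : ↥M) : G) * g) * g⁻¹ = _; group))
        right_inv := fun c => Subtype.ext (by show g⁻¹ * (g * (c : G) * g⁻¹) * g = _; group) }
    · have h : ((c : ↥M) : G) * v = v * (c : ↥M) :=
        congrArg Subtype.val (mem_centralizer_singleton_iff.1 c.2)
      refine mem_centralizer_singleton_iff.2 ?_
      calc g⁻¹ * ((c : ↥M) : G) * g * z = g⁻¹ * (((c : ↥M) : G) * (g * z * g⁻¹)) * g := by group
        _ = g⁻¹ * ((g * z * g⁻¹) * ((c : ↥M) : G)) * g := by rw [hg, h]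
        _ = z * (g⁻¹ * ((c : ↥M) : G) * g) := by group
    · refine mem_centralizer_singleton_iff.2 ?_
      calc g⁻¹ * ((c : ↥M) : G) * g * (g⁻¹ * f' * g) = g⁻¹ * (((c : ↥M) : G) * f') * g := by group
        _ = g⁻¹ * (f' * ((c : ↥M) : G)) * g := by rw [mem_centralizer_singleton_iff.1 (c : ↥M).2]
        _ = g⁻¹ * f' * g * (g⁻¹ * ((c : ↥M) : G) * g) := by group
    · have h := mem_centralizer_singleton_iff.1 (mem_inf.1 c.2).2
      refine mem_centralizer_singleton_iff.2 ?_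
      calc g * (c : G) * g⁻¹ * f' = g * ((c : G) * (g⁻¹ * f' * g)) * g⁻¹ := by group
        _ = g * (g⁻¹ * f' * g * c) * g⁻¹ := by rw [h]
        _ = f' * (g * c * g⁻¹) := by group
    · have h := mem_centralizer_singleton_iff.1 (mem_inf.1 c.2).1
      refine mem_centralizer_singleton_iff.2 (Subtype.ext ?_)
      show g * (c : G) * g⁻¹ * v = v * (g * c * g⁻¹)
      calc g * (c : G) * g⁻¹ * v = g * (c : G) * g⁻¹ * (g * z * g⁻¹) := by rw [hg]
        _ = g * ((c : G) * z) * g⁻¹ := by group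
        _ = g * (z * (c : G)) * g⁻¹ := by rw [h]
        _ = g * z * g⁻¹ * (g * c * g⁻¹) := by group
        _ = v * (g * c * g⁻¹) := by rw [hg]
  -- a Sylow subgroup for the prime two has order two
  obtain ⟨T, hT⟩ := (IsPGroup.of_card (p := 2) (n := 1) (by rw [Nat.card_zpowers, hv'2]; norm_num) :
    IsPGroup 2 ↥(zpowers v')).exists_le_sylow
  have hvT : v' ∈ (T : Subgroup ↥M) := hT (mem_zpowers v')
  have hpow2 : ∀ K : Subgroup ↥M, K ≤ (T : Subgroup ↥M) → K ≤ centralizer ({v'} : Set ↥M) →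
      v' ∈ K → K = zpowers v' := by
    intro K hKT hKC hvK
    refine (eq_of_le_of_card_ge (zpowers_le.2 hvK) ?_).symm
    obtain ⟨j, hj⟩ := (T.2.to_le hKT).exists_card_eq
    have hd : 2 ^ j ∣ 10 := hj ▸ h10 ▸ card_dvd_of_le hKC
    rw [Nat.card_zpowers, hv'2, hj]
    by_contra hc
    have hj2 : 2 ≤ j := by
      by_contra hj2
      interval_cases j <;> simp at hc
    have : 2 ^ 2 ∣ 10 := (pow_dvd_pow 2 hj2).trans hd
    norm_num at this
  have hTle : (T : Subgroup ↥M) ≤ centralizer ({v'} : Set ↥M) := by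
    haveI : Nontrivial ↥(T : Subgroup ↥M) :=
      ⟨⟨⟨v', hvT⟩, 1, fun e => invol_ne_one hv'2 (congrArg Subtype.val e)⟩⟩
    haveI := T.2.center_nontrivial
    obtain ⟨c, hc⟩ := exists_ne (1 : ↥(center ↥(T : Subgroup ↥M)))
    set c' : ↥M := ((c : ↥(T : Subgroup ↥M)) : ↥M) with hc'
    have hcomm : ∀ d ∈ (T : Subgroup ↥M), d * c' = c' * d :=
      fun d hd => congrArg Subtype.val (mem_center_iff.1 c.2 ⟨d, hd⟩)
    have hK := hpow2 ((T : Subgroup ↥M) ⊓ centralizer ({v'} : Set ↥M)) inf_le_left inf_le_right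
      ⟨hvT, mem_centralizer_singleton_iff.2 rfl⟩
    have hcz : c' ∈ zpowers v' := hK ▸ (mem_inf.2 ⟨(c : ↥(T : Subgroup ↥M)).2,
      mem_centralizer_singleton_iff.2 (hcomm v' hvT).symm⟩)
    have hc1 : c' ≠ 1 := fun e => hc (Subtype.ext (Subtype.ext e))
    obtain ⟨i, hi⟩ := mem_zpowers_iff.1 hcz
    have hcv : c' = v' := by
      rcases Int.even_or_odd i with ⟨l, rfl⟩ | ⟨l, rfl⟩
      · exfalso
        apply hc1
        rw [← hi, ← two_mul, zpow_mul, zpow_two, invol_mul_self hv'2, one_zpow]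
      · rw [← hi, zpow_add_one, zpow_mul, zpow_two, invol_mul_self hv'2, one_zpow, one_mul]
    intro d hd
    exact mem_centralizer_singleton_iff.2 (hcv ▸ hcomm d hd)
  have hTeq : (T : Subgroup ↥M) = zpowers v' := hpow2 _ le_rfl hTle hvT
  have hT2 : Nat.card ↥(T : Subgroup ↥M) = 2 := by rw [hTeq, Nat.card_zpowers, hv'2]
  have hTmem : ∀ d ∈ (T : Subgroup ↥M), d ≠ 1 → d = v' := by
    intro d hd hd1
    obtain ⟨x, -, hx⟩ := (Nat.card_eq_two_iff' (1 : ↥(T : Subgroup ↥M))).1 hT2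
    have h1 := hx ⟨d, hd⟩ (fun e => hd1 (congrArg Subtype.val e))
    have h2 := hx ⟨v', hvT⟩ (fun e => invol_ne_one hv'2 (congrArg Subtype.val e))
    exact congrArg Subtype.val (h1.trans h2.symm)
  -- the normal complement
  have hP : normalizer ((T : Subgroup ↥M) : Set ↥M) ≤ centralizer ((T : Subgroup ↥M) : Set ↥M) := by
    intro n hn
    refine mem_centralizer_iff.2 fun d hd => ?_
    by_cases hd1 : d = 1
    · rw [hd1]; simp
    have := hTmem _ ((mem_normalizer_iff.1 hn d).1 hd) (fun e => hd1 (conj_eq_one_iff.1 e))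
    rw [hTmem d hd hd1] at this ⊢
    exact (mul_inv_eq_iff_eq_mul.1 this).symm
  have hcomp := MonoidHom.ker_transferSylow_isComplement' T hP
  set O := (MonoidHom.transferSylow T hP).ker with hO
  have hOc : Nat.card ↥O * 2 = Nat.card ↥M := by rw [← hT2]; exact hcomp.card_mul
  have hOodd : ¬ 2 ∣ Nat.card ↥O := MonoidHom.not_dvd_card_ker_transferSylow T hP
  have hmemO : ∀ c : ↥M, c ^ 5 = 1 → c ∈ O := by
    intro c hc
    rw [hO, MonoidHom.mem_ker]
    set t := MonoidHom.transferSylow T hP c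
    have h5 : t ^ 5 = 1 := by rw [← map_pow, hc, map_one]
    have h2 : t ^ 2 = 1 := (congrArg (t ^ ·) hT2).symm.trans pow_card_eq_one'
    calc t = t ^ 5 * ((t ^ 2) ^ 2)⁻¹ := by group
      _ = 1 := by rw [h5, h2]; group
  set fM : ↥M := ⟨f, hfM⟩ with hfMdef
  set f'M : ↥M := ⟨f', hf'M⟩ with hf'Mdef
  have hfO : fM ∈ O := hmemO _ (Subtype.ext (by
    rw [SubmonoidClass.coe_pow]; exact F.hf ▸ pow_orderOf_eq_one f))
  have hf'O : f'M ∈ O := hmemO _ (Subtype.ext (by
    rw [SubmonoidClass.coe_pow]; exact hf' ▸ pow_orderOf_eq_one f'))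
  set Y : Subgroup ↥O := zpowers (⟨f'M, hf'O⟩ : ↥O) with hY
  have hf'c : ∀ c : ↥M, c * f'M = f'M * c := fun c =>
    Subtype.ext (mem_centralizer_singleton_iff.1 c.2)
  haveI hYn : Y.Normal := ⟨fun c hc g => by
    obtain ⟨i, rfl⟩ := mem_zpowers_iff.1 hc
    have : Commute g (⟨f'M, hf'O⟩ : ↥O) := Subtype.ext (hf'c g)
    rw [(this.zpow_right i).eq, mul_inv_cancel_right]
    exact zpow_mem (mem_zpowers _) i⟩
  have hY5 : ∀ y ∈ Y, y ^ 5 = 1 := by
    intro y hy
    obtain ⟨i, rfl⟩ := mem_zpowers_iff.1 hy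
    rw [← zpow_natCast, ← zpow_mul, mul_comm, zpow_mul, zpow_natCast,
      show (⟨f'M, hf'O⟩ : ↥O) ^ 5 = 1 from Subtype.ext (Subtype.ext (by
        simp only [SubmonoidClass.coe_pow]; exact hf' ▸ pow_orderOf_eq_one f')), one_zpow]
  let φ : ↥O ≃* ↥O := MulAut.conjNormal v'
  have hφ : ∀ c : ↥O, (φ c : ↥M) = v' * c * v'⁻¹ := fun c => rfl
  have hfix : ∀ c : ↥O, φ c = c → c ∈ Y := by
    intro c hc
    have hle : Y.map O.subtype ≤ centralizer ({v'} : Set ↥M) ⊓ O := by
      rintro _ ⟨y, hy, rfl⟩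
      obtain ⟨i, rfl⟩ := mem_zpowers_iff.1 hy
      refine mem_inf.2 ⟨mem_centralizer_singleton_iff.2 ?_, ((⟨f'M, hf'O⟩ : ↥O) ^ i).2⟩
      rw [map_zpow]
      exact ((show Commute f'M v' from (hf'c v').symm).zpow_left i).eq
    have hYc : Nat.card ↥(Y.map O.subtype) = 5 := by
      rw [card_map_of_injective O.subtype_injective, hY, Nat.card_zpowers, ← orderOf_coe, ← orderOf_coe]
      exact hf'
    have he := eq_of_le_of_card_ge hle (by
      rw [hYc]
      have h1 : Nat.card ↥(centralizer ({v'} : Set ↥M) ⊓ O : Subgroup ↥M) ∣ 10 :=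
        h10 ▸ card_dvd_of_le inf_le_left
      have h2 : ¬ 2 ∣ Nat.card ↥(centralizer ({v'} : Set ↥M) ⊓ O : Subgroup ↥M) :=
        fun h => hOodd (h.trans (card_dvd_of_le inf_le_right))
      have := Nat.le_of_dvd (by norm_num) h1
      generalize Nat.card ↥(centralizer ({v'} : Set ↥M) ⊓ O : Subgroup ↥M) = m at *
      interval_cases m <;> omega)
    have hmem : (c : ↥M) ∈ centralizer ({v'} : Set ↥M) ⊓ O := mem_inf.2
      ⟨mem_centralizer_singleton_iff.2 (mul_inv_eq_iff_eq_mul.1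
        ((hφ c).symm.trans (congrArg Subtype.val hc))).symm, c.2⟩
    rw [← he] at hmem
    obtain ⟨y, hy, hyc⟩ := hmem
    rwa [← Subtype.ext (show (y : ↥M) = c from hyc)]
  have hYfix : ∀ y ∈ Y, φ y = y := by
    intro y hy
    obtain ⟨i, rfl⟩ := mem_zpowers_iff.1 hy
    rw [map_zpow]
    congr 1
    apply Subtype.ext
    rw [hφ]
    exact mul_inv_eq_iff_eq_mul.2 (hf'c v')
  have hinvφ : ∀ c, φ (φ c) = c := by
    intro c
    apply Subtype.ext
    rw [hφ, hφ, show v' * (v' * (c : ↥M) * v'⁻¹) * v'⁻¹ = (v' * v') * c * (v' * v')⁻¹ by group,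
      invol_mul_self hv'2]
    group
  let ψ : ↥O ⧸ Y →* ↥O ⧸ Y := QuotientGroup.map Y Y φ.toMonoidHom
    (fun y hy => mem_comap.2 (by show φ y ∈ Y; rw [hYfix y hy]; exact hy))
  have hψ : ∀ c : ↥O, ψ (c : ↥O ⧸ Y) = ((φ c : ↥O) : ↥O ⧸ Y) := fun c =>
    QuotientGroup.map_mk Y Y φ.toMonoidHom _ c
  have hff : MonoidHom.FixedPointFree ψ := by
    intro q hq
    obtain ⟨c, rfl⟩ := QuotientGroup.mk_surjective q
    rw [hψ, QuotientGroup.eq] at hq
    set y := (φ c)⁻¹ * c with hy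
    have h1 : φ y = y⁻¹ := by rw [hy, map_mul, map_inv, hinvφ]; group
    rw [hYfix y hq, eq_inv_iff_mul_eq_one] at h1
    have hy1 : y = 1 := by
      calc y = y ^ 5 * ((y * y) * (y * y))⁻¹ := by
            rw [show y ^ 5 = y * (y * y) * (y * y) by simp [pow_succ, mul_assoc]]; group
        _ = 1 := by rw [h1, hY5 y hq]; group
    rw [hy, inv_mul_eq_one] at hy1
    exact (QuotientGroup.eq_one_iff c).2 (hfix c hy1)
  have hcomm := hff.commute_all_of_involutive (fun q => by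
    obtain ⟨c, rfl⟩ := QuotientGroup.mk_surjective q
    rw [hψ, hψ, hinvφ])
  -- every element of odd prime order not five of `O` is trivial
  have hkey : ∀ (c : ↥O) (q : ℕ), q.Prime → orderOf c = q → q = 5 := by
    intro c q hq hcq
    by_contra hq5
    have hcY : (⟨fM, hfO⟩ : ↥O)⁻¹ * (c * ⟨fM, hfO⟩ * c⁻¹) ∈ Y := by
      rw [← QuotientGroup.eq_one_iff, QuotientGroup.mk_mul, QuotientGroup.mk_mul, QuotientGroup.mk_mul,
        QuotientGroup.mk_inv, QuotientGroup.mk_inv, (hcomm (c : ↥O ⧸ Y) _).eq, mul_inv_cancel_right,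
        inv_mul_cancel]
    obtain ⟨y, hy⟩ : ∃ y, y = (⟨fM, hfO⟩ : ↥O)⁻¹ * (c * ⟨fM, hfO⟩ * c⁻¹) := ⟨_, rfl⟩
    rw [← hy] at hcY
    obtain ⟨i, hi⟩ := mem_zpowers_iff.1 hcY
    have hyc : ∀ d : ↥O, Commute d y := fun d =>
      hi ▸ ((show Commute d (⟨f'M, hf'O⟩ : ↥O) from Subtype.ext (hf'c d)).zpow_right i)
    have h1 : c * ⟨fM, hfO⟩ * c⁻¹ = (⟨fM, hfO⟩ : ↥O) * y := by rw [hy]; group
    have hn : ∀ n : ℕ, c ^ n * ⟨fM, hfO⟩ * (c ^ n)⁻¹ = (⟨fM, hfO⟩ : ↥O) * y ^ n := by
      intro n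
      induction n with
      | zero => simp
      | succ n ih =>
        rw [pow_succ' c, show c * c ^ n * (⟨fM, hfO⟩ : ↥O) * (c * c ^ n)⁻¹ =
          c * (c ^ n * ⟨fM, hfO⟩ * (c ^ n)⁻¹) * c⁻¹ by group, ih, ← mul_assoc c,
          mul_assoc (c * (⟨fM, hfO⟩ : ↥O)), ((hyc c⁻¹).pow_right n).eq.symm, ← mul_assoc, h1,
          mul_assoc, ← pow_succ']
    have h2 := hn q
    rw [← hcq, pow_orderOf_eq_one, one_mul, inv_one, mul_one, eq_comm, mul_eq_left, hcq] at h2
    have hy1 : y = 1 := by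
      have hg : y ^ Nat.gcd q 5 = 1 := pow_gcd_eq_one.2 ⟨h2, hY5 y hcY⟩
      rwa [(Nat.coprime_primes hq (by norm_num)).2 hq5, pow_one] at hg
    rw [hy1, mul_one, mul_inv_eq_iff_eq_mul] at h1
    have hmem : ((c : ↥M) : G) ∈ centralizer ({f} : Set G) ⊓ centralizer ({f'} : Set G) :=
      mem_inf.2 ⟨mem_centralizer_singleton_iff.2 (congrArg (fun t : ↥O => ((t : ↥M) : G)) h1),
        (c : ↥M).2⟩
    have h5 : c ^ 5 = 1 := Subtype.ext (Subtype.ext (by
      simp only [SubmonoidClass.coe_pow]; exact F.pow_five_P0 hfA hf' hmem))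
    have := orderOf_dvd_of_pow_eq_one h5
    rw [hcq, Nat.prime_dvd_prime_iff_eq hq (by norm_num)] at this
    exact hq5 this
  have hO5 : IsPGroup 5 ↥O :=
    IsPGroup.of_card (Nat.eq_prime_pow_of_unique_prime_dvd (p := 5) Nat.card_pos.ne' fun {d} hd hdd => by
      haveI := Fact.mk hd
      obtain ⟨c, hc⟩ := exists_prime_orderOf_dvd_card' d hdd
      exact hkey c d hd hc)
  obtain ⟨j, hj⟩ := hO5.exists_card_eq
  have h25 : 25 ∣ Nat.card ↥M := five_sq_dvd S.order_eq.1 hf'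
  have hdG : 5 ^ j ∣ 604800 := hj ▸ S.order_eq.1 ▸
    (card_subgroup_dvd_card O).trans (card_subgroup_dvd_card M)
  have hj3 : j < 3 := by
    by_contra hc
    have : 5 ^ 3 ∣ 604800 := (pow_dvd_pow 5 (not_lt.1 hc)).trans hdG
    norm_num at this
  rw [← hOc, hj] at h25 ⊢
  interval_cases j <;> omega

/-- The normaliser of the Sylow subgroup through `f` and `f'`, and its action. -/
theorem sylow_five [Finite G] (S : Data z Q) (hfA : f' ∈ A) (hf' : orderOf f' = 5) :
    Nat.card ↥(normalizer ((centralizer ({f} : Set G) ⊓ centralizer ({f'} : Set G) : Subgroup G) : Set G)) = 300 ∧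
      (∀ x ∈ centralizer ({f} : Set G) ⊓ centralizer ({f'} : Set G), x ≠ 1 →
        ∃ y, zpowers y = zpowers x ∧ (IsConj f y ∨ IsConj f' y)) := by
  classical
  haveI : Fact (Nat.Prime 5) := ⟨by norm_num⟩
  haveI : Fintype G := Fintype.ofFinite G
  set P := centralizer ({f} : Set G) ⊓ centralizer ({f'} : Set G) with hP
  set N := normalizer (P : Set G) with hN
  have hP25 : Nat.card ↥P = 25 := F.card_P0 hfA hf'
  have hfP : f ∈ P := mem_inf.2 ⟨mem_centralizer_singleton_iff.2 rfl,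
    mem_centralizer_singleton_iff.2 (F.commute_f hfA).symm⟩
  have hf'P : f' ∈ P := mem_inf.2 ⟨mem_centralizer_singleton_iff.2 (F.commute_f hfA),
    mem_centralizer_singleton_iff.2 rfl⟩
  have hPN : P ≤ N := le_normalizer
  have hC : centralizer ({f'} : Set G) ≤ N := by
    intro c hc
    have h50 := F.card_cent_fprime S hfA hf'
    have hidx : (P.subgroupOf (centralizer ({f'} : Set G))).index = 2 := by
      have := (P.subgroupOf (centralizer ({f'} : Set G))).card_mul_index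
      rw [Nat.card_congr (subgroupOfEquivOfLe (inf_le_right : P ≤ _)).toEquiv, hP25, h50] at this
      omega
    haveI hn := Subgroup.normal_of_index_eq_two hidx
    refine mem_normalizer_iff.2 fun d => ⟨fun hd => ?_, fun hd => ?_⟩
    · have := hn.conj_mem ⟨d, (mem_inf.1 hd).2⟩ (mem_subgroupOf.2 hd) ⟨c, hc⟩
      exact this
    · have := hn.conj_mem ⟨c * d * c⁻¹, (mem_inf.1 hd).2⟩ (mem_subgroupOf.2 hd) ⟨c, hc⟩⁻¹
      rw [mem_subgroupOf] at this
      simpa [mul_assoc] using this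
  have hfN : f ∈ N := hPN hfP
  have hf'N : f' ∈ N := hPN hf'P
  have hvN : v ∈ N := hC (mem_centralizer_singleton_iff.2 (F.hvA f' hfA))
  -- the centraliser of `f` in the normaliser
  obtain ⟨-, ⟨⟨u, huA⟩, hu, huf⟩, hpm⟩ := F.hAcent.five F.hA (y := ⟨f', hfA⟩)
    (by rw [← orderOf_coe]; exact hf')
  rw [← orderOf_coe] at hu
  change orderOf u = 2 at hu
  have huf' : u * f' * u⁻¹ = f'⁻¹ := congrArg Subtype.val huf
  have huN : u ∈ N := by
    have huu : u⁻¹ = u := invol_inv hu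
    have key : ∀ d ∈ P, u * d * u⁻¹ ∈ P := by
      intro d hd
      obtain ⟨i, j, rfl⟩ := F.mem_P0 hfA hf' hd
      rw [show u * (f ^ i * f' ^ j) * u⁻¹ = u * f ^ i * u⁻¹ * (u * f' ^ j * u⁻¹) by group,
        ((F.commute_f huA).zpow_right i).eq, mul_inv_cancel_right,
        show u * f' ^ j * u⁻¹ = (u * f' * u⁻¹) ^ j from map_zpow (MulAut.conj u) f' j, huf']
      exact mul_mem (zpow_mem hfP i) (zpow_mem (inv_mem hf'P) j)
    refine mem_normalizer_iff.2 fun d => ⟨key d, fun hd => ?_⟩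
    have := key _ hd
    rwa [show u * (u * d * u⁻¹) * u⁻¹ = (u * u) * d * (u * u)⁻¹ by group, invol_mul_self hu,
      one_mul, inv_one, mul_one] at this
  set fN : ↥N := ⟨f, hfN⟩ with hfNdef
  set f'N : ↥N := ⟨f', hf'N⟩ with hf'Ndef
  have hcard_cent : ∀ (x : G) (hx : x ∈ N), Nat.card ↥(centralizer ({(⟨x, hx⟩ : ↥N)} : Set ↥N)) =
      Nat.card ↥(N ⊓ centralizer ({x} : Set G) : Subgroup G) := fun x hx => Nat.card_congr
    { toFun := fun c => ⟨(c : ↥N), mem_inf.2 ⟨(c : ↥N).2, mem_centralizer_singleton_iff.2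
        (congrArg Subtype.val (mem_centralizer_singleton_iff.1 c.2))⟩⟩
      invFun := fun c => ⟨⟨c, (mem_inf.1 c.2).1⟩, mem_centralizer_singleton_iff.2
        (Subtype.ext (mem_centralizer_singleton_iff.1 (mem_inf.1 c.2).2))⟩
      left_inv := fun c => rfl
      right_inv := fun c => rfl }
  have hcf' : Nat.card ↥(centralizer ({f'N} : Set ↥N)) = 50 := by
    rw [hcard_cent, inf_eq_right.2 hC, F.card_cent_fprime S hfA hf']
  have hcf : Nat.card ↥(centralizer ({fN} : Set ↥N)) = 50 := by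
    rw [hcard_cent]
    set K := N ⊓ centralizer ({f} : Set G) with hK
    have hf'K : f' ∈ K := mem_inf.2 ⟨hf'N, (mem_inf.1 hf'P).1⟩
    have hPK : P ≤ K := le_inf hPN inf_le_left
    have hd25 : 25 ∣ Nat.card ↥K := hP25 ▸ card_dvd_of_le hPK
    have hd2 : 2 ∣ Nat.card ↥K := hu ▸ K.orderOf_dvd_natCard
      (mem_inf.2 ⟨huN, mem_centralizer_singleton_iff.2 (F.commute_f huA)⟩)
    have hcls := card_class_mul_card_centralizer (⟨f', hf'K⟩ : ↥K)
    have hle2 : Nat.card {c : ↥K // IsConj (⟨f', hf'K⟩ : ↥K) c} ≤ 2 := by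
      have hval : ∀ c : {c : ↥K // IsConj (⟨f', hf'K⟩ : ↥K) c}, (c.1 : G) = f' ∨ (c.1 : G) = f'⁻¹ := by
        rintro ⟨c, hc⟩
        obtain ⟨g, rfl⟩ := isConj_iff.1 hc
        obtain ⟨hgN, hgf⟩ := mem_inf.1 g.2
        obtain ⟨i, α, hα, hg⟩ := F.hAdec g hgf
        have hconj : (g : G) * f' * (g : G)⁻¹ = α * f' * α⁻¹ := by
          rw [hg, show f ^ i * α * f' * (f ^ i * α)⁻¹ = f ^ i * (α * f' * α⁻¹) * (f ^ i)⁻¹ by group,
            ← ((F.commute_f (mul_mem (mul_mem hα hfA) (inv_mem hα))).zpow_right i).eq,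
            mul_inv_cancel_right]
        have hgP : (g : G) * f' * (g : G)⁻¹ ∈ P := (mem_normalizer_iff.1 hgN f').1 hf'P
        rw [hconj] at hgP
        have hmem := F.cent_A_five hfA hf' (mul_mem (mul_mem hα hfA) (inv_mem hα))
          (mem_centralizer_singleton_iff.1 (mem_inf.1 hgP).2)
        obtain ⟨j, hj⟩ := mem_zpowers_iff.1 hmem
        have hmem' : (⟨α, hα⟩ : ↥A) * ⟨f', hfA⟩ * (⟨α, hα⟩ : ↥A)⁻¹ ∈ zpowers (⟨f', hfA⟩ : ↥A) :=
          mem_zpowers_iff.2 ⟨j, Subtype.ext (by rw [Subgroup.coe_zpow]; exact hj)⟩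
        show (g : G) * f' * (g : G)⁻¹ = f' ∨ (g : G) * f' * (g : G)⁻¹ = f'⁻¹
        rw [hconj]
        exact (hpm _ hmem').imp (congrArg Subtype.val) (congrArg Subtype.val)
      refine le_trans (Nat.card_le_card_of_injective
        (fun c => decide ((c.1 : G) = f')) fun c d h => Subtype.ext (Subtype.ext ?_)) (by simp)
      simp only [decide_eq_decide] at h
      rcases hval c with e | e
      · rw [e, h.1 e]
      · rcases hval d with e' | e'
        · rw [e', h.2 e']
        · rw [e, e']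
    have hsub : Nat.card ↥(centralizer ({(⟨f', hf'K⟩ : ↥K)} : Set ↥K)) ≤ 25 := by
      rw [← hP25]
      exact Nat.card_le_card_of_injective (fun c => (⟨((c : ↥K) : G), mem_inf.2 ⟨(mem_inf.1 (c : ↥K).2).2,
        mem_centralizer_singleton_iff.2 (congrArg Subtype.val (mem_centralizer_singleton_iff.1 c.2))⟩⟩ : ↥P))
        fun c d h => Subtype.ext (Subtype.ext (congrArg (fun t : ↥P => (t : G)) h))
    have hle50 : Nat.card ↥K ≤ 50 := by
      rw [← hcls]; exact (Nat.mul_le_mul hle2 hsub)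
    have hpos : 0 < Nat.card ↥K := Nat.card_pos
    have := Nat.le_of_dvd hpos
      (Nat.Coprime.mul_dvd_of_dvd_of_dvd (by norm_num : Nat.Coprime 2 25) hd2 hd25)
    omega
  -- the classes
  have hcl := card_class_mul_card_centralizer fN
  have hcl' := card_class_mul_card_centralizer f'N
  rw [hcf] at hcl
  rw [hcf'] at hcl'
  let D : Finset G := Finset.univ.filter fun x => x ∈ P ∧ x ≠ 1
  have hD : D.card = 24 := by
    have h : (Finset.univ.filter fun x => x ∈ P).card = 25 := by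
      rw [← Fintype.card_subtype, ← Nat.card_eq_fintype_card]; exact hP25
    have : D = (Finset.univ.filter fun x => x ∈ P).erase 1 := by
      ext x; simp [D, and_comm]
    rw [this, Finset.card_erase_of_mem (by simp [P.one_mem]), h]
  let Sf : Finset G := Finset.univ.filter fun x => ∃ c ∈ N, c * f * c⁻¹ = x
  let Sf' : Finset G := Finset.univ.filter fun x => ∃ c ∈ N, c * f' * c⁻¹ = x
  have hScard : ∀ (y : G) (hy : y ∈ N), (Finset.univ.filter fun x => ∃ c ∈ N, c * y * c⁻¹ = x).card =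
      Nat.card {c : ↥N // IsConj (⟨y, hy⟩ : ↥N) c} := by
    intro y hy
    rw [← Fintype.card_subtype, ← Nat.card_eq_fintype_card]
    refine (Nat.card_eq_of_bijective (fun c : {c : ↥N // IsConj (⟨y, hy⟩ : ↥N) c} =>
      (⟨(c.1 : G), ?_⟩ : {x : G // ∃ c ∈ N, c * y * c⁻¹ = x})) ⟨?_, ?_⟩).symm
    · obtain ⟨g, hg⟩ := isConj_iff.1 c.2
      exact ⟨g, g.2, congrArg Subtype.val hg⟩
    · intro c d h
      exact Subtype.ext (Subtype.ext (congrArg (fun t : {x // _} => (t : G)) h))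
    · rintro ⟨x, c, hc, rfl⟩
      exact ⟨⟨⟨c * y * c⁻¹, mul_mem (mul_mem hc hy) (inv_mem hc)⟩, isConj_iff.2 ⟨⟨c, hc⟩, rfl⟩⟩, rfl⟩
  set s := Nat.card {c : ↥N // IsConj fN c} with hs
  have hSf : Sf.card = s := hScard f hfN
  have hSf' : Sf'.card = s := by
    show (Finset.univ.filter fun x => ∃ c ∈ N, c * f' * c⁻¹ = x).card = s
    rw [hScard f' hf'N]
    change Nat.card {c : ↥N // IsConj f'N c} = s
    omega
  have hSD : ∀ y ∈ P, y ≠ 1 → ∀ x, (∃ c ∈ N, c * y * c⁻¹ = x) → x ∈ D := by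
    rintro y hy hy1 _ ⟨c, hc, rfl⟩
    simp only [D, Finset.mem_filter, Finset.mem_univ, true_and]
    exact ⟨(mem_normalizer_iff.1 hc y).1 hy, fun e => hy1 (conj_eq_one_iff.1 e)⟩
  have hf1 : f ≠ 1 := fun e => by have := F.hf; rw [e, orderOf_one] at this; norm_num at this
  have hf'1 : f' ≠ 1 := fun e => by rw [e, orderOf_one] at hf'; norm_num at hf'
  have hnc : ¬ IsConj f f' := fun h => by
    obtain ⟨g, hg⟩ := isConj_iff.1 h
    have hle : (centralizer ({f} : Set G)).map (MulAut.conj g).toMonoidHom ≤ centralizer ({f'} : Set G) := by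
      rintro _ ⟨c, hc, rfl⟩
      refine mem_centralizer_singleton_iff.2 ?_
      show g * c * g⁻¹ * f' = f' * (g * c * g⁻¹)
      rw [← hg, show g * c * g⁻¹ * (g * f * g⁻¹) = g * (c * f) * g⁻¹ by group,
        mem_centralizer_singleton_iff.1 hc]
      group
    have := card_dvd_of_le hle
    rw [card_map_of_injective (MulAut.conj g).injective, F.hCf, F.card_cent_fprime S hfA hf'] at this
    norm_num at this
  have hdisj : Disjoint Sf Sf' := by
    refine Finset.disjoint_left.2 fun x hx hx' => hnc ?_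
    simp only [Sf, Sf', Finset.mem_filter, Finset.mem_univ, true_and] at hx hx'
    obtain ⟨c, -, hc⟩ := hx
    obtain ⟨d, -, hd⟩ := hx'
    exact (isConj_iff.2 ⟨c, hc⟩ : IsConj f x).trans (isConj_iff.2 ⟨d, hd⟩ : IsConj f' x).symm
  have hle12 : s ≤ 12 := by
    have hsub : Sf ∪ Sf' ⊆ D := by
      intro x hx
      simp only [Finset.mem_union, Sf, Sf', Finset.mem_filter, Finset.mem_univ, true_and] at hx
      rcases hx with hx | hx
      · exact hSD f hfP hf1 x hx
      · exact hSD f' hf'P hf'1 x hx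
    have := Finset.card_le_card hsub
    rw [Finset.card_union_of_disjoint hdisj, hSf, hSf', hD] at this
    omega
  have hs1 : s ≠ 1 := by
    intro e
    have h1 : fN ∈ ({c : ↥N | IsConj fN c} : Set ↥N) := IsConj.refl _
    have h2 : (⟨v * f * v⁻¹, mul_mem (mul_mem hvN hfN) (inv_mem hvN)⟩ : ↥N) ∈
        ({c : ↥N | IsConj fN c} : Set ↥N) := isConj_iff.2 ⟨⟨v, hvN⟩, rfl⟩
    haveI : Subsingleton {c : ↥N // IsConj fN c} := Finite.card_le_one_iff_subsingleton.1 e.le
    have h3 := congrArg (fun t : {c : ↥N // IsConj fN c} => ((t.1 : ↥N) : G))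
      (Subsingleton.elim (⟨_, h1⟩ : {c : ↥N // IsConj fN c}) ⟨_, h2⟩)
    change f = v * f * v⁻¹ at h3
    rw [F.hvf, ← mul_eq_one_iff_eq_inv, ← pow_two] at h3
    have := orderOf_dvd_of_pow_eq_one h3
    rw [F.hf] at this
    norm_num at this
  have hs6 : s = 6 := by
    obtain ⟨T, hT⟩ := (IsPGroup.of_card (p := 5) (n := 2) (by rw [hP25]; norm_num) :
      IsPGroup 5 ↥P).exists_le_sylow
    have hTP : (T : Subgroup G) = P := by
      refine (eq_of_le_of_card_ge hT ?_).symm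
      obtain ⟨j, hj⟩ := T.2.exists_card_eq
      have hd : 5 ^ j ∣ 604800 := hj ▸ S.order_eq.1 ▸ card_subgroup_dvd_card (T : Subgroup G)
      have hj3 : j < 3 := by
        by_contra hc
        have : 5 ^ 3 ∣ 604800 := (pow_dvd_pow 5 (not_lt.1 hc)).trans hd
        norm_num at this
      rw [hj, hP25]
      interval_cases j <;> norm_num
    have hmod : N.index ≡ 1 [MOD 5] := by
      rw [hN, ← hTP]
      exact T.card_eq_index_normalizer ▸ card_sylow_modEq_one 5 G
    have hmul := N.card_mul_index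
    rw [← hcl, S.order_eq.1] at hmul
    have hpos : 0 < s := Nat.card_pos_iff.2 ⟨⟨⟨fN, IsConj.refl _⟩⟩, inferInstance⟩
    unfold Nat.ModEq at hmod
    generalize N.index = m at *
    interval_cases s <;> omega
  refine ⟨by rw [← hcl, hs6], fun x hx hx1 => ?_⟩
  -- no conjugate of `f` or `f'` is the square of another
  have hno : ∀ (y : G), y ∈ P → y ≠ 1 → (Finset.univ.filter fun x => ∃ c ∈ N, c * y * c⁻¹ = x).card = 6 →
      ∀ e ∈ N, e * y * e⁻¹ ≠ y ^ 2 := by
    intro y hy hy1 h6 e he hey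
    set Sy := Finset.univ.filter fun x => ∃ c ∈ N, c * y * c⁻¹ = x with hSy
    have hsq : ∀ x ∈ Sy, x ^ 2 ∈ Sy := by
      intro x hx
      simp only [hSy, Finset.mem_filter, Finset.mem_univ, true_and] at hx ⊢
      obtain ⟨c, hc, rfl⟩ := hx
      refine ⟨c * e, mul_mem hc he, ?_⟩
      rw [show c * e * y * (c * e)⁻¹ = c * (e * y * e⁻¹) * c⁻¹ by group, hey,
        show c * y ^ 2 * c⁻¹ = (c * y * c⁻¹) ^ 2 from map_pow (MulAut.conj c) y 2]
    have ho : ∀ x ∈ Sy, x ∈ P ∧ orderOf x = 5 := by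
      intro x hx
      simp only [hSy, Finset.mem_filter, Finset.mem_univ, true_and] at hx
      obtain ⟨c, hc, rfl⟩ := hx
      refine ⟨(mem_normalizer_iff.1 hc y).1 hy, ?_⟩
      rw [orderOf_conj_eq]
      exact orderOf_eq_prime (F.pow_five_P0 hfA hf' hy) hy1
    let T : G → Finset G := fun x => {x, x ^ 2, x ^ 3, x ^ 4}
    have hTsub : ∀ x ∈ Sy, T x ⊆ Sy := by
      intro x hx
      have h5 : x ^ 5 = 1 := (ho x hx).2 ▸ pow_orderOf_eq_one x
      have h2 := hsq x hx
      have h4 := hsq _ h2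
      have h8 := hsq _ h4
      rw [← pow_mul] at h4
      rw [← pow_mul, ← pow_mul, show x ^ (2 * 2 * 2) = x ^ 5 * x ^ 3 by rw [← pow_add], h5,
        one_mul] at h8
      intro w hw
      simp only [T, Finset.mem_insert, Finset.mem_singleton] at hw
      rcases hw with rfl | rfl | rfl | rfl
      exacts [hx, h2, h8, h4]
    have hT4 : ∀ x ∈ Sy, (T x).card = 4 := by
      intro x hx
      have ho' := (ho x hx).2
      have hne : ∀ i j : ℕ, i < 5 → j < 5 → i ≠ j → x ^ i ≠ x ^ j := fun i j hi hj hij he =>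
        hij ((pow_injOn_Iio_orderOf (by rw [Set.mem_Iio, ho']; exact hi)
          (by rw [Set.mem_Iio, ho']; exact hj) he))
      have h12 := hne 1 2 (by norm_num) (by norm_num) (by norm_num)
      have h13 := hne 1 3 (by norm_num) (by norm_num) (by norm_num)
      have h14 := hne 1 4 (by norm_num) (by norm_num) (by norm_num)
      have h23 := hne 2 3 (by norm_num) (by norm_num) (by norm_num)
      have h24 := hne 2 4 (by norm_num) (by norm_num) (by norm_num)
      have h34 := hne 3 4 (by norm_num) (by norm_num) (by norm_num)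
      rw [pow_one] at h12 h13 h14
      simp [T, h12, h13, h14, h23, h24, h34]
    have hyS : y ∈ Sy := by
      simp only [hSy, Finset.mem_filter, Finset.mem_univ, true_and]
      exact ⟨1, N.one_mem, by group⟩
    obtain ⟨x, hxS, hxT⟩ := Finset.exists_mem_notMem_of_card_lt_card
      (show (T y).card < Sy.card by rw [hT4 y hyS, h6]; norm_num)
    have hdj : Disjoint (T y) (T x) := by
      refine Finset.disjoint_left.2 fun w hw hw' => hxT ?_
      have hwy : w ∈ zpowers y := by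
        simp only [T, Finset.mem_insert, Finset.mem_singleton] at hw
        rcases hw with rfl | rfl | rfl | rfl
        exacts [mem_zpowers _, pow_mem (mem_zpowers _) _, pow_mem (mem_zpowers _) _, pow_mem (mem_zpowers _) _]
      have hwx : w ∈ zpowers x := by
        simp only [T, Finset.mem_insert, Finset.mem_singleton] at hw'
        rcases hw' with rfl | rfl | rfl | rfl
        exacts [mem_zpowers _, pow_mem (mem_zpowers _) _, pow_mem (mem_zpowers _) _, pow_mem (mem_zpowers _) _]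
      have how : orderOf w = 5 := (ho w (hTsub y hyS hw)).2
      have e1 : zpowers w = zpowers y := eq_of_le_of_card_ge (zpowers_le.2 hwy)
        (by rw [Nat.card_zpowers, Nat.card_zpowers, (ho y hyS).2, how])
      have e2 : zpowers w = zpowers x := eq_of_le_of_card_ge (zpowers_le.2 hwx)
        (by rw [Nat.card_zpowers, Nat.card_zpowers, (ho x hxS).2, how])
      have hxy : x ∈ zpowers y := by rw [← e1, e2]; exact mem_zpowers x
      obtain ⟨n, hn, hn'⟩ : ∃ n, n < 5 ∧ y ^ n = x := by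
        have := mem_zpowers_iff_mem_range_orderOf.1 hxy
        simp only [Finset.mem_image, Finset.mem_range] at this
        obtain ⟨n, hn, hn'⟩ := this
        exact ⟨n, (ho y hyS).2 ▸ hn, hn'⟩
      simp only [T, Finset.mem_insert, Finset.mem_singleton]
      interval_cases n
      · exfalso
        rw [pow_zero] at hn'
        have := (ho x hxS).2
        rw [← hn', orderOf_one] at this
        norm_num at this
      all_goals simp [← hn']
    have := Finset.card_le_card (Finset.union_subset (hTsub y hyS) (hTsub x hxS))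
    rw [Finset.card_union_of_disjoint hdj, hT4 y hyS, hT4 x hxS, h6] at this
    norm_num at this
  -- the four sets cover
  have hinj : Set.InjOn (fun w : G => w ^ 2) {w | w ∈ P} := by
    intro p hp q hq h
    have e : ∀ w ∈ P, (w ^ 2) ^ 3 = w := fun w hw => by
      rw [← pow_mul, show 2 * 3 = 5 + 1 from rfl, pow_succ, F.pow_five_P0 hfA hf' hw, one_mul]
    rw [← e p hp, ← e q hq]
    exact congrArg (· ^ 3) h
  have hsqcard : ∀ S0 : Finset G, S0 ⊆ D → (S0.image fun w => w ^ 2).card = S0.card := fun S0 h0 =>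
    Finset.card_image_of_injOn (hinj.mono fun w hw => by
      have := h0 hw
      simp only [D, Finset.mem_filter, Finset.mem_univ, true_and] at this
      exact this.1)
  have hSfD : Sf ⊆ D := fun w hw => by
    simp only [Sf, Finset.mem_filter, Finset.mem_univ, true_and] at hw
    exact hSD f hfP hf1 w hw
  have hSf'D : Sf' ⊆ D := fun w hw => by
    simp only [Sf', Finset.mem_filter, Finset.mem_univ, true_and] at hw
    exact hSD f' hf'P hf'1 w hw
  set Sf2 := Sf.image fun w => w ^ 2 with hSf2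
  set Sf2' := Sf'.image fun w => w ^ 2 with hSf2'
  have hCpow : ∀ (g y : G), g ∈ P → y = g ^ 2 → centralizer ({g} : Set G) = centralizer ({y} : Set G) := by
    intro g y hg hy
    ext c
    simp only [mem_centralizer_singleton_iff]
    refine ⟨fun h => hy ▸ ((show Commute c g from h).pow_right 2), fun h => ?_⟩
    have h3 := (show Commute c y from h).pow_right 3
    rwa [hy, ← pow_mul, show 2 * 3 = 5 + 1 from rfl, pow_succ, F.pow_five_P0 hfA hf' hg, one_mul] at h3
  have hCcard : ∀ y g : G, IsConj g y → Nat.card ↥(centralizer ({y} : Set G)) =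
      Nat.card ↥(centralizer ({g} : Set G)) := by
    intro y g h
    obtain ⟨c, rfl⟩ := isConj_iff.1 h
    refine Nat.card_congr
      { toFun := fun d => ⟨c⁻¹ * d * c, mem_centralizer_singleton_iff.2 ?_⟩
        invFun := fun d => ⟨c * d * c⁻¹, mem_centralizer_singleton_iff.2 ?_⟩
        left_inv := fun d => Subtype.ext (by group)
        right_inv := fun d => Subtype.ext (by group) }
    · have := mem_centralizer_singleton_iff.1 d.2
      calc c⁻¹ * (d : G) * c * g = c⁻¹ * ((d : G) * (c * g * c⁻¹)) * c := by group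
        _ = c⁻¹ * ((c * g * c⁻¹) * d) * c := by rw [this]
        _ = g * (c⁻¹ * d * c) := by group
    · have := mem_centralizer_singleton_iff.1 d.2
      rw [show c * (d : G) * c⁻¹ * (c * g * c⁻¹) = c * ((d : G) * g) * c⁻¹ by group, this]
      group
  have d12 : Disjoint Sf Sf2 := by
    refine Finset.disjoint_left.2 fun w hw hw' => ?_
    simp only [Sf, hSf2, Finset.mem_image, Finset.mem_filter, Finset.mem_univ, true_and] at hw hw'
    obtain ⟨c, hc, rfl⟩ := hw
    obtain ⟨_, ⟨d, hd, rfl⟩, he⟩ := hw'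
    refine hno f hfP hf1 (hSf.trans hs6) (d⁻¹ * c) (mul_mem (inv_mem hd) hc) ?_
    rw [show d⁻¹ * c * f * (d⁻¹ * c)⁻¹ = d⁻¹ * (c * f * c⁻¹) * d by group, ← he,
      show (d * f * d⁻¹) ^ 2 = d * f ^ 2 * d⁻¹ from (map_pow (MulAut.conj d) f 2).symm]
    group
  have d12' : Disjoint Sf' Sf2' := by
    refine Finset.disjoint_left.2 fun w hw hw' => ?_
    simp only [Sf', hSf2', Finset.mem_image, Finset.mem_filter, Finset.mem_univ, true_and] at hw hw'
    obtain ⟨c, hc, rfl⟩ := hw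
    obtain ⟨_, ⟨d, hd, rfl⟩, he⟩ := hw'
    refine hno f' hf'P hf'1 (hSf'.trans hs6) (d⁻¹ * c) (mul_mem (inv_mem hd) hc) ?_
    rw [show d⁻¹ * c * f' * (d⁻¹ * c)⁻¹ = d⁻¹ * (c * f' * c⁻¹) * d by group, ← he,
      show (d * f' * d⁻¹) ^ 2 = d * f' ^ 2 * d⁻¹ from (map_pow (MulAut.conj d) f' 2).symm]
    group
  have key : ∀ w ∈ Sf ∪ Sf2, Nat.card ↥(centralizer ({w} : Set G)) = 300 := by
    intro w hw
    simp only [Sf, hSf2, Finset.mem_union, Finset.mem_image, Finset.mem_filter, Finset.mem_univ,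
      true_and] at hw
    rcases hw with ⟨c, hc, rfl⟩ | ⟨_, ⟨c, hc, rfl⟩, rfl⟩
    · rw [hCcard _ f (isConj_iff.2 ⟨c, rfl⟩), F.hCf]
    · rw [← hCpow _ _ ((mem_normalizer_iff.1 hc f).1 hfP) rfl,
        hCcard _ f (isConj_iff.2 ⟨c, rfl⟩), F.hCf]
  have key' : ∀ w ∈ Sf' ∪ Sf2', Nat.card ↥(centralizer ({w} : Set G)) = 50 := by
    intro w hw
    simp only [Sf', hSf2', Finset.mem_union, Finset.mem_image, Finset.mem_filter, Finset.mem_univ,
      true_and] at hw
    rcases hw with ⟨c, hc, rfl⟩ | ⟨_, ⟨c, hc, rfl⟩, rfl⟩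
    · rw [hCcard _ f' (isConj_iff.2 ⟨c, rfl⟩), F.card_cent_fprime S hfA hf']
    · rw [← hCpow _ _ ((mem_normalizer_iff.1 hc f').1 hf'P) rfl,
        hCcard _ f' (isConj_iff.2 ⟨c, rfl⟩), F.card_cent_fprime S hfA hf']
  have dAB : Disjoint (Sf ∪ Sf2) (Sf' ∪ Sf2') := Finset.disjoint_left.2 fun w hw hw' => by
    have h1 := key w hw
    rw [key' w hw'] at h1
    norm_num at h1
  have himD : ∀ S0 : Finset G, S0 ⊆ D → (S0.image fun w => w ^ 2) ⊆ D := by
    intro S0 h0 w hw
    simp only [Finset.mem_image] at hw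
    obtain ⟨p, hp, rfl⟩ := hw
    have := h0 hp
    simp only [D, Finset.mem_filter, Finset.mem_univ, true_and] at this ⊢
    refine ⟨pow_mem this.1 _, fun e => this.2 ?_⟩
    exact hinj this.1 P.one_mem (e.trans (one_pow 2).symm)
  have hall : (Sf ∪ Sf2) ∪ (Sf' ∪ Sf2') = D := by
    refine Finset.eq_of_subset_of_card_le (Finset.union_subset
      (Finset.union_subset hSfD (himD _ hSfD)) (Finset.union_subset hSf'D (himD _ hSf'D))) ?_
    rw [Finset.card_union_of_disjoint dAB, Finset.card_union_of_disjoint d12,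
      Finset.card_union_of_disjoint d12', hSf2, hSf2', hsqcard _ hSfD, hsqcard _ hSf'D, hSf, hSf',
      hs6, hD]
  have hxD : x ∈ (Sf ∪ Sf2) ∪ (Sf' ∪ Sf2') := by
    rw [hall]; simp [D, hx, hx1]
  have hz2 : ∀ y : G, y ∈ P → zpowers y = zpowers (y ^ 2) := by
    intro y hy
    refine le_antisymm (zpowers_le.2 (mem_zpowers_iff.2 ⟨3, ?_⟩))
      (zpowers_le.2 (pow_mem (mem_zpowers y) _))
    show (y ^ 2) ^ (3 : ℤ) = y
    rw [zpow_ofNat, ← pow_mul, show 2 * 3 = 5 + 1 from rfl, pow_succ, F.pow_five_P0 hfA hf' hy, one_mul]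
  simp only [Sf, Sf', hSf2, hSf2', Finset.mem_union, Finset.mem_image, Finset.mem_filter,
    Finset.mem_univ, true_and] at hxD
  rcases hxD with (⟨c, -, rfl⟩ | ⟨_, ⟨c, hc, rfl⟩, rfl⟩) | (⟨c, -, rfl⟩ | ⟨_, ⟨c, hc, rfl⟩, rfl⟩)
  · exact ⟨_, rfl, Or.inl (isConj_iff.2 ⟨c, rfl⟩)⟩
  · exact ⟨_, hz2 _ ((mem_normalizer_iff.1 hc f).1 hfP), Or.inl (isConj_iff.2 ⟨c, rfl⟩)⟩
  · exact ⟨_, rfl, Or.inr (isConj_iff.2 ⟨c, rfl⟩)⟩
  · exact ⟨_, hz2 _ ((mem_normalizer_iff.1 hc f').1 hf'P), Or.inr (isConj_iff.2 ⟨c, rfl⟩)⟩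

end Five

theorem Data.sylow_five_result [Finite G] (S : Data z Q) (P : Sylow 5 G) :
    centralizer ((P : Subgroup G) : Set G) = P ∧ Nat.card ↥(P : Subgroup G) = 25 ∧
      Nat.card ↥(normalizer ((P : Subgroup G) : Set G)) = 300 ∧
      ∃ X Y : Subgroup G, Nat.card X = 5 ∧ Nat.card Y = 5 ∧
        (∀ g : G, X.map (MulAut.conj g).toMonoidHom ≠ Y) ∧
        ∀ W : Subgroup G, Nat.card W = 5 → ∃ g : G, W.map (MulAut.conj g).toMonoidHom = X ∨
          W.map (MulAut.conj g).toMonoidHom = Y := by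
  classical
  haveI : Fact (Nat.Prime 5) := ⟨by norm_num⟩
  obtain ⟨a, W0, X0, f, v, k, A, F⟩ := S.exists_five_config
  obtain ⟨⟨f', hfA⟩, hf''⟩ := exists_prime_orderOf_dvd_card' (G := ↥A) 5 (by rw [F.hA]; norm_num)
  rw [← orderOf_coe] at hf''
  change orderOf f' = 5 at hf''
  set P0 := centralizer ({f} : Set G) ⊓ centralizer ({f'} : Set G) with hP0
  obtain ⟨hN0, hcl⟩ := F.sylow_five S hfA hf''
  have hP25 := F.card_P0 hfA hf''
  obtain ⟨T, hT⟩ := (IsPGroup.of_card (p := 5) (n := 2) (by rw [hP25]; norm_num) :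
    IsPGroup 5 ↥P0).exists_le_sylow
  have hT25 : ∀ U : Sylow 5 G, Nat.card ↥(U : Subgroup G) = 25 := by
    intro U
    rw [U.card_eq_multiplicity, S.order_eq.1, show Nat.factorization 604800 5 = 2 by
      rw [show (604800 : ℕ) = 5 * (5 * 24192) by norm_num, Nat.factorization_mul (by norm_num) (by norm_num),
        Finsupp.add_apply, Nat.factorization_mul (by norm_num) (by norm_num), Finsupp.add_apply,
        Nat.Prime.factorization_self (by norm_num),
        Nat.factorization_eq_zero_of_not_dvd (show ¬ 5 ∣ 24192 by norm_num)]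
        <;> simp]
    norm_num
  have hTP : (T : Subgroup G) = P0 := (eq_of_le_of_card_ge hT (by rw [hT25, hP25])).symm
  obtain ⟨g, hg⟩ := MulAction.exists_smul_eq G T P
  have hPmap : (P : Subgroup G) = P0.map (MulAut.conj g).toMonoidHom := by
    rw [← hg, Sylow.coe_subgroup_smul, hTP]
    rfl
  have hN : Nat.card ↥(normalizer ((P : Subgroup G) : Set G)) = 300 := by
    have h1 := P.card_eq_index_normalizer
    have h2 := T.card_eq_index_normalizer
    have h3 := (normalizer (P : Set G)).card_mul_index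
    have h4 := (normalizer (T : Set G)).card_mul_index
    have h5 : Nat.card ↥(normalizer (T : Set G)) = 300 := by
      show Nat.card ↥(normalizer ((T : Subgroup G) : Set G)) = 300
      rw [hTP]; exact hN0
    rw [← h1] at h3
    rw [← h2, h5] at h4
    have hpos : 0 < Nat.card (Sylow 5 G) := Nat.card_pos
    rw [← h4] at h3
    exact Nat.eq_of_mul_eq_mul_right hpos h3
  have hfP0 : f ∈ P0 := mem_inf.2 ⟨mem_centralizer_singleton_iff.2 rfl,
    mem_centralizer_singleton_iff.2 (F.commute_f hfA).symm⟩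
  have hf'P0 : f' ∈ P0 := mem_inf.2 ⟨mem_centralizer_singleton_iff.2 (F.commute_f hfA),
    mem_centralizer_singleton_iff.2 rfl⟩
  refine ⟨le_antisymm (fun c hc => ?_) (fun c hc => mem_centralizer_iff.2 fun d hd => ?_), hT25 P, hN,
    zpowers f, zpowers f', ?_, ?_, ?_, ?_⟩
  · rw [hPmap] at hc ⊢
    refine ⟨g⁻¹ * c * g, mem_inf.2 ⟨?_, ?_⟩, ?_⟩
    · have := mem_centralizer_iff.1 hc _ ⟨f, hfP0, rfl⟩
      change g * f * g⁻¹ * c = c * (g * f * g⁻¹) at this
      refine mem_centralizer_singleton_iff.2 ?_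
      calc g⁻¹ * c * g * f = g⁻¹ * (c * (g * f * g⁻¹)) * g := by group
        _ = f * (g⁻¹ * c * g) := by rw [← this]; group
    · have := mem_centralizer_iff.1 hc _ ⟨f', hf'P0, rfl⟩
      change g * f' * g⁻¹ * c = c * (g * f' * g⁻¹) at this
      refine mem_centralizer_singleton_iff.2 ?_
      calc g⁻¹ * c * g * f' = g⁻¹ * (c * (g * f' * g⁻¹)) * g := by group
        _ = f' * (g⁻¹ * c * g) := by rw [← this]; group
    · show g * (g⁻¹ * c * g) * g⁻¹ = c
      group
  · rw [hPmap] at hc hd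
    obtain ⟨c', hc', rfl⟩ := hc
    obtain ⟨d', hd', rfl⟩ := hd
    rw [← map_mul, ← map_mul, F.comm_P0 hfA hf'' hd' hc']
  · rw [Nat.card_zpowers, F.hf]
  · rw [Nat.card_zpowers, hf'']
  · intro h e
    rw [MonoidHom.map_zpowers] at e
    change zpowers (h * f * h⁻¹) = zpowers f' at e
    obtain ⟨i, hi⟩ := mem_zpowers_iff.1 (e ▸ mem_zpowers (h * f * h⁻¹) : h * f * h⁻¹ ∈ zpowers f')
    have hd : 300 ∣ 50 := by
      rw [← F.hCf, ← F.card_cent_fprime S hfA hf'']
      have hcm : Nat.card ↥((centralizer ({f} : Set G)).map (MulAut.conj h).toMonoidHom) =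
          Nat.card ↥(centralizer ({f} : Set G)) := card_map_of_injective (MulAut.conj h).injective
      rw [← hcm]
      refine card_dvd_of_le ?_
      rintro _ ⟨c, hc, rfl⟩
      refine mem_centralizer_singleton_iff.2 ?_
      obtain ⟨j, hj⟩ := mem_zpowers_iff.1 (e ▸ mem_zpowers f' : f' ∈ zpowers (h * f * h⁻¹))
      have hcomm : Commute (h * c * h⁻¹) (h * f * h⁻¹) := by
        show h * c * h⁻¹ * (h * f * h⁻¹) = h * f * h⁻¹ * (h * c * h⁻¹)
        rw [show h * c * h⁻¹ * (h * f * h⁻¹) = h * (c * f) * h⁻¹ by group,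
          mem_centralizer_singleton_iff.1 hc]
        group
      rw [← hj]
      exact (hcomm.zpow_right j).eq
    norm_num at hd
  · intro W hW
    obtain ⟨U, hU⟩ := (IsPGroup.of_card (p := 5) (n := 1) (by rw [hW]; norm_num) :
      IsPGroup 5 ↥W).exists_le_sylow
    obtain ⟨c, hc⟩ := MulAction.exists_smul_eq G U T
    obtain ⟨⟨w, hw⟩, hw5⟩ := exists_prime_orderOf_dvd_card' (G := ↥W) 5 (by rw [hW])
    rw [← orderOf_coe] at hw5
    change orderOf w = 5 at hw5
    have hWw : W = zpowers w := (eq_of_le_of_card_ge (zpowers_le.2 hw)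
      (by rw [Nat.card_zpowers, hw5, hW])).symm
    have hcw : c * w * c⁻¹ ∈ P0 := by
      have hUm : (T : Subgroup G) = (U : Subgroup G).map (MulAut.conj c).toMonoidHom := by
        rw [← hc, Sylow.coe_subgroup_smul]; rfl
      rw [← hTP, hUm]
      exact ⟨w, hU hw, rfl⟩
    obtain ⟨y, hy, hy'⟩ := hcl _ hcw (fun e => by
      rw [conj_eq_one_iff.1 e, orderOf_one] at hw5; norm_num at hw5)
    have hmap : ∀ t : G, IsConj t y → ∃ g : G, W.map (MulAut.conj g).toMonoidHom = zpowers t := by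
      intro t ht
      obtain ⟨d, hd⟩ := isConj_iff.1 ht
      refine ⟨d⁻¹ * c, ?_⟩
      rw [hWw, map_mul, MulEquiv.toMonoidHom_eq_coe]
      have e1 : (zpowers w).map (MulAut.conj c).toMonoidHom = zpowers y := by
        rw [hy, MonoidHom.map_zpowers]; rfl
      rw [show ((MulAut.conj d⁻¹ * MulAut.conj c : MulAut G) : G →* G) =
        (MulAut.conj d⁻¹).toMonoidHom.comp (MulAut.conj c).toMonoidHom from rfl, ← Subgroup.map_map, e1,
        MonoidHom.map_zpowers]
      congr 1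
      show d⁻¹ * y * d⁻¹⁻¹ = t
      rw [← hd]; group
    rcases hy' with h | h
    · obtain ⟨g, hg⟩ := hmap f h
      exact ⟨g, Or.inl hg⟩
    · obtain ⟨g, hg⟩ := hmap f' h
      exact ⟨g, Or.inr hg⟩

end CfsgLib.InvChar.HJType
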