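import Cfsg.Agent.Lib.InvChar.HallJankoSylowThree

/-!
Groups of Hall-Janko type: the Sylow subgroups for the prime seven.
-/

set_option autoImplicit false

namespace CfsgLib.InvChar.HJType

open CfsgLib.Invol Subgroup

universe u

variable {G : Type u} [Group G] {z : G} {Q : Subgroup G} {a f v k r f' y : G} {W X0 A : Subgroup G}

theorem card_centralizer_conj {g t : G} : Nat.card ↥(centralizer ({g * t * g⁻¹} : Set G)) =
    Nat.card ↥(centralizer ({t} : Set G)) := by
  refine Nat.card_congr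
    { toFun := fun d => ⟨g⁻¹ * d * g, mem_centralizer_singleton_iff.2 ?_⟩
      invFun := fun d => ⟨g * d * g⁻¹, mem_centralizer_singleton_iff.2 ?_⟩
      left_inv := fun d => Subtype.ext (by group)
      right_inv := fun d => Subtype.ext (by group) }
  · have := mem_centralizer_singleton_iff.1 d.2
    calc g⁻¹ * (d : G) * g * t = g⁻¹ * ((d : G) * (g * t * g⁻¹)) * g := by group
      _ = g⁻¹ * ((g * t * g⁻¹) * d) * g := by rw [this]
      _ = t * (g⁻¹ * d * g) := by group
  · have := mem_centralizer_singleton_iff.1 d.2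
    rw [show g * (d : G) * g⁻¹ * (g * t * g⁻¹) = g * ((d : G) * t) * g⁻¹ by group, this]
    group

namespace Five

variable (F : Five z Q a W X0 f v k A)
include F

/-- The possible orders of the centraliser and normaliser of an element of order seven. -/
theorem seven_orders [Finite G] (S : Data z Q) (hrX : r ∈ X0) (hr : orderOf r = 3)
    (hy : orderOf y = 7) :
    (Nat.card ↥(centralizer ({y} : Set G)) = 7 ∧ Nat.card ↥(normalizer (zpowers y : Set G)) = 42) ∨
      (Nat.card ↥(centralizer ({y} : Set G)) = 21 ∧ Nat.card ↥(normalizer (zpowers y : Set G)) = 42) := by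
  classical
  haveI : Fact (Nat.Prime 7) := ⟨by norm_num⟩
  haveI : Fact (Nat.Prime 3) := ⟨by norm_num⟩
  set C := centralizer ({y} : Set G) with hC
  set N := normalizer (zpowers y : Set G) with hN
  have hCy : centralizer ((zpowers y : Subgroup G) : Set G) = C := by
    refine le_antisymm (fun c hc => mem_centralizer_singleton_iff.2
      (mem_centralizer_iff.1 hc y (mem_zpowers y)).symm) fun c hc => mem_centralizer_iff.2 ?_
    rintro d ⟨i, rfl⟩
    exact ((show Commute c y from mem_centralizer_singleton_iff.1 hc).zpow_right i).eq.symm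
  have h7C : 7 ∣ Nat.card ↥C := hy ▸ C.orderOf_dvd_natCard (mem_centralizer_singleton_iff.2 rfl)
  have hC2 : ¬ 2 ∣ Nat.card ↥C := by
    intro h2
    obtain ⟨c, hc, hc2⟩ := exists_invol_mem (even_iff_two_dvd.2 h2)
    have hyc : y ∈ centralizer ({c} : Set G) :=
      mem_centralizer_singleton_iff.2 (mem_centralizer_singleton_iff.1 hc).symm
    have hd := (centralizer ({c} : Set G)).orderOf_dvd_natCard hyc
    rw [hy] at hd
    rcases S.conj_cases F.L.ha hc2 with h | h
    · obtain ⟨g, rfl⟩ := isConj_iff.1 h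
      rw [card_centralizer_conj, S.card_H] at hd
      norm_num at hd
    · obtain ⟨g, rfl⟩ := isConj_iff.1 h
      rw [card_centralizer_conj, F.L.hXc] at hd
      norm_num at hd
  obtain ⟨⟨f', hfA⟩, hf'⟩ := exists_prime_orderOf_dvd_card' (G := ↥A) 5 (hp := ⟨by norm_num⟩)
    (by rw [F.hA]; norm_num)
  rw [← orderOf_coe] at hf'
  change orderOf f' = 5 at hf'
  have hC5 : ¬ 5 ∣ Nat.card ↥C := by
    intro h5
    obtain ⟨⟨c, hc⟩, hc5⟩ := exists_prime_orderOf_dvd_card' (G := ↥C) 5 (hp := ⟨by norm_num⟩) h5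
    rw [← orderOf_coe] at hc5
    change orderOf c = 5 at hc5
    obtain ⟨g, hg⟩ := F.conj_five S hfA hf' hc5
    have key : ∀ t : G, g * t * g⁻¹ ∈ zpowers c → 7 ∣ Nat.card ↥(centralizer ({t} : Set G)) := by
      intro t ht
      obtain ⟨i, hi⟩ := mem_zpowers_iff.1 ht
      have hcy : Commute y (g * t * g⁻¹) :=
        hi ▸ (show Commute y c from (mem_centralizer_singleton_iff.1 hc).symm).zpow_right i
      rw [← card_centralizer_conj (g := g) (t := t), ← hy]
      exact (centralizer _).orderOf_dvd_natCard (mem_centralizer_singleton_iff.2 hcy.eq)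
    rcases hg with hg | hg
    · have := key f hg
      rw [F.hCf] at this
      norm_num at this
    · have := key f' hg
      rw [F.card_cent_fprime S hfA hf'] at this
      norm_num at this
  -- the three-part
  obtain ⟨T, hT⟩ := (IsPGroup.of_card (p := 3) (n := 2) (by rw [F.card_E S hrX hr]; norm_num) :
    IsPGroup 3 ↥(centralizer ({r} : Set G) ⊓ centralizer ({k} : Set G) : Subgroup G)).exists_le_sylow
  obtain ⟨-, -, -, hcl, -, -⟩ := F.sylow_three S hrX hr T hT
  have hC9 : ¬ 9 ∣ Nat.card ↥C := by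
    intro h9
    obtain ⟨R, hR⟩ := Sylow.exists_subgroup_card_pow_prime 3 (G := ↥C) (n := 2) (by simpa using h9)
    have hRc : Nat.card ↥(R.map C.subtype) = 9 :=
      (card_map_of_injective C.subtype_injective).trans (hR.trans (by norm_num))
    obtain ⟨U, hU⟩ := (IsPGroup.of_card (p := 3) (n := 2) (by rw [hRc]; norm_num) :
      IsPGroup 3 ↥(R.map C.subtype)).exists_le_sylow
    obtain ⟨g, hg⟩ := MulAction.exists_smul_eq G U T
    set R' := (R.map C.subtype).map (MulAut.conj g).toMonoidHom with hR'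
    have hR'T : R' ≤ (T : Subgroup G) := by
      rw [← hg, Sylow.coe_subgroup_smul]
      exact map_mono hU
    have hR'c : Nat.card ↥R' = 9 :=
      (card_map_of_injective (MulAut.conj g).injective).trans hRc
    have hnle : ¬ R' ≤ zpowers k := fun h => by
      have := card_dvd_of_le h
      rw [hR'c, Nat.card_zpowers, F.hk] at this
      norm_num at this
    obtain ⟨e, heR, hek⟩ := SetLike.not_le_iff_exists.1 hnle
    obtain ⟨d, hd⟩ := isConj_iff.1 ((hcl e (hR'T heR)).resolve_left hek)
    obtain ⟨_, ⟨c, hc, rfl⟩, hce⟩ := heR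
    change g * (c : G) * g⁻¹ = e at hce
    have hd7 : 7 ∣ Nat.card ↥(centralizer ({r} : Set G)) := by
      rw [← card_centralizer_conj (g := g⁻¹ * d) (t := r),
        show g⁻¹ * d * r * (g⁻¹ * d)⁻¹ = g⁻¹ * (d * r * d⁻¹) * g by group, hd, ← hce,
        show g⁻¹ * (g * (c : G) * g⁻¹) * g = c by group, ← hy]
      exact (centralizer _).orderOf_dvd_natCard
        (mem_centralizer_singleton_iff.2 (mem_centralizer_singleton_iff.1 c.2).symm)
    rw [(F.cent_three S hrX hr).1] at hd7
    norm_num at hd7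
  have hdG : Nat.card ↥C ∣ 604800 := S.order_eq.1 ▸ card_subgroup_dvd_card C
  have hCcases : Nat.card ↥C = 7 ∨ Nat.card ↥C = 21 := by
    obtain ⟨c, hc⟩ := h7C
    rw [hc] at hdG hC2 hC5 hC9 ⊢
    have hd : c ∣ 86400 := Nat.dvd_of_mul_dvd_mul_left (by norm_num : 0 < 7) (by simpa using hdG)
    have h2 : Nat.Coprime c 2 := by
      rw [Nat.coprime_comm, Nat.Prime.coprime_iff_not_dvd Nat.prime_two]
      rintro ⟨l, rfl⟩
      exact hC2 ⟨7 * l, by ring⟩
    have h5 : Nat.Coprime c 5 := by
      rw [Nat.coprime_comm, Nat.Prime.coprime_iff_not_dvd (by norm_num)]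
      rintro ⟨l, rfl⟩
      exact hC5 ⟨7 * l, by ring⟩
    have h27 : c ∣ 27 := ((h2.pow_right 7).mul_right (h5.pow_right 2)).dvd_of_dvd_mul_left
      (show c ∣ 2 ^ 7 * 5 ^ 2 * 27 by simpa using hd)
    obtain ⟨i, hi, rfl⟩ := (Nat.dvd_prime_pow (by norm_num : Nat.Prime 3)).1
      (show c ∣ 3 ^ 3 by simpa using h27)
    rcases i with _ | _ | i
    · left; norm_num
    · right; norm_num
    · exact absurd ⟨7 * 3 ^ i, by ring⟩ hC9
  -- the normaliser
  have hCN : C ≤ N := by
    rw [← hCy]
    intro c hc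
    have key : ∀ d ∈ zpowers y, c * d * c⁻¹ = d := fun d hd => by
      rw [← mem_centralizer_iff.1 hc d hd, mul_inv_cancel_right]
    refine mem_normalizer_iff.2 fun d => ⟨fun hd => by rw [key d hd]; exact hd, fun hd => ?_⟩
    have := key _ hd
    rw [mul_left_inj, mul_right_inj] at this
    rwa [this] at hd
  obtain ⟨t, ht, hNt⟩ : ∃ t, t ∣ 6 ∧ Nat.card ↥N = Nat.card ↥C * t := by
    have key := card_dvd_of_injective _ (QuotientGroup.kerLift_injective (zpowers y).normalizerMonoidHom)
    rw [normalizerMonoidHom_ker, hCy] at key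
    refine ⟨_, ?_, (by
      rw [← Nat.card_congr (subgroupOfEquivOfLe hCN).toEquiv, mul_comm]
      exact card_eq_card_quotient_mul_card_subgroup (C.subgroupOf N))⟩
    refine key.trans (dvd_of_eq ?_)
    rw [IsCyclic.card_mulAut, Nat.card_zpowers, hy, Nat.totient_prime (by norm_num)]
  obtain ⟨P, hP⟩ := (IsPGroup.of_card (p := 7) (n := 1) (by rw [Nat.card_zpowers, hy]; norm_num) :
    IsPGroup 7 ↥(zpowers y)).exists_le_sylow
  have hPy : zpowers y = (P : Subgroup G) := by
    refine eq_of_le_of_card_ge hP ?_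
    obtain ⟨j, hj⟩ := P.2.exists_card_eq
    have hd : 7 ^ j ∣ 604800 := hj ▸ S.order_eq.1 ▸ card_subgroup_dvd_card (P : Subgroup G)
    have hj2 : j < 2 := by
      by_contra hc
      have : 7 ^ 2 ∣ 604800 := (pow_dvd_pow 7 (not_lt.1 hc)).trans hd
      norm_num at this
    rw [hj, Nat.card_zpowers, hy]
    interval_cases j <;> norm_num
  have hmod : N.index ≡ 1 [MOD 7] := by
    rw [hN, hPy]
    exact P.card_eq_index_normalizer ▸ card_sylow_modEq_one 7 G
  have hidx := N.card_mul_index
  rw [S.order_eq.1, hNt] at hidx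
  have hle := Nat.le_of_dvd (by norm_num) ht
  unfold Nat.ModEq at hmod
  rcases hCcases with h | h <;> rw [h] at hidx hNt ⊢
  · left
    refine ⟨rfl, ?_⟩
    generalize N.index = i at *
    interval_cases t <;> omega
  · right
    refine ⟨rfl, ?_⟩
    generalize N.index = i at *
    interval_cases t <;> omega

/-- No element of order seven commutes with `k`. -/
theorem not_seven_cent_k [Finite G] (S : Data z Q) (hrX : r ∈ X0) (hr : orderOf r = 3) :
    ¬ 7 ∣ Nat.card ↥(centralizer ({k} : Set G)) := by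
  classical
  intro h7
  haveI : Fact (Nat.Prime 7) := ⟨by norm_num⟩
  haveI : Fact (Nat.Prime 3) := ⟨by norm_num⟩
  obtain ⟨T, hT⟩ := (IsPGroup.of_card (p := 3) (n := 2) (by rw [F.card_E S hrX hr]; norm_num) :
    IsPGroup 3 ↥(centralizer ({r} : Set G) ⊓ centralizer ({k} : Set G) : Subgroup G)).exists_le_sylow
  obtain ⟨-, hT27, -, -, hkc, -⟩ := F.sylow_three S hrX hr T hT
  obtain ⟨e, he7, he⟩ := F.card_cent_k S (hT27 ▸ card_dvd_of_le (K := centralizer ({k} : Set G))
    (H := (T : Subgroup G)) fun c hc => mem_centralizer_singleton_iff.2 (hkc c hc))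
  set M := centralizer ({k} : Set G) with hM
  have he' : e = 7 := by
    rcases (Nat.dvd_prime (by norm_num : Nat.Prime 7)).1 he7 with rfl | rfl
    · rw [he] at h7; norm_num at h7
    · rfl
  obtain ⟨⟨y, hyM⟩, hy⟩ := exists_prime_orderOf_dvd_card' (G := ↥M) 7 h7
  rw [← orderOf_coe] at hy
  change orderOf y = 7 at hy
  set C := centralizer ({y} : Set G) with hC
  have hkC : k ∈ C := mem_centralizer_singleton_iff.2 (mem_centralizer_singleton_iff.1 hyM).symm
  have h21 : 21 ∣ Nat.card ↥(C ⊓ M : Subgroup G) := by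
    refine Nat.Coprime.mul_dvd_of_dvd_of_dvd (by norm_num : Nat.Coprime 3 7)
      (F.hk ▸ (C ⊓ M).orderOf_dvd_natCard (mem_inf.2 ⟨hkC, mem_centralizer_singleton_iff.2 rfl⟩))
      (hy ▸ (C ⊓ M).orderOf_dvd_natCard (mem_inf.2 ⟨mem_centralizer_singleton_iff.2 rfl, hyM⟩))
  obtain ⟨hC21, hN42⟩ : Nat.card ↥C = 21 ∧ Nat.card ↥(normalizer (zpowers y : Set G)) = 42 := by
    refine (F.seven_orders S hrX hr hy).resolve_left fun h => ?_
    have := (h21.trans (card_dvd_of_le inf_le_left)).trans (dvd_of_eq h.1)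
    norm_num at this
  set N := normalizer (zpowers y : Set G) with hN
  have hCN : C ≤ N := by
    intro c hc
    have key : ∀ d ∈ zpowers y, c * d * c⁻¹ = d := fun d hd => by
      obtain ⟨i, rfl⟩ := mem_zpowers_iff.1 hd
      rw [((show Commute c y from mem_centralizer_singleton_iff.1 hc).zpow_right i).eq, mul_inv_cancel_right]
    refine mem_normalizer_iff.2 fun d => ⟨fun hd => by rw [key d hd]; exact hd, fun hd => ?_⟩
    have := key _ hd
    rw [mul_left_inj, mul_right_inj] at this
    rwa [this] at hd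
  have h21N : 21 ∣ Nat.card ↥(N ⊓ M : Subgroup G) :=
    h21.trans (card_dvd_of_le (inf_le_inf_right M hCN))
  have hd42 : Nat.card ↥(N ⊓ M : Subgroup G) ∣ 42 := hN42 ▸ card_dvd_of_le inf_le_left
  -- the Sylow count in `M`
  obtain ⟨P, hP⟩ := (IsPGroup.of_card (p := 7) (n := 1) (by rw [Nat.card_zpowers, hy]; norm_num) :
    IsPGroup 7 ↥(zpowers y)).exists_le_sylow
  have hPy : zpowers y = (P : Subgroup G) := by
    refine eq_of_le_of_card_ge hP ?_
    obtain ⟨j, hj⟩ := P.2.exists_card_eq
    have hd : 7 ^ j ∣ 604800 := hj ▸ S.order_eq.1 ▸ card_subgroup_dvd_card (P : Subgroup G)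
    have hj2 : j < 2 := by
      by_contra hc
      have : 7 ^ 2 ∣ 604800 := (pow_dvd_pow 7 (not_lt.1 hc)).trans hd
      norm_num at this
    rw [hj, Nat.card_zpowers, hy]
    interval_cases j <;> norm_num
  have hPM : (P : Subgroup G) ≤ M := hPy ▸ zpowers_le.2 hyM
  set PM : Sylow 7 ↥M := P.subtype hPM with hPMdef
  have hNM : Nat.card ↥(normalizer ((PM : Subgroup ↥M) : Set ↥M)) = Nat.card ↥(N ⊓ M : Subgroup G) := by
    refine Nat.card_congr
      { toFun := fun c => ⟨((c : ↥M) : G), mem_inf.2 ⟨mem_normalizer_iff.2 fun d => ?_, (c : ↥M).2⟩⟩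
        invFun := fun c => ⟨⟨c, (mem_inf.1 c.2).2⟩, mem_normalizer_iff.2 fun d => ?_⟩
        left_inv := fun c => rfl
        right_inv := fun c => rfl }
    · have h := mem_normalizer_iff.1 c.2
      rw [hPy]
      constructor
      · intro hd
        exact (h ⟨d, hPM hd⟩).1 hd
      · intro hd
        have hdM : d ∈ M := by
          have h3 := mul_mem (mul_mem (inv_mem (c : ↥M).2) (hPM hd)) (c : ↥M).2
          rwa [show ((c : ↥M) : G)⁻¹ * (((c : ↥M) : G) * d * ((c : ↥M) : G)⁻¹) * ((c : ↥M) : G) = d by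
            group] at h3
        exact (h ⟨d, hdM⟩).2 hd
    · have h := mem_normalizer_iff.1 (mem_inf.1 c.2).1 (d : G)
      rw [hPy] at h
      exact h
  have hidx := (normalizer ((PM : Subgroup ↥M) : Set ↥M)).card_mul_index
  rw [hNM, he, he'] at hidx
  have hmod : (normalizer ((PM : Subgroup ↥M) : Set ↥M)).index ≡ 1 [MOD 7] :=
    PM.card_eq_index_normalizer ▸ card_sylow_modEq_one 7 ↥M
  unfold Nat.ModEq at hmod
  obtain ⟨c, hc⟩ := h21N
  have hle := Nat.le_of_dvd (by norm_num) hd42
  have hc2 : c ≤ 2 := by omega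
  have hpos : 0 < Nat.card ↥(N ⊓ M : Subgroup G) := Nat.card_pos
  rw [hc] at hidx hpos
  interval_cases c <;> omega

end Five

theorem Data.sylow_seven_result [Finite G] (S : Data z Q) (D : Sylow 7 G) :
    centralizer ((D : Subgroup G) : Set G) = D ∧
      Nat.card ↥(normalizer ((D : Subgroup G) : Set G)) = 42 ∧
      ¬ IsMulCommutative ↥(normalizer ((D : Subgroup G) : Set G)) := by
  classical
  haveI : Fact (Nat.Prime 7) := ⟨by norm_num⟩
  haveI : Fact (Nat.Prime 3) := ⟨by norm_num⟩
  obtain ⟨a, W, X0, f, v, k, A, F⟩ := S.exists_five_config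
  obtain ⟨⟨r, hrX⟩, hr⟩ := exists_prime_orderOf_dvd_card' (G := ↥X0) 3 (by rw [F.L.hX0c]; norm_num)
  rw [← orderOf_coe] at hr
  change orderOf r = 3 at hr
  have hD7 : Nat.card ↥(D : Subgroup G) = 7 := by
    rw [D.card_eq_multiplicity, S.order_eq.1, show Nat.factorization 604800 7 = 1 by
      rw [show (604800 : ℕ) = 7 * 86400 by norm_num, Nat.factorization_mul (by norm_num) (by norm_num),
        Finsupp.add_apply, Nat.Prime.factorization_self (by norm_num),
        Nat.factorization_eq_zero_of_not_dvd (show ¬ 7 ∣ 86400 by norm_num)]]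
    norm_num
  obtain ⟨⟨y, hyD⟩, hy⟩ := exists_prime_orderOf_dvd_card' (G := ↥(D : Subgroup G)) 7 (by rw [hD7])
  rw [← orderOf_coe] at hy
  change orderOf y = 7 at hy
  have hDy : zpowers y = (D : Subgroup G) :=
    eq_of_le_of_card_ge (zpowers_le.2 hyD) (by rw [hD7, Nat.card_zpowers, hy])
  obtain ⟨hC7, hN⟩ : Nat.card ↥(centralizer ({y} : Set G)) = 7 ∧
      Nat.card ↥(normalizer (zpowers y : Set G)) = 42 := by
    refine (F.seven_orders S hrX hr hy).resolve_right fun ⟨h21, _⟩ => ?_
    obtain ⟨⟨c, hc⟩, hc3⟩ := exists_prime_orderOf_dvd_card' (G := ↥(centralizer ({y} : Set G))) 3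
      (by rw [h21]; norm_num)
    rw [← orderOf_coe] at hc3
    change orderOf c = 3 at hc3
    have h7c : 7 ∣ Nat.card ↥(centralizer ({c} : Set G)) := hy ▸ (centralizer _).orderOf_dvd_natCard
      (mem_centralizer_singleton_iff.2 (mem_centralizer_singleton_iff.1 hc).symm)
    obtain ⟨T, hT⟩ := (IsPGroup.of_card (p := 3) (n := 2) (by rw [F.card_E S hrX hr]; norm_num) :
      IsPGroup 3 ↥(centralizer ({r} : Set G) ⊓ centralizer ({k} : Set G) : Subgroup G)).exists_le_sylow
    obtain ⟨-, -, -, hcl, -, hkk⟩ := F.sylow_three S hrX hr T hT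
    obtain ⟨U, hU⟩ := (IsPGroup.of_card (p := 3) (n := 1) (by rw [Nat.card_zpowers, hc3]; norm_num) :
      IsPGroup 3 ↥(zpowers c)).exists_le_sylow
    obtain ⟨d, hd⟩ := MulAction.exists_smul_eq G U T
    have hmem : d * c * d⁻¹ ∈ (T : Subgroup G) := by
      rw [← hd, Sylow.coe_subgroup_smul]
      exact ⟨c, hU (mem_zpowers c), rfl⟩
    have hne : d * c * d⁻¹ ≠ 1 := fun e => by
      rw [conj_eq_one_iff.1 e, orderOf_one] at hc3; norm_num at hc3
    rw [← card_centralizer_conj (g := d)] at h7c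
    have hk' : IsConj k (d * c * d⁻¹) ∨ IsConj r (d * c * d⁻¹) := (hcl _ hmem).imp_left fun h => by
      rcases mem_zpowers_three F.hk h with e | e | e
      · exact absurd e hne
      · rw [e]
      · rw [e]; exact hkk
    rcases hk' with h | h <;> obtain ⟨g, hg⟩ := isConj_iff.1 h <;> rw [← hg, card_centralizer_conj] at h7c
    · exact F.not_seven_cent_k S hrX hr h7c
    · rw [(F.cent_three S hrX hr).1] at h7c; norm_num at h7c
  have hCD : centralizer ((D : Subgroup G) : Set G) = D := by
    have h1 : (D : Subgroup G) ≤ centralizer ({y} : Set G) := hDy ▸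
      zpowers_le.2 (mem_centralizer_singleton_iff.2 rfl)
    have h2 := eq_of_le_of_card_ge h1 (by rw [hC7, hD7])
    refine le_antisymm (fun c hc => h2 ▸ mem_centralizer_singleton_iff.2
      (mem_centralizer_iff.1 hc y hyD).symm) (fun c hc => mem_centralizer_iff.2 fun d hd => ?_)
    rw [← hDy] at hc hd
    obtain ⟨i, rfl⟩ := mem_zpowers_iff.1 hc
    obtain ⟨j, rfl⟩ := mem_zpowers_iff.1 hd
    exact (Commute.zpow_zpow_self y j i).eq
  refine ⟨hCD, hDy ▸ hN, fun hcomm => ?_⟩
  have hle : normalizer ((D : Subgroup G) : Set G) ≤ centralizer ((D : Subgroup G) : Set G) :=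
    fun c hc => mem_centralizer_iff.2 fun d hd =>
      congrArg Subtype.val (hcomm.is_comm.comm ⟨d, le_normalizer hd⟩ ⟨c, hc⟩)
  have := card_dvd_of_le hle
  rw [hCD, hD7, ← hDy, hN] at this
  norm_num at this

end CfsgLib.InvChar.HJType
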