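import Cfsg.Agent.Lib.InvChar.HallJankoThree
import Cfsg.Agent.Lib.InvChar.HallJankoSetup
import Cfsg.Agent.Lib.Coprime.SymplecticType

/-!
Groups of Hall-Janko type: the Sylow subgroups for the prime three.
-/

set_option autoImplicit false

namespace CfsgLib.InvChar.HJType

open CfsgLib.Invol Subgroup
open scoped commutatorElement

universe u

variable {G : Type u} [Group G] {z : G} {Q : Subgroup G} {a f v k r : G} {W X0 A : Subgroup G}

/-- In a group of order `p²` which is not cyclic all `p`-th powers are trivial. -/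
theorem pow_eq_one_of_sq {p : ℕ} (hp : p.Prime) {E : Type*} [Group E] [Finite E] (h : Nat.card E = p ^ 2)
    (hc : ¬ IsCyclic E) (x : E) : x ^ p = 1 := by
  obtain ⟨i, hi, ho⟩ := (Nat.dvd_prime_pow hp).1 (h ▸ orderOf_dvd_natCard x : orderOf x ∣ p ^ 2)
  interval_cases i
  · have hx : x = 1 := orderOf_eq_one_iff.1 (by simpa using ho)
    rw [hx, one_pow]
  · rw [pow_one] at ho; rw [← ho, pow_orderOf_eq_one]
  · exact absurd (isCyclic_of_orderOf_eq_card x (by rw [ho, h])) hc

namespace Five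

variable (F : Five z Q a W X0 f v k A)
include F

theorem card_E [Finite G] (S : Data z Q) (hrX : r ∈ X0) (hr : orderOf r = 3) :
    Nat.card ↥(centralizer ({r} : Set G) ⊓ centralizer ({k} : Set G) : Subgroup G) = 9 := by
  obtain ⟨h36, -, hnz, -⟩ := F.cent_three S hrX hr
  set E := centralizer ({r} : Set G) ⊓ centralizer ({k} : Set G) with hE
  have h9 : 9 ∣ Nat.card ↥E := F.nine_dvd hrX hr
  have hd : Nat.card ↥E ∣ 36 := h36 ▸ card_dvd_of_le inf_le_left
  have h2 : ¬ 2 ∣ Nat.card ↥E := by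
    intro h2
    obtain ⟨c, hc, hc2⟩ := exists_invol_mem (even_iff_two_dvd.2 h2)
    obtain ⟨hcr, hck⟩ := mem_inf.1 hc
    exact hnz c (mem_centralizer_singleton_iff.1 hcr)
      (F.invol_cent_k S hc2 (mem_centralizer_singleton_iff.1 hck))
  obtain ⟨t, ht⟩ := h9
  have hle := Nat.le_of_dvd (by norm_num) hd
  have ht4 : t ≤ 4 := by omega
  rw [ht] at hd h2 ⊢
  interval_cases t <;> omega

theorem mem_E [Finite G] (S : Data z Q) (hrX : r ∈ X0) (hr : orderOf r = 3) {e : G}
    (he : e ∈ centralizer ({r} : Set G) ⊓ centralizer ({k} : Set G)) :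
    ∃ p ∈ zpowers r, ∃ q ∈ zpowers k, e = p * q := by
  classical
  have hkr : Commute k r := F.hkX r hrX
  have hE1 : r ∈ centralizer ({r} : Set G) ⊓ centralizer ({k} : Set G) :=
    mem_inf.2 ⟨mem_centralizer_singleton_iff.2 rfl, mem_centralizer_singleton_iff.2 hkr.eq.symm⟩
  have hE2 : k ∈ centralizer ({r} : Set G) ⊓ centralizer ({k} : Set G) :=
    mem_inf.2 ⟨mem_centralizer_singleton_iff.2 hkr.eq, mem_centralizer_singleton_iff.2 rfl⟩
  have hb : Function.Bijective (fun p : ↥(zpowers r) × ↥(zpowers k) =>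
      (⟨(p.1 : G) * p.2, mul_mem ((zpowers_le.2 hE1) p.1.2) ((zpowers_le.2 hE2) p.2.2)⟩ :
        ↥(centralizer ({r} : Set G) ⊓ centralizer ({k} : Set G) : Subgroup G))) := by
    refine (show Function.Injective _ from fun p q h => ?_).bijective_of_nat_card_le
      (by rw [Nat.card_prod, Nat.card_zpowers, Nat.card_zpowers, hr, F.hk, F.card_E S hrX hr])
    refine Subgroup.mul_injective_of_disjoint (disjoint_iff.2 ?_) (congrArg Subtype.val h)
    rw [eq_bot_iff]
    rintro c ⟨hc1, hc2⟩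
    rw [mem_bot]
    have hcX : c ∈ X0 := (zpowers_le.2 hrX) hc1
    rcases mem_zpowers_three F.hk hc2 with e | e | e
    · exact e
    · exact absurd (e ▸ hcX) F.k_not_mem_X0
    · exact absurd (by simpa using inv_mem (e ▸ hcX : k⁻¹ ∈ X0)) F.k_not_mem_X0
  obtain ⟨⟨p, q⟩, hpq⟩ := hb.2 ⟨e, he⟩
  exact ⟨p, p.2, q, q.2, (congrArg Subtype.val hpq).symm⟩

/-- The order of the centraliser of `k`, given the three-part. -/
theorem card_cent_k [Finite G] (S : Data z Q)
    (h27 : 27 ∣ Nat.card ↥(centralizer ({k} : Set G))) :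
    ∃ e, e ∣ 7 ∧ Nat.card ↥(centralizer ({k} : Set G)) = 1080 * e := by
  classical
  haveI : Fact (Nat.Prime 2) := ⟨by norm_num⟩
  set M := centralizer ({k} : Set G) with hM
  have hvz : IsConj z v := F.L.hX0z v F.hvX (invol_mul_self F.hv) (invol_ne_one F.hv)
  have h24 : 24 ∣ Nat.card ↥M := S.cent_three_conj hvz F.hk (F.hvA k F.hkA) ▸
    card_dvd_of_le inf_le_right
  have h5 : 5 ∣ Nat.card ↥M := F.hf ▸ M.orderOf_dvd_natCard
    (mem_centralizer_singleton_iff.2 (F.commute_f F.hkA).symm.eq)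
  have h16 : ¬ 16 ∣ Nat.card ↥M := by
    intro h16
    obtain ⟨R0, hR0⟩ := Sylow.exists_subgroup_card_pow_prime 2 (G := ↥M) (n := 4) (by simpa using h16)
    haveI : Nontrivial ↥R0 := Finite.one_lt_card_iff_nontrivial.1 (by rw [hR0]; norm_num)
    haveI := (IsPGroup.of_card hR0).center_nontrivial
    obtain ⟨c, hc, hc2⟩ := exists_invol_mem (show Even (Nat.card ↥(center ↥R0)) by
      obtain ⟨j, hj⟩ := ((IsPGroup.of_card hR0).to_subgroup (center ↥R0)).exists_card_eq
      have hlt : 1 < Nat.card ↥(center ↥R0) := Finite.one_lt_card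
      rw [hj] at hlt ⊢
      rcases j with _ | j
      · simp at hlt
      · exact ⟨2 ^ j, by rw [pow_succ]; ring⟩)
    have hcz : IsConj z ((c : ↥M) : G) := F.invol_cent_k S (by rw [orderOf_coe, orderOf_coe]; exact hc2)
      (mem_centralizer_singleton_iff.1 (c : ↥M).2)
    have hle : R0.map M.subtype ≤ centralizer ({((c : ↥M) : G)} : Set G) ⊓ centralizer ({k} : Set G) := by
      rintro _ ⟨d, hd, rfl⟩
      exact mem_inf.2 ⟨mem_centralizer_singleton_iff.2
        (congrArg (fun t : ↥R0 => ((t : ↥M) : G)) (mem_center_iff.1 hc ⟨d, hd⟩)), d.2⟩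
    have := card_dvd_of_le hle
    rw [card_map_of_injective M.subtype_injective, hR0, S.cent_three_conj hcz F.hk
      (mem_centralizer_singleton_iff.1 (c : ↥M).2)] at this
    norm_num at this
  have h25 : ¬ 25 ∣ Nat.card ↥M := by
    intro h25
    haveI : Fact (Nat.Prime 5) := ⟨by norm_num⟩
    obtain ⟨R0, hR0⟩ := Sylow.exists_subgroup_card_pow_prime 5 (G := ↥M) (n := 2) (by simpa using h25)
    have hc : Nat.card ↥(R0.map M.subtype) = 25 :=
      (card_map_of_injective M.subtype_injective).trans (hR0.trans (by norm_num))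
    obtain ⟨U, hU⟩ := (IsPGroup.of_card (p := 5) (n := 2) (by rw [hc]; norm_num) :
      IsPGroup 5 ↥(R0.map M.subtype)).exists_le_sylow
    obtain ⟨hCU, hU25, -⟩ := S.sylow_five_result U
    have hUM : (U : Subgroup G) ≤ M := by
      rw [← eq_of_le_of_card_ge hU (by rw [hU25, hc])]
      exact map_subtype_le R0
    have hkU : k ∈ centralizer ((U : Subgroup G) : Set G) := mem_centralizer_iff.2 fun d hd =>
      mem_centralizer_singleton_iff.1 (hUM hd)
    rw [hCU] at hkU
    have := (U : Subgroup G).orderOf_dvd_natCard hkU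
    rw [F.hk, hU25] at this
    norm_num at this
  have hdG : Nat.card ↥M ∣ 604800 := S.order_eq.1 ▸ card_subgroup_dvd_card M
  have h1080 : 1080 ∣ Nat.card ↥M := by
    have h8 : 8 ∣ Nat.card ↥M := (by norm_num : (8 : ℕ) ∣ 24).trans h24
    have h40 := Nat.Coprime.mul_dvd_of_dvd_of_dvd (by norm_num : Nat.Coprime 8 5) h8 h5
    exact Nat.Coprime.mul_dvd_of_dvd_of_dvd (by norm_num : Nat.Coprime 40 27) h40 h27
  obtain ⟨e, he⟩ := h1080
  have he560 : e ∣ 560 := by
    rw [he] at hdG
    exact Nat.dvd_of_mul_dvd_mul_left (by norm_num : 0 < 1080) (by simpa using hdG)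
  have hle560 := Nat.le_of_dvd (by norm_num) he560
  rw [he] at h16 h25
  have he7 : e ∣ 7 := by
    have h2 : Nat.Coprime e 2 := by
      rw [Nat.coprime_comm, Nat.Prime.coprime_iff_not_dvd Nat.prime_two]
      rintro ⟨l, rfl⟩
      exact h16 ⟨135 * l, by ring⟩
    have h5' : Nat.Coprime e 5 := by
      rw [Nat.coprime_comm, Nat.Prime.coprime_iff_not_dvd (by norm_num)]
      rintro ⟨l, rfl⟩
      exact h25 ⟨216 * l, by ring⟩
    have h112 : e ∣ 16 * 7 :=
      h5'.dvd_of_dvd_mul_left (show e ∣ 5 * (16 * 7) by simpa using he560)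
    exact (h2.pow_right 4).dvd_of_dvd_mul_left (show e ∣ 2 ^ 4 * 7 by simpa using h112)
  exact ⟨e, he7, he⟩

/-- No element of the centraliser of `r` inverts `k`. -/
theorem no_invert [Finite G] (S : Data z Q) (hrX : r ∈ X0) (hr : orderOf r = 3) {c : G}
    (hc : c * r = r * c) : c * k * c⁻¹ ≠ k⁻¹ := by
  intro h
  obtain ⟨h36, hn, -, -⟩ := F.cent_three S hrX hr
  set M := centralizer ({r} : Set G) with hM
  have hWM : W ≤ M := fun w hw => mem_centralizer_singleton_iff.2 (F.L.hWcen w hw r (F.L.hX0X hrX))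
  haveI : (W.subgroupOf M).Normal := ⟨fun w hw g => hn g g.2 w hw⟩
  have hq : Nat.card (↥M ⧸ W.subgroupOf M) = 9 := by
    have := card_eq_card_quotient_mul_card_subgroup (W.subgroupOf M)
    rw [h36, Nat.card_congr (subgroupOfEquivOfLe hWM).toEquiv, F.L.hWc] at this
    omega
  set c' : ↥M := ⟨c, mem_centralizer_singleton_iff.2 hc⟩ with hc'
  have h9 : c ^ 9 ∈ W := by
    have e : ((c' : ↥M ⧸ W.subgroupOf M)) ^ 9 = 1 :=
      (congrArg (fun n : ℕ => ((c' : ↥M ⧸ W.subgroupOf M)) ^ n) hq).symm.trans pow_card_eq_one'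
    rw [← QuotientGroup.mk_pow, QuotientGroup.eq_one_iff, mem_subgroupOf, SubmonoidClass.coe_pow] at e
    exact e
  have h2 : c * c * k * (c * c)⁻¹ = k := by
    rw [show c * c * k * (c * c)⁻¹ = c * (c * k * c⁻¹) * c⁻¹ by group, h,
      show c * k⁻¹ * c⁻¹ = (c * k * c⁻¹)⁻¹ by group, h, inv_inv]
  have hcomm : Commute ((c * c) ^ 4) k :=
    (show Commute (c * c) k from mul_inv_eq_iff_eq_mul.1 h2).pow_left 4
  have hinv : c ^ 9 * k * (c ^ 9)⁻¹ = k⁻¹ := by
    calc c ^ 9 * k * (c ^ 9)⁻¹ = c * ((c * c) ^ 4 * k * ((c * c) ^ 4)⁻¹) * c⁻¹ := by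
          rw [show c ^ 9 = c * (c * c) ^ 4 by rw [← pow_two, ← pow_mul, ← pow_succ']]; group
      _ = k⁻¹ := by rw [hcomm.eq, mul_inv_cancel_right, h]
  have hkW : k ∈ W := by
    have h1 : k * (c ^ 9) * k⁻¹ ∈ W := F.hkW _ h9
    have h1' : k⁻¹ * (c ^ 9) * k ∈ W := by
      have h2 := F.hkW _ h1
      have hk3 : k ^ 3 = 1 := F.hk ▸ pow_orderOf_eq_one k
      have hkk : k * k = k⁻¹ := eq_inv_of_mul_eq_one_left (by rw [← hk3, pow_succ, pow_two])
      rwa [show k * (k * c ^ 9 * k⁻¹) * k⁻¹ = (k * k) * c ^ 9 * (k * k)⁻¹ by group, hkk, inv_inv] at h2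
    have := mul_mem h1' (inv_mem h9)
    rw [show k⁻¹ * c ^ 9 * k * (c ^ 9)⁻¹ = k⁻¹ * (c ^ 9 * k * (c ^ 9)⁻¹) by group, hinv] at this
    have hk3 : k ^ 3 = 1 := F.hk ▸ pow_orderOf_eq_one k
    rwa [show k⁻¹ * k⁻¹ = k by
      rw [← mul_inv_rev, inv_eq_iff_mul_eq_one, ← hk3, pow_succ, pow_two]] at this
  have h3 := orderOf_dvd_of_pow_eq_one (show k ^ 2 = 1 by rw [pow_two, F.L.hW2 k hkW])
  rw [F.hk] at h3
  norm_num at h3

/-- The structure of a Sylow subgroup for the prime three through `r` and `k`. -/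
theorem sylow_three [Finite G] (S : Data z Q) (hrX : r ∈ X0) (hr : orderOf r = 3) (T : Sylow 3 G)
    (hET : centralizer ({r} : Set G) ⊓ centralizer ({k} : Set G) ≤ (T : Subgroup G)) :
    Cfsg.IsExtraspecial 3 ↥(T : Subgroup G) ∧ Nat.card ↥(T : Subgroup G) = 27 ∧
      Nat.card ↥(normalizer ((T : Subgroup G) : Set G)) = 216 ∧
      (∀ c ∈ (T : Subgroup G), c ∈ zpowers k ∨ IsConj r c) ∧
      (∀ c ∈ (T : Subgroup G), c * k = k * c) ∧ IsConj k k⁻¹ := by
  classical
  haveI : Fact (Nat.Prime 3) := ⟨by norm_num⟩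
  haveI : Fact (Nat.Prime 2) := ⟨by norm_num⟩
  haveI : Fintype G := Fintype.ofFinite G
  set E := centralizer ({r} : Set G) ⊓ centralizer ({k} : Set G) with hE
  obtain ⟨h36, -, -, u, huX, hu, hur⟩ := F.cent_three S hrX hr
  obtain ⟨hkr1, hkr2⟩ := F.not_isConj_three S hrX hr
  have hE9 : Nat.card ↥E = 9 := F.card_E S hrX hr
  have hkr : Commute k r := F.hkX r hrX
  have hrE : r ∈ E := mem_inf.2 ⟨mem_centralizer_singleton_iff.2 rfl,
    mem_centralizer_singleton_iff.2 hkr.eq.symm⟩
  have hkE : k ∈ E := mem_inf.2 ⟨mem_centralizer_singleton_iff.2 hkr.eq,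
    mem_centralizer_singleton_iff.2 rfl⟩
  have hrr : IsConj r r⁻¹ := isConj_iff.2 ⟨u, hur⟩
  have hkk : IsConj k k⁻¹ := by
    obtain ⟨-, u', -, hu'⟩ := F.hAcent.three F.hA (y := (⟨k, F.hkA⟩ : ↥A))
      (by rw [← orderOf_coe]; exact F.hk)
    exact isConj_iff.2 ⟨(u' : G), congrArg Subtype.val hu'⟩
  have hT27 : Nat.card ↥(T : Subgroup G) = 27 := by
    rw [T.card_eq_multiplicity, S.order_eq.1, show Nat.factorization 604800 3 = 3 by
      rw [show (604800 : ℕ) = 3 * (3 * (3 * 22400)) by norm_num,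
        Nat.factorization_mul (by norm_num) (by norm_num), Finsupp.add_apply,
        Nat.factorization_mul (by norm_num) (by norm_num), Finsupp.add_apply,
        Nat.factorization_mul (by norm_num) (by norm_num), Finsupp.add_apply,
        Nat.Prime.factorization_self (by norm_num),
        Nat.factorization_eq_zero_of_not_dvd (show ¬ 3 ∣ 22400 by norm_num)]
        <;> simp]
    norm_num
  -- the intersection with the centraliser of `r`
  have hTr : ∀ c ∈ (T : Subgroup G), c * r = r * c → c ∈ E := by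
    intro c hc hcr
    have hd : Nat.card ↥((T : Subgroup G) ⊓ centralizer ({r} : Set G) : Subgroup G) ∣ 9 := by
      have h1 := hT27 ▸ card_dvd_of_le (inf_le_left : (T : Subgroup G) ⊓ centralizer ({r} : Set G) ≤ _)
      have h2 := h36 ▸ card_dvd_of_le (inf_le_right : (T : Subgroup G) ⊓ centralizer ({r} : Set G) ≤ _)
      exact (Nat.dvd_gcd h1 h2).trans (by norm_num)
    have he := eq_of_le_of_card_ge (le_inf hET inf_le_left : E ≤ _)
      (by rw [hE9]; exact Nat.le_of_dvd (by norm_num) hd)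
    rw [he]
    exact mem_inf.2 ⟨hc, mem_centralizer_singleton_iff.2 hcr⟩
  -- a central element
  haveI : Nontrivial ↥(T : Subgroup G) := Finite.one_lt_card_iff_nontrivial.1 (by rw [hT27]; norm_num)
  haveI := T.2.center_nontrivial
  obtain ⟨ζ0, hζ0⟩ := exists_ne (1 : ↥(center ↥(T : Subgroup G)))
  -- `k` is central
  have hkc : ∀ c ∈ (T : Subgroup G), c * k = k * c := by
    set ζT : ↥(T : Subgroup G) := (ζ0 : ↥(T : Subgroup G)) with hζT
    set ζ : G := (ζT : G) with hζ
    have hζT1 : ζT ≠ 1 := fun e => hζ0 (Subtype.ext e)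
    have hζc : ∀ c ∈ (T : Subgroup G), c * ζ = ζ * c := fun c hc =>
      congrArg Subtype.val (mem_center_iff.1 ζ0.2 ⟨c, hc⟩)
    have hζE : ζ ∈ E := hTr ζ ζT.2 (hζc r (hET hrE)).symm
    obtain ⟨p, hp, q, hq, hpq⟩ := F.mem_E S hrX hr hζE
    have hnotr : p ≠ 1 → q = 1 → False := by
      intro hp1 hq1
      rw [hq1, mul_one] at hpq
      have hall : (T : Subgroup G) ≤ centralizer ({r} : Set G) := fun c hc => by
        have h := hζc c hc
        rw [hpq] at h
        refine mem_centralizer_singleton_iff.2 ?_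
        rcases mem_zpowers_three hr hp with e | e | e
        · exact absurd e hp1
        · rwa [e] at h
        · rw [e] at h; simpa using (show Commute c r⁻¹ from h).inv_right.eq
      have := h36 ▸ hT27 ▸ card_dvd_of_le hall
      norm_num at this
    intro c hc
    by_contra hck
    -- the image in the quotient by the central element
    have hqne : q ≠ 1 := fun e => by
      by_cases hp1 : p = 1
      · exact hζT1 (Subtype.ext (by show ζ = 1; rw [hpq, hp1, e, one_mul]))
      · exact hnotr hp1 e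
    have hpne : p ≠ 1 := fun e => by
      rw [e, one_mul] at hpq
      rcases mem_zpowers_three F.hk hq with e' | e' | e'
      · exact hqne e'
      · exact hck (e' ▸ hpq ▸ hζc c hc)
      · have h := hζc c hc
        rw [hpq, e'] at h
        exact hck (by simpa using (show Commute c k⁻¹ from h).inv_right.eq)
    haveI hZn : (zpowers ζT).Normal := ⟨fun d hd g => by
      obtain ⟨i, rfl⟩ := mem_zpowers_iff.1 hd
      rw [((show Commute g ζT from mem_center_iff.1 ζ0.2 g).zpow_right i).eq, mul_inv_cancel_right]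
      exact hd⟩
    have hp3 : p ^ 3 = 1 := by
      rcases mem_zpowers_three hr hp with e | e | e
      · exact absurd e hpne
      · rw [e, ← hr, pow_orderOf_eq_one]
      · rw [e, inv_pow, ← hr, pow_orderOf_eq_one, inv_one]
    have hq3 : q ^ 3 = 1 := by
      rcases mem_zpowers_three F.hk hq with e | e | e
      · exact absurd e hqne
      · rw [e, ← F.hk, pow_orderOf_eq_one]
      · rw [e, inv_pow, ← F.hk, pow_orderOf_eq_one, inv_one]
    have hpqc : Commute p q := by
      obtain ⟨i, rfl⟩ := mem_zpowers_iff.1 hp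
      obtain ⟨j, rfl⟩ := mem_zpowers_iff.1 hq
      exact ((hkr.symm).zpow_left i).zpow_right j
    have hζ3 : ζ ^ 3 = 1 := by rw [hpq, hpqc.mul_pow, hp3, hq3, one_mul]
    have hζo : orderOf ζT = 3 := orderOf_eq_prime (Subtype.ext (by
      rw [SubmonoidClass.coe_pow]; exact hζ3)) hζT1
    have hq9 : Nat.card (↥(T : Subgroup G) ⧸ zpowers ζT) = 3 ^ 2 := by
      have := card_eq_card_quotient_mul_card_subgroup (zpowers ζT)
      rw [hT27, Nat.card_zpowers, hζo] at this
      omega
    have hab := IsPGroup.isMulCommutative_of_card_eq_prime_sq hq9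
    set c' : ↥(T : Subgroup G) := ⟨c, hc⟩
    set k' : ↥(T : Subgroup G) := ⟨k, hET hkE⟩
    have hmem : k'⁻¹ * (c' * k' * c'⁻¹) ∈ zpowers ζT := by
      rw [← QuotientGroup.eq_one_iff, QuotientGroup.mk_mul, QuotientGroup.mk_mul, QuotientGroup.mk_mul,
        QuotientGroup.mk_inv, QuotientGroup.mk_inv, hab.is_comm.comm (c' : _ ⧸ zpowers ζT) _,
        mul_inv_cancel_right, inv_mul_cancel]
    obtain ⟨i, hi⟩ := mem_zpowers_iff.1 hmem
    have hi' : ζ ^ i = k⁻¹ * (c * k * c⁻¹) := by
      have := congrArg Subtype.val hi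
      rw [Subgroup.coe_zpow] at this
      exact this
    obtain ⟨δ, hδ⟩ : ∃ δ, δ = ζ ^ i := ⟨_, rfl⟩
    have hck' : c * k * c⁻¹ = k * δ := by rw [hδ, hi', mul_inv_cancel_left]
    have hδc : Commute c δ := hδ ▸ (show Commute c ζ from hζc c hc).zpow_right i
    have h2k : c * c * k * (c * c)⁻¹ = k * δ * δ := by
      rw [show c * c * k * (c * c)⁻¹ = c * (c * k * c⁻¹) * c⁻¹ by group, hck',
        show c * (k * δ) * c⁻¹ = c * k * c⁻¹ * (c * δ * c⁻¹) by group, hck', hδc.eq,
        mul_inv_cancel_right]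
    have hδ1 : δ ≠ 1 := fun e => hck (by
      rw [e, mul_one] at hck'; exact mul_inv_eq_iff_eq_mul.1 hck')
    -- both nontrivial translates are conjugate to `k`
    have hboth : IsConj k (k * ζ) ∧ IsConj k (k * ζ * ζ) := by
      have hδζ : δ = ζ ∨ δ = ζ⁻¹ := by
        rcases mem_zpowers_three (show orderOf ζ = 3 by rw [hζ, orderOf_coe]; exact hζo)
          (show δ ∈ zpowers ζ from hδ ▸ zpow_mem (mem_zpowers ζ) i) with e | e | e
        exacts [absurd e hδ1, Or.inl e, Or.inr e]
      have hζinv : ζ⁻¹ = ζ * ζ := inv_eq_of_mul_eq_one_right (by rw [← hζ3, pow_succ, pow_two]; group)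
      rcases hδζ with e | e
      · exact ⟨e ▸ isConj_iff.2 ⟨c, hck'⟩, e ▸ isConj_iff.2 ⟨c * c, h2k⟩⟩
      · refine ⟨?_, ?_⟩
        · have h := isConj_iff.2 ⟨c * c, h2k⟩
          rwa [e, mul_assoc, ← _root_.mul_inv_rev, ← hζinv, inv_inv] at h
        · have h := isConj_iff.2 ⟨c, hck'⟩
          rwa [e, hζinv, ← mul_assoc] at h
    -- one of them is a power of `r`
    have hkk2 : k * k = k⁻¹ :=
      eq_inv_of_mul_eq_one_left (by rw [← (F.hk ▸ pow_orderOf_eq_one k : k ^ 3 = 1), pow_succ, pow_two])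
    have hkp : Commute k p := by
      obtain ⟨j, rfl⟩ := mem_zpowers_iff.1 hp
      exact hkr.zpow_right j
    have hfin : ∀ t : G, t ∈ zpowers r → t ≠ 1 → IsConj k t → False := by
      intro t ht ht1 h
      rcases mem_zpowers_three hr ht with e | e | e
      · exact ht1 e
      · exact hkr1 (e ▸ h)
      · exact hkr2 (e ▸ h)
    rcases mem_zpowers_three F.hk hq with e | e | e
    · exact hqne e
    · -- `q = k`
      refine hfin (p * p) (mul_mem hp hp) (fun e' => hpne ?_) ?_
      · rw [← hp3, pow_succ, pow_two, e', one_mul]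
      · have h := hboth.2
        rw [hpq, e, show k * (p * k) * (p * k) = (k * p) * (k * p) * k by group, hkp.eq,
          show p * k * (p * k) * k = p * (k * p) * (k * k) by group, hkp.eq, hkk2,
          show p * (p * k) * k⁻¹ = p * p by group] at h
        exact h
    · -- `q = k⁻¹`
      refine hfin p hp hpne ?_
      have h := hboth.1
      rw [hpq, e, ← mul_assoc, hkp.eq, mul_inv_cancel_right] at h
      exact h
  -- the centre
  set Tk : ↥(T : Subgroup G) := ⟨k, hET hkE⟩ with hTk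
  set Z : Subgroup ↥(T : Subgroup G) := zpowers Tk with hZ
  have hTko : orderOf Tk = 3 := by rw [← orderOf_coe]; exact F.hk
  have hcen : center ↥(T : Subgroup G) = Z := by
    refine le_antisymm (fun c hc => ?_) (zpowers_le.2 (mem_center_iff.2 fun d => Subtype.ext (hkc d d.2)))
    have hcr : (c : G) * r = r * c :=
      (congrArg Subtype.val (mem_center_iff.1 hc ⟨r, hET hrE⟩)).symm
    obtain ⟨p, hp, q, hq, hpq⟩ := F.mem_E S hrX hr (hTr c c.2 hcr)
    by_cases hp1 : p = 1
    · obtain ⟨j, rfl⟩ := mem_zpowers_iff.1 hq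
      exact mem_zpowers_iff.2 ⟨j, Subtype.ext (by rw [Subgroup.coe_zpow, hpq, hp1, one_mul])⟩
    · exfalso
      have hall : (T : Subgroup G) ≤ centralizer ({r} : Set G) := fun d hd => by
        have h1 : Commute d (c : G) := congrArg Subtype.val (mem_center_iff.1 hc ⟨d, hd⟩)
        have h2 : Commute d q := by
          obtain ⟨j, rfl⟩ := mem_zpowers_iff.1 hq
          exact (show Commute d k from hkc d hd).zpow_right j
        have h3 : Commute d p := by
          have := h1.mul_right h2.inv_right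
          rwa [hpq, mul_inv_cancel_right] at this
        refine mem_centralizer_singleton_iff.2 ?_
        rcases mem_zpowers_three hr hp with e | e | e
        · exact absurd e hp1
        · exact (e ▸ h3).eq
        · simpa using (e ▸ h3 : Commute d r⁻¹).inv_right.eq
      have := h36 ▸ hT27 ▸ card_dvd_of_le hall
      norm_num at this
  haveI hZn : Z.Normal := hcen ▸ inferInstance
  have hq9 : Nat.card (↥(T : Subgroup G) ⧸ Z) = 3 ^ 2 := by
    have := card_eq_card_quotient_mul_card_subgroup Z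
    rw [hT27, show Nat.card ↥Z = 3 from (Nat.card_zpowers Tk).trans hTko] at this
    omega
  have hab := IsPGroup.isMulCommutative_of_card_eq_prime_sq hq9
  have hcom : ∀ x y : ↥(T : Subgroup G), ⁅x, y⁆ ∈ Z := fun x y => by
    rw [← QuotientGroup.eq_one_iff, commutatorElement_def, QuotientGroup.mk_mul, QuotientGroup.mk_mul,
      QuotientGroup.mk_mul, QuotientGroup.mk_inv, QuotientGroup.mk_inv,
      hab.is_comm.comm (x : _ ⧸ Z) _, mul_inv_cancel_right, mul_inv_cancel]
  have hnc : ¬ IsCyclic (↥(T : Subgroup G) ⧸ Z) := by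
    intro h
    have hall : (T : Subgroup G) ≤ centralizer ({r} : Set G) := fun d hd =>
      mem_centralizer_singleton_iff.2 (congrArg Subtype.val (commutative_of_cyclic_center_quotient
        (QuotientGroup.mk' Z) (by rw [QuotientGroup.ker_mk']; exact hcen.ge) ⟨d, hd⟩ ⟨r, hET hrE⟩))
    have := h36 ▸ hT27 ▸ card_dvd_of_le hall
    norm_num at this
  have hes : Cfsg.IsExtraspecial 3 ↥(T : Subgroup G) := by
    refine CfsgLib.Coprime.isExtraspecial_of_central T.2 Z (by rw [hZ, Nat.card_zpowers, hTko]) hcen hcom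
      (fun x => ?_) (fun e => ?_)
    · rw [← QuotientGroup.eq_one_iff, QuotientGroup.mk_pow]
      exact pow_eq_one_of_sq (by norm_num) hq9 hnc _
    · have h1 : Nat.card ↥Z = 27 := by rw [e, Subgroup.card_top]; exact hT27
      rw [hZ, Nat.card_zpowers, hTko] at h1
      norm_num at h1
  -- conjugates inside `E`
  obtain ⟨d0, hd0T, hd0⟩ : ∃ d ∈ (T : Subgroup G), d ∉ E := by
    by_contra hc
    push Not at hc
    have := hT27 ▸ hE9 ▸ card_dvd_of_le (K := E) (H := (T : Subgroup G)) hc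
    norm_num at this
  have hdr : ∀ x ∈ (T : Subgroup G), ∀ y ∈ (T : Subgroup G), y⁻¹ * (x * y * x⁻¹) ∈ zpowers k := by
    intro x hx y hy
    obtain ⟨i, hi⟩ := mem_zpowers_iff.1 (hcom ⟨y, hy⟩⁻¹ ⟨x, hx⟩)
    refine mem_zpowers_iff.2 ⟨i, ?_⟩
    have := congrArg Subtype.val hi
    rw [Subgroup.coe_zpow] at this
    rw [this, commutatorElement_def]
    show y⁻¹ * x * y⁻¹⁻¹ * x⁻¹ = _
    group
  have hd0k : Commute d0 k := hkc d0 hd0T
  have hrk : IsConj r (r * k) ∧ IsConj r (r * k⁻¹) := by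
    obtain ⟨δ, hδ⟩ : ∃ δ, δ = r⁻¹ * (d0 * r * d0⁻¹) := ⟨_, rfl⟩
    have h1 : d0 * r * d0⁻¹ = r * δ := by rw [hδ]; group
    have hδk := hδ ▸ hdr d0 hd0T r (hET hrE)
    rcases mem_zpowers_three F.hk hδk with e | e | e
    · exfalso
      rw [e, mul_one] at h1
      exact hd0 (hTr d0 hd0T (mul_inv_eq_iff_eq_mul.1 h1))
    all_goals
      have h2 : d0 * d0 * r * (d0 * d0)⁻¹ = r * δ * δ := by
        rw [show d0 * d0 * r * (d0 * d0)⁻¹ = d0 * (d0 * r * d0⁻¹) * d0⁻¹ by group, h1,
          show d0 * (r * δ) * d0⁻¹ = d0 * r * d0⁻¹ * (d0 * δ * d0⁻¹) by group, h1, e]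
        first
          | rw [hd0k.eq, mul_inv_cancel_right]
          | rw [hd0k.inv_right.eq, mul_inv_cancel_right]
      have hkk2 : k * k = k⁻¹ :=
        eq_inv_of_mul_eq_one_left (by rw [← (F.hk ▸ pow_orderOf_eq_one k : k ^ 3 = 1), pow_succ, pow_two])
      rw [e] at h1 h2
    · rw [mul_assoc r, hkk2] at h2
      exact ⟨isConj_iff.2 ⟨d0, h1⟩, isConj_iff.2 ⟨_, h2⟩⟩
    · rw [mul_assoc r, ← _root_.mul_inv_rev, hkk2, inv_inv] at h2
      exact ⟨isConj_iff.2 ⟨_, h2⟩, isConj_iff.2 ⟨d0, h1⟩⟩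
  have hEconj : ∀ e ∈ E, e ∈ zpowers k ∨ IsConj r e := by
    intro e he
    obtain ⟨p, hp, q, hq, rfl⟩ := F.mem_E S hrX hr he
    have hinv : ∀ t : G, IsConj r t → IsConj r t⁻¹ := fun t ht => by
      obtain ⟨g, rfl⟩ := isConj_iff.1 ht
      exact hrr.trans (isConj_iff.2 ⟨g, by group⟩)
    rcases mem_zpowers_three hr hp with hp' | hp' | hp' <;> subst hp'
    · exact Or.inl (by rwa [one_mul])
    · right
      rcases mem_zpowers_three F.hk hq with hq' | hq' | hq' <;> subst hq'
      · rw [mul_one]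
      · exact hrk.1
      · exact hrk.2
    · right
      rcases mem_zpowers_three F.hk hq with hq' | hq' | hq' <;> subst hq'
      · rw [mul_one]; exact hrr
      · have h := hinv _ hrk.2
        rwa [_root_.mul_inv_rev, inv_inv, (hkr.inv_right).eq] at h
      · have h := hinv _ hrk.1
        rwa [_root_.mul_inv_rev, (hkr.inv_inv).eq] at h
  -- an element fixing `r` fixes `k`
  have hfixk : ∀ c, c * r = r * c → c * k * c⁻¹ ∈ zpowers k → c ∈ E := by
    intro c hcr hck
    refine mem_inf.2 ⟨mem_centralizer_singleton_iff.2 hcr, mem_centralizer_singleton_iff.2 ?_⟩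
    rcases mem_zpowers_three F.hk hck with e | e | e
    · rw [conj_eq_one_iff.1 e, one_mul, mul_one]
    · exact mul_inv_eq_iff_eq_mul.1 e
    · exact absurd e (F.no_invert S hrX hr hcr)
  -- the normaliser of `E`
  set L := normalizer (E : Set G) with hL
  have hTL : (T : Subgroup G) ≤ L := by
    have key : ∀ x ∈ (T : Subgroup G), ∀ e ∈ E, x * e * x⁻¹ ∈ E := fun x hx e he => by
      have := mul_mem he ((zpowers_le.2 hkE) (hdr x hx e (hET he)))
      rwa [mul_inv_cancel_left] at this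
    intro x hx
    refine mem_normalizer_iff.2 fun e => ⟨key x hx e, fun he => ?_⟩
    have := key _ (inv_mem hx) _ he
    rwa [show x⁻¹ * (x * e * x⁻¹) * x⁻¹⁻¹ = e by group] at this
  have huk : u * k * u⁻¹ = k := by rw [← F.hkX u huX, mul_inv_cancel_right]
  have huL : u ∈ L := by
    have key : ∀ e ∈ E, u * e * u⁻¹ ∈ E := by
      intro e he
      obtain ⟨p, hp, q, hq, rfl⟩ := F.mem_E S hrX hr he
      obtain ⟨i, rfl⟩ := mem_zpowers_iff.1 hp
      obtain ⟨j, rfl⟩ := mem_zpowers_iff.1 hq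
      rw [show u * (r ^ i * k ^ j) * u⁻¹ = u * r ^ i * u⁻¹ * (u * k ^ j * u⁻¹) by group,
        show u * r ^ i * u⁻¹ = (u * r * u⁻¹) ^ i from map_zpow (MulAut.conj u) r i,
        show u * k ^ j * u⁻¹ = (u * k * u⁻¹) ^ j from map_zpow (MulAut.conj u) k j, hur, huk]
      exact mul_mem (zpow_mem (inv_mem hrE) i) (zpow_mem hkE j)
    refine mem_normalizer_iff.2 fun e => ⟨key e, fun he => ?_⟩
    have := key _ he
    rwa [show u * (u * e * u⁻¹) * u⁻¹ = (u * u) * e * (u * u)⁻¹ by group, invol_mul_self hu, one_mul,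
      inv_one, mul_one] at this
  have hZL : ∀ c ∈ L, c * k * c⁻¹ ∈ zpowers k := fun c hc => by
    refine (hEconj _ ((mem_normalizer_iff.1 hc k).1 hkE)).resolve_right fun h => ?_
    exact hkr1 ((isConj_iff.2 ⟨c, rfl⟩ : IsConj k _).trans h.symm)
  have hL54 : Nat.card ↥L = 54 := by
    have hlow : 54 ∣ Nat.card ↥L := Nat.Coprime.mul_dvd_of_dvd_of_dvd (by norm_num : Nat.Coprime 2 27)
      (hu ▸ L.orderOf_dvd_natCard huL) (hT27 ▸ card_dvd_of_le hTL)
    have hcls := card_class_mul_card_centralizer (⟨r, le_normalizer hrE⟩ : ↥L)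
    have h6 : Nat.card {c : ↥L // IsConj (⟨r, le_normalizer hrE⟩ : ↥L) c} ≤ 6 := by
      let D : Finset G := (Finset.univ.filter fun x => x ∈ E) \ {1, k, k⁻¹}
      have hD : D.card = 6 := by
        have h9' : (Finset.univ.filter fun x => x ∈ E).card = 9 := by
          rw [← Fintype.card_subtype, ← Nat.card_eq_fintype_card]; exact hE9
        have hk1 : k ≠ 1 := fun e => by have := F.hk; rw [e, orderOf_one] at this; norm_num at this
        have hkinv : k ≠ k⁻¹ := fun e => by
          have := orderOf_dvd_of_pow_eq_one (show k ^ 2 = 1 by rw [pow_two]; nth_rw 2 [e]; exact mul_inv_cancel k)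
          rw [F.hk] at this; norm_num at this
        have h3 : ({1, k, k⁻¹} : Finset G).card = 3 := by simp [hk1.symm, hkinv, hk1]
        have hsub : ({1, k, k⁻¹} : Finset G) ⊆ Finset.univ.filter fun x => x ∈ E := by
          intro x hx
          simp only [Finset.mem_insert, Finset.mem_singleton] at hx
          simp only [Finset.mem_filter, Finset.mem_univ, true_and]
          rcases hx with rfl | rfl | rfl
          exacts [one_mem _, hkE, inv_mem hkE]
        rw [Finset.card_sdiff_of_subset hsub, h9', h3]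
      have hmapD : ∀ c : {c : ↥L // IsConj (⟨r, le_normalizer hrE⟩ : ↥L) c}, (c.1 : G) ∈ D := by
        intro c
        obtain ⟨g, hg⟩ := isConj_iff.1 c.2
        have hg' : (g : G) * r * (g : G)⁻¹ = (c.1 : G) := congrArg Subtype.val hg
        have hIC : IsConj r (c.1 : G) := isConj_iff.2 ⟨g, hg'⟩
        have hcE : (c.1 : G) ∈ E := hg' ▸ (mem_normalizer_iff.1 g.2 r).1 hrE
        simp only [D, Finset.mem_sdiff, Finset.mem_filter, Finset.mem_univ, true_and, Finset.mem_insert,
          Finset.mem_singleton]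
        refine ⟨hcE, ?_⟩
        rintro (e | e | e) <;> rw [e] at hIC
        · have := orderOf_eq_of_isConj hIC
          rw [hr, orderOf_one] at this; norm_num at this
        · exact hkr1 hIC.symm
        · exact hkr1 (hkk.trans hIC.symm)
      rw [← hD, ← Nat.card_eq_finsetCard]
      refine Nat.card_le_card_of_injective (fun c => (⟨_, hmapD c⟩ : {x // x ∈ D}))
        fun c d h => Subtype.ext (Subtype.ext (congrArg (fun t : {x // x ∈ D} => (t : G)) h))
    have h9 : Nat.card ↥(centralizer ({(⟨r, le_normalizer hrE⟩ : ↥L)} : Set ↥L)) ≤ 9 := by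
      rw [← hE9]
      exact Nat.card_le_card_of_injective (fun c => (⟨((c : ↥L) : G), hfixk _
          (congrArg Subtype.val (mem_centralizer_singleton_iff.1 c.2)) (hZL _ (c : ↥L).2)⟩ : ↥E))
        fun c d h => Subtype.ext (Subtype.ext (congrArg (fun t : ↥E => (t : G)) h))
    have hle : Nat.card ↥L ≤ 54 := by rw [← hcls]; exact Nat.mul_le_mul h6 h9
    have := Nat.le_of_dvd Nat.card_pos hlow
    omega
  set N := normalizer ((T : Subgroup G) : Set G) with hN
  have hLN : L ≤ N := by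
    have hidx : ((T : Subgroup G).subgroupOf L).index = 2 := by
      have := ((T : Subgroup G).subgroupOf L).card_mul_index
      rw [Nat.card_congr (subgroupOfEquivOfLe hTL).toEquiv, hT27, hL54] at this
      omega
    haveI hn := Subgroup.normal_of_index_eq_two hidx
    exact normal_subgroupOf_iff_le_normalizer hTL |>.1 hn
  have hZN : ∀ c ∈ N, c * k * c⁻¹ ∈ zpowers k := by
    intro c hc
    have hmem := (mem_normalizer_iff.1 hc k).1 (hET hkE)
    have hz' : (⟨c * k * c⁻¹, hmem⟩ : ↥(T : Subgroup G)) ∈ center ↥(T : Subgroup G) := by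
      refine mem_center_iff.2 fun d => Subtype.ext ?_
      show (d : G) * (c * k * c⁻¹) = c * k * c⁻¹ * d
      have hd : c⁻¹ * d * c ∈ (T : Subgroup G) := (mem_normalizer_iff.1 hc _).2 (by
        rw [show c * (c⁻¹ * (d : G) * c) * c⁻¹ = d by group]; exact d.2)
      calc (d : G) * (c * k * c⁻¹) = c * ((c⁻¹ * d * c) * k) * c⁻¹ := by group
        _ = c * (k * (c⁻¹ * d * c)) * c⁻¹ := by rw [hkc _ hd]
        _ = c * k * c⁻¹ * d := by group
    rw [hcen] at hz'
    obtain ⟨i, hi⟩ := mem_zpowers_iff.1 hz'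
    exact mem_zpowers_iff.2 ⟨i, by simpa using congrArg Subtype.val hi⟩
  have hrN : r ∈ N := le_normalizer (hET hrE)
  set rN : ↥N := ⟨r, hrN⟩ with hrNdef
  have hCN : Nat.card ↥(centralizer ({rN} : Set ↥N)) = 9 := by
    rw [← hE9]
    refine Nat.card_congr
      { toFun := fun c => ⟨((c : ↥N) : G), hfixk _
          (congrArg Subtype.val (mem_centralizer_singleton_iff.1 c.2)) (hZN _ (c : ↥N).2)⟩
        invFun := fun e => ⟨⟨e, le_normalizer (hET e.2)⟩, mem_centralizer_singleton_iff.2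
          (Subtype.ext (mem_centralizer_singleton_iff.1 (mem_inf.1 e.2).1))⟩
        left_inv := fun c => rfl
        right_inv := fun e => rfl }
  have hcls := card_class_mul_card_centralizer rN
  rw [hCN] at hcls
  let R : Finset G := Finset.univ.filter fun x => ∃ c ∈ N, c * r * c⁻¹ = x
  have hR : R.card = Nat.card {c : ↥N // IsConj rN c} := by
    rw [← Fintype.card_subtype, ← Nat.card_eq_fintype_card]
    refine (Nat.card_eq_of_bijective (fun c : {c : ↥N // IsConj rN c} =>
      (⟨(c.1 : G), ?_⟩ : {x : G // ∃ c ∈ N, c * r * c⁻¹ = x})) ⟨?_, ?_⟩).symm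
    · obtain ⟨g, hg⟩ := isConj_iff.1 c.2
      exact ⟨g, g.2, congrArg Subtype.val hg⟩
    · intro c d h
      exact Subtype.ext (Subtype.ext (congrArg (fun t : {x : G // _} => (t : G)) h))
    · rintro ⟨x, c, hc, rfl⟩
      exact ⟨⟨⟨c * r * c⁻¹, mul_mem (mul_mem hc hrN) (inv_mem hc)⟩, isConj_iff.2 ⟨⟨c, hc⟩, rfl⟩⟩, rfl⟩
  let D : Finset G := (Finset.univ.filter fun x => x ∈ (T : Subgroup G)) \
    (Finset.univ.filter fun x => x ∈ zpowers k)
  have hD24 : D.card = 24 := by
    have h27' : (Finset.univ.filter fun x => x ∈ (T : Subgroup G)).card = 27 := by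
      rw [← Fintype.card_subtype, ← Nat.card_eq_fintype_card]; exact hT27
    have h3 : (Finset.univ.filter fun x => x ∈ zpowers k).card = 3 := by
      rw [← Fintype.card_subtype, ← Nat.card_eq_fintype_card]
      exact (Nat.card_zpowers k).trans F.hk
    rw [Finset.card_sdiff_of_subset, h27', h3]
    intro x hx
    simp only [Finset.mem_filter, Finset.mem_univ, true_and] at hx ⊢
    exact (zpowers_le.2 (hET hkE)) hx
  have hRD : R ⊆ D := by
    intro x hx
    simp only [R, D, Finset.mem_filter, Finset.mem_univ, true_and, Finset.mem_sdiff] at hx ⊢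
    obtain ⟨c, hc, rfl⟩ := hx
    refine ⟨(mem_normalizer_iff.1 hc r).1 (hET hrE), fun hm => ?_⟩
    rcases mem_zpowers_three F.hk hm with e | e | e
    · rw [conj_eq_one_iff.1 e, orderOf_one] at hr; norm_num at hr
    · exact hkr1 (isConj_iff.2 ⟨c, e⟩ : IsConj r k).symm
    · exact hkr1 (hkk.trans (isConj_iff.2 ⟨c, e⟩ : IsConj r k⁻¹).symm)
  have hs24 : R.card ≤ 24 := hD24 ▸ Finset.card_le_card hRD
  rw [← hR] at hcls
  obtain ⟨m, hm⟩ : 54 ∣ Nat.card ↥N := hL54 ▸ card_dvd_of_le hLN
  have hm4 : m ≤ 4 := by omega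
  have hmod : N.index ≡ 1 [MOD 3] := by
    rw [hN]
    exact T.card_eq_index_normalizer ▸ card_sylow_modEq_one 3 G
  have hidx := N.card_mul_index
  rw [S.order_eq.1] at hidx
  have hm' : m = 1 ∨ m = 4 := by
    unfold Nat.ModEq at hmod
    rw [hm] at hidx
    have hpos : 0 < Nat.card ↥N := Nat.card_pos
    generalize N.index = i at *
    interval_cases m <;> omega
  rcases hm' with rfl | rfl
  · -- the small case is impossible
    exfalso
    rw [mul_one] at hm
    have hNL : L = N := eq_of_le_of_card_ge hLN (by rw [hm, hL54])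
    set M := centralizer ({k} : Set G) with hM
    have huM : u ∈ M := mem_centralizer_singleton_iff.2 (F.hkX u huX).symm
    have hTM : (T : Subgroup G) ≤ M := fun c hc => mem_centralizer_singleton_iff.2 (hkc c hc)
    have hLM : L ≤ M := by
      have h54 : 54 ∣ Nat.card ↥(L ⊓ M : Subgroup G) :=
        Nat.Coprime.mul_dvd_of_dvd_of_dvd (by norm_num : Nat.Coprime 2 27)
          (hu ▸ (L ⊓ M).orderOf_dvd_natCard (mem_inf.2 ⟨huL, huM⟩)) (hT27 ▸ card_dvd_of_le (le_inf hTL hTM))
      have := eq_of_le_of_card_ge (inf_le_left : L ⊓ M ≤ L)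
        (by rw [hL54]; exact Nat.le_of_dvd Nat.card_pos h54)
      exact inf_eq_left.1 this
    have hNM : N ≤ M := hNL ▸ hLM
    set TM : Sylow 3 ↥M := T.subtype hTM with hTMdef
    have hNM54 : Nat.card ↥(normalizer ((TM : Subgroup ↥M) : Set ↥M)) = 54 := by
      rw [← hm]
      refine Nat.card_congr
        { toFun := fun c => ⟨((c : ↥M) : G), mem_normalizer_iff.2 fun d => ?_⟩
          invFun := fun c => ⟨⟨c, hNM c.2⟩, mem_normalizer_iff.2 fun d => ?_⟩
          left_inv := fun c => rfl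
          right_inv := fun c => rfl }
      · have h := mem_normalizer_iff.1 c.2
        constructor
        · intro hd
          exact (h ⟨d, hTM hd⟩).1 hd
        · intro hd
          have hdM : d ∈ M := by
            have h3 := mul_mem (mul_mem (inv_mem (c : ↥M).2) (hTM hd)) (c : ↥M).2
            rwa [show ((c : ↥M) : G)⁻¹ * (((c : ↥M) : G) * d * ((c : ↥M) : G)⁻¹) * ((c : ↥M) : G) = d by
              group] at h3
          exact (h ⟨d, hdM⟩).2 hd
      · exact mem_normalizer_iff.1 c.2 d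
    have hidxM := (normalizer ((TM : Subgroup ↥M) : Set ↥M)).card_mul_index
    rw [hNM54] at hidxM
    have hmodM : (normalizer ((TM : Subgroup ↥M) : Set ↥M)).index ≡ 1 [MOD 3] :=
      TM.card_eq_index_normalizer ▸ card_sylow_modEq_one 3 ↥M
    obtain ⟨e, he7, he⟩ := F.card_cent_k S (hT27 ▸ card_dvd_of_le hTM)
    rw [he] at hidxM
    unfold Nat.ModEq at hmodM
    rcases (Nat.dvd_prime (by norm_num : Nat.Prime 7)).1 he7 with rfl | rfl <;> omega
  · have hN216 : Nat.card ↥N = 216 := by rw [hm]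
    refine ⟨hes, hT27, hN216, fun c hc => ?_, hkc, hkk⟩
    have hReq : R = D := Finset.eq_of_subset_of_card_le hRD (by omega)
    by_cases hck : c ∈ zpowers k
    · exact Or.inl hck
    · right
      have : c ∈ R := by
        rw [hReq]
        simp [D, hc, hck]
      simp only [R, Finset.mem_filter, Finset.mem_univ, true_and] at this
      obtain ⟨g, -, hg⟩ := this
      exact isConj_iff.2 ⟨g, hg⟩

end Five

theorem Data.sylow_three_result [Finite G] (S : Data z Q) (P : Sylow 3 G) :
    Cfsg.IsExtraspecial 3 ↥(P : Subgroup G) ∧ Nat.card ↥(P : Subgroup G) = 27 ∧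
      Nat.card ↥(normalizer ((P : Subgroup G) : Set G)) = 216 ∧
      ∃ a b : G, orderOf a = 3 ∧ orderOf b = 3 ∧ ¬ IsConj a b ∧
        ∀ c : G, orderOf c = 3 → IsConj c a ∨ IsConj c b := by
  classical
  haveI : Fact (Nat.Prime 3) := ⟨by norm_num⟩
  obtain ⟨a, W, X0, f, v, k, A, F⟩ := S.exists_five_config
  obtain ⟨⟨r, hrX⟩, hr⟩ := exists_prime_orderOf_dvd_card' (G := ↥X0) 3 (by rw [F.L.hX0c]; norm_num)
  rw [← orderOf_coe] at hr
  change orderOf r = 3 at hr
  obtain ⟨T, hT⟩ := (IsPGroup.of_card (p := 3) (n := 2) (by rw [F.card_E S hrX hr]; norm_num) :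
    IsPGroup 3 ↥(centralizer ({r} : Set G) ⊓ centralizer ({k} : Set G) : Subgroup G)).exists_le_sylow
  obtain ⟨hes, hT27, hN216, hcl, -, hkk⟩ := F.sylow_three S hrX hr T hT
  obtain ⟨g, hg⟩ := MulAction.exists_smul_eq G T P
  have hPmap : (P : Subgroup G) = (T : Subgroup G).map (MulAut.conj g).toMonoidHom := by
    rw [← hg, Sylow.coe_subgroup_smul]; rfl
  refine ⟨?_, ?_, ?_, k, r, F.hk, hr, (F.not_isConj_three S hrX hr).1, fun c hc => ?_⟩
  · refine extraspecial_of_equiv ?_ hes
    rw [hPmap]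
    exact (T : Subgroup G).equivMapOfInjective _ (MulAut.conj g).injective
  · rw [hPmap]
    exact (card_map_of_injective (MulAut.conj g).injective).trans hT27
  · have h1 := P.card_eq_index_normalizer
    have h2 := T.card_eq_index_normalizer
    have h3 := (normalizer (P : Set G)).card_mul_index
    have h4 := (normalizer (T : Set G)).card_mul_index
    have h5 : Nat.card ↥(normalizer (T : Set G)) = 216 := hN216
    rw [← h1] at h3
    rw [← h2, h5] at h4
    have hpos : 0 < Nat.card (Sylow 3 G) := Nat.card_pos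
    rw [← h4] at h3
    exact Nat.eq_of_mul_eq_mul_right hpos h3
  · obtain ⟨U, hU⟩ := (IsPGroup.of_card (p := 3) (n := 1) (by rw [Nat.card_zpowers, hc]; norm_num) :
      IsPGroup 3 ↥(zpowers c)).exists_le_sylow
    obtain ⟨d, hd⟩ := MulAction.exists_smul_eq G U T
    have hmem : d * c * d⁻¹ ∈ (T : Subgroup G) := by
      rw [← hd, Sylow.coe_subgroup_smul]
      exact ⟨c, hU (mem_zpowers c), rfl⟩
    have hne : d * c * d⁻¹ ≠ 1 := fun e => by
      rw [conj_eq_one_iff.1 e, orderOf_one] at hc; norm_num at hc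
    refine (hcl _ hmem).imp (fun h => ?_) (fun h => (isConj_iff.2 ⟨d, rfl⟩ : IsConj c _).trans h.symm)
    refine (isConj_iff.2 ⟨d, rfl⟩ : IsConj c (d * c * d⁻¹)).trans ?_
    rcases mem_zpowers_three F.hk h with e | e | e
    · exact absurd e hne
    · rw [e]
    · rw [e]; exact hkk.symm

end CfsgLib.InvChar.HJType
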