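import Cfsg.Agent.Lib.InvChar.HallJankoSylowFive

/-!
Groups of Hall-Janko type: the centralisers of the elements of order three.
-/

set_option autoImplicit false

namespace CfsgLib.InvChar.HJType

open CfsgLib.Invol Subgroup

universe u

variable {G : Type u} [Group G] {z : G} {Q : Subgroup G} {a f v k f' r : G} {W X0 A : Subgroup G}

theorem mem_zpowers_three {y c : G} (hy : orderOf y = 3) (hc : c ∈ zpowers y) :
    c = 1 ∨ c = y ∨ c = y⁻¹ := by
  obtain ⟨i, rfl⟩ := mem_zpowers_iff.1 hc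
  rw [← zpow_mod_orderOf, hy]
  have h1 := Int.emod_nonneg i (show (3 : ℤ) ≠ 0 by norm_num)
  have h2 := Int.emod_lt_of_pos i (show (0 : ℤ) < 3 by norm_num)
  have h3 : y ^ 3 = 1 := hy ▸ pow_orderOf_eq_one y
  rcases (show i % 3 = 0 ∨ i % 3 = 1 ∨ i % 3 = 2 by omega) with e | e | e <;> simp only [Nat.cast_ofNat, e]
  · simp
  · simp
  · refine Or.inr (Or.inr (eq_inv_of_mul_eq_one_left ?_))
    rw [zpow_ofNat, ← pow_succ, h3]

/-- Elements of order three of `H`. -/
theorem Data.cent_three_H [Finite G] (S : Data z Q) {y : G} (hyH : y ∈ centralizer ({z} : Set G))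
    (hy : orderOf y = 3) :
    Nat.card ↥(centralizer ({z} : Set G) ⊓ centralizer ({y} : Set G) : Subgroup G) = 24 := by
  classical
  haveI : Fact (Nat.Prime 3) := ⟨by norm_num⟩
  haveI : Fintype G := Fintype.ofFinite G
  obtain ⟨π, hπ, hk⟩ := S.hquot
  set K := centralizer ({z} : Set G) ⊓ centralizer ({y} : Set G) with hK
  set y' : ↥(centralizer ({z} : Set G)) := ⟨y, hyH⟩ with hy'
  let φK : ↥K →* alternatingGroup (Fin 5) := π.comp (Subgroup.inclusion inf_le_left)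
  have hyQ : y ∉ Q := fun h => by
    have := Q.orderOf_dvd_natCard h
    rw [hy, S.hQc] at this
    norm_num at this
  have hy3 : y ^ 3 = 1 := hy ▸ pow_orderOf_eq_one y
  have hs3 : π y' ^ 3 = 1 := by
    rw [← map_pow, show y' ^ 3 = 1 from Subtype.ext (by rw [SubmonoidClass.coe_pow]; exact hy3), map_one]
  have hs1 : π y' ≠ 1 := fun e => hyQ (by
    have : y' ∈ π.ker := e
    rwa [hk, mem_subgroupOf] at this)
  have hran : Nat.card ↥φK.range ∣ 3 := by
    have hc : ∀ s : alternatingGroup (Fin 5), s ^ 3 = 1 → s ≠ 1 →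
        ((Finset.univ : Finset (alternatingGroup (Fin 5))).filter fun t => t * s = s * t).card = 3 := by
      decide +kernel
    have hC : Nat.card ↥(centralizer ({π y'} : Set (alternatingGroup (Fin 5)))) = 3 := by
      refine Eq.trans ?_ (hc _ hs3 hs1)
      rw [Nat.card_eq_fintype_card, Fintype.card_subtype]
      congr 1
      ext t
      simp [mem_centralizer_singleton_iff]
    refine (card_dvd_of_le ?_).trans (dvd_of_eq hC)
    rintro _ ⟨c, rfl⟩
    refine mem_centralizer_singleton_iff.2 ?_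
    show π (Subgroup.inclusion inf_le_left c) * π y' = π y' * π (Subgroup.inclusion inf_le_left c)
    rw [← map_mul, ← map_mul]
    exact congrArg π (Subtype.ext (mem_centralizer_singleton_iff.1 (mem_inf.1 c.2).2))
  -- a fixed involution of `Q`
  obtain ⟨x, hx, hxy⟩ : ∃ x, NI z Q x ∧ y * x = x * y := by
    obtain ⟨-, -, -, h10, -⟩ := S.exists_five
    haveI : Fintype {x : G // NI z Q x} := Fintype.ofFinite _
    let σ : Function.End {x : G // NI z Q x} := fun x => ⟨y * x * y⁻¹, S.ni_conj hyH x.2⟩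
    have hσ : σ ^ 3 ^ 1 = 1 := funext fun p => Subtype.ext (by
      show y * (y * (y * (p : G) * y⁻¹) * y⁻¹) * y⁻¹ = p
      rw [show y * (y * (y * (p : G) * y⁻¹) * y⁻¹) * y⁻¹ = y ^ 3 * p * (y ^ 3)⁻¹ by
        simp [pow_succ, mul_assoc], hy3, one_mul, inv_one, mul_one])
    have h1 := Equiv.Perm.card_fixedPoints_modEq hσ
    rw [← Nat.card_eq_fintype_card, h10] at h1
    by_contra hc
    push Not at hc
    have h0 : Fintype.card (Function.fixedPoints σ) = 0 := by
      refine Fintype.card_eq_zero_iff.2 ⟨fun p => hc p.1.1 p.1.2 ?_⟩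
      have := congrArg Subtype.val p.2
      exact mul_inv_eq_iff_eq_mul.1 this
    rw [h0] at h1
    unfold Nat.ModEq at h1
    norm_num at h1
  -- the fixed points on `Q`
  let F : Subgroup ↥Q := (centralizer ({y} : Set G)).subgroupOf Q
  have hmem : ∀ p : G, ∀ hp : p ∈ Q, y * p = p * y → (⟨p, hp⟩ : ↥Q) ∈ F := fun p hp h =>
    mem_subgroupOf.2 (mem_centralizer_singleton_iff.2 h.symm)
  have hF4 : 4 ≤ Nat.card ↥F := by
    have hzy : y * z = z * y := S.commZ hyH
    have hxz := S.commZQ hx.1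
    have hsub : ({1, z, x, x * z} : Finset G) ⊆ Finset.univ.image (fun p : ↥F => ((p : ↥Q) : G)) := by
      intro p hp
      simp only [Finset.mem_insert, Finset.mem_singleton] at hp
      rcases hp with rfl | rfl | rfl | rfl
      · exact Finset.mem_image.2 ⟨1, Finset.mem_univ _, rfl⟩
      · exact Finset.mem_image.2 ⟨⟨_, hmem _ S.hzQ hzy⟩, Finset.mem_univ _, rfl⟩
      · exact Finset.mem_image.2 ⟨⟨_, hmem _ hx.1 hxy⟩, Finset.mem_univ _, rfl⟩
      · exact Finset.mem_image.2 ⟨⟨_, hmem _ (mul_mem hx.1 S.hzQ)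
          ((show Commute y x from hxy).mul_right hzy)⟩, Finset.mem_univ _, rfl⟩
    have hc := (Finset.card_le_card hsub).trans Finset.card_image_le
    rw [Finset.card_univ, ← Nat.card_eq_fintype_card] at hc
    refine le_trans (le_of_eq ?_) hc
    have h1 : (1 : G) ≠ x * z := fun e => (S.ni_mul_z hx).2.2.1 e.symm
    have h2 : z ≠ x * z := fun e => (S.ni_mul_z hx).2.2.2 e.symm
    have h3 : x ≠ x * z := fun e => S.mul_z_ne e.symm
    simp [S.zne.symm, hx.2.2.1.symm, hx.2.2.2.symm, h1, h2, h3]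
  have hmod : 32 ≡ Nat.card ↥F [MOD 3] := by
    haveI : Fintype ↥Q := Fintype.ofFinite _
    let φ : Function.End ↥Q := fun p => ⟨y * p * y⁻¹, S.hnorm y hyH p p.2⟩
    have hφ : φ ^ 3 ^ 1 = 1 := funext fun p => Subtype.ext (by
      show y * (y * (y * (p : G) * y⁻¹) * y⁻¹) * y⁻¹ = p
      rw [show y * (y * (y * (p : G) * y⁻¹) * y⁻¹) * y⁻¹ = y ^ 3 * p * (y ^ 3)⁻¹ by
        simp [pow_succ, mul_assoc], hy3, one_mul, inv_one, mul_one])
    have h1 := Equiv.Perm.card_fixedPoints_modEq hφ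
    rw [← S.hQc, Nat.card_eq_fintype_card, Nat.card_eq_fintype_card]
    refine h1.trans (congrArg (· % 3) (Fintype.card_congr (Equiv.subtypeEquivRight fun p => ?_)))
    show φ p = p ↔ p ∈ F
    refine ⟨fun h => hmem p.1 p.2 (mul_inv_eq_iff_eq_mul.1 (congrArg Subtype.val h)), fun h => ?_⟩
    rw [mem_subgroupOf, mem_centralizer_singleton_iff] at h
    exact Subtype.ext (mul_inv_eq_iff_eq_mul.2 h.symm)
  have hF8 : Nat.card ↥F = 8 := by
    have hd : Nat.card ↥F ∣ 32 := S.hQc ▸ card_subgroup_dvd_card F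
    have hne : Nat.card ↥F ≠ 32 := fun e => hyQ (S.hC (mem_centralizer_iff.2 fun q hq => by
      have : F = ⊤ := eq_top_of_card_eq F (by rw [e, S.hQc])
      have hq' : (⟨q, hq⟩ : ↥Q) ∈ F := this ▸ mem_top _
      rw [mem_subgroupOf, mem_centralizer_singleton_iff] at hq'
      exact hq'))
    have hle := Nat.le_of_dvd (by norm_num) hd
    unfold Nat.ModEq at hmod
    generalize Nat.card ↥F = m at *
    interval_cases m <;> omega
  have hker : Nat.card ↥φK.ker = 8 := by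
    rw [← hF8]
    refine Nat.card_congr
      { toFun := fun c => ⟨⟨((c : ↥K) : G), ?_⟩, ?_⟩
        invFun := fun p => ⟨⟨((p : ↥Q) : G), ?_⟩, ?_⟩
        left_inv := fun c => rfl
        right_inv := fun p => rfl }
    · have h : Subgroup.inclusion inf_le_left (c : ↥K) ∈ π.ker := c.2
      rwa [hk, mem_subgroupOf] at h
    · rw [mem_subgroupOf]; exact (mem_inf.1 (c : ↥K).2).2
    · exact ⟨S.hQH (p : ↥Q).2, mem_subgroupOf.1 p.2⟩
    · show Subgroup.inclusion inf_le_left _ ∈ π.ker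
      rw [hk, mem_subgroupOf]
      exact (p : ↥Q).2
  have h := card_eq_card_quotient_mul_card_subgroup φK.ker
  rw [Nat.card_congr (QuotientGroup.quotientKerEquivRange φK).toEquiv, hker] at h
  have hy' : 3 ∣ Nat.card ↥K := hy ▸ K.orderOf_dvd_natCard
    (mem_inf.2 ⟨hyH, mem_centralizer_singleton_iff.2 rfl⟩)
  rcases (Nat.dvd_prime (by norm_num : Nat.Prime 3)).1 hran with e | e <;> rw [e] at h
  · rw [h] at hy'; norm_num at hy'
  · exact h

/-- Transport of a centraliser to `H`. -/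
theorem Data.cent_three_conj [Finite G] (S : Data z Q) {c y : G} (hc : IsConj z c) (hy : orderOf y = 3)
    (hcy : c * y = y * c) :
    Nat.card ↥(centralizer ({c} : Set G) ⊓ centralizer ({y} : Set G) : Subgroup G) = 24 := by
  obtain ⟨g, rfl⟩ := isConj_iff.1 hc
  have hy' : g⁻¹ * y * g ∈ centralizer ({z} : Set G) := mem_centralizer_singleton_iff.2 (by
    calc g⁻¹ * y * g * z = g⁻¹ * (y * (g * z * g⁻¹)) * g := by group
      _ = g⁻¹ * ((g * z * g⁻¹) * y) * g := by rw [hcy]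
      _ = z * (g⁻¹ * y * g) := by group)
  have hyo : orderOf (g⁻¹ * y * g) = 3 := by
    have e := orderOf_conj_eq g⁻¹ y
    rw [inv_inv] at e
    rw [e, hy]
  rw [← S.cent_three_H hy' hyo]
  refine Nat.card_congr
    { toFun := fun d => ⟨g⁻¹ * d * g, mem_inf.2 ⟨mem_centralizer_singleton_iff.2 ?_,
        mem_centralizer_singleton_iff.2 ?_⟩⟩
      invFun := fun d => ⟨g * d * g⁻¹, mem_inf.2 ⟨mem_centralizer_singleton_iff.2 ?_,
        mem_centralizer_singleton_iff.2 ?_⟩⟩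
      left_inv := fun d => Subtype.ext (by group)
      right_inv := fun d => Subtype.ext (by group) }
  · have h := mem_centralizer_singleton_iff.1 (mem_inf.1 d.2).1
    calc g⁻¹ * (d : G) * g * z = g⁻¹ * ((d : G) * (g * z * g⁻¹)) * g := by group
      _ = g⁻¹ * ((g * z * g⁻¹) * d) * g := by rw [h]
      _ = z * (g⁻¹ * d * g) := by group
  · have h := mem_centralizer_singleton_iff.1 (mem_inf.1 d.2).2
    calc g⁻¹ * (d : G) * g * (g⁻¹ * y * g) = g⁻¹ * ((d : G) * y) * g := by group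
      _ = g⁻¹ * (y * d) * g := by rw [h]
      _ = g⁻¹ * y * g * (g⁻¹ * d * g) := by group
  · have h := mem_centralizer_singleton_iff.1 (mem_inf.1 d.2).1
    rw [show g * (d : G) * g⁻¹ * (g * z * g⁻¹) = g * ((d : G) * z) * g⁻¹ by group, h]
    group
  · have h := mem_centralizer_singleton_iff.1 (mem_inf.1 d.2).2
    calc g * (d : G) * g⁻¹ * y = g * ((d : G) * (g⁻¹ * y * g)) * g⁻¹ := by group
      _ = g * (g⁻¹ * y * g * d) * g⁻¹ := by rw [h]
      _ = y * (g * d * g⁻¹) := by group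

namespace Five

variable (F : Five z Q a W X0 f v k A)
include F

/-- The elements of order five up to conjugacy and powers. -/
theorem conj_five [Finite G] (S : Data z Q) (hfA : f' ∈ A) (hf' : orderOf f' = 5) {y : G}
    (hy : orderOf y = 5) : ∃ g : G, g * f * g⁻¹ ∈ zpowers y ∨ g * f' * g⁻¹ ∈ zpowers y := by
  classical
  haveI : Fact (Nat.Prime 5) := ⟨by norm_num⟩
  set P0 := centralizer ({f} : Set G) ⊓ centralizer ({f'} : Set G) with hP0
  have hP25 := F.card_P0 hfA hf'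
  obtain ⟨T, hT⟩ := (IsPGroup.of_card (p := 5) (n := 2) (by rw [hP25]; norm_num) :
    IsPGroup 5 ↥P0).exists_le_sylow
  have hTP : (T : Subgroup G) = P0 := by
    obtain ⟨hC, h25, -⟩ := S.sylow_five_result T
    exact (eq_of_le_of_card_ge hT (by rw [h25, hP25])).symm
  obtain ⟨U, hU⟩ := (IsPGroup.of_card (p := 5) (n := 1) (by rw [Nat.card_zpowers, hy]; norm_num) :
    IsPGroup 5 ↥(zpowers y)).exists_le_sylow
  obtain ⟨c, hc⟩ := MulAction.exists_smul_eq G U T
  have hUm : (T : Subgroup G) = (U : Subgroup G).map (MulAut.conj c).toMonoidHom := by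
    rw [← hc, Sylow.coe_subgroup_smul]; rfl
  have hcy : c * y * c⁻¹ ∈ P0 := by rw [← hTP, hUm]; exact ⟨y, hU (mem_zpowers y), rfl⟩
  obtain ⟨y', hy', hconj⟩ := (F.sylow_five S hfA hf').2 _ hcy (fun e => by
    rw [conj_eq_one_iff.1 e, orderOf_one] at hy; norm_num at hy)
  obtain ⟨i, hi⟩ := mem_zpowers_iff.1 (hy' ▸ mem_zpowers y' : y' ∈ zpowers (c * y * c⁻¹))
  have hback : ∀ t d : G, d * t * d⁻¹ = y' → c⁻¹ * d * t * (c⁻¹ * d)⁻¹ ∈ zpowers y := by
    intro t d hd
    refine mem_zpowers_iff.2 ⟨i, ?_⟩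
    rw [show c⁻¹ * d * t * (c⁻¹ * d)⁻¹ = c⁻¹ * (d * t * d⁻¹) * c by group, hd, ← hi,
      show (c * y * c⁻¹) ^ i = c * y ^ i * c⁻¹ from (map_zpow (MulAut.conj c) y i).symm]
    group
  rcases hconj with h | h <;> obtain ⟨d, hd⟩ := isConj_iff.1 h
  · exact ⟨c⁻¹ * d, Or.inl (hback f d hd)⟩
  · exact ⟨c⁻¹ * d, Or.inr (hback f' d hd)⟩

/-- The elements of order three of `A` are conjugate to `k`. -/
theorem conj_three_A [Finite G] {α : G} (hα : α ∈ A) (hαo : orderOf α = 3) : IsConj k α := by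
  classical
  haveI : Fact (Nat.Prime 3) := ⟨by norm_num⟩
  have ho : orderOf (⟨k, F.hkA⟩ : ↥A) = 3 := by rw [← orderOf_coe]; exact F.hk
  have hαo' : orderOf (⟨α, hα⟩ : ↥A) = 3 := by rw [← orderOf_coe]; exact hαo
  obtain ⟨hC3, u, hu, huk⟩ := F.hAcent.three F.hA ho
  obtain ⟨T, hT⟩ := (IsPGroup.of_card (p := 3) (n := 1) (by rw [Nat.card_zpowers, ho]; norm_num) :
    IsPGroup 3 ↥(zpowers (⟨k, F.hkA⟩ : ↥A))).exists_le_sylow
  obtain ⟨U, hU⟩ := (IsPGroup.of_card (p := 3) (n := 1) (by rw [Nat.card_zpowers, hαo']; norm_num) :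
    IsPGroup 3 ↥(zpowers (⟨α, hα⟩ : ↥A))).exists_le_sylow
  have hT3 : Nat.card ↥(T : Subgroup ↥A) = 3 := by
    rw [T.card_eq_multiplicity, F.hA, show Nat.factorization 60 3 = 1 by
      rw [show (60 : ℕ) = 3 * 20 by norm_num, Nat.factorization_mul (by norm_num) (by norm_num),
        Finsupp.add_apply, Nat.Prime.factorization_self (by norm_num),
        Nat.factorization_eq_zero_of_not_dvd (by norm_num)]]
    norm_num
  have hTk : zpowers (⟨k, F.hkA⟩ : ↥A) = (T : Subgroup ↥A) :=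
    eq_of_le_of_card_ge hT (by rw [hT3, Nat.card_zpowers, ho])
  obtain ⟨c, hc⟩ := MulAction.exists_smul_eq ↥A U T
  have hmem : c * ⟨α, hα⟩ * c⁻¹ ∈ zpowers (⟨k, F.hkA⟩ : ↥A) := by
    rw [hTk, ← hc, Sylow.coe_subgroup_smul]
    exact ⟨⟨α, hα⟩, hU (mem_zpowers _), rfl⟩
  have hkk : IsConj k k⁻¹ := isConj_iff.2 ⟨(u : G), congrArg Subtype.val huk⟩
  rcases mem_zpowers_three ho hmem with e | e | e
  · exfalso
    rw [conj_eq_one_iff.1 e, orderOf_one] at hαo'
    norm_num at hαo'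
  · exact ((isConj_iff.2 ⟨(c : G), congrArg Subtype.val e⟩ : IsConj α k)).symm
  · exact hkk.trans (isConj_iff.2 ⟨(c : G), congrArg Subtype.val e⟩ : IsConj α k⁻¹).symm

theorem k_not_mem_X0 [Finite G] : k ∉ X0 := by
  intro h
  have h2 := F.L.hCsq k h v F.hvX (invol_mul_self F.hv) (invol_ne_one F.hv) (F.hkX v F.hvX)
  have := orderOf_dvd_of_pow_eq_one (show k ^ 2 = 1 by rw [pow_two, h2])
  rw [F.hk] at this
  norm_num at this

theorem nine_dvd [Finite G] (hrX : r ∈ X0) (hr : orderOf r = 3) :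
    9 ∣ Nat.card ↥(centralizer ({r} : Set G) ⊓ centralizer ({k} : Set G) : Subgroup G) := by
  have hkr : Commute k r := F.hkX r hrX
  have hE1 : r ∈ centralizer ({r} : Set G) ⊓ centralizer ({k} : Set G) :=
    mem_inf.2 ⟨mem_centralizer_singleton_iff.2 rfl, mem_centralizer_singleton_iff.2 hkr.eq.symm⟩
  have hE2 : k ∈ centralizer ({r} : Set G) ⊓ centralizer ({k} : Set G) :=
    mem_inf.2 ⟨mem_centralizer_singleton_iff.2 hkr.eq, mem_centralizer_singleton_iff.2 rfl⟩
  let φ : ↥(zpowers r) × ↥(zpowers k) →*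
      ↥(centralizer ({r} : Set G) ⊓ centralizer ({k} : Set G) : Subgroup G) :=
    MonoidHom.mk' (fun p => ⟨(p.1 : G) * p.2, mul_mem ((zpowers_le.2 hE1) p.1.2) ((zpowers_le.2 hE2) p.2.2)⟩)
      fun p q => Subtype.ext (by
        obtain ⟨i, hi⟩ := mem_zpowers_iff.1 p.2.2
        obtain ⟨j, hj⟩ := mem_zpowers_iff.1 q.1.2
        have hc : (p.2 : G) * q.1 = q.1 * p.2 := hi ▸ hj ▸ ((hkr.zpow_left i).zpow_right j).eq
        show ((p.1 : G) * q.1) * ((p.2 : G) * q.2) = (p.1 : G) * p.2 * (q.1 * q.2)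
        calc ((p.1 : G) * q.1) * ((p.2 : G) * q.2) = p.1 * (q.1 * p.2) * q.2 := by group
          _ = _ := by rw [← hc]; group)
  have hφ : Function.Injective φ := by
    rw [injective_iff_map_eq_one]
    intro p hp
    have h1 : (p.1 : G) * p.2 = 1 := congrArg Subtype.val hp
    have h2 : (p.2 : G) ∈ X0 := by
      rw [eq_inv_of_mul_eq_one_right h1]
      exact inv_mem ((zpowers_le.2 hrX) p.1.2)
    have h3 : (p.2 : G) = 1 := by
      rcases mem_zpowers_three F.hk p.2.2 with e | e | e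
      · exact e
      · exact absurd (e ▸ h2) F.k_not_mem_X0
      · exact absurd (by simpa using inv_mem (e ▸ h2 : k⁻¹ ∈ X0)) F.k_not_mem_X0
    rw [h3, mul_one] at h1
    exact Prod.ext (Subtype.ext h1) (Subtype.ext h3)
  have h := card_dvd_of_injective φ hφ
  rwa [Nat.card_prod, Nat.card_zpowers, Nat.card_zpowers, hr, F.hk] at h

/-- The centraliser of an element of order three of `X₀`. -/
theorem cent_three [Finite G] (S : Data z Q) (hrX : r ∈ X0) (hr : orderOf r = 3) :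
    Nat.card ↥(centralizer ({r} : Set G)) = 36 ∧
      (∀ c ∈ centralizer ({r} : Set G), ∀ w ∈ W, c * w * c⁻¹ ∈ W) ∧
      (∀ c, c * r = r * c → ¬ IsConj z c) ∧ ∃ u ∈ X0, orderOf u = 2 ∧ u * r * u⁻¹ = r⁻¹ := by
  classical
  haveI : Fact (Nat.Prime 5) := ⟨by norm_num⟩
  have hz0 := F.L.zX0 S
  have hcU := F.L.X0_cent S hz0 S.zz S.zne
  obtain ⟨hC3, ⟨u, huX⟩, hu, hur⟩ := hcU.three F.L.hX0c (y := ⟨r, hrX⟩) (by rw [← orderOf_coe]; exact hr)
  rw [← orderOf_coe] at hu
  have hCy : ∀ c ∈ X0, c * r = r * c → c ∈ zpowers r := by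
    intro c hc hcr
    have hle : zpowers (⟨r, hrX⟩ : ↥X0) ≤ centralizer ({(⟨r, hrX⟩ : ↥X0)} : Set ↥X0) :=
      zpowers_le.2 (mem_centralizer_singleton_iff.2 rfl)
    have he := eq_of_le_of_card_ge hle (by
      rw [hC3, Nat.card_zpowers, ← orderOf_coe]; exact le_of_eq hr.symm)
    have : (⟨c, hc⟩ : ↥X0) ∈ zpowers (⟨r, hrX⟩ : ↥X0) := by
      rw [he]; exact mem_centralizer_singleton_iff.2 (Subtype.ext hcr)
    obtain ⟨i, hi⟩ := mem_zpowers_iff.1 this
    exact mem_zpowers_iff.2 ⟨i, by simpa using congrArg Subtype.val hi⟩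
  set M := centralizer ({r} : Set G) with hM
  have h9 : 9 ∣ Nat.card ↥M := (F.nine_dvd hrX hr).trans (card_dvd_of_le inf_le_left)
  have h4 : 4 ∣ Nat.card ↥M := F.L.hWc ▸ card_dvd_of_le (K := M) (H := W) fun w hw =>
    mem_centralizer_singleton_iff.2 (F.L.hWcen w hw r (F.L.hX0X hrX))
  have hbig : 4 * 3 < Nat.card ↥M := by
    have := Nat.le_of_dvd Nat.card_pos
      (Nat.Coprime.mul_dvd_of_dvd_of_dvd (by norm_num : Nat.Coprime 4 9) h4 h9)
    omega
  obtain ⟨hcases, hconjW, -⟩ := F.L.cent_elem S (q := 3) (by norm_num) (by norm_num) hrX hr hCy hbig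
  have hnz : ∀ c, c * r = r * c → ¬ IsConj z c := by
    intro c hcr hzc
    obtain ⟨m, -, hmw⟩ := hconjW c hcr ((orderOf_eq_of_isConj hzc).trans S.hz)
    have hne : m * c * m⁻¹ ≠ 1 := fun e => by
      have := orderOf_eq_of_isConj hzc
      rw [S.hz, conj_eq_one_iff.1 e, orderOf_one] at this
      norm_num at this
    exact F.L.not_isConj_W S hmw hne (hzc.trans (isConj_iff.2 ⟨m, rfl⟩))
  rcases hcases with ⟨h, hn⟩ | h180
  · exact ⟨h, hn, hnz, u, huX, hu, congrArg Subtype.val hur⟩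
  exfalso
  obtain ⟨⟨y, hyM⟩, hy⟩ := exists_prime_orderOf_dvd_card' (G := ↥M) 5 (by rw [h180]; norm_num)
  rw [← orderOf_coe] at hy
  change orderOf y = 5 at hy
  obtain ⟨⟨f', hfA⟩, hf'⟩ := exists_prime_orderOf_dvd_card' (G := ↥A) 5 (by rw [F.hA]; norm_num)
  rw [← orderOf_coe] at hf'
  change orderOf f' = 5 at hf'
  obtain ⟨g, hg⟩ := F.conj_five S hfA hf' hy
  have key : ∀ t : G, g * t * g⁻¹ ∈ zpowers y → (g⁻¹ * r * g) * t = t * (g⁻¹ * r * g) := by
    intro t ht
    obtain ⟨i, hi⟩ := mem_zpowers_iff.1 ht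
    have hc : Commute r (g * t * g⁻¹) :=
      hi ▸ (show Commute r y from (mem_centralizer_singleton_iff.1 hyM).symm).zpow_right i
    calc (g⁻¹ * r * g) * t = g⁻¹ * (r * (g * t * g⁻¹)) * g := by group
      _ = g⁻¹ * ((g * t * g⁻¹) * r) * g := by rw [hc.eq]
      _ = t * (g⁻¹ * r * g) := by group
  have hr'o : orderOf (g⁻¹ * r * g) = 3 := by
    have e := orderOf_conj_eq g⁻¹ r
    rw [inv_inv] at e
    rw [e, hr]
  rcases hg with hg | hg
  · -- the conjugate of `r` lies in `A`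
    obtain ⟨i, α, hα, hdec⟩ := F.hAdec _ (mem_centralizer_singleton_iff.2 (key f hg))
    have h1 : (f ^ i) ^ 3 * α ^ 3 = 1 := by
      rw [← ((F.commute_f hα).symm.zpow_left i).mul_pow, ← hdec, ← hr'o, pow_orderOf_eq_one]
    have h2 : α ^ 3 = 1 := F.hAint _ (pow_mem hα 3) (by
      rw [eq_inv_of_mul_eq_one_right h1]
      exact inv_mem (pow_mem (zpow_mem (mem_zpowers f) i) 3))
    rw [h2, mul_one] at h1
    have h3 : f ^ i = 1 := by
      have h5 : (f ^ i) ^ 5 = 1 := by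
        rw [← zpow_natCast, ← zpow_mul, mul_comm, zpow_mul, zpow_natCast, ← F.hf, pow_orderOf_eq_one,
          one_zpow]
      simpa using pow_gcd_eq_one.2 ⟨h1, h5⟩
    rw [h3, one_mul] at hdec
    have hconj : IsConj k (g⁻¹ * r * g) := F.conj_three_A (hdec ▸ hα) hr'o
    obtain ⟨d, hd⟩ := isConj_iff.1 hconj
    refine hnz (g * d * v * (g * d)⁻¹) ?_ ?_
    · have e : r = g * d * k * (g * d)⁻¹ := by
        rw [show g * d * k * (g * d)⁻¹ = g * (d * k * d⁻¹) * g⁻¹ by group, hd]; group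
      rw [e, show g * d * v * (g * d)⁻¹ * (g * d * k * (g * d)⁻¹) = g * d * (v * k) * (g * d)⁻¹ by group,
        F.hvA k F.hkA]
      group
    · exact (F.L.hX0z v F.hvX (invol_mul_self F.hv) (invol_ne_one F.hv)).trans
        (isConj_iff.2 ⟨g * d, rfl⟩)
  · have hd := (centralizer ({f'} : Set G)).orderOf_dvd_natCard
      (mem_centralizer_singleton_iff.2 (key f' hg))
    rw [hr'o, F.card_cent_fprime S hfA hf'] at hd
    norm_num at hd

/-- No conjugate of `k` commutes with `r`-type elements. -/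
theorem not_isConj_three [Finite G] (S : Data z Q) (hrX : r ∈ X0) (hr : orderOf r = 3) :
    ¬ IsConj k r ∧ ¬ IsConj k r⁻¹ := by
  obtain ⟨-, -, hnz, -⟩ := F.cent_three S hrX hr
  have hvz := F.L.hX0z v F.hvX (invol_mul_self F.hv) (invol_ne_one F.hv)
  have key : ∀ t : G, IsConj k t → ∃ c, IsConj z c ∧ c * t = t * c := by
    intro t ht
    obtain ⟨d, rfl⟩ := isConj_iff.1 ht
    refine ⟨d * v * d⁻¹, hvz.trans (isConj_iff.2 ⟨d, rfl⟩), ?_⟩
    rw [show d * v * d⁻¹ * (d * k * d⁻¹) = d * (v * k) * d⁻¹ by group, F.hvA k F.hkA]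
    group
  refine ⟨fun h => ?_, fun h => ?_⟩
  · obtain ⟨c, hc, hcr⟩ := key r h
    exact hnz c hcr hc
  · obtain ⟨c, hc, hcr⟩ := key r⁻¹ h
    exact hnz c (by simpa using (show Commute c r⁻¹ from hcr).inv_right.eq) hc

/-- Every involution commuting with `k` is conjugate to `z`. -/
theorem invol_cent_k [Finite G] (S : Data z Q) {c : G} (hc : orderOf c = 2) (hck : c * k = k * c) :
    IsConj z c := by
  refine (S.conj_cases F.L.ha hc).resolve_right fun h => ?_
  obtain ⟨g, hg⟩ := isConj_iff.1 h.symm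
  obtain ⟨d, hd, x0, hx0, hdx⟩ := F.L.hdec (g * k * g⁻¹) (mem_centralizer_singleton_iff.2 (by
    rw [← hg, show g * k * g⁻¹ * (g * c * g⁻¹) = g * (k * c) * g⁻¹ by group, ← hck]
    group))
  have ho : orderOf (g * k * g⁻¹) = 3 := by rw [orderOf_conj_eq, F.hk]
  have hcomm : Commute d x0 := F.L.hWcen d hd x0 (F.L.hX0X hx0)
  have h3 : d ^ 3 * x0 ^ 3 = 1 := by rw [← hcomm.mul_pow, hdx, ← ho, pow_orderOf_eq_one]
  have hd3 : d ^ 3 ∈ W ⊓ X0 := mem_inf.2 ⟨pow_mem hd 3, by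
    rw [eq_inv_of_mul_eq_one_left h3]; exact inv_mem (pow_mem hx0 3)⟩
  rw [F.L.hWX0, mem_bot, pow_succ, pow_two, F.L.hW2 d hd, one_mul] at hd3
  rw [hd3, one_mul] at hdx
  exact (F.not_isConj_three S (hdx ▸ hx0) ho).1 (isConj_iff.2 ⟨g, rfl⟩)

end Five

end CfsgLib.InvChar.HJType
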