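import Cfsg.Agent.Lib.InvChar.SporHeInvolIso
import Cfsg.Agent.Lib.InvChar.SporHeAutData

/-!
# The centraliser of `e` in the Held group as packed permutations of 16 points
-/

set_option autoImplicit false
set_option maxRecDepth 100000

namespace CfsgLib.InvChar.SporHeInvol

open CfsgLib.InvChar.Coset Cfsg.Spor

/-- Pack `m` sixteen-valued entries of `f` from `i`. -/
noncomputable def enc16From (f : ℕ → ℕ) (m : ℕ) : ℕ → ℕ :=
  Nat.rec (fun _ => 0) (fun _ ih i => force (i + 1) fun i' => f i + 16 * ih i') m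

/-- Pack a function on 16 points. -/
noncomputable def enc16 (f : ℕ → ℕ) : ℕ := enc16From f 16 0

/-- Read an entry. -/
noncomputable def app16 (p i : ℕ) : ℕ := (p >>> (4 * i)) % 16

/-- Composition of packed permutations, the right one first. -/
noncomputable def comp16 (p q : ℕ) : ℕ := enc16 fun i => app16 p (app16 q i)

theorem app16_enc16From (f : ℕ → ℕ) : ∀ m i, (∀ t, i ≤ t → t < i + m → f t < 16) →
    ∀ t < m, app16 (enc16From f m i) t = f (i + t) := by
  intro m
  induction m with
  | zero => intro i _ t ht; omega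
  | succ m ih =>
    intro i hf t ht
    have e : enc16From f (m + 1) i = f i + 16 * enc16From f m (i + 1) :=
      force_eq (i + 1) fun i' => f i + 16 * enc16From f m i'
    rw [app16, e, Nat.shiftRight_eq_div_pow]
    have hfi := hf i le_rfl (by omega)
    rcases t with _ | t
    · simp only [Nat.mul_zero, pow_zero, Nat.div_one, Nat.add_zero]
      rw [Nat.add_mul_mod_self_left, Nat.mod_eq_of_lt hfi]
    · have h := ih (i + 1) (fun s h1 h2 => hf s (by omega) (by omega)) t (by omega)
      rw [app16, Nat.shiftRight_eq_div_pow] at h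
      rw [show 4 * (t + 1) = 4 + 4 * t by ring, pow_add, ← Nat.div_div_eq_div_mul,
        show (2 : ℕ) ^ 4 = 16 by norm_num, Nat.add_mul_div_left _ _ (by norm_num : 0 < 16),
        Nat.div_eq_of_lt hfi, zero_add, h]
      congr 1
      omega

theorem app16_enc16 (f : ℕ → ℕ) (hf : ∀ t < 16, f t < 16) {t : ℕ} (ht : t < 16) :
    app16 (enc16 f) t = f t := by
  rw [enc16, app16_enc16From f 16 0 (fun s _ h => hf s (by omega)) t ht, Nat.zero_add]

theorem enc16From_congr (f g : ℕ → ℕ) : ∀ m i, (∀ t, i ≤ t → t < i + m → f t = g t) →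
    enc16From f m i = enc16From g m i := by
  intro m
  induction m with
  | zero => intro i _; rfl
  | succ m ih =>
    intro i h
    show force (i + 1) (fun i' => f i + 16 * enc16From f m i') =
      force (i + 1) (fun i' => g i + 16 * enc16From g m i')
    rw [force_eq, force_eq, h i le_rfl (by omega), ih (i + 1) fun t h1 h2 => h t (by omega) (by omega)]

theorem enc16_congr (f g : ℕ → ℕ) (h : ∀ t < 16, f t = g t) : enc16 f = enc16 g :=
  enc16From_congr f g 16 0 fun t _ ht => h t (by omega)

/-- The code of a permutation of 16 points. -/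
noncomputable def code (σ : Equiv.Perm (Fin 16)) : ℕ :=
  enc16 fun i => if h : i < 16 then (σ ⟨i, h⟩ : ℕ) else 0

theorem app16_code (σ : Equiv.Perm (Fin 16)) (i : Fin 16) : app16 (code σ) i = (σ i : ℕ) := by
  rw [code, app16_enc16 _ (fun t ht => by rw [dif_pos ht]; exact Fin.isLt _) i.2, dif_pos i.2]

theorem code_injective : Function.Injective code := fun σ τ h =>
  Equiv.ext fun i => Fin.ext (by rw [← app16_code σ i, ← app16_code τ i, h])

theorem code_mul (σ τ : Equiv.Perm (Fin 16)) : code (σ * τ) = comp16 (code σ) (code τ) := by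
  rw [comp16]
  refine enc16_congr _ _ fun t ht => ?_
  rw [dif_pos ht]
  show _ = app16 (code σ) (app16 (code τ) ((⟨t, ht⟩ : Fin 16) : ℕ))
  rw [app16_code, app16_code, Equiv.Perm.mul_apply]

/-- The code of the identity. -/
noncomputable def idCode : ℕ := enc16 fun i => i

theorem code_one : code 1 = idCode :=
  enc16_congr _ _ fun t ht => by rw [dif_pos ht]; rfl

/-- The code of a letter of a table on 16 points. -/
noncomputable def tabCode (T : Table) (L : List ℕ) : ℕ := enc16 fun i => T.follow L i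

theorem code_eq_tabCode (T : Table) (L : List ℕ) (σ : Equiv.Perm (Fin 16))
    (h : ∀ i : Fin 16, T.follow L i = (σ i : ℕ)) : code σ = tabCode T L :=
  enc16_congr _ _ fun t ht => by rw [dif_pos ht]; exact (h ⟨t, ht⟩).symm

/-- The transvection. -/
noncomputable def sT : TransvFive.SL5 :=
  ⟨Matrix.transvection 0 1 1, Matrix.det_transvection_of_ne 0 1 (by decide) 1⟩

theorem sT_val : (sT : Matrix (Fin 5) (Fin 5) (ZMod 2)) = Matrix.transvection 0 1 1 := rfl

/-- The model group on 16 points. -/
noncomputable def model : Subgroup (Equiv.Perm (Fin 16)) := modelGroup sT_val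

/-- The images of the three generators. -/
noncomputable def genPerm (j : Fin 3) : Equiv.Perm (Fin 16) := TransvFive.psi sT_val (matElt sT_val j)

theorem code_genPerm (j : Fin 3) : code (genPerm j) = tabCode HeInvol.tab0 [(j : ℕ)] := by
  refine code_eq_tabCode _ _ _ fun i => ?_
  show force (HeInvol.tab0.app i j) (fun q => q) = _
  rw [force_eq]
  exact (psi_matElt sT_val j i).symm

theorem card_model : Nat.card model = 21504 := by
  have hψ : model ≤ (TransvFive.psi sT_val).range := by
    rw [model, modelGroup, Subgroup.closure_le]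
    rintro _ ⟨j, rfl⟩
    exact ⟨_, rfl⟩
  have h1 : Nat.card (TransvFive.psi sT_val).range ≤ 21504 :=
    (Nat.card_le_card_of_surjective _ (TransvFive.psi sT_val).rangeRestrict_surjective).trans
      (TransvFive.card_le sT_val)
  exact le_antisymm ((Subgroup.card_le_of_le hψ).trans h1) (card_model_ge sT_val)

/-- Every element centralising `e` induces a unique element of the model, injectively. -/
theorem exists_model_hom :
    ∃ Φ : ↥(Subgroup.centralizer ({SporHe.gen 4} : Set He)) →* Equiv.Perm (Fin 16),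
      Function.Injective Φ ∧ (∀ g, Φ g ∈ model) ∧ (∀ j, Φ ⟨kGen j, kGen_mem j⟩ = genPerm j) ∧
      ∀ g : ↥(Subgroup.centralizer ({SporHe.gen 4} : Set He)), Induces (g : He) (Φ g) := by
  haveI : Finite He := SporHe.card_le.1
  let K : Subgroup He := Subgroup.closure (Set.range kGen)
  have hKC : K ≤ Subgroup.centralizer ({SporHe.gen 4} : Set He) := by
    rw [Subgroup.closure_le]; rintro _ ⟨j, rfl⟩; exact kGen_mem j
  have hex : ∀ g ∈ K, ∃ σ ∈ model, Induces g σ := by
    intro g hg
    induction hg using Subgroup.closure_induction with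
    | mem x hx =>
      obtain ⟨j, rfl⟩ := hx
      exact ⟨_, Subgroup.subset_closure ⟨j, rfl⟩, induces_kGen sT_val j⟩
    | one => exact ⟨1, one_mem _, Induces.one⟩
    | mul x y _ _ hx hy =>
      obtain ⟨σ, m1, h1⟩ := hx
      obtain ⟨τ, m2, h2⟩ := hy
      exact ⟨σ * τ, mul_mem m1 m2, h1.mul h2⟩
    | inv x _ hx =>
      obtain ⟨σ, m1, h1⟩ := hx
      refine ⟨σ ^ (orderOf x - 1), pow_mem m1 _, ?_⟩
      have e : x⁻¹ = x ^ (orderOf x - 1) := by
        refine inv_eq_of_mul_eq_one_right ?_
        rw [← pow_succ', Nat.sub_add_cancel (orderOf_pos x), pow_orderOf_eq_one]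
      exact e ▸ h1.pow _
  choose σ hσm hσ using fun g : K => hex g g.2
  let Ψ : K →* Equiv.Perm (Fin 16) :=
    { toFun := σ
      map_one' := (hσ 1).unique (by rw [Subgroup.coe_one]; exact Induces.one)
      map_mul' := fun a b => (hσ (a * b)).unique (by rw [Subgroup.coe_mul]; exact (hσ a).mul (hσ b)) }
  have hgen : ∀ j, Ψ ⟨kGen j, Subgroup.subset_closure ⟨j, rfl⟩⟩ = genPerm j := fun j =>
    (hσ _).unique (induces_kGen sT_val j)
  have hle : model ≤ Ψ.range := by
    rw [model, modelGroup, Subgroup.closure_le]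
    rintro _ ⟨j, rfl⟩
    exact ⟨_, hgen j⟩
  have h1 : Nat.card Ψ.range ≤ Nat.card K :=
    Nat.card_le_card_of_surjective Ψ.rangeRestrict Ψ.rangeRestrict_surjective
  have h2 := Subgroup.card_le_of_le hle
  have h3 := Subgroup.card_le_of_le hKC
  have h4 := card_centralizer_le
  have h5 := card_model
  have hKeq : K = Subgroup.centralizer ({SporHe.gen 4} : Set He) :=
    Subgroup.eq_of_le_of_card_ge hKC (by omega)
  have hinj : Function.Injective Ψ := by
    have hb : Function.Bijective Ψ.rangeRestrict :=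
      Ψ.rangeRestrict_surjective.bijective_of_nat_card_le (by omega)
    intro a b hab
    exact hb.1 (Subtype.ext hab)
  refine ⟨Ψ.comp (MulEquiv.subgroupCongr hKeq.symm).toMonoidHom, ?_, fun g => hσm _, fun j => ?_, fun g => ?_⟩
  · exact hinj.comp (MulEquiv.subgroupCongr hKeq.symm).injective
  · rw [← hgen j]; rfl
  · exact hσ ((MulEquiv.subgroupCongr hKeq.symm) g)

/-- The isomorphism onto the model. -/
noncomputable def phi : ↥(Subgroup.centralizer ({SporHe.gen 4} : Set He)) →* Equiv.Perm (Fin 16) :=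
  Classical.choose exists_model_hom

theorem phi_injective : Function.Injective phi := (Classical.choose_spec exists_model_hom).1

theorem phi_mem (g : ↥(Subgroup.centralizer ({SporHe.gen 4} : Set He))) : phi g ∈ model :=
  (Classical.choose_spec exists_model_hom).2.1 g

theorem phi_kGen (j : Fin 3) : phi ⟨kGen j, kGen_mem j⟩ = genPerm j :=
  (Classical.choose_spec exists_model_hom).2.2.1 j

/-- The code of an element centralising `e`. -/
noncomputable def phiCode (g : ↥(Subgroup.centralizer ({SporHe.gen 4} : Set He))) : ℕ := code (phi g)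

theorem phiCode_mul (g h : ↥(Subgroup.centralizer ({SporHe.gen 4} : Set He))) :
    phiCode (g * h) = comp16 (phiCode g) (phiCode h) := by
  rw [phiCode, map_mul, code_mul, phiCode, phiCode]

theorem phiCode_one : phiCode 1 = idCode := by rw [phiCode, map_one, code_one]

theorem phiCode_injective : Function.Injective phiCode := code_injective.comp phi_injective

/-- The element of a word in the three generators. -/
noncomputable def kElt : List ℕ → ↥(Subgroup.centralizer ({SporHe.gen 4} : Set He))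
  | [] => 1
  | x :: L => kElt L * ⟨kGen (Fin.ofNat 3 x), kGen_mem _⟩

/-- The code of a word in the three generators. -/
noncomputable def kCode : List ℕ → ℕ
  | [] => idCode
  | x :: L => comp16 (kCode L) (tabCode HeInvol.tab0 [x % 3])

theorem phiCode_kElt : ∀ L : List ℕ, phiCode (kElt L) = kCode L
  | [] => phiCode_one
  | x :: L => by
    rw [kElt, phiCode_mul, phiCode_kElt L, kCode, phiCode, phi_kGen, code_genPerm,
      Fin.val_ofNat]

/-- The action of the element of a word. -/
noncomputable def kFollow : List ℕ → ℕ → ℕ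
  | [], i => i
  | x :: L, i => kFollow L (HeA.table.follow (HeInvol.kWords.getD (x % 3) []) i)

theorem rep_kElt : ∀ (L : List ℕ) (i : Fin HeA.table.n),
    (SporHe.rep (kElt L : He) i : ℕ) = kFollow L i
  | [], i => by rw [kElt, Subgroup.coe_one, map_one, kFollow, Equiv.Perm.one_apply]
  | x :: L, i => by
    rw [kElt, Subgroup.coe_mul, map_mul, Equiv.Perm.mul_apply, rep_kElt L, rep_kGen, kFollow,
      Fin.val_ofNat]

/-! ### All elements of the model -/

/-- A code of an element of the model, by its number. -/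
noncomputable def leafCode (j : ℕ) : ℕ :=
  comp16 (HeAut.levCode0.getD (j / 1344) 0)
    (comp16 (HeAut.levCode1.getD (j / 96 % 14) 0)
      (comp16 (HeAut.levCode2.getD (j / 8 % 12) 0) (HeAut.levCode3.getD (j % 8) 0)))

theorem level_words :
    (∀ k < 16, HeInvol.tab0.follow (HeAut.levWords0.getD k []) 0 = field HeInvol.pts0 128 20 k ∧
      tabCode HeInvol.tab0 (HeAut.levWords0.getD k []) = HeAut.levCode0.getD k 0 ∧
      ∀ x ∈ HeAut.levWords0.getD k [], x < HeInvol.tab0.g) ∧
    (∀ k < 14, HeInvol.tab1.follow (HeAut.levWords1.getD k []) 2 = field HeInvol.pts1 128 20 k ∧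
      tabCode HeInvol.tab1 (HeAut.levWords1.getD k []) = HeAut.levCode1.getD k 0 ∧
      ∀ x ∈ HeAut.levWords1.getD k [], x < HeInvol.tab1.g) ∧
    (∀ k < 12, HeInvol.tab2.follow (HeAut.levWords2.getD k []) 4 = field HeInvol.pts2 128 20 k ∧
      tabCode HeInvol.tab2 (HeAut.levWords2.getD k []) = HeAut.levCode2.getD k 0 ∧
      ∀ x ∈ HeAut.levWords2.getD k [], x < HeInvol.tab2.g) ∧
    (∀ k < 8, HeInvol.tab3.follow (HeAut.levWords3.getD k []) 8 = field HeInvol.pts3 128 20 k ∧
      tabCode HeInvol.tab3 (HeAut.levWords3.getD k []) = HeAut.levCode3.getD k 0 ∧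
      ∀ x ∈ HeAut.levWords3.getD k [], x < HeInvol.tab3.g) := by
  decide +kernel

/-- One peeling step along the chain. -/
theorem peel {T : Table} {R : Subgroup (Equiv.Perm (Fin 16))} (hT : T.Realises R) (b : Fin 16)
    {pts : Tr} {m : ℕ} (horb : ∀ σ ∈ R, ∃ k < m, field pts 128 20 k = (σ b : ℕ))
    (W : List (List ℕ)) (C : List ℕ) (hW : ∀ k < m, T.follow (W.getD k []) b = field pts 128 20 k ∧
      tabCode T (W.getD k []) = C.getD k 0 ∧ ∀ x ∈ W.getD k [], x < T.g)
    (σ : Equiv.Perm (Fin 16)) (hσ : σ ∈ R) :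
    ∃ k < m, ∃ ρ ∈ R ⊓ MulAction.stabilizer (Equiv.Perm (Fin 16)) b,
      code σ = comp16 (C.getD k 0) (code ρ) := by
  obtain ⟨k, hk, hkσ⟩ := horb σ hσ
  obtain ⟨h1, h2, h3⟩ := hW k hk
  obtain ⟨τ, hτ, hτi⟩ := hT.follow T _ h3
  refine ⟨k, hk, τ⁻¹ * σ, ⟨R.mul_mem (R.inv_mem hτ) hσ, ?_⟩, ?_⟩
  · show τ⁻¹ * σ ∈ MulAction.stabilizer _ b
    rw [MulAction.mem_stabilizer_iff, Equiv.Perm.smul_def, Equiv.Perm.mul_apply, Equiv.Perm.inv_eq_iff_eq]
    refine Fin.ext ?_
    rw [← hkσ, ← hτi b]
    exact h1.symm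
  · rw [← h2, ← code_eq_tabCode T _ τ hτi, ← code_mul, mul_inv_cancel_left]

theorem exists_leaf (σ : Equiv.Perm (Fin 16)) (hσ : σ ∈ model) : ∃ j < 21504, leafCode j = code σ := by
  have r0 : HeInvol.tab0.Realises (n := 16) model := realises_model sT_val
  have r1 := Table.Realises.inf_stabilizer (T := HeInvol.tab1)
    (r0.derived HeInvol.tab0 HeInvol.tab1 HeInvol.words1 (by decide +kernel) (by decide +kernel)
      (by decide +kernel)) (0 : Fin 16) (by decide +kernel)
  have r2 := Table.Realises.inf_stabilizer (T := HeInvol.tab2)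
    (r1.derived HeInvol.tab1 HeInvol.tab2 HeInvol.words2 (by decide +kernel) (by decide +kernel)
      (by decide +kernel)) (2 : Fin 16) (by decide +kernel)
  have r3 := Table.Realises.inf_stabilizer (T := HeInvol.tab3)
    (r2.derived HeInvol.tab2 HeInvol.tab3 HeInvol.words3 (by decide +kernel) (by decide +kernel)
      (by decide +kernel)) (4 : Fin 16) (by decide +kernel)
  have s3 : ∀ L ∈ [[0], [1], [2]], ∀ x ∈ L, x < HeInvol.tab3.g := by decide +kernel
  have o3 : ∀ k < 8, Table.OrbitOK HeInvol.tab3 [[0], [1], [2]] HeInvol.pts3 HeInvol.pos3 HeInvol.par3 8 k :=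
    fun k hk => Table.chkOrbit_get _ _ _ _ _ _ 8 0 (by decide +kernel) k (by omega) (by omega)
  have o2 : ∀ k < 12, Table.OrbitOK HeInvol.tab2 [[0], [1]] HeInvol.pts2 HeInvol.pos2 HeInvol.par2 12 k :=
    fun k hk => Table.chkOrbit_get _ _ _ _ _ _ 12 0 (by decide +kernel) k (by omega) (by omega)
  have o1 : ∀ k < 14, Table.OrbitOK HeInvol.tab1 [[0], [1]] HeInvol.pts1 HeInvol.pos1 HeInvol.par1 14 k :=
    fun k hk => Table.chkOrbit_get _ _ _ _ _ _ 14 0 (by decide +kernel) k (by omega) (by omega)
  have o0 : ∀ k < 16, Table.OrbitOK HeInvol.tab0 [[0], [1], [2]] HeInvol.pts0 HeInvol.pos0 HeInvol.par0 16 k :=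
    fun k hk => Table.chkOrbit_get _ _ _ _ _ _ 16 0 (by decide +kernel) k (by omega) (by omega)
  have c3 := Table.card_ge_step (T := HeInvol.tab3) (n := 16) rfl r3 (S := [[0], [1], [2]]) s3
    (by decide) o3 (8 : Fin 16) (by decide +kernel) (Nat.succ_le_of_lt Nat.card_pos)
  have c2 := Table.card_ge_step (T := HeInvol.tab2) (n := 16) rfl r2 (S := [[0], [1]])
    (by decide +kernel) (by decide) o2 (4 : Fin 16) (by decide +kernel) c3
  have c1 := Table.card_ge_step (T := HeInvol.tab1) (n := 16) rfl r1 (S := [[0], [1]])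
    (by decide +kernel) (by decide) o1 (2 : Fin 16) (by decide +kernel) c2
  have e0 := orbit_exact (T := HeInvol.tab0) (n := 16) rfl r0 (S := [[0], [1], [2]])
    (by decide +kernel) (by decide) o0 (0 : Fin 16) (by decide +kernel) c1 (by norm_num)
    (le_of_eq (card_model.trans (by norm_num)))
  have e1 := orbit_exact (T := HeInvol.tab1) (n := 16) rfl r1 (S := [[0], [1]])
    (by decide +kernel) (by decide) o1 (2 : Fin 16) (by decide +kernel) c2 (by norm_num) (le_of_eq e0.1)
  have e2 := orbit_exact (T := HeInvol.tab2) (n := 16) rfl r2 (S := [[0], [1]])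
    (by decide +kernel) (by decide) o2 (4 : Fin 16) (by decide +kernel) c3 (by norm_num) (le_of_eq e1.1)
  have e3 := orbit_exact (T := HeInvol.tab3) (n := 16) rfl r3 (S := [[0], [1], [2]]) s3
    (by decide) o3 (8 : Fin 16) (by decide +kernel) (Nat.succ_le_of_lt Nat.card_pos) (by norm_num)
    (le_of_eq e2.1)
  obtain ⟨k0, hk0, ρ0, hρ0, q0⟩ := peel r0 0 e0.2 _ _ level_words.1 σ hσ
  obtain ⟨k1, hk1, ρ1, hρ1, q1⟩ := peel r1 2 e1.2 _ _ level_words.2.1 ρ0 hρ0
  obtain ⟨k2, hk2, ρ2, hρ2, q2⟩ := peel r2 4 e2.2 _ _ level_words.2.2.1 ρ1 hρ1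
  obtain ⟨k3, hk3, ρ3, hρ3, q3⟩ := peel r3 8 e3.2 _ _ level_words.2.2.2 ρ2 hρ2
  have h3 : ρ3 = 1 := Subgroup.mem_bot.1 ((Subgroup.card_eq_one.1 e3.1) ▸ hρ3)
  have hlast : code ρ2 = HeAut.levCode3.getD k3 0 := by
    obtain ⟨-, h2, hlt⟩ := level_words.2.2.2 k3 hk3
    obtain ⟨τ, -, hτi⟩ := r3.follow HeInvol.tab3 _ hlt
    rw [q3, h3, ← h2, ← code_eq_tabCode _ _ τ hτi, ← code_mul, mul_one]
  refine ⟨1344 * k0 + 96 * k1 + 8 * k2 + k3, by omega, ?_⟩
  rw [leafCode, show (1344 * k0 + 96 * k1 + 8 * k2 + k3) / 1344 = k0 by omega,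
    show (1344 * k0 + 96 * k1 + 8 * k2 + k3) / 96 % 14 = k1 by omega,
    show (1344 * k0 + 96 * k1 + 8 * k2 + k3) / 8 % 12 = k2 by omega,
    show (1344 * k0 + 96 * k1 + 8 * k2 + k3) % 8 = k3 by omega, ← hlast, ← q2, ← q1, ← q0]

/-- The code of the `k`-th involution of the model. -/
noncomputable def invCode (k : ℕ) : ℕ := field HeAut.inv575 128 64 k

/-- Every entry is fixed by the square. -/
noncomputable def sqFix (c : ℕ) (m : ℕ) : Bool :=
  Nat.rec true (fun i ih => Nat.beq (app16 c (app16 c i)) i && ih) m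

theorem sqFix_of_sq {c : ℕ} (h : comp16 c c = idCode) : ∀ m ≤ 16, sqFix c m = true
  | 0, _ => rfl
  | m + 1, hm => by
    show (Nat.beq (app16 c (app16 c m)) m && sqFix c m) = true
    rw [Bool.and_eq_true]
    refine ⟨?_, sqFix_of_sq h m (by omega)⟩
    have e := congrArg (fun p => app16 p m) h
    simp only [comp16, idCode] at e
    rw [app16_enc16 (fun i => app16 c (app16 c i)) (fun t _ => Nat.mod_lt _ (by norm_num)) (by omega),
      app16_enc16 _ (fun t ht => ht) (by omega)] at e
    rw [e]
    exact Nat.beq_refl _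

/-- The part of a leaf code below the top level. -/
noncomputable def lowCode (r : ℕ) : ℕ :=
  comp16 (HeAut.levCode1.getD (r / 96) 0)
    (comp16 (HeAut.levCode2.getD (r / 8 % 12) 0) (HeAut.levCode3.getD (r % 8) 0))

/-- A leaf squares to a non-identity or is listed. -/
noncomputable def chkLeaf (c i0 r : ℕ) : Bool :=
  bif sqFix c 16 && !(Nat.beq c idCode) then
    force (field HeAut.leafIdx 128 20 (1344 * i0 + r)) fun k =>
      Nat.ble 1 k && Nat.ble k 575 && Nat.beq (invCode (k - 1)) c
  else true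

/-- All leaves over one lower part. -/
noncomputable def chkLow (r : ℕ) : Bool :=
  force (lowCode r) fun s => allFrom (fun i0 =>
    force (comp16 (HeAut.levCode0.getD i0 0) s) fun c => chkLeaf c i0 r) 16 0

theorem leaves_ok : allFrom chkLow 1344 0 = true := by decide +kernel

/-- Every involution centralising `e` is listed. -/
theorem exists_invCode (g : ↥(Subgroup.centralizer ({SporHe.gen 4} : Set He))) (hg : g * g = 1)
    (hne : g ≠ 1) : ∃ k < 575, phiCode g = invCode k := by
  obtain ⟨j, hj, hjc⟩ := exists_leaf (phi g) (phi_mem g)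
  have h := allFrom_get chkLow 1344 0 leaves_ok (j % 1344) (Nat.zero_le _) (by omega)
  rw [chkLow, force_eq] at h
  have h := allFrom_get _ 16 0 h (j / 1344) (Nat.zero_le _) (by omega)
  have e : comp16 (HeAut.levCode0.getD (j / 1344) 0) (lowCode (j % 1344)) = code (phi g) := by
    rw [← hjc, lowCode, leafCode, show j % 1344 / 96 = j / 96 % 14 by omega,
      show j % 1344 / 8 % 12 = j / 8 % 12 by omega, show j % 1344 % 8 = j % 8 by omega]
  rw [force_eq, e, chkLeaf] at h
  have h1 : sqFix (code (phi g)) 16 = true := by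
    refine sqFix_of_sq ?_ 16 le_rfl
    rw [← phiCode, ← phiCode_mul, hg, phiCode_one]
  have h2 : Nat.beq (code (phi g)) idCode = false := by
    rw [Bool.eq_false_iff]
    intro h'
    exact hne (phiCode_injective (by rw [phiCode_one]; exact Nat.eq_of_beq_eq_true h'))
  rw [h1, h2] at h
  simp only [Bool.not_false, Bool.and_self, cond_true, force_eq, Bool.and_eq_true] at h
  obtain ⟨⟨h3, h4⟩, h5⟩ := h
  have h3 := Nat.le_of_ble_eq_true h3
  have h4 := Nat.le_of_ble_eq_true h4
  exact ⟨_, by omega, (Nat.eq_of_beq_eq_true h5).symm⟩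

end CfsgLib.InvChar.SporHeInvol
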