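import Cfsg.Agent.Lib.InvChar.SporHe
import Cfsg.Agent.Lib.InvChar.PackedMat
import Cfsg.Agent.Lib.InvChar.SporData.HeSpData
import Cfsg.Agent.S0245
import Mathlib.GroupTheory.Perm.Sign

/-!
# The subgroup of index 2058 of the presented Held group acting on the points of a symplectic space
-/

set_option autoImplicit false
set_option maxRecDepth 100000

namespace CfsgLib.InvChar.SporHeSp

open CfsgLib.InvChar.Coset Cfsg.Spor

theorem card_H : Nat.card ↥SporHe.H = 1958400 := by
  haveI : Finite He := SporHe.card_le.1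
  have h := SporHe.H.card_mul_index
  rw [SporHe.index_H.1, SporHe.card_eq.1] at h
  omega

/-- The block of a point, `85` outside the orbit. -/
noncomputable def blockOf (p : Fin HeA.table.n) : ℕ := field HeSp.beta 128 20 p

/-- `h` induces `π` on the blocks. -/
def Induces (h : He) (π : Equiv.Perm (Fin 85)) : Prop :=
  ∀ p : Fin HeA.table.n, ∀ hp : blockOf p < 85,
    blockOf (SporHe.rep h p) = (π ⟨blockOf p, hp⟩ : ℕ)

theorem repPt_ok : ∀ i < 85, field HeSp.repPt 128 20 i < HeA.table.n ∧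
    field HeSp.beta 128 20 (field HeSp.repPt 128 20 i) = i := by decide +kernel

theorem induces_unique {h : He} {π π' : Equiv.Perm (Fin 85)} (hπ : Induces h π) (hπ' : Induces h π') :
    π = π' := by
  ext i
  obtain ⟨h1, h2⟩ := repPt_ok i i.2
  let p : Fin HeA.table.n := ⟨_, h1⟩
  have hp : blockOf p = i := h2
  have hlt : blockOf p < 85 := hp ▸ i.2
  have e := (hπ p hlt).symm.trans (hπ' p hlt)
  have hi : (⟨blockOf p, hlt⟩ : Fin 85) = i := Fin.ext hp
  rwa [hi] at e

theorem induces_mul {a b : He} {π π' : Equiv.Perm (Fin 85)} (ha : Induces a π) (hb : Induces b π') :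
    Induces (a * b) (π * π') := by
  intro p hp
  have h1 := hb p hp
  have hlt : blockOf (SporHe.rep b p) < 85 := h1 ▸ (π' ⟨blockOf p, hp⟩).2
  rw [map_mul, Equiv.Perm.mul_apply, ha _ hlt, Equiv.Perm.mul_apply]
  exact congrArg (fun i => (π i : ℕ)) (Fin.ext h1)

theorem induces_one : Induces 1 1 := fun p hp => by rw [map_one]; rfl

theorem beta_step : ∀ x < 7, ∀ p < HeA.table.n, field HeSp.beta 128 20 p < 85 →
    field HeSp.beta 128 20 (HeA.table.follow (HeA.subs.getD x []) p) =
      HeSp.big0.app (field HeSp.beta 128 20 p) x := by decide +kernel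

theorem big0_bij : ∀ x < 7, (∀ i < 85, HeSp.big0.app i x < 85) ∧
    ∀ i < 85, ∀ j < 85, HeSp.big0.app i x = HeSp.big0.app j x → i = j := by decide +kernel

theorem big0_inv : ∀ i < 85, HeSp.big0.app (HeSp.big0.app i 6) 7 = i := by decide +kernel

/-- The permutation of a letter of the table. -/
noncomputable def bigPerm (x : ℕ) : Equiv.Perm (Fin 85) :=
  if hx : x < 7 then
    Equiv.ofBijective (fun i => ⟨HeSp.big0.app i x, (big0_bij x hx).1 i i.2⟩)
      (Finite.injective_iff_bijective.1 fun i j h =>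
        Fin.ext ((big0_bij x hx).2 i i.2 j j.2 (congrArg Fin.val h)))
  else 1

theorem bigPerm_apply {x : ℕ} (hx : x < 7) (i : Fin 85) : (bigPerm x i : ℕ) = HeSp.big0.app i x := by
  rw [bigPerm, dif_pos hx]
  rfl

/-- The generator `x` of `H`. -/
noncomputable def hgen (x : ℕ) : He := (wprod SporHe.gen (HeA.subs.getD x []))⁻¹

theorem hgen_induces {x : ℕ} (hx : x < 7) : Induces (hgen x) (bigPerm x) := by
  intro p hp
  have hlt : ∀ y ∈ HeA.subs.getD x [], y < 7 :=
    (by decide +kernel : ∀ x < 7, ∀ y ∈ HeA.subs.getD x [], y < 7) x hx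
  rw [hgen, map_inv, map_wprod SporHe.rep SporHe.gen SporHe.perm _ fun y hy => SporHe.rep_gen y (hlt y hy),
    bigPerm_apply hx]
  show field HeSp.beta 128 20 _ = _
  rw [show (((wprod SporHe.perm (HeA.subs.getD x []))⁻¹ p : Fin HeA.table.n) : ℕ) =
    HeA.table.follow (HeA.subs.getD x []) p from (HeA.valid.follow_eq HeA.sq _ hlt p).symm]
  exact beta_step x hx p p.2 hp

theorem hgen_mem {x : ℕ} (hx : x < 7) : hgen x ∈ SporHe.H :=
  inv_mem (mem_wordsClosure SporHe.gen ((by decide +kernel : ∀ x < 7, HeA.subs.getD x [] ∈ HeA.subs) x hx))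

theorem exists_induces : ∀ h ∈ SporHe.H, ∃ π, Induces h π := by
  have inv_case : ∀ h π, Induces h π → Induces h⁻¹ π⁻¹ := by
    intro h π hπ p hp
    -- use that the block map is equivariant on the whole orbit
    have key : ∀ q : Fin HeA.table.n, blockOf (SporHe.rep h q) < 85 → blockOf q < 85 := by
      let O : Set (Fin HeA.table.n) := {q | blockOf q < 85}
      have hsub : SporHe.rep h '' O ⊆ O := by
        rintro _ ⟨q, hq, rfl⟩
        show blockOf (SporHe.rep h q) < 85
        rw [hπ q hq]; exact (π _).2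
      have heq : SporHe.rep h '' O = O :=
        Set.eq_of_subset_of_ncard_le hsub
          (by rw [Set.ncard_image_of_injective _ (SporHe.rep h).injective]) (Set.toFinite _)
      intro q hq
      have : SporHe.rep h q ∈ SporHe.rep h '' O := heq.symm ▸ hq
      exact (SporHe.rep h).injective.mem_set_image.1 this
    have e : SporHe.rep h (SporHe.rep h⁻¹ p) = p := by
      rw [← Equiv.Perm.mul_apply, ← map_mul, mul_inv_cancel, map_one, Equiv.Perm.one_apply]
    have hq : blockOf (SporHe.rep h⁻¹ p) < 85 := key _ (by rw [e]; exact hp)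
    have h1 := hπ _ hq
    rw [e] at h1
    have h2 : (⟨blockOf p, hp⟩ : Fin 85) = π ⟨blockOf (SporHe.rep h⁻¹ p), hq⟩ := Fin.ext h1
    rw [h2]
    simp
  intro h hh
  rw [SporHe.H, wordsClosure] at hh
  induction hh using Subgroup.closure_induction with
  | mem a ha =>
    obtain ⟨L, hL, rfl⟩ := ha
    obtain ⟨x, hx, rfl⟩ := List.mem_iff_getElem.1 hL
    have hx7 : x < 7 := hx
    have h1 := inv_case _ _ (hgen_induces hx7)
    rw [hgen, inv_inv, List.getD_eq_getElem _ _ hx] at h1
    exact ⟨_, h1⟩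
  | one => exact ⟨1, induces_one⟩
  | mul a b _ _ ha hb =>
    obtain ⟨π, hπ⟩ := ha
    obtain ⟨π', hπ'⟩ := hb
    exact ⟨π * π', induces_mul hπ hπ'⟩
  | inv a _ ha =>
    obtain ⟨π, hπ⟩ := ha
    exact ⟨π⁻¹, inv_case a π hπ⟩

/-- The action of `H` on the blocks. -/
noncomputable def blockHom : ↥SporHe.H →* Equiv.Perm (Fin 85) :=
  MonoidHom.mk' (fun h => Classical.choose (exists_induces h h.2)) fun a b =>
    induces_unique (Classical.choose_spec (exists_induces _ (a * b).2))
      (induces_mul (Classical.choose_spec (exists_induces a a.2)) (Classical.choose_spec (exists_induces b b.2)))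

theorem blockHom_hgen {x : ℕ} (hx : x < 7) : blockHom ⟨hgen x, hgen_mem hx⟩ = bigPerm x :=
  induces_unique (Classical.choose_spec (exists_induces (hgen x) (hgen_mem hx))) (hgen_induces hx)

theorem big0_realises : HeSp.big0.Realises blockHom.range := by
  intro x hx
  have hx : x < 8 := hx
  rcases Nat.lt_or_ge x 7 with h7 | h7
  · exact ⟨bigPerm x, ⟨_, blockHom_hgen h7⟩, fun i => (bigPerm_apply h7 i).symm⟩
  · obtain rfl : x = 7 := by omega
    refine ⟨(bigPerm 6)⁻¹, inv_mem ⟨_, blockHom_hgen (by norm_num)⟩, fun i => ?_⟩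
    obtain ⟨j, rfl⟩ := (bigPerm 6).surjective i
    rw [← Equiv.Perm.mul_apply, inv_mul_cancel, Equiv.Perm.one_apply, bigPerm_apply (by norm_num)]
    exact big0_inv j j.2

theorem blockHom_injective : Function.Injective blockHom := by
  haveI : Finite He := SporHe.card_le.1
  exact (card_eq_and_injective blockHom (by norm_num) ⟨inferInstance, card_H.le⟩
    (HeSp.big_card_ge big0_realises)).2

/-- The index two subgroup: the elements inducing even permutations of the blocks. -/
noncomputable def even : Subgroup ↥SporHe.H := (Equiv.Perm.sign.comp blockHom).ker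

theorem sign_bigPerm_five : Equiv.Perm.sign (bigPerm 5) = -1 := by decide +kernel

theorem even_index : even.index = 2 := by
  rw [even, Subgroup.index_ker]
  have : (Equiv.Perm.sign.comp blockHom).range = ⊤ := by
    refine eq_top_iff.2 fun u _ => ?_
    rcases Int.units_eq_one_or u with rfl | rfl
    · exact one_mem _
    · exact ⟨⟨hgen 5, hgen_mem (by norm_num)⟩, by
        rw [MonoidHom.comp_apply, blockHom_hgen (by norm_num), sign_bigPerm_five]⟩
  rw [this, Subgroup.card_top, Nat.card_eq_fintype_card]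
  rfl

theorem card_even : Nat.card ↥even = 979200 := by
  have h := even.card_mul_index
  rw [even_index, card_H] at h
  omega

/-- Coordinates. -/
def vec (c : List ℕ) : Fin 2 ⊕ Fin 2 → FQ4 := fun i =>
  ⟨Fin.ofNat 4 (c.getD (finSumFinEquiv i).val 0)⟩

/-- A point of the projective space. -/
def pt (i : Fin 85) : Fin 2 ⊕ Fin 2 → FQ4 := vec (HeSp.spPts.getD i.val [])

theorem pt_exists (y : Fin 2 ⊕ Fin 2 → FQ4) (hy : y ≠ 0) : ∃ (j : Fin 85) (k : FQ4), k ≠ 0 ∧ y = k • pt j := by
  have key : ∀ a b c d : FQ4, (a ≠ 0 ∨ b ≠ 0 ∨ c ≠ 0 ∨ d ≠ 0) → ∃ (j : Fin 85) (k : FQ4), k ≠ 0 ∧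
      a = k * pt j (.inl 0) ∧ b = k * pt j (.inl 1) ∧ c = k * pt j (.inr 0) ∧ d = k * pt j (.inr 1) := by
    decide +kernel
  obtain ⟨j, k, hk, h1, h2, h3, h4⟩ := key (y (.inl 0)) (y (.inl 1)) (y (.inr 0)) (y (.inr 1)) (by
    by_contra h
    push Not at h
    exact hy (funext fun i => by rcases i with i | i <;> fin_cases i <;> simp [h.1, h.2.1, h.2.2.1, h.2.2.2]))
  refine ⟨j, k, hk, funext fun i => ?_⟩
  rcases i with i | i <;> fin_cases i <;> simp [h1, h2, h3, h4]

theorem pt_unique : ∀ (i j : Fin 85) (k : FQ4), pt i (.inl 0) = k * pt j (.inl 0) → pt i (.inl 1) = k * pt j (.inl 1) →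
    pt i (.inr 0) = k * pt j (.inr 0) → pt i (.inr 1) = k * pt j (.inr 1) → i = j := by decide +kernel

theorem pt_ne_zero (i : Fin 85) : pt i ≠ 0 := by
  intro h
  have := (by decide +kernel : ∀ i : Fin 85, ¬ (pt i (.inl 0) = 0 ∧ pt i (.inl 1) = 0 ∧ pt i (.inr 0) = 0 ∧ pt i (.inr 1) = 0)) i
  exact this ⟨congrFun h _, congrFun h _, congrFun h _, congrFun h _⟩

theorem eq_of_smul {i j : Fin 85} {a b : FQ4} (ha : a ≠ 0) (h : a • pt i = b • pt j) : i = j := by
  have e : ∀ x, pt i x = (a⁻¹ * b) * pt j x := fun x => by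
    have := congrFun h x
    simp only [Pi.smul_apply, smul_eq_mul] at this
    rw [mul_assoc, ← this, ← mul_assoc, inv_mul_cancel₀ ha, one_mul]
  exact pt_unique i j _ (e _) (e _) (e _) (e _)

/-- The symplectic group over the field with four elements. -/
abbrev Sp4 := Matrix.symplecticGroup (Fin 2) FQ4

theorem mulVec_ne_zero (A : Sp4) (i : Fin 85) :
    (A : Matrix (Fin 2 ⊕ Fin 2) (Fin 2 ⊕ Fin 2) FQ4).mulVec (pt i) ≠ 0 := by
  intro h
  refine pt_ne_zero i ?_
  have h2 := congrArg (fun v => ((A⁻¹ : Sp4) : Matrix (Fin 2 ⊕ Fin 2) (Fin 2 ⊕ Fin 2) FQ4).mulVec v) h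
  simp only [Matrix.mulVec_mulVec, Matrix.mulVec_zero] at h2
  rw [show ((A⁻¹ : Sp4) : Matrix (Fin 2 ⊕ Fin 2) (Fin 2 ⊕ Fin 2) FQ4) * A = 1 from
    congrArg Subtype.val (inv_mul_cancel A), Matrix.one_mulVec] at h2
  exact h2

/-- The image of a point. -/
noncomputable def ptMap (A : Sp4) (i : Fin 85) : Fin 85 :=
  Classical.choose (pt_exists _ (mulVec_ne_zero A i))

theorem ptMap_spec (A : Sp4) (i : Fin 85) : ∃ k : FQ4, k ≠ 0 ∧
    (A : Matrix (Fin 2 ⊕ Fin 2) (Fin 2 ⊕ Fin 2) FQ4).mulVec (pt i) = k • pt (ptMap A i) :=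
  Classical.choose_spec (pt_exists _ (mulVec_ne_zero A i))

theorem ptMap_eq {A : Sp4} {i j : Fin 85} {k : FQ4} (hk : k ≠ 0)
    (h : (A : Matrix (Fin 2 ⊕ Fin 2) (Fin 2 ⊕ Fin 2) FQ4).mulVec (pt i) = k • pt j) : ptMap A i = j := by
  obtain ⟨k', hk', h'⟩ := ptMap_spec A i
  exact eq_of_smul hk' (h'.symm.trans h)

theorem ptMap_one (i : Fin 85) : ptMap 1 i = i :=
  ptMap_eq one_ne_zero (by simp)

theorem ptMap_mul (A B : Sp4) (i : Fin 85) : ptMap (A * B) i = ptMap A (ptMap B i) := by
  obtain ⟨k, hk, h⟩ := ptMap_spec B i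
  obtain ⟨k', hk', h'⟩ := ptMap_spec A (ptMap B i)
  refine ptMap_eq (mul_ne_zero hk hk') ?_
  rw [Submonoid.coe_mul, ← Matrix.mulVec_mulVec, h, Matrix.mulVec_smul, h', smul_smul]

/-- The action of the symplectic group on the points. -/
noncomputable def spHom : Sp4 →* Equiv.Perm (Fin 85) where
  toFun A :=
    { toFun := ptMap A
      invFun := ptMap A⁻¹
      left_inv := fun i => by rw [← ptMap_mul, inv_mul_cancel, ptMap_one]
      right_inv := fun i => by rw [← ptMap_mul, mul_inv_cancel, ptMap_one] }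
  map_one' := Equiv.ext ptMap_one
  map_mul' A B := Equiv.ext (ptMap_mul A B)

/-- The generating matrices. -/
def spMat (c : List (List ℕ)) : Matrix (Fin 2 ⊕ Fin 2) (Fin 2 ⊕ Fin 2) FQ4 :=
  Matrix.of fun i j => vec (c.getD (finSumFinEquiv j).val []) i

theorem spMat_mem : ∀ k < 3, spMat (HeSp.spMats.getD k []) ∈ Matrix.symplecticGroup (Fin 2) FQ4 := by
  intro k hk
  rw [SymplecticGroup.mem_iff]
  exact (by decide +kernel : ∀ k < 3, spMat (HeSp.spMats.getD k []) * Matrix.J (Fin 2) FQ4 *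
    (spMat (HeSp.spMats.getD k [])).transpose = Matrix.J (Fin 2) FQ4) k hk

theorem spMat_table : ∀ k < 3, ∀ i : Fin 85, ∃ c : FQ4, c ≠ 0 ∧ ∀ x,
    ((spMat (HeSp.spMats.getD k [])).mulVec (pt i)) x = c * pt (Fin.ofNat 85 (HeSp.sp0.app i (2 * k))) x := by
  decide +kernel

theorem sp0_range : ∀ k < 3, ∀ i < 85, HeSp.sp0.app i (2 * k) < 85 := by decide +kernel

theorem sp0_word : ∀ k < 3, ∀ i < 85,
    HeSp.sp0.app i (2 * k) = HeSp.big0.follow (HeSp.spWords.getD k []) i := by decide +kernel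

theorem sp0_inverse : ∀ k < 3, ∀ i < 85, HeSp.sp0.app (HeSp.sp0.app i (2 * k)) (2 * k + 1) = i := by
  decide +kernel

theorem sp0_bij : ∀ k < 3, ∀ i < 85, ∀ j < 85, HeSp.sp0.app i (2 * k) = HeSp.sp0.app j (2 * k) → i = j := by
  decide +kernel

/-- The permutation of a generating matrix, read from its table. -/
noncomputable def spPerm (k : ℕ) : Equiv.Perm (Fin 85) :=
  if hk : k < 3 then
    Equiv.ofBijective (fun i => ⟨HeSp.sp0.app i (2 * k), sp0_range k hk i i.2⟩)
      (Finite.injective_iff_bijective.1 fun i j h =>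
        Fin.ext (sp0_bij k hk i i.2 j j.2 (congrArg Fin.val h)))
  else 1

theorem spPerm_sign : ∀ k < 3, Equiv.Perm.sign (spPerm k) = 1 := by decide +kernel

theorem exists_iso : Nonempty (↥even ≃* Sp4) := by
  haveI : Finite He := SporHe.card_le.1
  have hsp : Nat.card Sp4 = 979200 := by
    rw [Cfsg.Agent.S0245.result FQ4.card_eq 2]
    simp [Finset.prod_range_succ]
  let σ : ℕ → Equiv.Perm (Fin 85) := fun k =>
    if hk : k < 3 then spHom ⟨_, spMat_mem k hk⟩ else 1
  have hσ : ∀ k < 3, ∀ i : Fin 85, HeSp.sp0.app i (2 * k) = (σ k i : ℕ) := by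
    intro k hk i
    obtain ⟨c, hc, hx⟩ := spMat_table k hk i
    have := ptMap_eq (A := ⟨_, spMat_mem k hk⟩) hc (funext fun x => by rw [hx x]; rfl)
    simp only [σ, dif_pos hk]
    show _ = (ptMap _ i : ℕ)
    rw [this, Fin.val_ofNat, Nat.mod_eq_of_lt (sp0_range k hk i i.2)]
  let R := Subgroup.closure (σ '' Set.Iio 3)
  have hmem : ∀ k < 3, σ k ∈ R := fun k hk => Subgroup.subset_closure ⟨k, hk, rfl⟩
  have r0 : HeSp.sp0.Realises R := by
    intro x hx
    have hx : x < 6 := hx
    obtain ⟨k, rfl | rfl⟩ : ∃ k, x = 2 * k ∨ x = 2 * k + 1 := ⟨x / 2, by omega⟩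
    · exact ⟨σ k, hmem k (by omega), hσ k (by omega)⟩
    · refine ⟨(σ k)⁻¹, inv_mem (hmem k (by omega)), fun i => ?_⟩
      obtain ⟨j, rfl⟩ := (σ k).surjective i
      rw [← Equiv.Perm.mul_apply, inv_mul_cancel, Equiv.Perm.one_apply, ← hσ k (by omega)]
      exact sp0_inverse k (by omega) j j.2
  have hR := HeSp.sp_card_ge r0
  have hR1 : R ≤ spHom.range := by
    rw [Subgroup.closure_le]
    rintro _ ⟨k, hk, rfl⟩
    exact ⟨⟨_, spMat_mem k hk⟩, by simp only [σ, dif_pos (show k < 3 from hk)]⟩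
  let ψ := blockHom.comp even.subtype
  have hR2 : R ≤ ψ.range := by
    rw [Subgroup.closure_le]
    rintro _ ⟨k, hk, rfl⟩
    obtain ⟨π, ⟨h, hh⟩, hπ⟩ := big0_realises.follow HeSp.big0 (HeSp.spWords.getD k [])
      ((by decide +kernel : ∀ k < 3, ∀ x ∈ HeSp.spWords.getD k [], x < HeSp.big0.g) k hk)
    have e : π = σ k := Equiv.ext fun i => Fin.ext (by rw [← hσ k hk i, sp0_word k hk i i.2, hπ i])
    refine ⟨⟨h, ?_⟩, hh.trans e⟩
    rw [even, MonoidHom.mem_ker, MonoidHom.comp_apply, hh, e,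
      show σ k = spPerm k from Equiv.ext fun i => Fin.ext (by
        rw [← hσ k hk i, spPerm, dif_pos (show k < 3 from hk)]; rfl)]
    exact spPerm_sign k hk
  have hs := card_eq_and_injective spHom (by norm_num) ⟨inferInstance, hsp.le⟩
    (hR.trans (Subgroup.card_le_of_le hR1))
  have hb : Function.Injective ψ := blockHom_injective.comp even.subtype_injective
  have c1 : Nat.card spHom.range = 979200 :=
    (Nat.card_congr (MonoidHom.ofInjective hs.2).toEquiv).symm.trans hsp
  have c2 : Nat.card ψ.range = 979200 :=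
    (Nat.card_congr (MonoidHom.ofInjective hb).toEquiv).symm.trans card_even
  have e1 : R = spHom.range := Subgroup.eq_of_le_of_card_ge hR1 (c1.le.trans hR)
  have e2 : R = ψ.range := Subgroup.eq_of_le_of_card_ge hR2 (c2.le.trans hR)
  exact ⟨(MonoidHom.ofInjective hb).trans ((MulEquiv.subgroupCongr (e2.symm.trans e1)).trans
    (MonoidHom.ofInjective hs.2).symm)⟩

end CfsgLib.InvChar.SporHeSp
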