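import Cfsg.Agent.Lib.InvChar.IcoCands

/-! Kernel checks of candidate minimal vectors. -/

set_option autoImplicit false
set_option maxRecDepth 100000

namespace CfsgLib.InvChar.Ico

theorem chk_C2 : chkC 2 = true := by decide +kernel

end CfsgLib.InvChar.Ico
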