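import Cfsg.Agent.Lib.InvChar.IcoEnum

/-!
# Normalised candidates for minimal vectors: the check functions
-/

set_option autoImplicit false

namespace CfsgLib.InvChar.Ico

/-- The six arrangements of three coordinates. -/
def arr (k : Fin 6) (a b c : D) : V :=
  match k.val with
  | 0 => ⟨a, b, c⟩
  | 1 => ⟨b, a, c⟩
  | 2 => ⟨b, c, a⟩
  | 3 => ⟨a, c, b⟩
  | 4 => ⟨c, a, b⟩
  | _ => ⟨c, b, a⟩

/-- Divide by four. -/
def quarter (w : D) : D :=
  ⟨w.a0 / 4, w.b0 / 4, w.a1 / 4, w.b1 / 4, w.a2 / 4, w.b2 / 4, w.a3 / 4, w.b3 / 4⟩

/-- Norm one. -/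
def normOne (u : D) : Bool := mem u && decide (nA u = 4) && decide (nB u = 0)

/-- Position of a key. -/
noncomputable def findKey (a : ℕ) (L : List ℕ) : ℕ :=
  List.rec 0 (fun b _ ih => bif Nat.beq a b then 0 else ih + 1) L

/-- A lattice candidate lies on one of the lines. -/
noncomputable def okV (v : V) : Bool :=
  forceV v fun v => !inLF v || Coset.force (findKey (key v) Data.keys) fun j =>
    Nat.blt j 315 && forceV (rep j) fun r => forceD (quarter (ipV v r)) fun u =>
      normOne u && forceV (smulV u r) fun b => decide (v = b)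

/-- `τ`. -/
def tauD : D := ⟨0, 2, 0, 0, 0, 0, 0, 0⟩

/-- `τ - 1`. -/
def tauI : D := ⟨-2, 2, 0, 0, 0, 0, 0, 0⟩

/-- Congruence modulo the ideal of `h`, evaluated strictly. -/
noncomputable def congH (a b : D) : Bool := forceD (sub a b) fun p => isTwiceF (mul p (conj hD))

theorem congH_eq (a b : D) : congH a b = inH (sub a b) := by simp [congH, inH, isTwiceF, forceD_eq]

/-- Vectors supported on one coordinate. -/
noncomputable def chkA : Bool :=
  [0, 1, 2].all fun k : Fin 6 => Data.normTwo.all fun a =>
    forceD (mul (decD a) hD) fun p => okV (arr k p 0 0)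

/-- Vectors supported on two coordinates. -/
noncomputable def chkB (k : Fin 6) : Bool :=
  Data.normTwo.all fun a => forceD (decD a) fun a => (List.range 120).all fun i => Data.normTwo.all fun b =>
    forceD (mul (unit i) (decD b)) fun p => !congH a p || okV (arr k a p 0)

/-- Vectors with norms two, one, one. -/
noncomputable def chkC (k : Fin 6) : Bool :=
  Data.normTwo.all fun a => forceD (decD a) fun a => (List.range 120).all fun i =>
    forceD (unit i) fun p => !congH a p || (List.range 120).all fun j =>
      forceD (unit j) fun q => okV (arr k a p q)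

/-- Vectors with norms one, `τ²`, `τ⁻²`. -/
noncomputable def chkD (k : Fin 6) : Bool :=
  (List.range 120).all fun i =>
    forceD (mul tauD (unit i)) fun p => !congH one p || (List.range 120).all fun j =>
      forceD (mul tauI (unit j)) fun q => okV (arr k one p q)

end CfsgLib.InvChar.Ico
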