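import Cfsg.Agent.Lib.InvChar.IcoNorm

/-!
# Enumeration of icosians of small norm
-/

set_option autoImplicit false

namespace CfsgLib.InvChar.Ico

open Quaternion

/-- The trace form on a coordinate. -/
def qTr (a b : ℤ) : ℕ := (2 * a * a + 2 * a * b + 3 * b * b).toNat

/-- Coordinates of small trace form. -/
def coords : List (ℤ × ℤ × ℕ) :=
  ((List.range 9).flatMap fun (a : ℕ) => (List.range 7).map fun (b : ℕ) =>
    ((a : ℤ) - 4, (b : ℤ) - 3, qTr ((a : ℤ) - 4) ((b : ℤ) - 3))).filter fun c => Nat.ble c.2.2 16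

theorem qTr_cast (a b : ℤ) : (qTr a b : ℤ) = 2 * a * a + 2 * a * b + 3 * b * b := by
  rw [qTr, Int.toNat_of_nonneg]
  nlinarith [mul_self_nonneg (a + b), mul_self_nonneg a, mul_self_nonneg b]

theorem coord_mem {a b : ℤ} (h : qTr a b ≤ 16) : (a, b, qTr a b) ∈ coords := by
  have h' : 2 * a * a + 2 * a * b + 3 * b * b ≤ 16 := by rw [← qTr_cast]; exact_mod_cast h
  have hb : -3 ≤ b ∧ b ≤ 3 := by constructor <;> nlinarith [mul_self_nonneg (2 * a + b)]
  have ha : -4 ≤ a ∧ a ≤ 4 := by constructor <;> nlinarith [mul_self_nonneg (a + 3 * b)]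
  simp only [coords, List.mem_filter, List.mem_flatMap, List.mem_map]
  refine ⟨⟨(a + 4).toNat, List.mem_range.2 (by omega), (b + 3).toNat, List.mem_range.2 (by omega), ?_⟩, ?_⟩
  · have e1 : ((a + 4).toNat : ℤ) - 4 = a := by omega
    have e2 : ((b + 3).toNat : ℤ) - 3 = b := by omega
    rw [e1, e2]
  · simpa using h

/-- Check all icosians of norm `n` with trace budget `T`. -/
noncomputable def scan (T : ℕ) (n : ℤ) (ok : D → Bool) : Bool :=
  coords.all fun c0 => !Nat.ble c0.2.2 T || Coset.force (T - c0.2.2) fun t0 =>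
    coords.all fun c1 => !Nat.ble c1.2.2 t0 || Coset.force (t0 - c1.2.2) fun t1 =>
      coords.all fun c2 => !Nat.ble c2.2.2 t1 || Coset.force (t1 - c2.2.2) fun t2 =>
        coords.all fun c3 => !Nat.beq c3.2.2 t2 ||
          forceD ⟨c0.1, c0.2.1, c1.1, c1.2.1, c2.1, c2.2.1, c3.1, c3.2.1⟩ fun p =>
            !(mem p && decide (nA p = n) && decide (nB p = 0)) || ok p

theorem scan_sound {T : ℕ} {n : ℤ} {ok : D → Bool} (hT : (T : ℤ) = 2 * n) (hT' : T ≤ 16)
    (h : scan T n ok = true) {p : D} (hp : mem p = true) (hA : nA p = n) (hB : nB p = 0) : ok p = true := by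
  have hsum : qTr p.a0 p.b0 + qTr p.a1 p.b1 + qTr p.a2 p.b2 + qTr p.a3 p.b3 = T := by
    have : ((qTr p.a0 p.b0 + qTr p.a1 p.b1 + qTr p.a2 p.b2 + qTr p.a3 p.b3 : ℕ) : ℤ) = (T : ℤ) := by
      push_cast
      rw [qTr_cast, qTr_cast, qTr_cast, qTr_cast, hT, ← hA]
      simp only [nA, nB, zr, zi] at hB ⊢
      linear_combination hB
    exact_mod_cast this
  simp only [scan, Coset.force_eq, forceD_eq, List.all_eq_true, Bool.or_eq_true, Bool.not_eq_true'] at h
  have := h _ (coord_mem (a := p.a0) (b := p.b0) (by omega))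
  rcases this with h0 | h0
  · exact absurd h0 (by simp only [Bool.eq_false_iff, ne_eq, Nat.ble_eq, not_not]; omega)
  rcases h0 _ (coord_mem (a := p.a1) (b := p.b1) (by omega)) with h1 | h1
  · exact absurd h1 (by simp only [Bool.eq_false_iff, ne_eq, Nat.ble_eq, not_not]; omega)
  rcases h1 _ (coord_mem (a := p.a2) (b := p.b2) (by omega)) with h2 | h2
  · exact absurd h2 (by simp only [Bool.eq_false_iff, ne_eq, Nat.ble_eq, not_not]; omega)
  rcases h2 _ (coord_mem (a := p.a3) (b := p.b3) (by omega)) with h3 | h3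
  · exact absurd h3 (by simp only [Bool.eq_false_iff, ne_eq, Nat.beq_eq, not_not]; omega)
  rcases h3 with h4 | h4
  · simp [hp, hA, hB] at h4
  · exact h4

/-- One of the 120 units. -/
noncomputable def isUnitListed (p : D) : Bool :=
  (List.range 120).any fun k => forceD (unit k) fun u => decide (p = u)

/-- A unit times one of the five representatives of norm two. -/
noncomputable def isNormTwoListed (p : D) : Bool :=
  Data.normTwo.any fun a => forceD (decD a) fun a => forceD (mulRaw p (conj a)) fun w =>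
    forceD (smul 1 ⟨w.a0 / 4, w.b0 / 4, w.a1 / 4, w.b1 / 4, w.a2 / 4, w.b2 / 4, w.a3 / 4, w.b3 / 4⟩) fun u =>
      mem u && decide (nA u = 4) && decide (nB u = 0) && forceD (mul u a) fun q => decide (p = q)

theorem scan_one : scan 8 4 isUnitListed = true := by decide +kernel

theorem scan_two : scan 16 8 isNormTwoListed = true := by decide +kernel

theorem eq_unit {p : D} (hp : mem p = true) (h : nrm p = (1, 0)) : ∃ k < 120, p = unit k := by
  obtain ⟨hA, hB⟩ := nA_nB hp
  rw [h] at hA hB
  have := scan_sound (by norm_num) (by norm_num) scan_one hp (by simpa using hA) (by simpa using hB)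
  simp only [isUnitListed, List.any_eq_true, forceD_eq, decide_eq_true_eq, List.mem_range] at this
  exact this

theorem eq_normTwo {p : D} (hp : mem p = true) (h : nrm p = (2, 0)) :
    ∃ k < 120, ∃ a ∈ Data.normTwo, p = mul (unit k) (decD a) := by
  obtain ⟨hA, hB⟩ := nA_nB hp
  rw [h] at hA hB
  have := scan_sound (by norm_num) (by norm_num) scan_two hp (by simpa using hA) (by simpa using hB)
  simp only [isNormTwoListed, List.any_eq_true, forceD_eq, Bool.and_eq_true, decide_eq_true_eq] at this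
  obtain ⟨a, ha, ⟨⟨hm, hu⟩, hv⟩, e⟩ := this
  obtain ⟨k, hk, e'⟩ := eq_unit hm (by simp [nrm, hu, hv])
  exact ⟨k, hk, a, ha, by rw [e, e']⟩

end CfsgLib.InvChar.Ico
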