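import Cfsg.Agent.Lib.InvChar.IcoRing

/-!
# The icosian Leech lattice: module structure, integrality of the form, reflections
-/

set_option autoImplicit false

namespace CfsgLib.InvChar.Ico

open Quaternion
open Cfsg.Spor (tau icosians icoH leftIdeal icoLeech qip qrefl IsIcoReflection twoJ2)

/-- `h` in doubled coordinates. -/
def hD : D := ⟨1, -2, 1, 0, 1, 0, 1, 0⟩

theorem sqrt_five : Real.sqrt 5 = 2 * tau - 1 := by unfold Cfsg.Spor.tau; ring

theorem phi_hD : phi hD = icoH := by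
  ext <;> simp [phi, hD, icoH, sqrt_five] <;> ring

theorem mem_hD : mem hD = true := by decide

theorem icoH_mem : icoH ∈ icosians := phi_hD ▸ phi_mem mem_hD

theorem tau_mem : ((tau : ℝ) : ℍ[ℝ]) ∈ icosians := by
  rw [show ((tau : ℝ) : ℍ[ℝ]) = phi ⟨0, 2, 0, 0, 0, 0, 0, 0⟩ by
    ext <;> simp [phi] ]
  exact phi_mem (by decide)

theorem real_central (r : ℝ) (x : ℍ[ℝ]) : (r : ℍ[ℝ]) * x = x * r := (Quaternion.coe_commutes r x)

theorem two_eq : (2 : ℍ[ℝ]) = ((2 : ℝ) : ℍ[ℝ]) := by norm_cast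

theorem h_star : icoH * star icoH = 2 := by
  rw [← phi_hD, ← phi_conj, phi_mul_of_double (r := ⟨4, 0, 0, 0, 0, 0, 0, 0⟩) (by decide), two_eq]
  ext <;> simp [phi]
  norm_num

theorem star_h : star icoH * icoH = 2 := by
  rw [← phi_hD, ← phi_conj, phi_mul_of_double (r := ⟨4, 0, 0, 0, 0, 0, 0, 0⟩) (by decide), two_eq]
  ext <;> simp [phi]
  norm_num

theorem h_add_star : icoH + star icoH = 1 - 2 * ((tau : ℝ) : ℍ[ℝ]) := by
  rw [← phi_hD, ← phi_conj, two_eq]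
  ext <;> simp [phi_re, phi_imI, phi_imJ, phi_imK, hD, conj] <;> ring

theorem two_ne : (2 : ℍ[ℝ]) ≠ 0 := fun h => by
  rw [two_eq] at h
  have := congrArg QuaternionAlgebra.re h
  simp at this

/-- Membership in the lattice with named witnesses. -/
theorem mem_leech_iff {v : Fin 3 → ℍ[ℝ]} : v ∈ icoLeech ↔ v 0 ∈ icosians ∧
    ∃ a ∈ icosians, ∃ b ∈ icosians, ∃ c ∈ icosians,
      v 1 = v 0 + a * icoH ∧ v 2 = v 0 + b * icoH ∧ v 0 + v 1 + v 2 = c * star icoH := by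
  constructor
  · rintro ⟨hv, ⟨a, ha, e1⟩, ⟨b, hb, e2⟩, ⟨c, hc, e3⟩⟩
    refine ⟨hv 0, -a, neg_mem ha, -a - b, sub_mem (neg_mem ha) hb, c, hc, ?_, ?_, e3⟩
    · rw [neg_mul, ← e1]; abel
    · rw [sub_mul, neg_mul, ← e1, ← e2]; abel
  · rintro ⟨h0, a, ha, b, hb, c, hc, e1, e2, e3⟩
    refine ⟨fun t => ?_, ⟨-a, neg_mem ha, ?_⟩, ⟨a - b, sub_mem ha hb, ?_⟩, ⟨c, hc, e3⟩⟩
    · fin_cases t
      · exact h0
      · exact e1 ▸ add_mem h0 (mul_mem ha icoH_mem)
      · exact e2 ▸ add_mem h0 (mul_mem hb icoH_mem)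
    · rw [e1, neg_mul]; abel
    · rw [e1, e2, sub_mul]; abel

theorem leech_coord {v : Fin 3 → ℍ[ℝ]} (hv : v ∈ icoLeech) (t : Fin 3) : v t ∈ icosians := hv.1 t

theorem leech_zero : (0 : Fin 3 → ℍ[ℝ]) ∈ icoLeech :=
  mem_leech_iff.2 ⟨zero_mem _, 0, zero_mem _, 0, zero_mem _, 0, zero_mem _, by simp, by simp, by simp⟩

theorem leech_add {v w : Fin 3 → ℍ[ℝ]} (hv : v ∈ icoLeech) (hw : w ∈ icoLeech) : v + w ∈ icoLeech := by
  obtain ⟨h0, a, ha, b, hb, c, hc, e1, e2, e3⟩ := mem_leech_iff.1 hv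
  obtain ⟨k0, a', ha', b', hb', c', hc', f1, f2, f3⟩ := mem_leech_iff.1 hw
  refine mem_leech_iff.2 ⟨add_mem h0 k0, a + a', add_mem ha ha', b + b', add_mem hb hb', c + c',
    add_mem hc hc', ?_, ?_, ?_⟩
  · simp only [Pi.add_apply, e1, f1, add_mul]; abel
  · simp only [Pi.add_apply, e2, f2, add_mul]; abel
  · simp only [Pi.add_apply, add_mul, ← e3, ← f3]; abel

theorem leech_smul {q : ℍ[ℝ]} (hq : q ∈ icosians) {v : Fin 3 → ℍ[ℝ]} (hv : v ∈ icoLeech) :
    (fun t => q * v t) ∈ icoLeech := by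
  obtain ⟨h0, a, ha, b, hb, c, hc, e1, e2, e3⟩ := mem_leech_iff.1 hv
  refine mem_leech_iff.2 ⟨mul_mem hq h0, q * a, mul_mem hq ha, q * b, mul_mem hq hb, q * c, mul_mem hq hc, ?_, ?_, ?_⟩
  · simp only [e1, mul_add, mul_assoc]
  · simp only [e2, mul_add, mul_assoc]
  · simp only [← mul_add, e3, mul_assoc]

theorem leech_neg {v : Fin 3 → ℍ[ℝ]} (hv : v ∈ icoLeech) : -v ∈ icoLeech := by
  convert leech_smul (neg_mem (one_mem icosians)) hv using 1
  ext1 t; simp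

theorem leech_sub {v w : Fin 3 → ℍ[ℝ]} (hv : v ∈ icoLeech) (hw : w ∈ icoLeech) : v - w ∈ icoLeech := by
  rw [sub_eq_add_neg]; exact leech_add hv (leech_neg hw)

theorem sum_congr_two {v : Fin 3 → ℍ[ℝ]} (hv : v ∈ icoLeech) :
    ∃ k ∈ icosians, v 0 + v 1 + v 2 = v 0 * star icoH + 2 * k := by
  obtain ⟨h0, a, ha, b, hb, c, hc, e1, e2, e3⟩ := mem_leech_iff.1 hv
  refine ⟨(tau : ℝ) * (c * star icoH) + v 0 * star icoH + (a + b + c), add_mem (add_mem
    (mul_mem tau_mem (mul_mem hc (star_mem_icosians icoH_mem)))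
    (mul_mem h0 (star_mem_icosians icoH_mem))) (add_mem (add_mem ha hb) hc), ?_⟩
  have hsq : star icoH * star icoH = (1 - 2 * ((tau : ℝ) : ℍ[ℝ])) * star icoH - 2 := by
    rw [← h_add_star, add_mul, h_star]; abel
  have key : (v 0 + v 1 + v 2) * star icoH = c * (star icoH * star icoH) := by rw [e3, mul_assoc]
  rw [e1, e2, hsq] at key
  have hc' := real_central tau c
  simp only [add_mul, mul_assoc, h_star, mul_sub, sub_mul, one_mul, mul_one] at key
  rw [e3]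
  simp only [two_mul, mul_two] at key ⊢
  simp only [add_mul, mul_add, ← mul_assoc] at key ⊢
  simp only [hc'] at key ⊢
  linear_combination (norm := abel) -key

/-- The scalar product of two lattice vectors lies in twice the icosian ring. -/
theorem qip_two {x r : Fin 3 → ℍ[ℝ]} (hx : x ∈ icoLeech) (hr : r ∈ icoLeech) :
    ∃ q ∈ icosians, qip x r = 2 * q := by
  obtain ⟨x0, a, ha, b, hb, c, hc, e1, e2, e3⟩ := mem_leech_iff.1 hx
  obtain ⟨r0, a', ha', b', hb', c', hc', f1, f2, f3⟩ := mem_leech_iff.1 hr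
  obtain ⟨k, hk, ek⟩ := sum_congr_two hx
  obtain ⟨k', hk', ek'⟩ := sum_congr_two hr
  refine ⟨x 0 * (-((tau : ℝ) : ℍ[ℝ]) - 1) * star (r 0) + x 0 * star k' + k * star (r 0) + a * star a' + b * star b', ?_, ?_⟩
  · exact add_mem (add_mem (add_mem (add_mem (mul_mem (mul_mem x0 (sub_mem (neg_mem tau_mem) (one_mem _)))
      (star_mem_icosians r0)) (mul_mem x0 (star_mem_icosians hk'))) (mul_mem hk (star_mem_icosians r0)))
      (mul_mem ha (star_mem_icosians ha'))) (mul_mem hb (star_mem_icosians hb'))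
  · have hsum : (a + b) * icoH = x 0 * star icoH + 2 * k - 3 • x 0 := by
      rw [← ek, e1, e2, add_mul]; abel
    have hrs : star (r 0 + r 1 + r 2) = icoH * star (r 0) + 2 * star k' := by
      rw [ek', star_add, star_mul, star_mul, star_star]
      have : star (2 : ℍ[ℝ]) = 2 := by ext <;> simp
      rw [this, mul_two, two_mul]
    have expand : qip x r = x 0 * star (r 0 + r 1 + r 2) + (a + b) * icoH * star (r 0)
        + a * (icoH * star icoH) * star a' + b * (icoH * star icoH) * star b' := by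
      simp only [qip, Fin.sum_univ_three, e1, e2, f1, f2, star_add, star_mul, mul_add, add_mul, mul_assoc]
      abel
    rw [expand, hrs, hsum, h_star]
    have hh : icoH + star icoH - 3 = 2 * (-((tau : ℝ) : ℍ[ℝ]) - 1) := by
      rw [h_add_star, mul_sub, mul_neg, mul_one]
      have : (3 : ℍ[ℝ]) = 1 + 2 := by norm_num
      rw [this]; abel
    have h3 : (3 • x 0) = x 0 * 3 := by
      rw [nsmul_eq_mul]
      exact (Nat.cast_commute 3 (x 0)).eq
    rw [h3]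
    have l : x 0 * (icoH * star (r 0)) + (x 0 * star icoH - x 0 * 3) * star (r 0) =
        2 * (x 0 * (-((tau : ℝ) : ℍ[ℝ]) - 1) * star (r 0)) := by
      rw [← mul_assoc, ← mul_sub, ← add_mul, ← mul_add,
        show icoH + (star icoH - 3) = icoH + star icoH - 3 by abel, hh, ← mul_assoc (x 0) 2,
        mul_two, ← two_mul (x 0), mul_assoc 2, mul_assoc 2]
    rw [mul_add 2, mul_add 2, mul_add 2, mul_add 2, ← l]
    simp only [mul_add, add_mul, sub_mul, mul_two, two_mul, mul_assoc]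
    abel

theorem qip_self (x : Fin 3 → ℍ[ℝ]) :
    qip x x = ((∑ t, normSq (x t) : ℝ) : ℍ[ℝ]) := by
  simp [qip, Fin.sum_univ_three, Quaternion.self_mul_star]

theorem qip_add_left (x y r : Fin 3 → ℍ[ℝ]) : qip (x + y) r = qip x r + qip y r := by
  simp [qip, add_mul, Finset.sum_add_distrib]

theorem qip_smul_left (q : ℍ[ℝ]) (x r : Fin 3 → ℍ[ℝ]) : qip (fun t => q * x t) r = q * qip x r := by
  simp [qip, Finset.mul_sum, mul_assoc]

theorem qip_smul_right (q : ℍ[ℝ]) (x r : Fin 3 → ℍ[ℝ]) : qip x (fun t => q * r t) = qip x r * star q := by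
  simp [qip, Finset.sum_mul, mul_assoc]

theorem star_qip (x r : Fin 3 → ℍ[ℝ]) : star (qip x r) = qip r x := by
  simp [qip, star_sum]

theorem half_smul_eq (q : ℍ[ℝ]) : (1 / 2 : ℝ) • (2 * q) = q := by
  rw [two_mul, ← two_smul ℝ q, smul_smul]; norm_num

theorem qrefl_eq (r x : Fin 3 → ℍ[ℝ]) : qrefl r x = x - fun t => ((1 / 2 : ℝ) • qip x r) * r t := rfl

theorem qrefl_mem {r x : Fin 3 → ℍ[ℝ]} (hr : r ∈ icoLeech) (hx : x ∈ icoLeech) : qrefl r x ∈ icoLeech := by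
  obtain ⟨q, hq, e⟩ := qip_two hx hr
  rw [qrefl_eq, e, half_smul_eq]
  exact leech_sub hx (leech_smul hq hr)

theorem qip_qrefl {r : Fin 3 → ℍ[ℝ]} (hr : qip r r = 4) (x : Fin 3 → ℍ[ℝ]) :
    qip (qrefl r x) r = -qip x r := by
  rw [qrefl_eq, sub_eq_add_neg,
    show -(fun t => ((1 / 2 : ℝ) • qip x r) * r t) = fun t => (-((1 / 2 : ℝ) • qip x r)) * r t by ext1 t; simp,
    qip_add_left, qip_smul_left, hr, neg_mul, smul_mul_assoc]
  have : (1 / 2 : ℝ) • (qip x r * 4) = qip x r + qip x r := by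
    rw [show (4 : ℍ[ℝ]) = ((4 : ℝ) : ℍ[ℝ]) by norm_cast, ← real_central, Quaternion.coe_mul_eq_smul,
      smul_smul, ← two_smul ℝ (qip x r)]
    norm_num
  rw [this]; abel

theorem qrefl_qrefl {r : Fin 3 → ℍ[ℝ]} (hr : qip r r = 4) (x : Fin 3 → ℍ[ℝ]) :
    qrefl r (qrefl r x) = x := by
  conv_lhs => rw [qrefl_eq, qip_qrefl hr]
  rw [qrefl_eq]
  ext1 t
  simp

/-- The reflection in a norm-four lattice vector as a permutation. -/
noncomputable def reflPerm (r : Fin 3 → ℍ[ℝ]) (hr : r ∈ icoLeech) (h4 : qip r r = 4) :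
    Equiv.Perm icoLeech :=
  Function.Involutive.toPerm (fun x => ⟨qrefl r x.1, qrefl_mem hr x.2⟩)
    fun x => Subtype.ext (qrefl_qrefl h4 x.1)

theorem reflPerm_apply (r : Fin 3 → ℍ[ℝ]) (hr : r ∈ icoLeech) (h4 : qip r r = 4) (x : icoLeech) :
    ((reflPerm r hr h4 x : icoLeech) : Fin 3 → ℍ[ℝ]) = qrefl r x.1 := rfl

theorem reflPerm_isRefl (r : Fin 3 → ℍ[ℝ]) (hr : r ∈ icoLeech) (h4 : qip r r = 4) :
    IsIcoReflection (reflPerm r hr h4) := ⟨⟨r, hr⟩, h4, fun _ => rfl⟩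

theorem eq_reflPerm {f : Equiv.Perm icoLeech} (hf : IsIcoReflection f) :
    ∃ r hr h4, f = reflPerm r hr h4 := by
  obtain ⟨⟨r, hr⟩, h4, hf⟩ := hf
  exact ⟨r, hr, h4, Equiv.ext fun x => Subtype.ext (hf x)⟩

theorem qip_sub_left (x y r : Fin 3 → ℍ[ℝ]) : qip (x - y) r = qip x r - qip y r := by
  simp [qip, sub_mul, Finset.sum_sub_distrib]

theorem qip_sub_right (x y r : Fin 3 → ℍ[ℝ]) : qip r (x - y) = qip r x - qip r y := by
  simp [qip, star_sub, mul_sub, Finset.sum_sub_distrib]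

theorem qrefl_isometry {r : Fin 3 → ℍ[ℝ]} (hr : qip r r = 4) (x y : Fin 3 → ℍ[ℝ]) :
    qip (qrefl r x) (qrefl r y) = qip x y := by
  conv_lhs => rw [qrefl_eq r y, qip_sub_right, qip_smul_right, qip_qrefl hr, qrefl_eq r x,
    qip_sub_left, qip_smul_left]
  rw [Quaternion.star_smul, star_qip, neg_mul]
  simp only [star_trivial, mul_smul_comm, smul_mul_assoc]
  abel

theorem qrefl_add (r x y : Fin 3 → ℍ[ℝ]) : qrefl r (x + y) = qrefl r x + qrefl r y := by
  simp only [qrefl_eq, qip_add_left]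
  ext1 t
  simp only [Pi.add_apply, Pi.sub_apply, smul_add, add_mul]
  abel

theorem qrefl_smul (r : Fin 3 → ℍ[ℝ]) (q : ℍ[ℝ]) (x : Fin 3 → ℍ[ℝ]) :
    qrefl r (fun t => q * x t) = fun t => q * qrefl r x t := by
  ext1 t
  simp only [qrefl_eq, qip_smul_left, Pi.sub_apply, mul_sub, ← mul_assoc, mul_smul_comm]

end CfsgLib.InvChar.Ico
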