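import Cfsg.Agent.Lib.InvChar.IcoVec

/-!
# The 315 lines: kernel checks (vectors)
-/

set_option autoImplicit false
set_option maxRecDepth 100000

namespace CfsgLib.InvChar.Ico

/-- One representative is a minimal lattice vector with the stored invariant. -/
noncomputable def chkRep (i : ℕ) : Bool :=
  forceV (rep i) fun r => inLF r && decide (ipV r r = ⟨8, 0, 0, 0, 0, 0, 0, 0⟩) && Nat.beq (key r) (Data.keys.getD i 0)

theorem chk_reps : (List.range 315).all chkRep = true := by decide +kernel

theorem chk_units : (List.range 120).all (fun k => forceD (unit k) fun u =>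
    mem u && decide (mulRaw u (conj u) = ⟨4, 0, 0, 0, 0, 0, 0, 0⟩)) = true := by decide +kernel

theorem keys_nodup : nodupB Data.keys = true := by decide +kernel

theorem keys_length : Data.keys.length = 315 := by decide +kernel

end CfsgLib.InvChar.Ico
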