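import Cfsg.Agent.Lib.InvChar.IcoVec

/-!
# The 315 lines: kernel checks (table 3)
-/

set_option autoImplicit false
set_option maxRecDepth 100000

namespace CfsgLib.InvChar.Ico

theorem chk_tab3 : (List.range 75).all (fun i => (List.range 5).all fun x => chkEntry (240 + i) x) = true := by
  decide +kernel

end CfsgLib.InvChar.Ico
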