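import Cfsg.Agent.Lib.InvChar.IcoCandA
import Cfsg.Agent.Lib.InvChar.IcoCandC0
import Cfsg.Agent.Lib.InvChar.IcoCandC1
import Cfsg.Agent.Lib.InvChar.IcoCandC2
import Cfsg.Agent.Lib.InvChar.IcoCandD
import Cfsg.Agent.Lib.InvChar.IcoLinesRep

/-!
# Every minimal vector is a unit multiple of one of the 315 representatives
-/

set_option autoImplicit false

namespace CfsgLib.InvChar.Ico

open Quaternion
open Cfsg.Spor (tau icosians icoH leftIdeal icoLeech qip)

/-- The unit property. -/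
def IsU (u : D) : Prop := mem u = true ∧ nrm u = (1, 0)

theorem isU_of_normOne {u : D} (h : normOne u = true) : IsU u := by
  simp only [normOne, Bool.and_eq_true, decide_eq_true_eq] at h
  exact ⟨h.1.1, by simp [nrm, h.1.2, h.2]⟩

theorem IsU.normSq {u : D} (h : IsU u) : Quaternion.normSq (phi u) = 1 := by
  rw [normSq_nrm h.1, h.2]; simp

theorem IsU.star_mul {u : D} (h : IsU u) : star (phi u) * phi u = 1 := by
  rw [Quaternion.star_mul_self, h.normSq]; norm_cast

theorem IsU.mul_star {u : D} (h : IsU u) : phi u * star (phi u) = 1 := by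
  rw [Quaternion.self_mul_star, h.normSq]; norm_cast

theorem IsU.conj {u : D} (h : IsU u) : IsU (Ico.conj u) := by
  refine ⟨mem_conj h.1, nrm_eq_of_normSq (mem_conj h.1) ?_⟩
  rw [phi_conj, normSq_star, h.normSq]; simp

theorem IsU.mul {u w : D} (h : IsU u) (k : IsU w) : IsU (Ico.mul u w) := by
  refine ⟨mem_mul h.1 k.1, nrm_eq_of_normSq (mem_mul h.1 k.1) ?_⟩
  rw [phi_mul h.1 k.1, map_mul, h.normSq, k.normSq]; simp

theorem nrm_mul_unit {u p : D} (h : IsU u) (hp : mem p = true) : nrm (Ico.mul u p) = nrm p := by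
  refine nrm_eq_of_normSq (mem_mul h.1 hp) ?_
  rw [phi_mul h.1 hp, map_mul, h.normSq, one_mul, normSq_nrm hp]
  rfl

theorem isU_unit {k : ℕ} (hk : k < 120) : IsU (unit k) := by
  have h := List.all_eq_true.1 chk_units k (List.mem_range.2 hk)
  simp only [forceD_eq, Bool.and_eq_true, decide_eq_true_eq, mulRaw_conj, D.mk.injEq] at h
  exact ⟨h.1, by simp [nrm, h.2.1, h.2.2.1]⟩

theorem rep_spec {i : ℕ} (hi : i < 315) :
    inL (rep i) = true ∧ qip (psi (rep i)) (psi (rep i)) = 4 ∧ key (rep i) = Data.keys.getD i 0 := by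
  have h := List.all_eq_true.1 chk_reps i (List.mem_range.2 hi)
  simp only [chkRep, forceV_eq, Bool.and_eq_true, decide_eq_true_eq, inLF_eq] at h
  refine ⟨h.1.1, ?_, Nat.eq_of_beq_eq_true h.2⟩
  have hm := (inL_iff.1 h.1.1).1
  rw [← phi_ipV hm hm, h.1.2, show (4 : ℍ[ℝ]) = ((4 : ℝ) : ℍ[ℝ]) by norm_cast]
  ext <;> simp [phi_re, phi_imI, phi_imJ, phi_imK]
  norm_num

/-- Lying on one of the lines. -/
def Line (v : V) : Prop := ∃ j < 315, ∃ u, IsU u ∧ v = smulV u (rep j)

theorem line_of_okV {v : V} (h : okV v = true) (hv : inL v = true) : Line v := by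
  simp only [okV, forceV_eq, forceD_eq, Coset.force_eq, inLF_eq, hv, Bool.not_true, Bool.false_or,
    Bool.and_eq_true, decide_eq_true_eq] at h
  exact ⟨_, by simpa [Nat.blt] using h.1, _, isU_of_normOne h.2.1, h.2.2⟩

theorem smulV_arr (u : D) (k : Fin 6) (a b c : D) :
    smulV u (arr k a b c) = arr k (mul u a) (mul u b) (mul u c) := by
  fin_cases k <;> rfl

theorem mem_arr {k : Fin 6} {a b c : D} (h : memV (arr k a b c) = true) :
    mem a = true ∧ mem b = true ∧ mem c = true := by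
  fin_cases k <;> simp only [arr, memV_iff] at h <;> tauto

theorem cong_arr {k : Fin 6} {a b c : D} (h : inL (arr k a b c) = true) :
    inH (sub a b) = true ∧ inH (sub a c) = true ∧ inH (sub b c) = true := by
  obtain ⟨hm, -⟩ := inL_iff.1 h
  obtain ⟨ha, hb, hc⟩ := mem_arr hm
  simp only [inL, Bool.and_eq_true] at h
  obtain ⟨⟨⟨-, h1⟩, h2⟩, -⟩ := h
  fin_cases k <;> simp only [arr] at h1 h2
  · exact ⟨h1, inH_trans ha hb hc h1 h2, h2⟩
  · exact ⟨inH_symm hb ha h1, h2, inH_trans hb ha hc h1 h2⟩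
  · exact ⟨inH_symm hb ha (inH_trans hb hc ha h1 h2), inH_symm hc ha h2, h1⟩
  · exact ⟨inH_trans ha hc hb h1 h2, h1, inH_symm hc hb h2⟩
  · exact ⟨h2, inH_symm hc ha h1, inH_symm hc hb (inH_trans hc ha hb h1 h2)⟩
  · exact ⟨inH_symm hb ha h2, inH_symm hc ha (inH_trans hc hb ha h1 h2), inH_symm hc hb h1⟩

theorem mul_cancel_unit {u p : D} (h : IsU u) (hp : mem p = true) :
    mul (Ico.conj u) (mul u p) = p := by
  refine phi_injective ?_
  rw [phi_mul h.conj.1 (mem_mul h.1 hp), phi_mul h.1 hp, phi_conj, ← mul_assoc, h.star_mul, one_mul]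

theorem mul_cancel_unit' {u p : D} (h : IsU u) (hp : mem p = true) :
    mul u (mul (Ico.conj u) p) = p := by
  refine phi_injective ?_
  rw [phi_mul h.1 (mem_mul h.conj.1 hp), phi_mul h.conj.1 hp, phi_conj, ← mul_assoc, h.mul_star, one_mul]

/-- Scaling by the conjugate of a unit. -/
theorem rescale {u : D} (hu : IsU u) {v : V} (hv : inL v = true) :
    inL (smulV (Ico.conj u) v) = true ∧ (Line (smulV (Ico.conj u) v) → Line v) := by
  obtain ⟨hm, hl⟩ := inL_iff.1 hv
  obtain ⟨hx, hy, hz⟩ := memV_iff.1 hm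
  refine ⟨inL_iff.2 ⟨memV_smulV hu.conj.1 hm, ?_⟩, ?_⟩
  · rw [psi_smulV hu.conj.1 hm]; exact leech_smul (phi_mem hu.conj.1) hl
  · rintro ⟨j, hj, w, hw, e⟩
    refine ⟨j, hj, Ico.mul u w, hu.mul hw, ?_⟩
    obtain ⟨hrm, -⟩ := inL_iff.1 (rep_spec hj).1
    refine psi_injective ?_
    rw [psi_smulV (hu.mul hw).1 hrm]
    have e' := congrArg psi e
    rw [psi_smulV hu.conj.1 hm, psi_smulV hw.1 hrm] at e'
    ext1 t
    have := congrFun e' t
    rw [phi_mul hu.1 hw.1, mul_assoc, ← this, phi_conj, ← mul_assoc, hu.mul_star, one_mul]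

theorem zero_mul_D {u : D} (hu : mem u = true) : mul u 0 = 0 :=
  phi_injective (by rw [phi_mul hu (by decide), phi_zero, mul_zero])

theorem case_A (k : Fin 6) (hk : k = 0 ∨ k = 1 ∨ k = 2) {a b c : D} (hv : inL (arr k a b c) = true)
    (ha : nrm a = (4, 0)) (hb : nrm b = (0, 0)) (hc : nrm c = (0, 0)) : Line (arr k a b c) := by
  obtain ⟨ma, mb, mc⟩ := mem_arr (inL_iff.1 hv).1
  obtain rfl := eq_zero_of_nrm mb hb
  obtain rfl := eq_zero_of_nrm mc hc
  obtain ⟨q, hq, e⟩ := (inH_iff ma).1 (inH_of_sub_zero ma (cong_arr hv).1)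
  obtain ⟨q, hqm, rfl⟩ := mem_icosians_iff.1 hq
  have hn : nrm q = (2, 0) := by
    refine nrm_eq_of_normSq hqm ?_
    have h := normSq_nrm ma
    rw [ha, e, map_mul] at h
    have h2 : normSq icoH = 2 := by
      have := congrArg QuaternionAlgebra.re h_star
      rw [Quaternion.self_mul_star, two_eq] at this
      simpa using this
    rw [h2] at h
    push_cast at h ⊢
    linarith
  obtain ⟨i, hi, d, hd, rfl⟩ := eq_normTwo hqm hn
  have md : mem (decD d) = true := (by decide +kernel : ∀ d ∈ Data.normTwo, mem (decD d) = true) d hd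
  have ea : a = mul (unit i) (mul (decD d) hD) := phi_injective (by
    rw [e, phi_mul (isU_unit hi).1 (mem_mul md mem_hD), phi_mul md mem_hD, phi_mul (isU_unit hi).1 md,
      phi_hD, mul_assoc])
  subst ea
  obtain ⟨hl, hback⟩ := rescale (isU_unit hi) hv
  refine hback ?_
  rw [smulV_arr, zero_mul_D (isU_unit hi).conj.1, mul_cancel_unit (isU_unit hi) (mem_mul md mem_hD)] at hl ⊢
  refine line_of_okV ?_ hl
  have := chk_A
  simp only [chkA, forceD_eq, List.all_eq_true] at this
  exact this k (by rcases hk with rfl | rfl | rfl <;> simp) d hd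

theorem case_B (k : Fin 6) (hk : k = 0 ∨ k = 2 ∨ k = 4) {a b c : D} (hv : inL (arr k a b c) = true)
    (ha : nrm a = (2, 0)) (hb : nrm b = (2, 0)) (hc : nrm c = (0, 0)) : Line (arr k a b c) := by
  obtain ⟨ma, mb, mc⟩ := mem_arr (inL_iff.1 hv).1
  obtain rfl := eq_zero_of_nrm mc hc
  obtain ⟨i, hi, d, hd, rfl⟩ := eq_normTwo ma ha
  have md : mem (decD d) = true := (by decide +kernel : ∀ d ∈ Data.normTwo, mem (decD d) = true) d hd
  obtain ⟨hl, hback⟩ := rescale (isU_unit hi) hv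
  refine hback ?_
  rw [smulV_arr, zero_mul_D (isU_unit hi).conj.1, mul_cancel_unit (isU_unit hi) md] at hl ⊢
  have mb' := mem_mul (isU_unit hi).conj.1 mb
  have hb' : nrm (mul (conj (unit i)) b) = (2, 0) := by rw [nrm_mul_unit (isU_unit hi).conj mb, hb]
  generalize mul (conj (unit i)) b = b' at hl mb' hb' ⊢
  obtain ⟨j, hj, f, hf, rfl⟩ := eq_normTwo mb' hb'
  refine line_of_okV ?_ hl
  have h1 := List.all_eq_true.1 chk_B k (by rcases hk with rfl | rfl | rfl <;> simp)
  simp only [chkB, forceD_eq, List.all_eq_true, Bool.or_eq_true, Bool.not_eq_true', congH_eq] at h1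
  rcases h1 d hd j (List.mem_range.2 hj) f hf with h | h
  · rw [(cong_arr hl).1] at h; exact absurd h (by decide)
  · exact h

theorem case_C (k : Fin 6) (hk : k = 0 ∨ k = 1 ∨ k = 2) {a b c : D} (hv : inL (arr k a b c) = true)
    (ha : nrm a = (2, 0)) (hb : nrm b = (1, 0)) (hc : nrm c = (1, 0)) : Line (arr k a b c) := by
  obtain ⟨ma, mb, mc⟩ := mem_arr (inL_iff.1 hv).1
  obtain ⟨i, hi, d, hd, rfl⟩ := eq_normTwo ma ha
  have md : mem (decD d) = true := (by decide +kernel : ∀ d ∈ Data.normTwo, mem (decD d) = true) d hd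
  obtain ⟨hl, hback⟩ := rescale (isU_unit hi) hv
  refine hback ?_
  rw [smulV_arr, mul_cancel_unit (isU_unit hi) md] at hl ⊢
  have mb' := mem_mul (isU_unit hi).conj.1 mb
  have mc' := mem_mul (isU_unit hi).conj.1 mc
  have hb' : nrm (mul (conj (unit i)) b) = (1, 0) := by rw [nrm_mul_unit (isU_unit hi).conj mb, hb]
  have hc' : nrm (mul (conj (unit i)) c) = (1, 0) := by rw [nrm_mul_unit (isU_unit hi).conj mc, hc]
  generalize mul (conj (unit i)) b = b' at hl mb' hb' ⊢
  generalize mul (conj (unit i)) c = c' at hl mc' hc' ⊢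
  obtain ⟨j, hj, rfl⟩ := eq_unit mb' hb'
  obtain ⟨l, hl', rfl⟩ := eq_unit mc' hc'
  refine line_of_okV ?_ hl
  have h1 : chkC k = true := by
    rcases hk with rfl | rfl | rfl
    exacts [chk_C0, chk_C1, chk_C2]
  simp only [chkC, forceD_eq, List.all_eq_true, Bool.or_eq_true, Bool.not_eq_true', congH_eq] at h1
  rcases h1 d hd j (List.mem_range.2 hj) with h | h
  · rw [(cong_arr hl).1] at h; exact absurd h (by decide)
  · exact h l (List.mem_range.2 hl')

theorem eq_tau {p : D} (hp : mem p = true) (h : nrm p = (1, 1)) : ∃ i < 120, p = mul tauD (unit i) := by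
  have mt : mem tauI = true := by decide
  have hn : nrm (mul tauI p) = (1, 0) := by
    refine nrm_eq_of_normSq (mem_mul mt hp) ?_
    rw [phi_mul mt hp, map_mul, normSq_nrm hp, normSq_nrm mt, h, show nrm tauI = (2, -1) by decide]
    push_cast
    linear_combination (-1 : ℝ) * tau_sq
  obtain ⟨i, hi, e⟩ := eq_unit (mem_mul mt hp) hn
  refine ⟨i, hi, phi_injective ?_⟩
  rw [← e, phi_mul (by decide) (mem_mul mt hp), phi_mul mt hp, ← mul_assoc,
    phi_mul_of_double (p := tauD) (q := tauI) (r := one) (by decide), phi_one, one_mul]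

theorem eq_tauI {p : D} (hp : mem p = true) (h : nrm p = (2, -1)) : ∃ i < 120, p = mul tauI (unit i) := by
  have mt : mem tauD = true := by decide
  have hn : nrm (mul tauD p) = (1, 0) := by
    refine nrm_eq_of_normSq (mem_mul mt hp) ?_
    rw [phi_mul mt hp, map_mul, normSq_nrm hp, normSq_nrm mt, h, show nrm tauD = (1, 1) by decide]
    push_cast
    linear_combination (-1 : ℝ) * tau_sq
  obtain ⟨i, hi, e⟩ := eq_unit (mem_mul mt hp) hn
  refine ⟨i, hi, phi_injective ?_⟩
  rw [← e, phi_mul (by decide) (mem_mul mt hp), phi_mul mt hp, ← mul_assoc,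
    phi_mul_of_double (p := tauI) (q := tauD) (r := one) (by decide), phi_one, one_mul]

theorem case_D (k : Fin 6) {a b c : D} (hv : inL (arr k a b c) = true)
    (ha : nrm a = (1, 0)) (hb : nrm b = (1, 1)) (hc : nrm c = (2, -1)) : Line (arr k a b c) := by
  obtain ⟨ma, mb, mc⟩ := mem_arr (inL_iff.1 hv).1
  obtain ⟨i, hi, rfl⟩ := eq_unit ma ha
  obtain ⟨hl, hback⟩ := rescale (isU_unit hi) hv
  refine hback ?_
  have e1 : mul (conj (unit i)) (unit i) = one := phi_injective (by
    rw [phi_mul (isU_unit hi).conj.1 (isU_unit hi).1, phi_conj, (isU_unit hi).star_mul, phi_one])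
  rw [smulV_arr, e1] at hl ⊢
  have mb' := mem_mul (isU_unit hi).conj.1 mb
  have mc' := mem_mul (isU_unit hi).conj.1 mc
  have hb' : nrm (mul (conj (unit i)) b) = (1, 1) := by rw [nrm_mul_unit (isU_unit hi).conj mb, hb]
  have hc' : nrm (mul (conj (unit i)) c) = (2, -1) := by rw [nrm_mul_unit (isU_unit hi).conj mc, hc]
  generalize mul (conj (unit i)) b = b' at hl mb' hb' ⊢
  generalize mul (conj (unit i)) c = c' at hl mc' hc' ⊢
  obtain ⟨j, hj, rfl⟩ := eq_tau mb' hb'
  obtain ⟨l, hl', rfl⟩ := eq_tauI mc' hc'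
  refine line_of_okV ?_ hl
  have h1 : chkD k = true := List.all_eq_true.1 chk_D k (by fin_cases k <;> simp)
  simp only [chkD, forceD_eq, List.all_eq_true, Bool.or_eq_true, Bool.not_eq_true', congH_eq] at h1
  rcases h1 j (List.mem_range.2 hj) with h | h
  · rw [(cong_arr hl).1] at h; exact absurd h (by decide)
  · exact h l (List.mem_range.2 hl')

/-- **Every minimal vector is a unit multiple of a representative.** -/
theorem line_of_minimal {v : V} (hv : inL v = true) (h4 : qip (psi v) (psi v) = 4) : Line v := by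
  have h := pattern_mem hv h4
  obtain ⟨x, y, z⟩ := v
  simp only [patterns, List.mem_cons, List.not_mem_nil, or_false, Prod.mk.injEq] at h
  rcases h with ⟨a, b, c⟩ | ⟨a, b, c⟩ | ⟨a, b, c⟩ | ⟨a, b, c⟩ | ⟨a, b, c⟩ | ⟨a, b, c⟩ | ⟨a, b, c⟩ |
    ⟨a, b, c⟩ | ⟨a, b, c⟩ | ⟨a, b, c⟩ | ⟨a, b, c⟩ | ⟨a, b, c⟩ | ⟨a, b, c⟩ | ⟨a, b, c⟩ | ⟨a, b, c⟩
  · exact case_A 0 (by simp) (a := x) (b := y) (c := z) hv a b c
  · exact case_A 1 (by simp) (a := y) (b := x) (c := z) hv b a c
  · exact case_A 2 (by simp) (a := z) (b := x) (c := y) hv c a b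
  · exact case_B 0 (by simp) (a := x) (b := y) (c := z) hv a b c
  · exact case_B 2 (by simp) (a := z) (b := x) (c := y) hv c a b
  · exact case_B 4 (by simp) (a := y) (b := z) (c := x) hv b c a
  · exact case_C 0 (by simp) (a := x) (b := y) (c := z) hv a b c
  · exact case_C 1 (by simp) (a := y) (b := x) (c := z) hv b a c
  · exact case_C 2 (by simp) (a := z) (b := x) (c := y) hv c a b
  · exact case_D 2 (a := z) (b := x) (c := y) hv c a b
  · exact case_D 5 (a := z) (b := y) (c := x) hv c b a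
  · exact case_D 1 (a := y) (b := x) (c := z) hv b a c
  · exact case_D 4 (a := y) (b := z) (c := x) hv b c a
  · exact case_D 0 (a := x) (b := y) (c := z) hv a b c
  · exact case_D 3 (a := x) (b := z) (c := y) hv a c b

end CfsgLib.InvChar.Ico
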