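import Cfsg.Agent.Lib.InvChar.IcoVec

/-!
# Norms of icosians in `ℤ[τ]`
-/

set_option autoImplicit false

namespace CfsgLib.InvChar.Ico

open Quaternion
open Cfsg.Spor (tau sig icosians icoH leftIdeal icoLeech qip)

/-- Four times the rational part of the norm. -/
def nA (p : D) : ℤ := zr p.a0 p.b0 p.a0 p.b0 + zr p.a1 p.b1 p.a1 p.b1 + zr p.a2 p.b2 p.a2 p.b2 + zr p.a3 p.b3 p.a3 p.b3

/-- Four times the `τ`-part of the norm. -/
def nB (p : D) : ℤ := zi p.a0 p.b0 p.a0 p.b0 + zi p.a1 p.b1 p.a1 p.b1 + zi p.a2 p.b2 p.a2 p.b2 + zi p.a3 p.b3 p.a3 p.b3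

theorem normSq_phi (p : D) : normSq (phi p) = ((nA p : ℝ) + nB p * tau) / 4 := by
  rw [Quaternion.normSq_def', phi_re, phi_imI, phi_imJ, phi_imK]
  simp only [nA, nB, zr, zi]
  push_cast
  linear_combination (((p.b0 : ℝ) ^ 2 + p.b1 ^ 2 + p.b2 ^ 2 + p.b3 ^ 2) / 4) * tau_sq

theorem mulRaw_conj (p : D) : mulRaw p (conj p) = ⟨nA p, nB p, 0, 0, 0, 0, 0, 0⟩ := by
  simp only [mulRaw, conj, nA, nB, zr, zi, D.mk.injEq]
  refine ⟨?_, ?_, ?_, ?_, ?_, ?_, ?_, ?_⟩ <;> ring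

theorem four_dvd {p : D} (hp : mem p = true) : (4 : ℤ) ∣ nA p ∧ (4 : ℤ) ∣ nB p := by
  have hm := mem_mul hp (mem_conj hp)
  obtain ⟨e, -⟩ := mul_spec hp (mem_conj hp)
  have h2 : mulRaw p (conj p) = smul 2 (mul p (conj p)) := phi_injective (by
    rw [phi_mulRaw, phi_smul, e, two_zsmul, two_smul])
  rw [mulRaw_conj, smul] at h2
  rw [mem_iff] at hm
  simp only [D.mk.injEq] at h2
  obtain ⟨h0, h1, h3, h4, h5, h6, h7, h8⟩ := h2
  omega

/-- The norm. -/
def nrm (p : D) : ℤ × ℤ := (nA p / 4, nB p / 4)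

theorem normSq_nrm {p : D} (hp : mem p = true) :
    normSq (phi p) = ((nrm p).1 : ℝ) + (nrm p).2 * tau := by
  obtain ⟨⟨a, ha⟩, ⟨b, hb⟩⟩ := four_dvd hp
  rw [normSq_phi, nrm, ha, hb]
  simp only [Int.mul_ediv_cancel_left _ (show (4 : ℤ) ≠ 0 by norm_num)]
  push_cast
  ring

theorem nrm_eq_of_normSq {p : D} (hp : mem p = true) {n m : ℤ} (h : normSq (phi p) = (n : ℝ) + m * tau) :
    nrm p = (n, m) := by
  rw [normSq_nrm hp] at h
  obtain ⟨e1, e2⟩ := coord_inj h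
  exact Prod.ext e1 e2

theorem nA_nB {p : D} (hp : mem p = true) : nA p = 4 * (nrm p).1 ∧ nB p = 4 * (nrm p).2 := by
  obtain ⟨⟨a, ha⟩, ⟨b, hb⟩⟩ := four_dvd hp
  simp only [nrm]; omega

theorem eq_zero_of_nA {p : D} (h : nA p = 0) : p = 0 := by
  simp only [nA, zr] at h
  have s := fun x : ℤ => mul_self_nonneg x
  have z : ∀ x : ℤ, x * x = 0 → x = 0 := fun x hx => mul_self_eq_zero.1 hx
  obtain ⟨a0, b0, a1, b1, a2, b2, a3, b3⟩ := p
  show _ = (⟨0, 0, 0, 0, 0, 0, 0, 0⟩ : D)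
  simp only [D.mk.injEq]
  simp only at h
  have := s a0; have := s b0; have := s a1; have := s b1; have := s a2; have := s b2; have := s a3; have := s b3
  exact ⟨z _ (by omega), z _ (by omega), z _ (by omega), z _ (by omega), z _ (by omega), z _ (by omega),
    z _ (by omega), z _ (by omega)⟩

theorem nrm_bounds {p : D} (hp : mem p = true) :
    0 ≤ (nrm p).1 ∧ -(nrm p).1 ≤ (nrm p).2 ∧ (nrm p).2 ≤ 2 * (nrm p).1 ∧
    0 ≤ (nrm p).1 ^ 2 + (nrm p).1 * (nrm p).2 - (nrm p).2 ^ 2 := by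
  obtain ⟨hA, hB⟩ := nA_nB hp
  have s := fun x : ℤ => mul_self_nonneg x
  have h1 : 0 ≤ nA p := by
    simp only [nA, zr]
    have := s p.a0; have := s p.b0; have := s p.a1; have := s p.b1; have := s p.a2; have := s p.b2
    have := s p.a3; have := s p.b3
    omega
  have h2 : -nA p ≤ nB p := by
    simp only [nA, nB, zr, zi]
    nlinarith [s (p.a0 + p.b0), s (p.a1 + p.b1), s (p.a2 + p.b2), s (p.a3 + p.b3), s p.b0, s p.b1, s p.b2, s p.b3]
  have h3 : nB p ≤ 2 * nA p := by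
    simp only [nA, nB, zr, zi]
    nlinarith [s (p.a0 - p.b0), s (p.a1 - p.b1), s (p.a2 - p.b2), s (p.a3 - p.b3), s p.a0, s p.a1, s p.a2, s p.a3,
      s p.b0, s p.b1, s p.b2, s p.b3]
  refine ⟨by omega, by omega, by omega, ?_⟩
  have hs : 0 ≤ (nA p : ℝ) + nB p * sig := by
    have e : (nA p : ℝ) + nB p * sig = (p.a0 + p.b0 * sig) ^ 2 + (p.a1 + p.b1 * sig) ^ 2 +
        (p.a2 + p.b2 * sig) ^ 2 + (p.a3 + p.b3 * sig) ^ 2 := by
      simp only [nA, nB, zr, zi, sig_eq]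
      push_cast
      linear_combination (-((p.b0 : ℝ) ^ 2 + p.b1 ^ 2 + p.b2 ^ 2 + p.b3 ^ 2)) * tau_sq
    rw [e]; positivity
  have ht : 0 ≤ (nA p : ℝ) + nB p * tau := by
    have := normSq_nonneg (a := phi p)
    rw [normSq_phi] at this
    linarith
  have key : (0 : ℝ) ≤ ((nrm p).1 : ℝ) ^ 2 + (nrm p).1 * (nrm p).2 - (nrm p).2 ^ 2 := by
    have := mul_nonneg hs ht
    rw [hA, hB, sig_eq] at this
    push_cast at this
    have e : (4 * ((nrm p).1 : ℝ) + 4 * (nrm p).2 * (1 - tau)) * (4 * ((nrm p).1 : ℝ) + 4 * (nrm p).2 * tau) =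
        16 * (((nrm p).1 : ℝ) ^ 2 + (nrm p).1 * (nrm p).2 - (nrm p).2 ^ 2) := by
      linear_combination (-16 * ((nrm p).2 : ℝ) ^ 2) * tau_sq
    rw [e] at this
    linarith
  exact_mod_cast key

/-- The possible norms of a coordinate. -/
def normList : List (ℤ × ℤ) :=
  (((List.range 5).flatMap fun (n : ℕ) => (List.range 13).map fun (m : ℕ) => ((n : ℤ), (m : ℤ) - 4))).filter fun x =>
    decide (-x.1 ≤ x.2) && decide (x.2 ≤ 2 * x.1) && decide (0 ≤ x.1 ^ 2 + x.1 * x.2 - x.2 ^ 2)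

theorem nrm_mem {p : D} (hp : mem p = true) (h4 : (nrm p).1 ≤ 4) : nrm p ∈ normList := by
  obtain ⟨h0, h1, h2, h3⟩ := nrm_bounds hp
  simp only [normList, List.mem_filter, List.mem_flatMap, List.mem_map]
  refine ⟨⟨(nrm p).1.toNat, by rw [List.mem_range]; omega, ((nrm p).2 + 4).toNat, by rw [List.mem_range]; omega, ?_⟩, ?_⟩
  · ext <;> simp <;> omega
  · simp only [Bool.and_eq_true, decide_eq_true_eq]
    exact ⟨⟨h1, h2⟩, h3⟩

/-- Doubling. -/
def isEven2 (x : ℤ × ℤ) : Bool := x.1 % 2 == 0 && x.2 % 2 == 0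

/-- The admissible patterns of norms. -/
def patterns : List ((ℤ × ℤ) × (ℤ × ℤ) × (ℤ × ℤ)) :=
  [((4, 0), (0, 0), (0, 0)), ((0, 0), (4, 0), (0, 0)), ((0, 0), (0, 0), (4, 0)),
   ((2, 0), (2, 0), (0, 0)), ((2, 0), (0, 0), (2, 0)), ((0, 0), (2, 0), (2, 0)),
   ((2, 0), (1, 0), (1, 0)), ((1, 0), (2, 0), (1, 0)), ((1, 0), (1, 0), (2, 0)),
   ((1, 1), (2, -1), (1, 0)), ((2, -1), (1, 1), (1, 0)), ((1, 1), (1, 0), (2, -1)),
   ((2, -1), (1, 0), (1, 1)), ((1, 0), (1, 1), (2, -1)), ((1, 0), (2, -1), (1, 1))]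

theorem patterns_chk : (normList.all fun a => normList.all fun b => normList.all fun c =>
    !decide (a.1 + b.1 + c.1 = 4) || !decide (a.2 + b.2 + c.2 = 0) ||
    (decide (a = (0, 0)) && !(isEven2 b && isEven2 c)) ||
    (decide (b = (0, 0)) && !(isEven2 a && isEven2 c)) ||
    (decide (c = (0, 0)) && !(isEven2 a && isEven2 b)) || decide ((a, b, c) ∈ patterns)) = true := by
  decide +kernel

theorem patterns_ok (a : ℤ × ℤ) (ha : a ∈ normList) (b : ℤ × ℤ) (hb : b ∈ normList) (c : ℤ × ℤ)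
    (hc : c ∈ normList) (e1 : a.1 + b.1 + c.1 = 4) (e2 : a.2 + b.2 + c.2 = 0)
    (ka : a = (0, 0) → isEven2 b = true ∧ isEven2 c = true)
    (kb : b = (0, 0) → isEven2 a = true ∧ isEven2 c = true)
    (kc : c = (0, 0) → isEven2 a = true ∧ isEven2 b = true) : (a, b, c) ∈ patterns := by
  have h := List.all_eq_true.1 (List.all_eq_true.1 (List.all_eq_true.1 patterns_chk a ha) b hb) c hc
  simp only [Bool.or_eq_true, Bool.and_eq_true, Bool.not_eq_true', decide_eq_true_eq, decide_eq_false_iff_not,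
    Bool.and_eq_false_iff] at h
  rcases h with ((((h | h) | h) | h) | h) | h
  · exact absurd e1 h
  · exact absurd e2 h
  · obtain ⟨p, q⟩ := ka h.1; simp [p, q] at h
  · obtain ⟨p, q⟩ := kb h.1; simp [p, q] at h
  · obtain ⟨p, q⟩ := kc h.1; simp [p, q] at h
  · exact h

theorem nrm_zero : nrm 0 = (0, 0) := by decide

theorem eq_zero_of_nrm {p : D} (hp : mem p = true) (h : nrm p = (0, 0)) : p = 0 :=
  eq_zero_of_nA (by rw [(nA_nB hp).1, h]; rfl)

theorem inH_even {p : D} (hp : mem p = true) (h : inH p = true) : isEven2 (nrm p) = true := by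
  obtain ⟨a, ha, e⟩ := (inH_iff hp).1 h
  obtain ⟨q, hq, rfl⟩ := mem_icosians_iff.1 ha
  have : normSq (phi p) = ((2 * (nrm q).1 : ℤ) : ℝ) + ((2 * (nrm q).2 : ℤ) : ℝ) * tau := by
    have h2 : normSq icoH = 2 := by
      have := congrArg QuaternionAlgebra.re h_star
      rw [Quaternion.self_mul_star, two_eq] at this
      simpa using this
    rw [e, map_mul, h2, normSq_nrm hq]
    push_cast; ring
  rw [nrm_eq_of_normSq hp this]
  simp [isEven2]

theorem inH_trans {a b c : D} (ha : mem a = true) (hb : mem b = true) (hc : mem c = true)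
    (h1 : inH (sub a b) = true) (h2 : inH (sub b c) = true) : inH (sub a c) = true := by
  obtain ⟨x, hx, e1⟩ := (inH_iff (mem_sub ha hb)).1 h1
  obtain ⟨y, hy, e2⟩ := (inH_iff (mem_sub hb hc)).1 h2
  refine (inH_iff (mem_sub ha hc)).2 ⟨x + y, add_mem hx hy, ?_⟩
  rw [phi_sub] at e1 e2 ⊢
  rw [add_mul, ← e1, ← e2]; abel

theorem inH_symm {a b : D} (ha : mem a = true) (hb : mem b = true) (h : inH (sub a b) = true) :
    inH (sub b a) = true := by
  obtain ⟨x, hx, e⟩ := (inH_iff (mem_sub ha hb)).1 h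
  refine (inH_iff (mem_sub hb ha)).2 ⟨-x, neg_mem hx, ?_⟩
  rw [phi_sub] at e ⊢
  rw [neg_mul, ← e]; abel

theorem inH_of_sub_zero {a : D} (ha : mem a = true) (h : inH (sub a 0) = true) : inH a = true := by
  obtain ⟨x, hx, e⟩ := (inH_iff (mem_sub ha (by decide))).1 h
  exact (inH_iff ha).2 ⟨x, hx, by rw [← e, phi_sub, phi_zero, sub_zero]⟩

/-- A norm four lattice vector has one of the admissible patterns. -/
theorem pattern_mem {v : V} (hv : inL v = true) (h4 : qip (psi v) (psi v) = 4) :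
    (nrm v.x, nrm v.y, nrm v.z) ∈ patterns := by
  obtain ⟨hm, hl⟩ := inL_iff.1 hv
  obtain ⟨hx, hy, hz⟩ := memV_iff.1 hm
  simp only [inL, Bool.and_eq_true] at hv
  obtain ⟨⟨⟨-, hxy⟩, hyz⟩, -⟩ := hv
  have hxz := inH_trans hx hy hz hxy hyz
  rw [qip_self, show (4 : ℍ[ℝ]) = ((4 : ℝ) : ℍ[ℝ]) by norm_cast] at h4
  have h4' := Quaternion.coe_injective h4
  simp only [Fin.sum_univ_three] at h4'
  rw [show psi v 0 = phi v.x from rfl, show psi v 1 = phi v.y from rfl, show psi v 2 = phi v.z from rfl,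
    normSq_nrm hx, normSq_nrm hy, normSq_nrm hz] at h4'
  obtain ⟨e1, e2⟩ := coord_inj (a := (nrm v.x).1 + (nrm v.y).1 + (nrm v.z).1)
    (b := (nrm v.x).2 + (nrm v.y).2 + (nrm v.z).2) (c := 4) (d := 0) (by push_cast; linear_combination h4')
  have := (nrm_bounds hx).1; have := (nrm_bounds hy).1; have := (nrm_bounds hz).1
  refine patterns_ok _ (nrm_mem hx (by omega)) _ (nrm_mem hy (by omega)) _ (nrm_mem hz (by omega)) e1 e2 ?_ ?_ ?_
  · intro h
    have h0 := eq_zero_of_nrm hx h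
    exact ⟨inH_even hy (inH_of_sub_zero hy (h0 ▸ inH_symm hx hy hxy)),
      inH_even hz (inH_of_sub_zero hz (h0 ▸ inH_symm hx hz hxz))⟩
  · intro h
    have h0 := eq_zero_of_nrm hy h
    exact ⟨inH_even hx (inH_of_sub_zero hx (h0 ▸ hxy)),
      inH_even hz (inH_of_sub_zero hz (h0 ▸ inH_symm hy hz hyz))⟩
  · intro h
    have h0 := eq_zero_of_nrm hz h
    exact ⟨inH_even hx (inH_of_sub_zero hx (h0 ▸ hxz)),
      inH_even hy (inH_of_sub_zero hy (h0 ▸ hyz))⟩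

end CfsgLib.InvChar.Ico
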