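import Cfsg.Agent.Lib.InvChar.IcoVec

/-! The table of five reflections on the lines: validity and the spanning tree. -/

set_option autoImplicit false
set_option maxRecDepth 100000

namespace CfsgLib.InvChar.Ico

/-- One step of the spanning tree. -/
noncomputable def chkTree (i : ℕ) : Bool :=
  Nat.beq i 0 || Coset.force (Coset.field Data.parTr 128 20 i) fun v =>
    Nat.blt (v >>> 3) 315 && Nat.blt (v % 8) 5 && Nat.beq (table.app (v >>> 3) (v % 8)) i &&
      Nat.blt (Coset.field Data.posTr 128 20 (v >>> 3)) (Coset.field Data.posTr 128 20 i)

/-- The code of a unit. -/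
noncomputable def unitCode (k : ℕ) : ℕ := Coset.field Data.unitTr 128 32 k

theorem chk_units_inj : nodupB ((List.range 120).map fun k => packD (unit k)) = true := by decide +kernel

theorem units_inj {a b : ℕ} (ha : a < 120) (hb : b < 120) (h : unit a = unit b) : a = b := by
  have hn := nodup_of_nodupB _ chk_units_inj
  exact (List.nodup_map_iff_inj_on List.nodup_range).1 hn a (List.mem_range.2 ha) b (List.mem_range.2 hb)
    (congrArg packD h)

theorem chk_tree : (List.range 315).all chkTree = true := by decide +kernel

end CfsgLib.InvChar.Ico
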