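import Cfsg.Agent.Lib.InvChar.IcoVec
import Cfsg.Agent.Lib.InvChar.CosetPerm
import Cfsg.Agent.Lib.InvChar.SporData.J2A.Data

/-! The presentation holds for the five permutations of the lines. -/

set_option autoImplicit false
set_option maxRecDepth 100000

namespace CfsgLib.InvChar.Ico

theorem chk_points : table.chkPoints Coset.J2A.rels 315 0 = true := by decide +kernel

theorem valid : table.Valid Coset.J2A.rels := by
  have key := fun i (hi : i < 315) => table.chkPoints_get Coset.J2A.rels 315 0 chk_points i (Nat.zero_le i) (by omega)
  exact ⟨fun i hi => (key i hi).1, fun i hi => (key i hi).2⟩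

theorem table_sq : ∀ x < table.g, [x, x] ∈ Coset.J2A.rels := by
  intro x hx
  have hx : x < 5 := hx
  revert x
  decide

end CfsgLib.InvChar.Ico
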