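import Cfsg.Agent.Lib.InvChar.IcoMinimal
import Cfsg.Agent.Lib.InvChar.IcoTree
import Cfsg.Agent.Lib.InvChar.IcoValid
import Cfsg.Agent.Lib.InvChar.IcoLinesTab0
import Cfsg.Agent.Lib.InvChar.IcoLinesTab1
import Cfsg.Agent.Lib.InvChar.IcoLinesTab2
import Cfsg.Agent.Lib.InvChar.IcoLinesTab3

/-!
# The 315 reflections and the five generators of `2·J₂`
-/

set_option autoImplicit false

namespace CfsgLib.InvChar.Ico

open Quaternion
open Cfsg.Spor (tau icosians icoH leftIdeal icoLeech qip qrefl IsIcoReflection twoJ2)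

/-- A lattice vector of the representative. -/
noncomputable def repL (i : ℕ) : icoLeech :=
  if h : i < 315 then ⟨psi (rep i), (inL_iff.1 (rep_spec h).1).2⟩ else ⟨0, leech_zero⟩

theorem repL_val {i : ℕ} (h : i < 315) : (repL i : Fin 3 → ℍ[ℝ]) = psi (rep i) := by
  simp [repL, h]

/-- A scalar multiple inside the lattice. -/
noncomputable def smulL {u : D} (hu : mem u = true) (x : icoLeech) : icoLeech :=
  ⟨fun t => phi u * x.1 t, leech_smul (phi_mem hu) x.2⟩

/-- Twice a coordinate frame vector. -/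
theorem exists_line {x : icoLeech} (h : qip x.1 x.1 = 4) :
    ∃ j < 315, ∃ u, ∃ hu : IsU u, x = smulL hu.1 (repL j) := by
  obtain ⟨v, hv, e⟩ := exists_V x.2
  obtain ⟨j, hj, u, hu, rfl⟩ := line_of_minimal hv (by rw [e]; exact h)
  refine ⟨j, hj, u, hu, Subtype.ext ?_⟩
  show x.1 = fun t => phi u * (repL j : Fin 3 → ℍ[ℝ]) t
  rw [← e, repL_val hj, psi_smulV hu.1 (inL_iff.1 (rep_spec hj).1).1]

theorem rep_inj {i j : ℕ} (hi : i < 315) (hj : j < 315) (c : ℍ[ℝ])
    (h : psi (rep i) = fun t => c * psi (rep j) t) : i = j := by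
  have hn : normSq c = 1 := by
    have h4 := (rep_spec hi).2.1
    rw [h, qip_smul_left, qip_smul_right, (rep_spec hj).2.1] at h4
    have h4' := congrArg QuaternionAlgebra.re h4
    rw [show (4 : ℍ[ℝ]) = ((4 : ℝ) : ℍ[ℝ]) by norm_cast, real_central, ← mul_assoc,
      Quaternion.self_mul_star] at h4'
    simp at h4'
    linarith
  have e := key_eq (inL_iff.1 (rep_spec hi).1).1 (inL_iff.1 (rep_spec hj).1).1 c
    (by rw [Quaternion.star_mul_self, hn]; norm_cast) (by rw [Quaternion.self_mul_star, hn]; norm_cast) h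
  rw [(rep_spec hi).2.2, (rep_spec hj).2.2] at e
  have h1 : i < Data.keys.length := keys_length.symm ▸ hi
  have h2 : j < Data.keys.length := keys_length.symm ▸ hj
  rw [List.getD_eq_getElem _ _ h1, List.getD_eq_getElem _ _ h2] at e
  exact (List.Nodup.getElem_inj_iff (nodup_of_nodupB _ keys_nodup)).1 e

theorem smulL_inj {i j : ℕ} (hi : i < 315) (hj : j < 315) {u w : D} (hu : IsU u) (hw : IsU w)
    (h : smulL hu.1 (repL i) = smulL hw.1 (repL j)) : i = j ∧ u = w := by
  have h' := congrArg Subtype.val h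
  simp only [smulL, repL_val hi, repL_val hj] at h'
  have e : i = j := rep_inj hi hj (star (phi u) * phi w) (by
    ext1 t
    rw [mul_assoc, ← congrFun h' t, ← mul_assoc, hu.star_mul, one_mul])
  subst e
  refine ⟨rfl, phi_injective ?_⟩
  by_contra hne
  have hz : psi (rep i) = 0 := by
    ext1 t
    have ht : (phi u - phi w) * psi (rep i) t = 0 := by rw [sub_mul, congrFun h' t, sub_self]
    exact (mul_eq_zero.1 ht).resolve_left (sub_ne_zero.2 hne)
  have h4 := (rep_spec hi).2.1
  rw [hz] at h4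
  have := congrArg QuaternionAlgebra.re h4
  rw [show (4 : ℍ[ℝ]) = ((4 : ℝ) : ℍ[ℝ]) by norm_cast] at this
  simp [qip] at this

/-- The reflection of the `i`-th line. -/
noncomputable def refl (i : ℕ) : Equiv.Perm icoLeech :=
  if h : i < 315 then reflPerm (psi (rep i)) (inL_iff.1 (rep_spec h).1).2 (rep_spec h).2.1 else 1

theorem refl_apply {i : ℕ} (h : i < 315) (x : icoLeech) :
    ((refl i x : icoLeech) : Fin 3 → ℍ[ℝ]) = qrefl (psi (rep i)) x.1 := by
  simp [refl, h, reflPerm_apply]

theorem refl_isRefl {i : ℕ} (h : i < 315) : IsIcoReflection (refl i) := by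
  simp only [refl, h, dite_true]; exact reflPerm_isRefl _ _ _

theorem refl_mul_self (i : ℕ) : refl i * refl i = 1 := by
  by_cases h : i < 315
  · ext1 x
    refine Subtype.ext ?_
    rw [Equiv.Perm.mul_apply, refl_apply h, refl_apply h, qrefl_qrefl (rep_spec h).2.1]
    rfl
  · simp [refl, h]

theorem qrefl_unit {c : ℍ[ℝ]} (hc : star c * c = 1) (r x : Fin 3 → ℍ[ℝ]) :
    qrefl (fun t => c * r t) x = qrefl r x := by
  ext1 t
  simp only [qrefl_eq, Pi.sub_apply, qip_smul_right, smul_mul_assoc]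
  rw [mul_assoc (qip x r), ← mul_assoc (star c), hc, one_mul]

theorem eq_refl {f : Equiv.Perm icoLeech} (hf : IsIcoReflection f) : ∃ i < 315, f = refl i := by
  obtain ⟨r, hr, h4, rfl⟩ := eq_reflPerm hf
  obtain ⟨j, hj, u, hu, e⟩ := exists_line (x := ⟨r, hr⟩) h4
  refine ⟨j, hj, Equiv.ext fun x => Subtype.ext ?_⟩
  rw [reflPerm_apply, refl_apply hj]
  have e' : r = fun t => phi u * psi (rep j) t := by
    have := congrArg Subtype.val e
    simp only [smulL, repL_val hj] at this
    exact this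
  rw [e', qrefl_unit hu.star_mul]

theorem refl_inj {i j : ℕ} (hi : i < 315) (hj : j < 315) (h : refl i = refl j) : i = j := by
  have h1 := congrArg Subtype.val (DFunLike.congr_fun h (repL i))
  rw [refl_apply hi, refl_apply hj, repL_val hi] at h1
  have e : qrefl (psi (rep i)) (psi (rep i)) = -psi (rep i) := by
    ext1 t
    simp only [qrefl_eq, (rep_spec hi).2.1, Pi.sub_apply, Pi.neg_apply]
    rw [show (1 / 2 : ℝ) • (4 : ℍ[ℝ]) = 2 by
      rw [show (4 : ℍ[ℝ]) = 2 * 2 by norm_num, half_smul_eq]]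
    rw [two_mul]; abel
  rw [e] at h1
  refine rep_inj hi hj ((1 / 2 : ℝ) • ((1 / 2 : ℝ) • qip (psi (rep i)) (psi (rep j)))) ?_
  ext1 t
  have ht := congrFun h1 t
  simp only [qrefl_eq, Pi.sub_apply, Pi.neg_apply] at ht
  rw [smul_mul_assoc (1 / 2 : ℝ) ((1 / 2 : ℝ) • qip (psi (rep i)) (psi (rep j))),
    show ((1 / 2 : ℝ) • qip (psi (rep i)) (psi (rep j))) * psi (rep j) t = psi (rep i) t + psi (rep i) t by
      rw [eq_sub_iff_add_eq] at ht; rw [← sub_eq_zero] at ht ⊢; rw [← ht]; abel,
    ← two_mul, half_smul_eq]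

theorem app_inv {α : Type*} (a : Equiv.Perm α) (x : α) : a (a⁻¹ x) = x := a.apply_symm_apply x

theorem inv_app {α : Type*} (a : Equiv.Perm α) (x : α) : a⁻¹ (a x) = x := a.symm_apply_apply x

/-- A permutation of the lattice which is linear and preserves the form. -/
structure Good (f : Equiv.Perm icoLeech) : Prop where
  add : ∀ x y z : icoLeech, z.1 = x.1 + y.1 → (f z).1 = (f x).1 + (f y).1
  smul : ∀ (u : D) (hu : mem u = true) (x : icoLeech), f (smulL hu x) = smulL hu (f x)
  isom : ∀ x y : icoLeech, qip (f x).1 (f y).1 = qip x.1 y.1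

theorem good_refl (i : ℕ) : Good (refl i) := by
  by_cases h : i < 315
  · refine ⟨fun x y z e => ?_, fun u hu x => Subtype.ext ?_, fun x y => ?_⟩
    · rw [refl_apply h, refl_apply h, refl_apply h, e, qrefl_add]
    · rw [refl_apply h]
      show _ = fun t => phi u * (refl i x).1 t
      rw [refl_apply h]
      exact qrefl_smul _ _ _
    · rw [refl_apply h, refl_apply h, qrefl_isometry (rep_spec h).2.1]
  · simp only [refl, h, dite_false]
    exact ⟨fun _ _ _ e => e, fun _ _ _ => rfl, fun _ _ => rfl⟩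

theorem good_of_mem {f : Equiv.Perm icoLeech} (hf : f ∈ twoJ2) : Good f := by
  induction hf using Subgroup.closure_induction with
  | mem g hg =>
    obtain ⟨i, hi, rfl⟩ := eq_refl hg
    exact good_refl i
  | one => exact ⟨fun _ _ _ e => e, fun _ _ _ => rfl, fun _ _ => rfl⟩
  | mul a b _ _ ha hb =>
    refine ⟨fun x y z e => ha.add _ _ _ (hb.add x y z e), fun u hu x => ?_, fun x y => ?_⟩
    · simp only [Equiv.Perm.mul_apply, hb.smul, ha.smul]
    · simp only [Equiv.Perm.mul_apply, ha.isom, hb.isom]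
  | inv a _ ha =>
    refine ⟨fun x y z e => ?_, fun u hu x => ?_, fun x y => ?_⟩
    · have h := ha.add (a⁻¹ x) (a⁻¹ y) ⟨(a⁻¹ x).1 + (a⁻¹ y).1, leech_add (a⁻¹ x).2 (a⁻¹ y).2⟩ rfl
      simp only [app_inv] at h
      rw [← e] at h
      have h' := congrArg (a⁻¹ ·) (Subtype.ext h : a _ = z)
      simp only [inv_app] at h'
      rw [← h']
    · apply a.injective
      rw [ha.smul, app_inv, app_inv]
    · rw [← ha.isom, app_inv, app_inv]

theorem Good.sub {f : Equiv.Perm icoLeech} (hf : Good f) {x y z : icoLeech} (e : z.1 = x.1 - y.1) :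
    (f z).1 = (f x).1 - (f y).1 := by
  rw [eq_sub_iff_add_eq, ← hf.add z y x (by rw [e, sub_add_cancel])]

theorem conj_refl {f : Equiv.Perm icoLeech} (hf : Good f) {i j : ℕ} (hi : i < 315) (hj : j < 315)
    {u : D} (hu : IsU u) (e : f (repL i) = smulL hu.1 (repL j)) : f * refl i * f⁻¹ = refl j := by
  ext1 x
  obtain ⟨y, rfl⟩ := f.surjective x
  rw [Equiv.Perm.mul_apply, Equiv.Perm.mul_apply, inv_app]
  refine Subtype.ext ?_
  obtain ⟨q, hq, eq⟩ := qip_two y.2 (repL i).2
  obtain ⟨w, hw, rfl⟩ := mem_icosians_iff.1 hq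
  rw [repL_val hi] at eq
  have e1 : (refl i y).1 = y.1 - (smulL hw (repL i)).1 := by
    rw [refl_apply hi, qrefl_eq, eq, half_smul_eq]
    simp [smulL, repL_val hi]
  have e2 := congrArg Subtype.val e
  rw [hf.sub e1, hf.smul, refl_apply hj, e]
  have e3 : qip (f y).1 (fun t => phi u * psi (rep j) t) = 2 * phi w := by
    have := hf.isom y (repL i)
    rw [e, repL_val hi, eq] at this
    simpa [smulL, repL_val hj] using this
  rw [← qrefl_unit hu.star_mul (psi (rep j)) (f y).1, qrefl_eq, e3, half_smul_eq]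
  simp [smulL, repL_val hj, mul_assoc]

theorem table_spec {i x : ℕ} (hi : i < 315) (hx : x < 5) :
    table.app i x < 315 ∧ ∃ u, ∃ hu : IsU u, refl (genLine x) (repL i) = smulL hu.1 (repL (table.app i x)) := by
  have key : chkEntry i x = true := by
    rcases Nat.lt_or_ge i 80 with h | h
    · have := List.all_eq_true.1 (List.all_eq_true.1 chk_tab0 i (List.mem_range.2 h)) x (List.mem_range.2 hx)
      simpa using this
    rcases Nat.lt_or_ge i 160 with h | h
    · have := List.all_eq_true.1 (List.all_eq_true.1 chk_tab1 (i - 80) (List.mem_range.2 (by omega))) x (List.mem_range.2 hx)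
      rwa [show 80 + (i - 80) = i by omega] at this
    rcases Nat.lt_or_ge i 240 with h | h
    · have := List.all_eq_true.1 (List.all_eq_true.1 chk_tab2 (i - 160) (List.mem_range.2 (by omega))) x (List.mem_range.2 hx)
      rwa [show 160 + (i - 160) = i by omega] at this
    · have := List.all_eq_true.1 (List.all_eq_true.1 chk_tab3 (i - 240) (List.mem_range.2 (by omega))) x (List.mem_range.2 hx)
      rwa [show 240 + (i - 240) = i by omega] at this
  simp only [chkEntry, Coset.force_eq, forceV_eq, forceD_eq, Bool.and_eq_true, decide_eq_true_eq, reflVF_eq] at key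
  obtain ⟨⟨hj, hk⟩, e⟩ := key
  have hj : table.app i x < 315 := by simpa [Nat.blt] using hj
  have hk : Coset.field Data.unitIdxTr 128 20 (i * 5 + x) < 120 := by simpa [Nat.blt] using hk
  have hg : genLine x < 315 := by
    interval_cases x <;> decide
  refine ⟨hj, _, isU_unit hk, Subtype.ext ?_⟩
  rw [refl_apply hg, repL_val hi, ← psi_reflV (rep_spec hg).1 (rep_spec hi).1, e,
    psi_smulV (isU_unit hk).1 (inL_iff.1 (rep_spec hj).1).1]
  simp [smulL, repL_val hj]

/-- The subgroup generated by the five reflections. -/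
noncomputable def five : Subgroup (Equiv.Perm icoLeech) :=
  Subgroup.closure ((fun x => refl (genLine x)) '' Set.Iio 5)

theorem five_le : five ≤ twoJ2 := by
  rw [five, Subgroup.closure_le]
  rintro _ ⟨x, hx, rfl⟩
  have hg : genLine x < 315 := by
    have : x < 5 := hx
    interval_cases x <;> decide
  exact Subgroup.subset_closure (refl_isRefl hg)

theorem reach {i : ℕ} (hi : i < 315) : ∃ g ∈ five, g * refl 0 * g⁻¹ = refl i := by
  suffices ∀ n, ∀ i < 315, Coset.field Data.posTr 128 20 i = n → ∃ g ∈ five, g * refl 0 * g⁻¹ = refl i from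
    this _ i hi rfl
  intro n
  induction n using Nat.strong_induction_on with
  | _ n ih =>
    intro i hi hn
    have h := List.all_eq_true.1 chk_tree i (List.mem_range.2 hi)
    simp only [chkTree, Coset.force_eq, Bool.or_eq_true, Bool.and_eq_true] at h
    rcases h with h | ⟨⟨⟨h1, h2⟩, h3⟩, h4⟩
    · obtain rfl := Nat.eq_of_beq_eq_true h
      exact ⟨1, one_mem _, by simp⟩
    · have h1 : Coset.field Data.parTr 128 20 i >>> 3 < 315 := by simpa [Nat.blt] using h1
      have h2 : Coset.field Data.parTr 128 20 i % 8 < 5 := by simpa [Nat.blt] using h2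
      have h4 := (show _ < _ by simpa [Nat.blt] using h4 :
        Coset.field Data.posTr 128 20 (Coset.field Data.parTr 128 20 i >>> 3) < Coset.field Data.posTr 128 20 i)
      obtain ⟨g, hg, e⟩ := ih _ (hn ▸ h4) _ h1 rfl
      obtain ⟨-, u, hu, hs⟩ := table_spec h1 h2
      rw [Nat.eq_of_beq_eq_true h3] at hs
      refine ⟨refl (genLine (Coset.field Data.parTr 128 20 i % 8)) * g,
        mul_mem (Subgroup.subset_closure ⟨_, h2, rfl⟩) hg, ?_⟩
      rw [← conj_refl (good_refl _) h1 hi hu hs, ← e, mul_inv_rev]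
      group

theorem five_eq : five = twoJ2 := by
  refine le_antisymm five_le ((Subgroup.closure_le _).2 fun f hf => ?_)
  obtain ⟨i, hi, rfl⟩ := eq_refl hf
  obtain ⟨g, hg, e⟩ := reach hi
  rw [SetLike.mem_coe, ← e]
  have h0 : refl 0 ∈ five := Subgroup.subset_closure ⟨0, by norm_num, rfl⟩
  exact mul_mem (mul_mem hg h0) (inv_mem hg)

theorem transitive {i j : ℕ} (hi : i < 315) (hj : j < 315) :
    ∃ g ∈ twoJ2, g * refl i * g⁻¹ = refl j := by
  obtain ⟨g, hg, e⟩ := reach hi
  obtain ⟨k, hk, e'⟩ := reach hj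
  refine ⟨k * g⁻¹, mul_mem (five_le hk) (inv_mem (five_le hg)), ?_⟩
  rw [← e, ← e', mul_inv_rev]
  group

theorem refl_ncard : {f : Equiv.Perm icoLeech | IsIcoReflection f}.ncard = 315 := by
  have : {f : Equiv.Perm icoLeech | IsIcoReflection f} = Set.range fun i : Fin 315 => refl i := by
    ext f
    constructor
    · intro hf
      obtain ⟨i, hi, rfl⟩ := eq_refl hf
      exact ⟨⟨i, hi⟩, rfl⟩
    · rintro ⟨i, rfl⟩; exact refl_isRefl i.2
  rw [this, Set.ncard_range_of_injective fun a b h => Fin.ext (refl_inj a.2 b.2 h), Nat.card_fin]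

theorem minimal_ncard : {r : Fin 3 → ℍ[ℝ] | r ∈ icoLeech ∧ qip r r = 4}.ncard = 37800 := by
  have hinj : Function.Injective fun p : {u : D // IsU u} × Fin 315 =>
      ((smulL p.1.2.1 (repL p.2) : icoLeech) : Fin 3 → ℍ[ℝ]) := by
    intro p q h
    obtain ⟨e1, e2⟩ := smulL_inj p.2.2 q.2.2 p.1.2 q.1.2 (Subtype.ext h)
    exact Prod.ext (Subtype.ext e2) (Fin.ext e1)
  have hset : {r : Fin 3 → ℍ[ℝ] | r ∈ icoLeech ∧ qip r r = 4} = Set.range fun p : {u : D // IsU u} × Fin 315 =>
      ((smulL p.1.2.1 (repL p.2) : icoLeech) : Fin 3 → ℍ[ℝ]) := by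
    ext r
    constructor
    · rintro ⟨hr, h4⟩
      obtain ⟨j, hj, u, hu, e⟩ := exists_line (x := ⟨r, hr⟩) h4
      exact ⟨(⟨u, hu⟩, ⟨j, hj⟩), congrArg Subtype.val e.symm⟩
    · rintro ⟨⟨⟨u, hu⟩, j⟩, rfl⟩
      refine ⟨(smulL hu.1 (repL j)).2, ?_⟩
      simp only [smulL, repL_val j.2]
      rw [qip_smul_left, qip_smul_right, (rep_spec j.2).2.1, show (4 : ℍ[ℝ]) = ((4 : ℝ) : ℍ[ℝ]) by norm_cast,
        real_central, ← mul_assoc, hu.mul_star, one_mul]
  have hU : Nat.card {u : D // IsU u} = 120 := by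
    have hbij : Function.Bijective fun k : Fin 120 => (⟨unit k, isU_unit k.2⟩ : {u : D // IsU u}) := by
      refine ⟨fun a b h => ?_, fun u => ?_⟩
      · have h' : unit a = unit b := congrArg Subtype.val h
        exact Fin.ext (units_inj a.2 b.2 h')
      · obtain ⟨k, hk, e⟩ := eq_unit u.2.1 u.2.2
        exact ⟨⟨k, hk⟩, Subtype.ext e.symm⟩
    rw [← Nat.card_congr (Equiv.ofBijective _ hbij), Nat.card_fin]
  rw [hset, Set.ncard_range_of_injective hinj, Nat.card_prod, hU, Nat.card_fin]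

end CfsgLib.InvChar.Ico
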