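import Mathlib.Tactic
import Cfsg.Prelude.Def_Spor_J2

/-!
# The icosian ring in doubled coordinates over `ℤ[τ]`
-/

set_option autoImplicit false

namespace CfsgLib.InvChar.Ico

open Quaternion
open Cfsg.Spor (tau sig qI icosians)

/-- Doubled coordinates `(a + b τ)` of a quaternion. -/
structure D where
  a0 : ℤ
  b0 : ℤ
  a1 : ℤ
  b1 : ℤ
  a2 : ℤ
  b2 : ℤ
  a3 : ℤ
  b3 : ℤ
deriving DecidableEq

/-- The quaternion with given doubled coordinates. -/
noncomputable def phi (p : D) : ℍ[ℝ] :=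
  ⟨((p.a0 : ℝ) + p.b0 * tau) / 2, ((p.a1 : ℝ) + p.b1 * tau) / 2,
    ((p.a2 : ℝ) + p.b2 * tau) / 2, ((p.a3 : ℝ) + p.b3 * tau) / 2⟩

theorem phi_re (p : D) : (phi p).re = ((p.a0 : ℝ) + p.b0 * tau) / 2 := rfl
theorem phi_imI (p : D) : (phi p).imI = ((p.a1 : ℝ) + p.b1 * tau) / 2 := rfl
theorem phi_imJ (p : D) : (phi p).imJ = ((p.a2 : ℝ) + p.b2 * tau) / 2 := rfl
theorem phi_imK (p : D) : (phi p).imK = ((p.a3 : ℝ) + p.b3 * tau) / 2 := rfl

theorem tau_sq : tau ^ 2 = tau + 1 := by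
  have h := Real.sq_sqrt (show (0 : ℝ) ≤ 5 by norm_num)
  unfold Cfsg.Spor.tau
  linear_combination h / 4

theorem sig_eq : sig = 1 - tau := by unfold Cfsg.Spor.sig Cfsg.Spor.tau; ring

theorem coord_eq_zero {a b : ℤ} (h : (a : ℝ) + b * tau = 0) : a = 0 ∧ b = 0 := by
  rcases eq_or_ne b 0 with rfl | hb
  · simpa using h
  · exfalso
    have hirr : Irrational (Real.sqrt 5) :=
      Nat.Prime.irrational_sqrt (show Nat.Prime 5 by norm_num) |> fun h => by simpa using h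
    refine hirr ⟨-((2 * a + b : ℤ) : ℚ) / (b : ℚ), ?_⟩
    have hb' : (b : ℝ) ≠ 0 := by exact_mod_cast hb
    unfold Cfsg.Spor.tau at h
    push_cast
    field_simp
    linear_combination (-2 : ℝ) * h

theorem coord_inj {a b c d : ℤ} (h : (a : ℝ) + b * tau = c + d * tau) : a = c ∧ b = d := by
  have := coord_eq_zero (a := a - c) (b := b - d) (by push_cast; linear_combination h)
  omega

theorem phi_injective : Function.Injective phi := by
  intro p q h
  have h0 := congrArg QuaternionAlgebra.re h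
  have h1 := congrArg QuaternionAlgebra.imI h
  have h2 := congrArg QuaternionAlgebra.imJ h
  have h3 := congrArg QuaternionAlgebra.imK h
  simp only [phi, div_left_inj' (two_ne_zero' ℝ)] at h0 h1 h2 h3
  obtain ⟨_, _⟩ := coord_inj h0
  obtain ⟨_, _⟩ := coord_inj h1
  obtain ⟨_, _⟩ := coord_inj h2
  obtain ⟨_, _⟩ := coord_inj h3
  cases p; cases q; simp_all

instance instZeroD : Zero D := ⟨⟨0, 0, 0, 0, 0, 0, 0, 0⟩⟩

/-- Sum. -/
def add (p q : D) : D :=
  ⟨p.a0 + q.a0, p.b0 + q.b0, p.a1 + q.a1, p.b1 + q.b1, p.a2 + q.a2, p.b2 + q.b2, p.a3 + q.a3, p.b3 + q.b3⟩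

/-- Negative. -/
def neg (p : D) : D := ⟨-p.a0, -p.b0, -p.a1, -p.b1, -p.a2, -p.b2, -p.a3, -p.b3⟩

/-- Difference. -/
def sub (p q : D) : D := add p (neg q)

/-- Integer multiple. -/
def smul (c : ℤ) (p : D) : D :=
  ⟨c * p.a0, c * p.b0, c * p.a1, c * p.b1, c * p.a2, c * p.b2, c * p.a3, c * p.b3⟩

/-- Conjugate. -/
def conj (p : D) : D := ⟨p.a0, p.b0, -p.a1, -p.b1, -p.a2, -p.b2, -p.a3, -p.b3⟩

/-- Rational part of a product in `ℤ[τ]`. -/
def zr (a b c d : ℤ) : ℤ := a * c + b * d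

/-- `τ`-part of a product in `ℤ[τ]`. -/
def zi (a b c d : ℤ) : ℤ := a * d + b * c + b * d

/-- Twice the product. -/
def mulRaw (p q : D) : D :=
  ⟨zr p.a0 p.b0 q.a0 q.b0 - zr p.a1 p.b1 q.a1 q.b1 - zr p.a2 p.b2 q.a2 q.b2 - zr p.a3 p.b3 q.a3 q.b3,
   zi p.a0 p.b0 q.a0 q.b0 - zi p.a1 p.b1 q.a1 q.b1 - zi p.a2 p.b2 q.a2 q.b2 - zi p.a3 p.b3 q.a3 q.b3,
   zr p.a0 p.b0 q.a1 q.b1 + zr p.a1 p.b1 q.a0 q.b0 + zr p.a2 p.b2 q.a3 q.b3 - zr p.a3 p.b3 q.a2 q.b2,
   zi p.a0 p.b0 q.a1 q.b1 + zi p.a1 p.b1 q.a0 q.b0 + zi p.a2 p.b2 q.a3 q.b3 - zi p.a3 p.b3 q.a2 q.b2,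
   zr p.a0 p.b0 q.a2 q.b2 - zr p.a1 p.b1 q.a3 q.b3 + zr p.a2 p.b2 q.a0 q.b0 + zr p.a3 p.b3 q.a1 q.b1,
   zi p.a0 p.b0 q.a2 q.b2 - zi p.a1 p.b1 q.a3 q.b3 + zi p.a2 p.b2 q.a0 q.b0 + zi p.a3 p.b3 q.a1 q.b1,
   zr p.a0 p.b0 q.a3 q.b3 + zr p.a1 p.b1 q.a2 q.b2 - zr p.a2 p.b2 q.a1 q.b1 + zr p.a3 p.b3 q.a0 q.b0,
   zi p.a0 p.b0 q.a3 q.b3 + zi p.a1 p.b1 q.a2 q.b2 - zi p.a2 p.b2 q.a1 q.b1 + zi p.a3 p.b3 q.a0 q.b0⟩

/-- Halve every coordinate. -/
def half (p : D) : D :=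
  ⟨p.a0 / 2, p.b0 / 2, p.a1 / 2, p.b1 / 2, p.a2 / 2, p.b2 / 2, p.a3 / 2, p.b3 / 2⟩

/-- The product, exact on icosians. -/
def mul (p q : D) : D := half (mulRaw p q)

theorem phi_zero : phi 0 = 0 := by
  ext <;> simp [phi, show (0 : D) = ⟨0, 0, 0, 0, 0, 0, 0, 0⟩ from rfl]

theorem phi_add (p q : D) : phi (add p q) = phi p + phi q := by
  ext <;> simp [phi_re, phi_imI, phi_imJ, phi_imK, add] <;> ring

theorem phi_neg (p : D) : phi (neg p) = -phi p := by
  ext <;> simp [phi_re, phi_imI, phi_imJ, phi_imK, neg] <;> ring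

theorem phi_sub (p q : D) : phi (sub p q) = phi p - phi q := by
  rw [sub, phi_add, phi_neg, sub_eq_add_neg]

theorem phi_smul (c : ℤ) (p : D) : phi (smul c p) = c • phi p := by
  ext <;> simp [phi_re, phi_imI, phi_imJ, phi_imK, smul] <;> ring

theorem phi_conj (p : D) : phi (conj p) = star (phi p) := by
  ext <;> simp [phi_re, phi_imI, phi_imJ, phi_imK, conj] <;> ring

theorem phi_mulRaw (p q : D) : phi (mulRaw p q) = (2 : ℝ) • (phi p * phi q) := by
  ext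
  · simp [phi_re, phi_imI, phi_imJ, phi_imK, mulRaw, zr, zi]
    linear_combination (-((p.b0 : ℝ) * q.b0 - p.b1 * q.b1 - p.b2 * q.b2 - p.b3 * q.b3) / 2) * tau_sq
  · simp [phi_re, phi_imI, phi_imJ, phi_imK, mulRaw, zr, zi]
    linear_combination (-((p.b0 : ℝ) * q.b1 + p.b1 * q.b0 + p.b2 * q.b3 - p.b3 * q.b2) / 2) * tau_sq
  · simp [phi_re, phi_imI, phi_imJ, phi_imK, mulRaw, zr, zi]
    linear_combination (-((p.b0 : ℝ) * q.b2 - p.b1 * q.b3 + p.b2 * q.b0 + p.b3 * q.b1) / 2) * tau_sq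
  · simp [phi_re, phi_imI, phi_imJ, phi_imK, mulRaw, zr, zi]
    linear_combination (-((p.b0 : ℝ) * q.b3 + p.b1 * q.b2 - p.b2 * q.b1 + p.b3 * q.b0) / 2) * tau_sq

/-- The parity conditions defining the icosians among doubled coordinates. -/
def mem (p : D) : Bool :=
  Int.emod (p.a2 - p.b0 - p.a1 - p.b1) 2 == 0 && Int.emod (p.b2 - p.a0 - p.b0 - p.a1) 2 == 0 &&
  Int.emod (p.a3 - p.a0 - p.b0 - p.b1) 2 == 0 && Int.emod (p.b3 - p.a0 - p.a1 - p.b1) 2 == 0

theorem mem_iff (p : D) : mem p = true ↔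
    (p.a2 - p.b0 - p.a1 - p.b1) % 2 = 0 ∧ (p.b2 - p.a0 - p.b0 - p.a1) % 2 = 0 ∧
    (p.a3 - p.a0 - p.b0 - p.b1) % 2 = 0 ∧ (p.b3 - p.a0 - p.a1 - p.b1) % 2 = 0 := by
  simp only [mem, Bool.and_eq_true, beq_iff_eq, and_assoc]
  rfl

/-- A basis of the icosians. -/
def basis : List D :=
  [⟨1, 0, 0, 0, 0, 1, 1, 1⟩, ⟨0, 1, 0, 0, 1, 1, 1, 0⟩, ⟨0, 0, 1, 0, 1, 1, 0, 1⟩, ⟨0, 0, 0, 1, 1, 0, 1, 1⟩,
   ⟨0, 0, 0, 0, 2, 0, 0, 0⟩, ⟨0, 0, 0, 0, 0, 2, 0, 0⟩, ⟨0, 0, 0, 0, 0, 0, 2, 0⟩, ⟨0, 0, 0, 0, 0, 0, 0, 2⟩]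

/-- The generators of the ring. -/
def ringGens : List D := [⟨0, 0, 2, 0, 0, 0, 0, 0⟩, ⟨1, 0, 1, -1, 0, 0, 0, 1⟩]

/-- The unit. -/
def one : D := ⟨2, 0, 0, 0, 0, 0, 0, 0⟩

theorem phi_one : phi one = 1 := by ext <;> simp [phi, one]

theorem mem_add {p q : D} (hp : mem p = true) (hq : mem q = true) : mem (add p q) = true := by
  rw [mem_iff] at *; simp only [add]; omega

theorem mem_neg {p : D} (hp : mem p = true) : mem (neg p) = true := by
  rw [mem_iff] at *; simp only [neg]; omega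

theorem mem_sub {p q : D} (hp : mem p = true) (hq : mem q = true) : mem (sub p q) = true :=
  mem_add hp (mem_neg hq)

theorem mem_smul (c : ℤ) {p : D} (hp : mem p = true) : mem (smul c p) = true := by
  rw [mem_iff] at *
  simp only [smul]
  simp only [← mul_sub, Int.mul_emod c _ 2]
  simp [hp.1, hp.2.1, hp.2.2.1, hp.2.2.2]

theorem mem_conj {p : D} (hp : mem p = true) : mem (conj p) = true := by
  rw [mem_iff] at *; simp only [conj]; omega

theorem mem_one : mem one = true := by decide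

/-- The additive group spanned by the basis. -/
noncomputable def span : AddSubgroup ℍ[ℝ] := AddSubgroup.closure (phi '' {p | p ∈ basis})

theorem phi_basis_mem {p : D} (hp : p ∈ basis) : phi p ∈ span := AddSubgroup.subset_closure ⟨p, hp, rfl⟩

theorem mem_span {p : D} (hp : mem p = true) : phi p ∈ span := by
  rw [mem_iff] at hp
  have e : p = add (add (add (smul p.a0 ⟨1, 0, 0, 0, 0, 1, 1, 1⟩) (smul p.b0 ⟨0, 1, 0, 0, 1, 1, 1, 0⟩))
      (add (smul p.a1 ⟨0, 0, 1, 0, 1, 1, 0, 1⟩) (smul p.b1 ⟨0, 0, 0, 1, 1, 0, 1, 1⟩)))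
      (add (add (smul ((p.a2 - p.b0 - p.a1 - p.b1) / 2) ⟨0, 0, 0, 0, 2, 0, 0, 0⟩)
        (smul ((p.b2 - p.a0 - p.b0 - p.a1) / 2) ⟨0, 0, 0, 0, 0, 2, 0, 0⟩))
        (add (smul ((p.a3 - p.a0 - p.b0 - p.b1) / 2) ⟨0, 0, 0, 0, 0, 0, 2, 0⟩)
          (smul ((p.b3 - p.a0 - p.a1 - p.b1) / 2) ⟨0, 0, 0, 0, 0, 0, 0, 2⟩))) := by
    obtain ⟨a0, b0, a1, b1, a2, b2, a3, b3⟩ := p
    simp only [add, smul, D.mk.injEq] at hp ⊢
    omega
  rw [e]
  simp only [phi_add, phi_smul]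
  refine add_mem (add_mem (add_mem ?_ ?_) (add_mem ?_ ?_)) (add_mem (add_mem ?_ ?_) (add_mem ?_ ?_)) <;>
    exact zsmul_mem (phi_basis_mem (by simp [basis])) _

theorem exists_of_span {x : ℍ[ℝ]} (h : x ∈ span) : ∃ p, mem p = true ∧ phi p = x := by
  induction h using AddSubgroup.closure_induction with
  | mem y hy =>
    obtain ⟨p, hp, rfl⟩ := hy
    exact ⟨p, (by decide : ∀ p ∈ basis, mem p = true) p hp, rfl⟩
  | zero => exact ⟨0, by decide, phi_zero⟩
  | add a b _ _ ha hb =>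
    obtain ⟨p, hp, rfl⟩ := ha
    obtain ⟨q, hq, rfl⟩ := hb
    exact ⟨add p q, mem_add hp hq, phi_add p q⟩
  | neg a _ ha =>
    obtain ⟨p, hp, rfl⟩ := ha
    exact ⟨neg p, mem_neg hp, phi_neg p⟩

theorem phi_mul_of_double {p q r : D} (h : mulRaw p q = smul 2 r) : phi p * phi q = phi r := by
  refine smul_right_injective ℍ[ℝ] (two_ne_zero' ℝ) ?_
  show (2 : ℝ) • (phi p * phi q) = (2 : ℝ) • phi r
  rw [← phi_mulRaw, h, phi_smul, two_zsmul, two_smul]

theorem basis_mul : ∀ p ∈ basis, ∀ q ∈ basis, mulRaw p q = smul 2 (mul p q) ∧ mem (mul p q) = true := by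
  decide +kernel

theorem span_mul {x y : ℍ[ℝ]} (hx : x ∈ span) (hy : y ∈ span) : x * y ∈ span := by
  induction hx, hy using AddSubgroup.closure_induction₂ with
  | mem a b ha hb =>
    obtain ⟨p, hp, rfl⟩ := ha
    obtain ⟨q, hq, rfl⟩ := hb
    rw [phi_mul_of_double (basis_mul p hp q hq).1]
    exact mem_span (basis_mul p hp q hq).2
  | zero_left a _ => simp
  | zero_right a _ => simp
  | add_left a b c _ _ _ h₁ h₂ => rw [add_mul]; exact add_mem h₁ h₂
  | add_right a b c _ _ _ h₁ h₂ => rw [mul_add]; exact add_mem h₁ h₂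
  | neg_left a b _ _ h => rw [neg_mul]; exact neg_mem h
  | neg_right a b _ _ h => rw [mul_neg]; exact neg_mem h

/-- A word in the ring generators. -/
def wordD (L : List ℕ) : D := L.foldl (fun p x => mul p (ringGens.getD x one)) one

/-- The doubling condition along a word. -/
def wordOK (L : List ℕ) : Bool :=
  (List.range L.length).all fun k =>
    decide (mulRaw (wordD (L.take k)) (ringGens.getD (L.getD k 0) one) = smul 2 (wordD (L.take (k + 1))))

/-- The basis as combinations of words. -/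
def combos : List (List (ℤ × List ℕ)) := [[((1), [1, 0, 1, 1]), ((1), [1]), ((-1), [0, 0, 1, 0]), ((-1), [0, 1])], [((-1), [0, 1, 0, 1]), ((1), [1, 0, 1, 1]), ((-1), [0, 0, 1, 0]), ((-1), [0, 1])], [((1), [1, 0, 1, 0]), ((1), [1]), ((-1), [0, 0, 1, 0])], [((1), [1, 0, 1, 0]), ((1), [1, 0, 1, 1]), ((1), [1]), ((-1), [0, 0, 1, 0])], [((1), [1, 0, 1, 0]), ((-1), [0, 1, 0, 1])], [((-1), [0, 0, 1, 0]), ((-1), [0, 1])], [((-1), [0, 1, 0]), ((2), [1, 0, 1, 1]), ((1), [1]), ((-1), [0, 0, 1, 0]), ((-1), []), ((-1), [0, 1])], [((1), [0, 1, 0]), ((1), [1])]]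

theorem combos_ok : combos.map (fun r => r.foldr (fun cw p => add (smul cw.1 (wordD cw.2)) p) 0) = basis ∧
    ∀ r ∈ combos, ∀ cw ∈ r, wordOK cw.2 = true := by decide +kernel

theorem phi_ringGens (x : ℕ) : phi (ringGens.getD x one) ∈ icosians := by
  rcases x with _ | _ | x
  · refine Subring.subset_closure (Or.inl ?_)
    ext <;> simp [phi, ringGens, qI]
  · refine Subring.subset_closure (Or.inr ?_)
    ext <;> simp [phi, ringGens, sig_eq] <;> ring
  · simp [ringGens, phi_one]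

theorem phi_wordD (L : List ℕ) (hL : wordOK L = true) : phi (wordD L) ∈ icosians := by
  suffices ∀ k, k ≤ L.length → phi (wordD (L.take k)) ∈ icosians by simpa using this L.length le_rfl
  intro k
  induction k with
  | zero => intro _; simp [wordD, phi_one]
  | succ k ih =>
    intro hk
    simp only [wordOK, List.all_eq_true, List.mem_range, decide_eq_true_eq] at hL
    rw [← phi_mul_of_double (hL k hk)]
    exact mul_mem (ih (by omega)) (phi_ringGens _)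

theorem phi_combo : ∀ r : List (ℤ × List ℕ), (∀ cw ∈ r, wordOK cw.2 = true) →
    phi (r.foldr (fun cw p => add (smul cw.1 (wordD cw.2)) p) 0) ∈ icosians := by
  intro r
  induction r with
  | nil => intro _; rw [List.foldr_nil, phi_zero]; exact zero_mem _
  | cons a r ih =>
    intro h
    rw [List.foldr_cons, phi_add, phi_smul]
    exact add_mem (zsmul_mem (phi_wordD _ (h a (by simp))) _) (ih fun cw hcw => h cw (by simp [hcw]))

/-- The icosian ring is the image of the doubled coordinates with the parity conditions. -/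
theorem mem_icosians_iff {x : ℍ[ℝ]} : x ∈ icosians ↔ ∃ p, mem p = true ∧ phi p = x := by
  constructor
  · intro h
    refine exists_of_span ?_
    induction h using Subring.closure_induction with
    | mem y hy =>
      rcases hy with rfl | rfl
      · rw [show qI = phi ⟨0, 0, 2, 0, 0, 0, 0, 0⟩ by ext <;> simp [phi, qI]]
        exact mem_span (by decide)
      · rw [show (⟨1 / 2, sig / 2, 0, tau / 2⟩ : ℍ[ℝ]) = phi ⟨1, 0, 1, -1, 0, 0, 0, 1⟩ by
          ext <;> simp [phi, sig_eq] <;> ring]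
        exact mem_span (by decide)
    | zero => exact zero_mem _
    | one => rw [← phi_one]; exact mem_span mem_one
    | add a b _ _ ha hb => exact add_mem ha hb
    | neg a _ ha => exact neg_mem ha
    | mul a b _ _ ha hb => exact span_mul ha hb
  · rintro ⟨p, hp, rfl⟩
    have hle : span ≤ icosians.toAddSubgroup := by
      rw [span, AddSubgroup.closure_le]
      rintro _ ⟨q, hq, rfl⟩
      rw [← combos_ok.1] at hq
      obtain ⟨r, hr, rfl⟩ := List.mem_map.1 hq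
      exact phi_combo r (combos_ok.2 r hr)
    exact hle (mem_span hp)

theorem phi_mem {p : D} (hp : mem p = true) : phi p ∈ icosians := mem_icosians_iff.2 ⟨p, hp, rfl⟩

theorem mul_spec {p q : D} (hp : mem p = true) (hq : mem q = true) :
    phi (mul p q) = phi p * phi q ∧ mem (mul p q) = true := by
  obtain ⟨r, hr, he⟩ := mem_icosians_iff.1 (mul_mem (phi_mem hp) (phi_mem hq))
  have h2 : mulRaw p q = smul 2 r := phi_injective (by
    rw [phi_mulRaw, phi_smul, he, two_zsmul, two_smul])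
  have e : mul p q = r := by
    rw [mul, h2]
    obtain ⟨a0, b0, a1, b1, a2, b2, a3, b3⟩ := r
    simp [half, smul]
  exact ⟨by rw [e, he], e ▸ hr⟩

theorem phi_mul {p q : D} (hp : mem p = true) (hq : mem q = true) : phi (mul p q) = phi p * phi q :=
  (mul_spec hp hq).1

theorem mem_mul {p q : D} (hp : mem p = true) (hq : mem q = true) : mem (mul p q) = true :=
  (mul_spec hp hq).2

theorem star_mem_icosians {x : ℍ[ℝ]} (h : x ∈ icosians) : star x ∈ icosians := by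
  obtain ⟨p, hp, rfl⟩ := mem_icosians_iff.1 h
  exact phi_conj p ▸ phi_mem (mem_conj hp)

end CfsgLib.InvChar.Ico
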