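import Cfsg.Agent.Lib.InvChar.IcoLattice
import Cfsg.Agent.Lib.InvChar.IcoData

/-!
# Lattice vectors in doubled coordinates
-/

set_option autoImplicit false

namespace CfsgLib.InvChar.Ico

open Quaternion
open Cfsg.Spor (tau icosians icoH leftIdeal icoLeech qip qrefl)

/-- A triple of doubled coordinate vectors. -/
structure V where
  x : D
  y : D
  z : D
deriving DecidableEq

/-- The vector of quaternions. -/
noncomputable def psi (v : V) : Fin 3 → ℍ[ℝ] := ![phi v.x, phi v.y, phi v.z]

theorem psi_injective : Function.Injective psi := by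
  intro v w h
  have h0 := phi_injective (congrFun h 0)
  have h1 := phi_injective (congrFun h 1)
  have h2 := phi_injective (congrFun h 2)
  cases v; cases w; simp_all

/-- All three coordinates are icosians. -/
def memV (v : V) : Bool := mem v.x && mem v.y && mem v.z

theorem memV_iff {v : V} : memV v = true ↔ mem v.x = true ∧ mem v.y = true ∧ mem v.z = true := by
  simp [memV, and_assoc]

/-- Twice an icosian. -/
def isTwice (q : D) : Bool := decide (q = smul 2 (half q)) && mem (half q)

theorem half_smul_two (r : D) : half (smul 2 r) = r := by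
  obtain ⟨a0, b0, a1, b1, a2, b2, a3, b3⟩ := r
  simp [half, smul]

theorem isTwice_iff {q : D} : isTwice q = true ↔ ∃ r, mem r = true ∧ q = smul 2 r := by
  constructor
  · intro h
    simp only [isTwice, Bool.and_eq_true, decide_eq_true_eq] at h
    exact ⟨_, h.2, h.1⟩
  · rintro ⟨r, hr, rfl⟩
    simp [isTwice, half_smul_two, hr]

theorem phi_smul_two (r : D) : phi (smul 2 r) = 2 * phi r := by
  rw [phi_smul, two_zsmul, two_mul]

/-- Membership in the left ideal of `h`. -/
def inH (p : D) : Bool := isTwice (mul p (conj hD))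

/-- Membership in the left ideal of the conjugate of `h`. -/
def inHbar (p : D) : Bool := isTwice (mul p hD)

theorem two_cancel {a b : ℍ[ℝ]} (h : 2 * a = 2 * b) : a = b := mul_left_cancel₀ two_ne h

theorem two_comm (a : ℍ[ℝ]) : a * 2 = 2 * a := by rw [two_mul, mul_two]

theorem inH_iff {p : D} (hp : mem p = true) : inH p = true ↔ phi p ∈ leftIdeal icoH := by
  rw [inH, isTwice_iff]
  have hm : phi (mul p (conj hD)) = phi p * star icoH := by
    rw [phi_mul hp (mem_conj mem_hD), phi_conj, phi_hD]
  constructor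
  · rintro ⟨r, hr, e⟩
    refine ⟨phi r, phi_mem hr, two_cancel ?_⟩
    rw [e, phi_smul_two] at hm
    rw [← mul_assoc, hm, mul_assoc, star_h, two_comm]
  · rintro ⟨a, ha, e⟩
    obtain ⟨r, hr, rfl⟩ := mem_icosians_iff.1 ha
    refine ⟨r, hr, phi_injective ?_⟩
    rw [hm, e, mul_assoc, h_star, phi_smul_two, two_comm]

theorem inHbar_iff {p : D} (hp : mem p = true) : inHbar p = true ↔ phi p ∈ leftIdeal (star icoH) := by
  rw [inHbar, isTwice_iff]
  have hm : phi (mul p hD) = phi p * icoH := by rw [phi_mul hp mem_hD, phi_hD]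
  constructor
  · rintro ⟨r, hr, e⟩
    refine ⟨phi r, phi_mem hr, two_cancel ?_⟩
    rw [e, phi_smul_two] at hm
    rw [← mul_assoc, hm, mul_assoc, h_star, two_comm]
  · rintro ⟨a, ha, e⟩
    obtain ⟨r, hr, rfl⟩ := mem_icosians_iff.1 ha
    refine ⟨r, hr, phi_injective ?_⟩
    rw [hm, e, mul_assoc, star_h, phi_smul_two, two_comm]

/-- Membership in the lattice. -/
def inL (v : V) : Bool :=
  memV v && inH (sub v.x v.y) && inH (sub v.y v.z) && inHbar (add (add v.x v.y) v.z)

theorem inL_iff {v : V} : inL v = true ↔ memV v = true ∧ psi v ∈ icoLeech := by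
  simp only [inL, Bool.and_eq_true]
  constructor
  · rintro ⟨⟨⟨hv, h1⟩, h2⟩, h3⟩
    obtain ⟨hx, hy, hz⟩ := memV_iff.1 hv
    refine ⟨hv, fun t => ?_, ?_, ?_, ?_⟩
    · fin_cases t
      exacts [phi_mem hx, phi_mem hy, phi_mem hz]
    · have := (inH_iff (mem_sub hx hy)).1 h1; rwa [phi_sub] at this
    · have := (inH_iff (mem_sub hy hz)).1 h2; rwa [phi_sub] at this
    · have := (inHbar_iff (mem_add (mem_add hx hy) hz)).1 h3; rwa [phi_add, phi_add] at this
  · rintro ⟨hv, -, h1, h2, h3⟩
    obtain ⟨hx, hy, hz⟩ := memV_iff.1 hv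
    refine ⟨⟨⟨hv, (inH_iff (mem_sub hx hy)).2 ?_⟩, (inH_iff (mem_sub hy hz)).2 ?_⟩,
      (inHbar_iff (mem_add (mem_add hx hy) hz)).2 ?_⟩
    · rw [phi_sub]; exact h1
    · rw [phi_sub]; exact h2
    · rw [phi_add, phi_add]; exact h3

theorem exists_V {w : Fin 3 → ℍ[ℝ]} (hw : w ∈ icoLeech) : ∃ v, inL v = true ∧ psi v = w := by
  obtain ⟨a, ha, ea⟩ := mem_icosians_iff.1 (leech_coord hw 0)
  obtain ⟨b, hb, eb⟩ := mem_icosians_iff.1 (leech_coord hw 1)
  obtain ⟨c, hc, ec⟩ := mem_icosians_iff.1 (leech_coord hw 2)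
  have e : psi ⟨a, b, c⟩ = w := by
    ext1 t
    fin_cases t <;> simp [psi, ea, eb, ec]
  exact ⟨⟨a, b, c⟩, inL_iff.2 ⟨memV_iff.2 ⟨ha, hb, hc⟩, e ▸ hw⟩, e⟩

/-- Scalar multiple. -/
def smulV (u : D) (v : V) : V := ⟨mul u v.x, mul u v.y, mul u v.z⟩

theorem psi_smulV {u : D} (hu : mem u = true) {v : V} (hv : memV v = true) :
    psi (smulV u v) = fun t => phi u * psi v t := by
  obtain ⟨hx, hy, hz⟩ := memV_iff.1 hv
  ext1 t
  fin_cases t <;> simp [psi, smulV, phi_mul hu, hx, hy, hz]

theorem memV_smulV {u : D} (hu : mem u = true) {v : V} (hv : memV v = true) : memV (smulV u v) = true := by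
  obtain ⟨hx, hy, hz⟩ := memV_iff.1 hv
  exact memV_iff.2 ⟨mem_mul hu hx, mem_mul hu hy, mem_mul hu hz⟩

/-- The scalar product. -/
def ipV (v w : V) : D := add (add (mul v.x (conj w.x)) (mul v.y (conj w.y))) (mul v.z (conj w.z))

theorem phi_ipV {v w : V} (hv : memV v = true) (hw : memV w = true) :
    phi (ipV v w) = qip (psi v) (psi w) := by
  obtain ⟨hx, hy, hz⟩ := memV_iff.1 hv
  obtain ⟨kx, ky, kz⟩ := memV_iff.1 hw
  simp [ipV, qip, psi, Fin.sum_univ_three, phi_add, phi_mul hx (mem_conj kx), phi_mul hy (mem_conj ky),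
    phi_mul hz (mem_conj kz), phi_conj]

theorem mem_ipV {v w : V} (hv : memV v = true) (hw : memV w = true) : mem (ipV v w) = true := by
  obtain ⟨hx, hy, hz⟩ := memV_iff.1 hv
  obtain ⟨kx, ky, kz⟩ := memV_iff.1 hw
  exact mem_add (mem_add (mem_mul hx (mem_conj kx)) (mem_mul hy (mem_conj ky))) (mem_mul hz (mem_conj kz))

theorem half_ipV {v w : V} (hv : inL v = true) (hw : inL w = true) :
    phi (half (ipV v w)) = (1 / 2 : ℝ) • qip (psi v) (psi w) ∧ mem (half (ipV v w)) = true := by
  obtain ⟨hv, hv'⟩ := inL_iff.1 hv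
  obtain ⟨hw, hw'⟩ := inL_iff.1 hw
  obtain ⟨q, hq, e⟩ := qip_two hv' hw'
  obtain ⟨r, hr, rfl⟩ := mem_icosians_iff.1 hq
  have h2 : ipV v w = smul 2 r := phi_injective (by rw [phi_ipV hv hw, e, phi_smul_two])
  rw [h2, half_smul_two, e, half_smul_eq]
  exact ⟨rfl, hr⟩

/-- Difference of vectors. -/
def subV (v w : V) : V := ⟨sub v.x w.x, sub v.y w.y, sub v.z w.z⟩

/-- The reflection in `r`. -/
def reflV (r v : V) : V := subV v (smulV (half (ipV v r)) r)

theorem psi_reflV {r v : V} (hr : inL r = true) (hv : inL v = true) :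
    psi (reflV r v) = qrefl (psi r) (psi v) := by
  obtain ⟨e, hm⟩ := half_ipV hv hr
  rw [qrefl_eq, ← e, ← psi_smulV hm (inL_iff.1 hr).1]
  ext1 t
  fin_cases t <;> simp [psi, reflV, subV, phi_sub]

/-- A signed nibble. -/
def nib (n k : ℕ) : ℤ := Int.subNatNat ((n >>> (4 * k)) % 16) 8

/-- Decode doubled coordinates. -/
def decD (n : ℕ) : D := ⟨nib n 0, nib n 1, nib n 2, nib n 3, nib n 4, nib n 5, nib n 6, nib n 7⟩

/-- Decode a vector. -/
def decV (n : ℕ) : V := ⟨decD n, decD (n >>> 32), decD (n >>> 64)⟩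

/-- The units. -/
noncomputable def unit (k : ℕ) : D := decD (Coset.field Data.unitTr 128 32 k)

/-- A vector on each line. -/
noncomputable def rep (i : ℕ) : V := decV (Coset.field Data.repTr 32 96 i)

/-- The table of the five reflections on the lines. -/
noncomputable def table : Coset.Table := ⟨315, 5, Data.permTr⟩

/-- The line of the `x`-th generating reflection. -/
def genLine (x : ℕ) : ℕ := Data.genIdx.getD x 0

/-- Evaluate an integer before use. -/
noncomputable def forceI {α : Type} (z : ℤ) (k : ℤ → α) : α :=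
  Int.rec (fun n => Coset.force n fun m => k (Int.ofNat m))
    (fun n => Coset.force n fun m => k (Int.negSucc m)) z

theorem forceI_eq {α : Type} (z : ℤ) (k : ℤ → α) : forceI z k = k z := by
  cases z <;> simp [forceI, Coset.force_eq]

/-- Evaluate doubled coordinates before use. -/
noncomputable def forceD {α : Type} (p : D) (k : D → α) : α :=
  D.rec (fun a0 b0 a1 b1 a2 b2 a3 b3 =>
    forceI a0 fun a0 => forceI b0 fun b0 => forceI a1 fun a1 => forceI b1 fun b1 =>
    forceI a2 fun a2 => forceI b2 fun b2 => forceI a3 fun a3 => forceI b3 fun b3 =>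
      k ⟨a0, b0, a1, b1, a2, b2, a3, b3⟩) p

theorem forceD_eq {α : Type} (p : D) (k : D → α) : forceD p k = k p := by
  cases p; simp [forceD, forceI_eq]

/-- Evaluate a vector before use. -/
noncomputable def forceV {α : Type} (v : V) (k : V → α) : α :=
  V.rec (fun x y z => forceD x fun x => forceD y fun y => forceD z fun z => k ⟨x, y, z⟩) v

theorem forceV_eq {α : Type} (v : V) (k : V → α) : forceV v k = k v := by
  cases v; simp [forceV, forceD_eq]

/-- Twice an icosian, evaluated strictly. -/
noncomputable def isTwiceF (q : D) : Bool := forceD q isTwice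

/-- Lattice membership, evaluated strictly. -/
noncomputable def inLF (v : V) : Bool :=
  forceV v fun v => memV v &&
    forceD (sub v.x v.y) (fun p => isTwiceF (mul p (conj hD))) &&
    forceD (sub v.y v.z) (fun p => isTwiceF (mul p (conj hD))) &&
    forceD (add (add v.x v.y) v.z) (fun p => isTwiceF (mul p hD))

theorem inLF_eq (v : V) : inLF v = inL v := by
  simp [inLF, inL, inH, inHbar, isTwiceF, forceD_eq, forceV_eq]

/-- The reflection, evaluated strictly. -/
noncomputable def reflVF (r v : V) : V :=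
  forceV r fun r => forceV v fun v => forceD (half (ipV v r)) fun a => subV v (smulV a r)

theorem reflVF_eq (r v : V) : reflVF r v = reflV r v := by
  simp [reflVF, reflV, forceD_eq, forceV_eq]

/-- One entry of the table is right. -/
noncomputable def chkEntry (i x : ℕ) : Bool :=
  Coset.force (table.app i x) fun j => Coset.force (Coset.field Data.unitIdxTr 128 20 (i * 5 + x)) fun k =>
    Nat.blt j 315 && Nat.blt k 120 &&
      forceV (reflVF (rep (genLine x)) (rep i)) fun a => forceV (rep j) fun w => forceD (unit k) fun u =>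
        forceV (smulV u w) fun b => decide (a = b)

/-- Six bits of an integer. -/
def six (z : ℤ) : ℕ := (z + 32).toNat % 64

/-- Forty-eight bits of doubled coordinates. -/
def packD (p : D) : ℕ :=
  six p.a0 + 64 * (six p.b0 + 64 * (six p.a1 + 64 * (six p.b1 + 64 * (six p.a2 + 64 * (six p.b2 +
    64 * (six p.a3 + 64 * six p.b3))))))

/-- A number invariant under unit scalars. -/
def key (v : V) : ℕ :=
  packD (mul (conj v.x) v.y) + 2 ^ 48 * (packD (mul (conj v.x) v.z) + 2 ^ 48 * (packD (mul (conj v.y) v.z) +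
    2 ^ 48 * (packD (mul v.x (conj v.x)) + 2 ^ 48 * (packD (mul v.y (conj v.y)) +
    2 ^ 48 * packD (mul v.z (conj v.z))))))

/-- Scalars of norm one do not change the invariant. -/
theorem key_eq {v w : V} (hv : memV v = true) (hw : memV w = true) (c : ℍ[ℝ]) (hc : star c * c = 1)
    (hc' : c * star c = 1) (h : psi v = fun t => c * psi w t) : key v = key w := by
  obtain ⟨hx, hy, hz⟩ := memV_iff.1 hv
  obtain ⟨kx, ky, kz⟩ := memV_iff.1 hw
  have e0 : phi v.x = c * phi w.x := congrFun h 0
  have e1 : phi v.y = c * phi w.y := congrFun h 1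
  have e2 : phi v.z = c * phi w.z := congrFun h 2
  have pr : ∀ a b a' b' : D, mem a = true → mem b = true → mem a' = true → mem b' = true →
      phi a = c * phi a' → phi b = c * phi b' → mul (conj a) b = mul (conj a') b' := by
    intro a b a' b' ha hb ha' hb' ea eb
    refine phi_injective ?_
    rw [phi_mul (mem_conj ha) hb, phi_mul (mem_conj ha') hb', phi_conj, phi_conj, ea, eb, star_mul,
      mul_assoc, ← mul_assoc (star c), hc, one_mul]
  have no : ∀ a a' : D, mem a = true → mem a' = true → phi a = c * phi a' →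
      mul a (conj a) = mul a' (conj a') := by
    intro a a' ha ha' ea
    refine phi_injective ?_
    rw [phi_mul ha (mem_conj ha), phi_mul ha' (mem_conj ha'), phi_conj, phi_conj, ea, star_mul,
      mul_assoc, ← mul_assoc (phi a'), Quaternion.self_mul_star, ← mul_assoc, ← real_central, mul_assoc,
      hc', mul_one]
  simp only [key]
  rw [pr _ _ _ _ hx hy kx ky e0 e1, pr _ _ _ _ hx hz kx kz e0 e2, pr _ _ _ _ hy hz ky kz e1 e2,
    no _ _ hx kx e0, no _ _ hy ky e1, no _ _ hz kz e2]

/-- No number occurs twice. -/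
noncomputable def nodupB (L : List ℕ) : Bool :=
  List.rec true (fun a M ih => (List.rec true (fun b _ ihM => !Nat.beq a b && ihM) M) && ih) L

theorem nodup_of_nodupB : ∀ L : List ℕ, nodupB L = true → L.Nodup := by
  intro L
  induction L with
  | nil => intro _; exact List.nodup_nil
  | cons a M ih =>
    intro h
    have h' : ((List.rec true (fun b _ ihM => !Nat.beq a b && ihM) M : Bool) && nodupB M) = true := h
    rw [Bool.and_eq_true] at h'
    refine List.nodup_cons.2 ⟨?_, ih h'.2⟩
    have hh := h'.1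
    clear h h' ih
    induction M with
    | nil => simp
    | cons b M ihM =>
      simp only [Bool.and_eq_true, Bool.not_eq_true'] at hh
      rw [List.mem_cons]
      rintro (rfl | hm)
      · rw [Nat.beq_refl] at hh; exact absurd hh.1 (by decide)
      · exact ihM hh.2 hm

end CfsgLib.InvChar.Ico
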