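import Cfsg.Agent.Lib.InvChar.J3FrameTable
import Cfsg.Agent.Lib.InvChar.SporData.J3M.Data

/-!
# The relators of the normaliser of the elementary abelian group of order 16

`Base z Q s` says that the ten involutions `s 0, …, s 9` satisfy the first 64 relators of the
presentation `J3M`: those of `C(z)` and those saying how `n = s 3 * s 6 * s 7 * s 8` and `w = s 9` act.
-/

set_option autoImplicit false

namespace CfsgLib.InvChar.J3Rec

open Subgroup Coset CfsgLib.InvChar.HJType

universe u

/-- The relators of `C(z)` and of the normaliser of `E`. -/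
def baseRels : List (List ℕ) := J3M.rels.take 64

/-- Ten involutions satisfying the base relators. -/
structure Base {G : Type u} [Group G] (z : G) (Q : Subgroup G) (s : ℕ → G) : Prop where
  frame : Frame z Q s
  base : ∀ r ∈ baseRels, wprod s r = 1

/-- The word of `k`, an element of order three of `C(z)`. -/
def kW : List ℕ := [7, 6]

/-- The word of `n`, an element of order three with `n z n⁻¹ = s 4`. -/
def nW : List ℕ := [3, 6, 7, 8]

/-- The word of `n⁻¹`. -/
def niW : List ℕ := [8, 7, 6, 3]

/-- The word of `n' = s 6 * n * s 6`. -/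
def npW : List ℕ := [6, 3, 6, 7, 8, 6]

/-- The word of `n'⁻¹`. -/
def npiW : List ℕ := [6, 8, 7, 6, 3, 6]

/-- The word of `n * n'`. -/
def aaW : List ℕ := nW ++ npW

/-- The word of `n * n'⁻¹`. -/
def bbW : List ℕ := nW ++ npiW

/-- The word of `l`. -/
def lW : List ℕ := [4] ++ npW ++ nW ++ [4] ++ nW ++ npW

/-- The word of `l⁻¹`. -/
def liW : List ℕ := lW.reverse

end CfsgLib.InvChar.J3Rec
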