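import Cfsg.Agent.Lib.InvChar.J3Base
import Cfsg.Agent.Lib.InvChar.CosetGroup
import Cfsg.Agent.Lib.InvChar.SporData.J3X4.Main
import Cfsg.Agent.Lib.InvChar.SporData.J3X5.Main
import Cfsg.Agent.Lib.InvChar.SporData.J3X6.Main
import Cfsg.Agent.Lib.InvChar.SporData.J3X7.Main
import Cfsg.Agent.Lib.InvChar.SporData.J3X8.Main
import Cfsg.Agent.Lib.InvChar.SporData.J3X9.Main
import Cfsg.Agent.Lib.InvChar.SporData.J3X10.Main
import Cfsg.Agent.Lib.InvChar.SporData.J3X11.Main
import Cfsg.Agent.Lib.InvChar.SporData.J3Y5.Main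
import Cfsg.Agent.Lib.InvChar.SporData.J3Y7.Main
import Cfsg.Agent.Lib.InvChar.SporData.J3Y8.Main
import Cfsg.Agent.Lib.InvChar.SporData.J3Y9.Main
import Cfsg.Agent.Lib.InvChar.SporData.J3Y11.Main
import Cfsg.Agent.Lib.InvChar.SporData.J3Y12.Main
import Cfsg.Agent.Lib.InvChar.SporData.J3Y14.Main
import Cfsg.Agent.Lib.InvChar.SporData.J3XT.Data

/-!
# Consequences of the base relators in the letters `3, 4, 6, 7, 8`

`smallRels` are the relators shared by the certificates about the centraliser of `k`; `Base.xt` gives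
the relators of the table `J3XT` of a triple cover of `A₆` once `(n n')⁵ = 1`.
-/

set_option autoImplicit false

namespace CfsgLib.InvChar.J3Rec

open Subgroup Coset

universe u

/-- The five letters generating what is used of the centraliser of `k`. -/
def K5 : List ℕ := [3, 4, 6, 7, 8]

/-- The four letters of the table `J3XT`, as words. -/
def xtWords : List (List ℕ) := [[3], [4], [8], [6, 8, 6]]

/-- Shared relators in the five letters. -/
def smallRels : List (List ℕ) := [[0, 0], [1, 1], [2, 2], [3, 3], [4, 4], [1, 0, 1, 0, 1, 0, 1, 0],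
  [2, 0, 2, 1], [3, 2, 3, 2, 3, 2], [3, 2, 0, 2, 3, 0], [3, 2, 1, 2, 3, 1],
  [0, 2, 3, 4, 0, 2, 3, 4, 0, 2, 3, 4], [0, 2, 3, 4, 1, 0, 1, 0, 4, 3, 2, 0, 1],
  [0, 2, 3, 4, 1, 4, 3, 2, 0, 1, 0, 1, 0, 1], [2, 3, 4, 2, 3, 4, 2, 3],
  [3, 2, 0, 2, 3, 4, 2, 3, 4, 3, 2, 0]]

variable {G : Type u} [Group G] {z : G} {Q : Subgroup G} {s : ℕ → G}

/-- A word in the five letters evaluated in the ambient letters. -/
theorem wprod_K5 (r : List ℕ) (h : ∀ x ∈ r, x < 5) :
    wprod (subGen s K5) r = wprod s (r.map fun x => K5.getD x 0) :=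
  wprod_subGen s K5 r h

theorem Base.small (B : Base z Q s) : ∀ r ∈ smallRels, wprod (subGen s K5) r = 1 := by
  have hs := B.frame.hs
  have base := fun r (hr : r ∈ baseRels) => B.base r hr
  have cert : ∀ (r : List ℕ), wprod s r ∈ (⊥ : Subgroup G) → wprod s r = 1 := fun _ h => mem_bot.1 h
  intro r hr
  simp only [smallRels, List.mem_cons, List.not_mem_nil, or_false] at hr
  rcases hr with rfl | rfl | rfl | rfl | rfl | rfl | rfl | rfl | rfl | rfl | rfl | rfl | rfl | rfl | rfl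
  all_goals rw [wprod_K5 _ (by decide)]
  all_goals first
    | exact base _ (by decide)
    | exact cert _ (J3Y5.mem s hs base ⊥ (by simp [J3Y5.subs]))
    | exact cert _ (J3Y7.mem s hs base ⊥ (by simp [J3Y7.subs]))
    | exact cert _ (J3Y8.mem s hs base ⊥ (by simp [J3Y8.subs]))
    | exact cert _ (J3Y9.mem s hs base ⊥ (by simp [J3Y9.subs]))
    | exact cert _ (J3Y11.mem s hs base ⊥ (by simp [J3Y11.subs]))
    | exact cert _ (J3Y12.mem s hs base ⊥ (by simp [J3Y12.subs]))
    | exact cert _ (J3Y14.mem s hs base ⊥ (by simp [J3Y14.subs]))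

/-- The relators of certificates extending `smallRels` by further ones. -/
theorem Base.small_append (B : Base z Q s) {L : List (List ℕ)}
    (hL : ∀ r ∈ L, wprod (subGen s K5) r = 1) :
    ∀ r ∈ smallRels ++ L, wprod (subGen s K5) r = 1 :=
  List.forall_mem_append.2 ⟨B.small, hL⟩

/-- The four letters of `J3XT`. -/
noncomputable def xtGen (s : ℕ → G) (x : ℕ) : G := wprod s (xtWords.getD x [])

theorem xtGen_mul_self (hs : ∀ x, s x * s x = 1) (x : ℕ) : xtGen s x * xtGen s x = 1 := by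
  rcases x with _ | _ | _ | _ | x <;> simp [xtGen, xtWords, wprod, hs, mul_assoc]
  rw [← mul_assoc (s 6) (s 6), hs, one_mul, ← mul_assoc (s 8), hs, one_mul, hs]

theorem Base.xt_append (B : Base z Q s) (hA : wprod s (aaW ++ aaW ++ aaW ++ aaW ++ aaW) = 1)
    {r : List ℕ} (hr : r ∈ [[0, 1, 0, 1, 0, 1, 0, 1], [0, 2, 0, 2, 0, 2], [1, 3, 1, 3, 1, 3],
      [0, 2, 1, 0, 1, 0, 2, 0, 1], [0, 2, 1, 2, 0, 1, 0, 1, 0, 1], [1, 3, 1, 0, 1, 0, 3, 1, 0],
      [1, 3, 0, 3, 0, 1], [0, 2, 1, 3, 0, 2, 1, 3, 0, 2, 1, 3, 0, 2, 1, 3, 0, 2, 1, 3]]) :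
    wprod (xtGen s) r = 1 := by
  have hs := subGen_mul_self s B.frame.hs K5
  have hR := B.small_append (L := [[0, 2, 3, 4, 2, 0, 2, 3, 4, 2, 0, 2, 3, 4, 2, 0, 2, 3, 4, 2, 0, 2,
    3, 4, 2, 0, 2, 3, 4, 2, 0, 2, 3, 4, 2, 0, 2, 3, 4, 2, 0, 2, 3, 4, 2, 0, 2, 3, 4, 2]]) (by
      intro r hr; rw [List.mem_singleton] at hr; subst hr; rw [wprod_K5 _ (by decide)]; exact hA)
  have cert : ∀ (r : List ℕ), (∀ x ∈ r, x < 5) → wprod (subGen s K5) r ∈ (⊥ : Subgroup G) →
      wprod s (red (r.map fun x => K5.getD x 0)) = 1 := fun r h h' => by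
    rw [wprod_red s B.frame.hs, ← wprod_K5 r h]; exact mem_bot.1 h'
  have conv : ∀ r, (∀ x ∈ r, x < 4) →
      wprod (xtGen s) r = wprod s (red (r.flatMap fun x => xtWords.getD x [])) := by
    intro r _
    rw [wprod_red s B.frame.hs]
    have : ∀ r : List ℕ, wprod (xtGen s) r = wprod s (r.flatMap fun x => xtWords.getD x []) := by
      intro r
      induction r with
      | nil => rfl
      | cons x r ih => rw [wprod_cons, List.flatMap_cons, wprod_append, ih]; rfl
    exact this r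
  rw [conv r (by revert r; decide)]
  simp only [List.mem_cons, List.not_mem_nil, or_false] at hr
  rcases hr with rfl | rfl | rfl | rfl | rfl | rfl | rfl | rfl
  all_goals first
    | exact cert _ (by decide) (J3X4.mem _ hs hR ⊥ (by simp [J3X4.subs]))
    | exact cert _ (by decide) (J3X5.mem _ hs hR ⊥ (by simp [J3X5.subs]))
    | exact cert _ (by decide) (J3X6.mem _ hs hR ⊥ (by simp [J3X6.subs]))
    | exact cert _ (by decide) (J3X7.mem _ hs hR ⊥ (by simp [J3X7.subs]))
    | exact cert _ (by decide) (J3X8.mem _ hs hR ⊥ (by simp [J3X8.subs]))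
    | exact cert _ (by decide) (J3X9.mem _ hs hR ⊥ (by simp [J3X9.subs]))
    | exact cert _ (by decide) (J3X10.mem _ hs hR ⊥ (by simp [J3X10.subs]))
    | exact cert _ (by decide) (J3X11.mem _ hs hR ⊥ (by simp [J3X11.subs]))

/-- The relators of the table `J3XT` hold in its four letters. -/
theorem Base.xt (B : Base z Q s) (hA : wprod s (aaW ++ aaW ++ aaW ++ aaW ++ aaW) = 1) :
    ∀ r ∈ J3XT.rels, wprod (xtGen s) r = 1 := by
  intro r hr
  simp only [J3XT.rels, List.mem_cons, List.not_mem_nil, or_false] at hr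
  rcases hr with rfl | rfl | rfl | rfl | rfl | rfl | rfl | rfl | rfl | rfl | rfl | rfl
  all_goals first
    | (simp only [wprod, List.map_cons, List.map_nil, List.prod_cons, List.prod_nil, mul_one]
       exact xtGen_mul_self B.frame.hs _)
    | exact B.xt_append hA (by decide)

end CfsgLib.InvChar.J3Rec
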