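import Cfsg.Agent.Lib.InvChar.SporData.J3O10.Main
import Cfsg.Agent.Lib.InvChar.SporData.J3O11.Main
import Cfsg.Agent.Lib.InvChar.SporData.J3O12.Main
import Cfsg.Agent.Lib.InvChar.SporData.J3O20.Main
import Cfsg.Agent.Lib.InvChar.SporData.J3O21.Main
import Cfsg.Agent.Lib.InvChar.SporData.J3O22.Main
import Cfsg.Agent.Lib.InvChar.SporData.J3O31.Main
import Cfsg.Agent.Lib.InvChar.SporData.J3O32.Main
import Cfsg.Agent.Lib.InvChar.SporData.J3O41.Main
import Cfsg.Agent.Lib.InvChar.SporData.J3O42.Main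
import Cfsg.Agent.Lib.InvChar.SporData.J3P350.Main
import Cfsg.Agent.Lib.InvChar.SporData.J3P351.Main
import Cfsg.Agent.Lib.InvChar.SporData.J3P352.Main
import Cfsg.Agent.Lib.InvChar.SporData.J3P3120.Main
import Cfsg.Agent.Lib.InvChar.SporData.J3P3121.Main
import Cfsg.Agent.Lib.InvChar.SporData.J3P3122.Main
import Cfsg.Agent.Lib.InvChar.SporData.J3P450.Main
import Cfsg.Agent.Lib.InvChar.SporData.J3P451.Main
import Cfsg.Agent.Lib.InvChar.SporData.J3P452.Main
import Cfsg.Agent.Lib.InvChar.SporData.J3P4120.Main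
import Cfsg.Agent.Lib.InvChar.SporData.J3P4121.Main
import Cfsg.Agent.Lib.InvChar.SporData.J3P4122.Main
import Cfsg.Agent.Lib.InvChar.SporData.J3B30.Main
import Cfsg.Agent.Lib.InvChar.SporData.J3B31.Main
import Cfsg.Agent.Lib.InvChar.SporData.J3B32.Main
import Cfsg.Agent.Lib.InvChar.SporData.J3B50.Main
import Cfsg.Agent.Lib.InvChar.SporData.J3B51.Main
import Cfsg.Agent.Lib.InvChar.SporData.J3B52.Main
import Cfsg.Agent.Lib.InvChar.SporData.J3L0.Main
import Cfsg.Agent.Lib.InvChar.SporData.J3L1.Main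
import Cfsg.Agent.Lib.InvChar.SporData.J3L2.Main
import Cfsg.Agent.Lib.InvChar.SporData.J3A1.Main
import Cfsg.Agent.Lib.InvChar.SporData.J3A2.Main
import Cfsg.Agent.Lib.InvChar.J3BaseSmall
import Cfsg.Agent.S3035

/-!
# The centraliser of an element of order three in a group of J₃ type

`C(k)/⟨k⟩` is the alternating group of degree six, `k` is conjugate to `n` or its inverse, the order
of `n n'` is five and the commutator of `l` and `n` lies in `⟨k⟩`.
-/

set_option autoImplicit false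
set_option maxRecDepth 100000

namespace CfsgLib.InvChar.J3Rec

open Subgroup Coset CfsgLib.InvChar.HJType

universe u

/-- A word repeated. -/
def rep (W : List ℕ) (e : ℕ) : List ℕ := (List.replicate e W).flatten

theorem wprod_rep {G : Type*} [Group G] (s : ℕ → G) (W : List ℕ) :
    ∀ e, wprod s (rep W e) = wprod s W ^ e := by
  intro e
  induction e with
  | zero => rw [pow_zero]; rfl
  | succ e ih =>
    rw [rep, List.replicate_succ, List.flatten_cons, wprod_append, pow_succ']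
    exact congrArg (wprod s W * ·) ih

/-- The word of an element of the dihedral group of order eight. -/
def d8W : DihedralGroup 4 → List ℕ
  | .r i => rep [4, 3] i.val
  | .sr i => [3] ++ rep [4, 3] i.val

theorem d8W_letters : ∀ x : DihedralGroup 4, ∀ y ∈ d8W x, y = 3 ∨ y = 4 := by decide +kernel

theorem d8W_mul : ∀ x y : DihedralGroup 4, hv (d8W (x * y)) = hv (d8W x ++ d8W y) := by decide +kernel

theorem d8W_inj : ∀ x : DihedralGroup 4,
    ((List.range 3).all fun c => !decide (hv (d8W x) = hv (rep kW c)) || decide (x = 1)) = true := by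
  decide +kernel

/-- The eight elements, for searching. -/
def d8L : List (DihedralGroup 4) := [.r 0, .r 1, .r 2, .r 3, .sr 0, .sr 1, .sr 2, .sr 3]

theorem cent_kW : ((List.range 1920).all fun i =>
    !decide (hv (J3H.wd i ++ kW) = hv (kW ++ J3H.wd i)) ||
      d8L.any fun x => (List.range 3).any fun c => decide (i = hv (d8W x ++ rep kW c))) = true := by
  decide +kernel

theorem hv_facts : hv (rep kW 3) = hv [] ∧ hv kW ≠ hv [] ∧
    hv [4, 3, 4, 3] = hv [4, 0, 4, 0] ∧ hv [0, 1, 0, 1] = hv [4, 0, 4, 0] ∧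
    hv [3, 7, 6] = hv [7, 6, 3] ∧ hv [4, 7, 6] = hv [7, 6, 4] ∧
    hv [6, 4, 6] = hv [3] ∧ hv [6, 4, 0, 4, 0, 6] = hv [4, 0, 4, 0] ∧
    hv [4, 4, 0, 4, 0] = hv [4, 0, 4, 0, 4] ∧ hv [6, 7, 6, 6] = hv [6, 7] ∧
    ((List.range 3).all fun c => !decide (hv [4, 0, 4, 0, 4] = hv (rep kW c))) = true ∧
    hv [3, 2, 5, 3, 2, 5] = hv [] ∧ hv [3, 2, 5] ≠ hv [] ∧ hv [3, 2, 5, 7, 6, 4, 6, 7, 5, 2, 3] ≠ hv [5] ∧
    hv [4] ≠ hv [4, 0, 4, 0] := by
  decide +kernel

theorem perm_four_even : ∀ τ : Equiv.Perm (Fin 4), Equiv.Perm.sign τ = 1 → τ * τ = 1 → τ ≠ 1 →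
    ∃ g : Equiv.Perm (Fin 4), Equiv.Perm.sign g = -1 ∧ g * τ = τ * g := by
  decide +kernel

theorem perm_five_even : ∀ τ : Equiv.Perm (Fin 5), Equiv.Perm.sign τ = 1 → τ * τ = 1 → τ ≠ 1 →
    ∃ g : Equiv.Perm (Fin 5), Equiv.Perm.sign g = -1 ∧ g * τ = τ * g := by
  decide +kernel

theorem a6_orders : ∀ x : ↥(alternatingGroup (Fin 6)),
    (x = 1 ∨ x ^ 2 = 1 ∨ x ^ 3 = 1 ∨ x ^ 4 = 1 ∨ x ^ 5 = 1) ∧ (x ^ 12 = 1 ∨ x ^ 5 = 1) ∧
      (x ^ 4 = 1 ∨ x ^ 3 = 1 ∨ x ^ 5 = 1) := by
  decide +kernel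

variable {G : Type u} [Group G] {z : G} {Q : Subgroup G} {s : ℕ → G}

/-- A power relation as a relator in the five letters. -/
theorem rel_K5 (W : List ℕ) (hW : ∀ x ∈ W, x < 5) (e c : ℕ)
    (h : wprod s (W.map fun x => K5.getD x 0) ^ e * wprod s kW ^ c = 1) :
    wprod (subGen s K5) (rep W e ++ rep [3, 2] c) = 1 := by
  rw [wprod_append, wprod_rep, wprod_rep, wprod_K5 W hW, wprod_K5 [3, 2] (by decide)]
  exact h

/-- The word of `n n'` in the five letters. -/
def aW5 : List ℕ := [0, 2, 3, 4, 2, 0, 2, 3, 4, 2]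

/-- The word of `n n'⁻¹` in the five letters. -/
def bW5 : List ℕ := [0, 2, 3, 4, 2, 4, 3, 2, 0, 2]

theorem Base.kfacts [Finite G] [IsSimpleGroup G] (S : Pre z Q)
    (hone : ∀ x y : G, orderOf x = 2 → orderOf y = 2 → IsConj x y) (B : Base z Q s) :
    (∃ π : ↥(centralizer ({wprod s kW} : Set G)) →* ↥(alternatingGroup (Fin 6)),
        Function.Surjective π ∧
          π.ker = (zpowers (wprod s kW)).subgroupOf (centralizer ({wprod s kW} : Set G))) ∧
      (∃ g : G, g * wprod s kW * g⁻¹ = wprod s nW ∨ g * wprod s kW * g⁻¹ = (wprod s nW)⁻¹) ∧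
      wprod s (aaW ++ aaW ++ aaW ++ aaW ++ aaW) = 1 ∧
      (wprod s (lW ++ nW ++ liW ++ niW) = 1 ∨ wprod s (lW ++ nW ++ liW ++ niW ++ kW) = 1 ∨
        wprod s (lW ++ nW ++ liW ++ niW ++ kW ++ kW) = 1) := by
  classical
  have hs := B.frame.hs
  have Φ := B.frame
  obtain ⟨f1, f2, f3, f4, f5, f6, f7, f8, f9, f10, f11, f12, f13, f14, f15⟩ := hv_facts
  have ev : ∀ {L M : List ℕ}, (∀ x ∈ L, x < 8) → (∀ x ∈ M, x < 8) → hv L = hv M →
      wprod s L = wprod s M := fun hL hM h => Φ.eq_of_hv hL hM h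
  have nev : ∀ {L M : List ℕ}, (∀ x ∈ L, x < 8) → (∀ x ∈ M, x < 8) → hv L ≠ hv M →
      wprod s L ≠ wprod s M := fun hL hM h e => h (Φ.hv_eq_of_eq S hL hM e)
  have hw1 : ∀ x, wprod s [x] = s x := fun x => by rw [wprod_cons, wprod_nil, mul_one]
  obtain ⟨k, hk⟩ : ∃ k, k = wprod s kW := ⟨_, rfl⟩
  obtain ⟨n, hn⟩ : ∃ n, n = wprod s nW := ⟨_, rfl⟩
  rw [← hk, ← hn]
  have hk3 : k ^ 3 = 1 := by rw [hk, ← wprod_rep]; exact ev (by decide) (by decide) f1
  have hk1 : k ≠ 1 := by rw [hk]; exact nev (M := []) (by decide) (by decide) f2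
  have hk0 : k = s 7 * s 6 := by rw [hk, kW, wprod_cons, hw1]
  have hzw : wprod s [4, 3, 4, 3] = z := by rw [ev (by decide) (by decide) f3, Φ.hz]
  have hzw' : wprod s [0, 1, 0, 1] = z := by rw [ev (by decide) (by decide) f4, Φ.hz]
  have hn0 : n = s 3 * (s 6 * (s 7 * s 8)) := by rw [hn, nW]; simp [wprod]
  have hninv : n⁻¹ = s 8 * (s 7 * (s 6 * s 3)) := by
    rw [hn, ← wprod_reverse s hs]; simp [nW, wprod]
  have hsi : ∀ x, (s x)⁻¹ = s x := fun x => inv_eq_of_mul_eq_one_right (hs x)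
  -- `n` and its conjugate centralise `k`
  have hnk : n * k = k * n := by
    have h : wprod s (nW ++ kW ++ niW ++ [6, 7]) = 1 := B.base _ (by decide)
    rw [wprod_append, wprod_append, wprod_append, ← hn, ← hk, show niW = nW.reverse from rfl,
      wprod_reverse s hs, ← hn, show ([6, 7] : List ℕ) = kW.reverse from rfl, wprod_reverse s hs,
      ← hk, mul_inv_eq_one, mul_inv_eq_iff_eq_mul] at h
    exact h
  have h6k : s 6 * k * s 6 = k⁻¹ := by
    rw [hk, ← wprod_reverse s hs kW, ← hw1 6, ← wprod_append, ← wprod_append]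
    exact ev (by decide) (by decide) f10
  obtain ⟨n', hn'⟩ : ∃ n', n' = s 6 * n * s 6 := ⟨_, rfl⟩
  have hnp : wprod s npW = n' := by rw [hn', hn0]; simp [npW, wprod, mul_assoc]
  have hnpi : wprod s npiW = n'⁻¹ := by
    rw [← hnp, ← wprod_reverse s hs]; rfl
  have hn'k : n' * k = k * n' := by
    have h6 : s 6 * k = k⁻¹ * s 6 := by rw [← h6k, mul_assoc, hs, mul_one]
    have h6' : s 6 * k⁻¹ = k * s 6 := by
      have := congrArg (·⁻¹) h6k
      simp only [mul_inv_rev, hsi, inv_inv] at this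
      rw [← mul_assoc] at this
      conv_rhs => rw [← this]
      rw [mul_assoc, hs, mul_one]
    calc n' * k = s 6 * n * (s 6 * k) := by rw [hn']; group
      _ = s 6 * n * (k⁻¹ * s 6) := by rw [h6]
      _ = s 6 * (n * k⁻¹) * s 6 := by group
      _ = s 6 * (k⁻¹ * n) * s 6 := by
          rw [(Commute.inv_right (show Commute n k from hnk)).eq]
      _ = (s 6 * k⁻¹) * n * s 6 := by group
      _ = k * n' := by rw [h6', hn']; group
  -- the conjugates of `z`
  have hnz : n * z * n⁻¹ = s 4 := by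
    have h : wprod s (nW ++ [0, 1, 0, 1] ++ niW ++ [4]) = 1 := B.base _ (by decide)
    rw [wprod_append, wprod_append, wprod_append, ← hn, hzw', show niW = nW.reverse from rfl,
      wprod_reverse s hs, ← hn, hw1] at h
    rw [eq_inv_of_mul_eq_one_left h, hsi]
  have hn'z : n' * z * n'⁻¹ = s 3 := by
    have h6z : s 6 * z * s 6 = z := by
      rw [← Φ.hz, ← hw1 6, ← wprod_append, ← wprod_append]
      exact ev (by decide) (by decide) f8
    calc n' * z * n'⁻¹ = s 6 * (n * (s 6 * z * s 6) * n⁻¹) * s 6 := by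
          rw [hn', mul_inv_rev, mul_inv_rev, hsi]; group
      _ = s 6 * s 4 * s 6 := by rw [h6z, hnz]
      _ = s 3 := by
          rw [← hw1 6, ← hw1 4, ← hw1 3, ← wprod_append, ← wprod_append]
          exact ev (by decide) (by decide) f7
  have hzk : z * k = k * z := by
    refine (mem_centralizer_singleton_iff.1 ?_).symm
    rw [hk]; exact Φ.mem_C (by decide)
  -- the quotient
  obtain ⟨C, hC⟩ : ∃ C, C = centralizer ({k} : Set G) := ⟨_, rfl⟩
  rw [← hC]
  have hmemC : ∀ g, g * k = k * g → g ∈ C := fun g h => hC ▸ mem_centralizer_singleton_iff.2 h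
  have hCk : ∀ g ∈ C, g * k = k * g := fun g h => mem_centralizer_singleton_iff.1 (hC ▸ h)
  haveI hNn : ((zpowers k).subgroupOf C).Normal := ⟨fun a ha c => by
    rw [mem_subgroupOf, mem_zpowers_iff] at ha ⊢
    obtain ⟨i, hi⟩ := ha
    refine ⟨i, ?_⟩
    have hc : Commute (c : G) (k ^ i) := Commute.zpow_right (hCk c c.2) i
    rw [coe_mul, coe_mul, coe_inv, ← hi, hc.eq, mul_inv_cancel_right]⟩
  let q : ↥C →* ↥C ⧸ (zpowers k).subgroupOf C := QuotientGroup.mk' _
  have hq : Function.Surjective q := QuotientGroup.mk'_surjective _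
  have hzpow : ∀ {g : G}, g ∈ zpowers k → ∃ c < 3, g = k ^ c := by
    intro g hg
    obtain ⟨i, hi⟩ := mem_zpowers_iff.1 hg
    have ho : orderOf k = 3 := by
      haveI : Fact (Nat.Prime 3) := ⟨Nat.prime_three⟩
      exact orderOf_eq_prime hk3 hk1
    refine ⟨(i % 3).toNat, by omega, ?_⟩
    rw [← hi, ← zpow_natCast, Int.toNat_of_nonneg (Int.emod_nonneg _ (by norm_num)),
      show (3 : ℤ) = (orderOf k : ℤ) by rw [ho]; rfl, zpow_mod_orderOf]
  have hq1 : ∀ {g : G} (hg : g ∈ C), q ⟨g, hg⟩ = 1 → ∃ c < 3, g = k ^ c := by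
    intro g hg h
    exact hzpow (mem_subgroupOf.1 ((QuotientGroup.eq_one_iff _).1 h))
  have hzC : z ∈ C := hmemC z hzk
  have h3C : s 3 ∈ C := hmemC _ (by
    rw [hk, ← hw1 3, ← wprod_append, ← wprod_append]; exact ev (by decide) (by decide) f5)
  have h4C : s 4 ∈ C := hmemC _ (by
    rw [hk, ← hw1 4, ← wprod_append, ← wprod_append]; exact ev (by decide) (by decide) f6)
  have hdC : ∀ L : List ℕ, (∀ y ∈ L, y = 3 ∨ y = 4) → wprod s L ∈ C := by
    intro L
    induction L with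
    | nil => intro _; exact one_mem _
    | cons a L ih =>
      intro h
      rw [wprod_cons]
      refine mul_mem ?_ (ih fun y hy => h y (List.mem_cons_of_mem a hy))
      rcases h a List.mem_cons_self with rfl | rfl <;> assumption
  have hlt : ∀ x : DihedralGroup 4, ∀ y ∈ d8W x, y < 8 := fun x y hy => by
    rcases d8W_letters x y hy with rfl | rfl <;> norm_num
  have hlt2 : ∀ x y : DihedralGroup 4, ∀ a ∈ d8W x ++ d8W y, a < 8 := fun x y a ha =>
    (List.mem_append.1 ha).elim (hlt x a) (hlt y a)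
  have hrep : ∀ c, ∀ y ∈ rep kW c, y < 8 := fun c y hy => by
    obtain ⟨l, hl, hyl⟩ := List.mem_flatten.1 hy
    rw [List.eq_of_mem_replicate hl] at hyl
    simp only [kW, List.mem_cons, List.not_mem_nil, or_false] at hyl
    omega
  let φ : DihedralGroup 4 →* ↥C := MonoidHom.mk' (fun x => ⟨_, hdC _ (d8W_letters x)⟩) fun x y =>
    Subtype.ext ((ev (hlt _) (hlt2 x y) (d8W_mul x y)).trans (wprod_append s _ _))
  have hcz : ∀ x, (φ x : G) * z = z * φ x := fun x =>
    mem_centralizer_singleton_iff.1 (Φ.mem_C (hlt x))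
  set zb := q ⟨z, hzC⟩ with hzb
  have hzb2 : zb * zb = 1 := by
    rw [hzb, ← map_mul, show (⟨z, hzC⟩ : ↥C) * ⟨z, hzC⟩ = 1 from Subtype.ext S.zz, map_one]
  have hzb1 : zb ≠ 1 := fun h => by
    obtain ⟨c, hc, e⟩ := hq1 hzC h
    have h3 : z ^ 3 = 1 := by rw [e, ← pow_mul, mul_comm, pow_mul, hk3, one_pow]
    rw [pow_succ, pow_two, S.zz, one_mul] at h3
    exact S.zne h3
  have hzbo : orderOf zb = 2 := CfsgLib.Invol.invol_of_mul_self hzb2 hzb1
  let ψ : DihedralGroup 4 →* ↥(centralizer ({zb} : Set (↥C ⧸ (zpowers k).subgroupOf C))) :=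
    (q.comp φ).codRestrict _ fun x => mem_centralizer_singleton_iff.2 (by
      rw [hzb, MonoidHom.comp_apply, ← map_mul, ← map_mul]
      exact congrArg q (Subtype.ext (hcz x)))
  have hψi : Function.Injective ψ := (injective_iff_map_eq_one ψ).2 fun x hx => by
    obtain ⟨c, hc, e⟩ := hq1 (φ x).2 (congrArg Subtype.val hx)
    have h := List.all_eq_true.1 (d8W_inj x) c (List.mem_range.2 hc)
    have e' : hv (d8W x) = hv (rep kW c) :=
      Φ.hv_eq_of_eq S (hlt x) (hrep c) (by rw [wprod_rep, ← hk]; exact e)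
    simpa [e'] using h
  have hψs : Function.Surjective ψ := by
    rintro ⟨c, hc⟩
    obtain ⟨⟨g, hg⟩, rfl⟩ := hq c
    have hcomm := mem_centralizer_singleton_iff.1 hc
    rw [hzb, ← map_mul, ← map_mul] at hcomm
    obtain ⟨i, hi, e⟩ := hzpow (mem_subgroupOf.1 (QuotientGroup.eq.1 hcomm.symm))
    simp only [coe_mul, coe_inv] at e
    have hgz : g * z = z * g * k ^ i := by rw [← e, mul_inv_cancel_left]
    have hz' : g * z * g⁻¹ = z * k ^ i := by
      rw [mul_inv_eq_iff_eq_mul, hgz, mul_assoc, mul_assoc,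
        (Commute.pow_right (hCk g hg) i : Commute g (k ^ i)).eq]
    have h2i : (k ^ i) * (k ^ i) = 1 := by
      have hcz' : Commute z (k ^ i) := Commute.pow_right hzk i
      calc k ^ i * k ^ i = (z * z) * (k ^ i * k ^ i) := by rw [S.zz, one_mul]
        _ = (z * k ^ i) * (z * k ^ i) := (hcz'.symm.mul_mul_mul_comm z (k ^ i)).symm
        _ = 1 := by
          rw [← hz', show g * z * g⁻¹ * (g * z * g⁻¹) = g * (z * z) * g⁻¹ by group, S.zz]; group
    have hi1 : k ^ i = 1 := by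
      have h3 : (k ^ i) ^ 3 = 1 := by rw [← pow_mul, mul_comm, pow_mul, hk3, one_pow]
      rwa [pow_succ, pow_two, h2i, one_mul] at h3
    have hgC : g ∈ centralizer ({z} : Set G) :=
      mem_centralizer_singleton_iff.2 (by rw [hgz, hi1, mul_one])
    obtain ⟨j, hj, ej⟩ := Φ.exists_wd S hgC
    have hjk : hv (J3H.wd j ++ kW) = hv (kW ++ J3H.wd j) := by
      refine Φ.hv_eq_of_eq S ?_ ?_ (by rw [wprod_append, wprod_append, ej, ← hk]; exact hCk g hg)
      all_goals
        intro y hy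
        rcases List.mem_append.1 hy with hy | hy
        all_goals first | exact Frame.wd_lt hj y hy | (simp only [kW, List.mem_cons, List.not_mem_nil, or_false] at hy; omega)
    have h := List.all_eq_true.1 cent_kW j (List.mem_range.2 hj)
    simp only [hjk, decide_true, Bool.not_true, Bool.false_or, List.any_eq_true, List.mem_range,
      decide_eq_true_eq] at h
    obtain ⟨x, -, c, -, hxc⟩ := h
    have hg' : g = (φ x : G) * k ^ c := by
      rw [← ej]
      show _ = wprod s (d8W x) * _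
      rw [hk, ← wprod_rep, ← wprod_append]
      exact ev (Frame.wd_lt hj) (fun y hy => (List.mem_append.1 hy).elim (hlt x y) (hrep c y))
        ((Frame.hv_wd hj).trans hxc)
    refine ⟨x, Subtype.ext ((QuotientGroup.eq).2 (mem_subgroupOf.2 ?_))⟩
    show (φ x : G)⁻¹ * g ∈ zpowers k
    rw [hg', inv_mul_cancel_left]
    exact pow_mem (mem_zpowers k) c
  -- two conjugates of `z`
  have hnC : n ∈ C := hmemC n hnk
  have hn'C : n' ∈ C := hmemC n' hn'k
  have hc4 : q ⟨n, hnC⟩ * zb * (q ⟨n, hnC⟩)⁻¹ = q ⟨s 4, h4C⟩ := by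
    rw [hzb, ← map_inv, ← map_mul, ← map_mul]; exact congrArg q (Subtype.ext hnz)
  have hc3 : q ⟨n', hn'C⟩ * zb * (q ⟨n', hn'C⟩)⁻¹ = q ⟨s 3, h3C⟩ := by
    rw [hzb, ← map_inv, ← map_mul, ← map_mul]; exact congrArg q (Subtype.ext hn'z)
  have h44 : zb * q ⟨s 4, h4C⟩ = q ⟨s 4, h4C⟩ * zb := by
    rw [hzb, ← map_mul, ← map_mul]
    refine congrArg q (Subtype.ext ?_)
    show z * s 4 = s 4 * z
    exact (mem_centralizer_singleton_iff.1 (Φ.hmem 4 (by norm_num))).symm
  have h4ne : q ⟨s 4, h4C⟩ ≠ zb := fun h => by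
    have hone' : q (⟨z, hzC⟩ * ⟨s 4, h4C⟩) = 1 := by rw [map_mul, h, ← hzb, hzb2]
    obtain ⟨c, hc, e⟩ := hq1 (mul_mem hzC h4C) hone'
    have h := List.all_eq_true.1 f11 c (List.mem_range.2 hc)
    have e' : hv [4, 0, 4, 0, 4] = hv (rep kW c) := Φ.hv_eq_of_eq S (by decide) (hrep c) (by
      rw [wprod_rep, ← hk, ← e, show ([4, 0, 4, 0, 4] : List ℕ) = [4, 0, 4, 0] ++ [4] from rfl,
        wprod_append, Φ.hz, hw1])
    simp [e'] at h
  -- the type of the quotient
  have hX := Cfsg.Agent.S3035.result zb hzbo ⟨(MulEquiv.ofBijective ψ ⟨hψi, hψs⟩).symm⟩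
  have hgen : ∀ {K : Type} [Group K] (σ : ↥C ⧸ (zpowers k).subgroupOf C →* K),
      σ (q ⟨s 3, h3C⟩) = 1 → σ (q ⟨s 4, h4C⟩) = 1 → ∀ c ∈ centralizer ({zb} : Set _), σ c = 1 := by
    intro K _ σ a3 a4 c hc
    obtain ⟨x, hx⟩ := hψs ⟨c, hc⟩
    rw [← show (ψ x : ↥C ⧸ (zpowers k).subgroupOf C) = c from congrArg Subtype.val hx]
    show σ (q (φ x)) = 1
    suffices h : ∀ (L : List ℕ) (hL : ∀ y ∈ L, y = 3 ∨ y = 4), σ (q ⟨_, hdC L hL⟩) = 1 from
      h _ (d8W_letters x)
    intro L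
    induction L with
    | nil =>
      intro hL
      rw [show (⟨_, hdC [] hL⟩ : ↥C) = 1 from Subtype.ext rfl, map_one, map_one]
    | cons a L ih =>
      intro hL
      have ha := hL a List.mem_cons_self
      have hL' : ∀ y ∈ L, y = 3 ∨ y = 4 := fun y hy => hL y (List.mem_cons_of_mem a hy)
      have haC : s a ∈ C := by rcases ha with rfl | rfl <;> assumption
      rw [show (⟨_, hdC (a :: L) hL⟩ : ↥C) = ⟨s a, haC⟩ * ⟨_, hdC L hL'⟩ from
        Subtype.ext (wprod_cons s a L), map_mul, map_mul, ih hL', mul_one]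
      rcases ha with rfl | rfl <;> assumption
  have hsym : ∀ (m : ℕ), (∀ τ : Equiv.Perm (Fin m), Equiv.Perm.sign τ = 1 → τ * τ = 1 → τ ≠ 1 →
      ∃ g, Equiv.Perm.sign g = -1 ∧ g * τ = τ * g) →
      (↥C ⧸ (zpowers k).subgroupOf C ≃* Equiv.Perm (Fin m)) → False := by
    intro m hm θ
    let σ : ↥C ⧸ (zpowers k).subgroupOf C →* ℤˣ := Equiv.Perm.sign.comp θ.toMonoidHom
    have hconj : ∀ a b, σ (a * b * a⁻¹) = σ b := fun a b => by
      rw [map_mul, map_mul, map_inv, mul_right_comm, mul_inv_cancel, one_mul]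
    have h43 : zb = (q ⟨s 4, h4C⟩ * q ⟨s 3, h3C⟩) * (q ⟨s 4, h4C⟩ * q ⟨s 3, h3C⟩) := by
      rw [hzb, ← map_mul, ← map_mul]
      refine congrArg q (Subtype.ext ?_)
      show z = s 4 * s 3 * (s 4 * s 3)
      rw [← hzw]; simp [wprod, mul_assoc]
    have hz0 : σ zb = 1 := by rw [h43, map_mul, Int.units_mul_self]
    obtain ⟨g, hg, hgc⟩ := hm (θ zb) hz0 (by rw [← map_mul, hzb2, map_one])
      fun h => hzb1 (θ.injective (h.trans (map_one θ).symm))
    have h1 : σ (θ.symm g) = 1 := hgen σ (by rw [← hc3, hconj, hz0]) (by rw [← hc4, hconj, hz0]) _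
      (mem_centralizer_singleton_iff.2 (θ.injective (by rw [map_mul, map_mul, θ.apply_symm_apply, hgc])))
    have h2 : σ (θ.symm g) = -1 := by
      show Equiv.Perm.sign (θ (θ.symm g)) = -1
      rw [θ.apply_symm_apply, hg]
    rw [h1] at h2
    exact absurd h2 (by decide)
  -- `k` is conjugate to `n` or its inverse
  have hn3 : n ^ 3 = 1 := by rw [hn, ← wprod_rep]; exact B.base _ (by decide)
  have hn1 : n ≠ 1 := fun h => by
    rw [h, one_mul, inv_one, mul_one] at hnz
    refine nev (L := [4]) (M := [4, 0, 4, 0]) (by decide) (by decide) f15 ?_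
    rw [hw1, Φ.hz, hnz]
  obtain ⟨r, hr⟩ : ∃ r, r = wprod s [3, 2, 5] := ⟨_, rfl⟩
  have hr2 : orderOf r = 2 := by
    refine CfsgLib.Invol.invol_of_mul_self ?_ ?_
    · rw [hr, ← wprod_append]; exact ev (M := []) (by decide) (by decide) f12
    · rw [hr]; exact nev (M := []) (by decide) (by decide) f13
  have hnr : n * r = r * n := by
    have h : wprod s [6, 7, 8, 3, 2, 5, 8, 7, 6, 3, 5, 2] = 1 := B.base _ (by decide)
    have h' : wprod s (nW ++ [3, 2, 5] ++ niW ++ [5, 2, 3]) = 1 := by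
      rw [show nW ++ [3, 2, 5] ++ niW ++ [5, 2, 3] =
        [3] ++ [6, 7, 8, 3, 2, 5, 8, 7, 6, 3, 5, 2] ++ [3] from rfl, wprod_append, wprod_append, h,
        mul_one, hw1, hs]
    rw [wprod_append, wprod_append, wprod_append, ← hn, ← hr, show niW = nW.reverse from rfl,
      wprod_reverse s hs, ← hn, show ([5, 2, 3] : List ℕ) = [3, 2, 5].reverse from rfl,
      wprod_reverse s hs, ← hr, mul_inv_eq_one, mul_inv_eq_iff_eq_mul] at h'
    exact h'
  obtain ⟨g0, hg0⟩ := isConj_iff.1 (hone z r S.hz hr2)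
  obtain ⟨g, hg⟩ : ∃ g : G, g * k * g⁻¹ = n ∨ g * k * g⁻¹ = n⁻¹ := by
    haveI : Fact (Nat.Prime 3) := ⟨Nat.prime_three⟩
    have hm : g0⁻¹ * n * g0 ∈ centralizer ({z} : Set G) := mem_centralizer_singleton_iff.2 (by
      calc g0⁻¹ * n * g0 * z = g0⁻¹ * (n * (g0 * z * g0⁻¹)) * g0 := by group
        _ = g0⁻¹ * ((g0 * z * g0⁻¹) * n) * g0 := by rw [hg0, hnr]
        _ = z * (g0⁻¹ * n * g0) := by group)
    set a : ↥(centralizer ({z} : Set G)) := ⟨_, hm⟩
    set b : ↥(centralizer ({z} : Set G)) := ⟨k, by rw [hk]; exact Φ.mem_C (by decide)⟩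
    have ha : orderOf a = 3 := by
      rw [← Subgroup.orderOf_coe]
      show orderOf (g0⁻¹ * n * g0) = 3
      rw [CfsgLib.Invol.orderOf_conj_inv_eq]
      exact orderOf_eq_prime hn3 hn1
    have hb : orderOf b = 3 := by
      rw [← Subgroup.orderOf_coe]; exact orderOf_eq_prime hk3 hk1
    have hfac : (Nat.card ↥(centralizer ({z} : Set G))).factorization 3 = 1 := by
      rw [S.card_H, show (1920 : ℕ) = 3 * 640 by norm_num,
        Nat.factorization_mul (by norm_num) (by norm_num), Finsupp.add_apply,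
        Nat.Prime.factorization_self Nat.prime_three, Nat.factorization_eq_zero_of_not_dvd (by norm_num)]
    let PA : Sylow 3 ↥(centralizer ({z} : Set G)) :=
      Sylow.ofCard (zpowers a) (by rw [Nat.card_zpowers, ha, hfac, pow_one])
    let PB : Sylow 3 ↥(centralizer ({z} : Set G)) :=
      Sylow.ofCard (zpowers b) (by rw [Nat.card_zpowers, hb, hfac, pow_one])
    obtain ⟨h, hh⟩ := MulAction.exists_smul_eq ↥(centralizer ({z} : Set G)) PA PB
    have hmem : h * a * h⁻¹ ∈ zpowers b := by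
      have e : h * a * h⁻¹ ∈ ((h • PA : Sylow 3 _) : Subgroup ↥(centralizer ({z} : Set G))) :=
        ⟨a, mem_zpowers a, by simp [MulAut.conj_apply]⟩
      rw [hh] at e
      exact e
    obtain ⟨i, hi⟩ := mem_zpowers_iff.1 hmem
    have hi' : k ^ i = (h : G) * (g0⁻¹ * n * g0) * (h : G)⁻¹ := congrArg Subtype.val hi
    obtain ⟨c, hc, hc'⟩ := hzpow (mem_zpowers_iff.2 ⟨i, hi'⟩)
    refine ⟨g0 * (h : G)⁻¹, ?_⟩
    have hne : c ≠ 0 := by
      rintro rfl
      rw [pow_zero, conj_eq_one_iff] at hc'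
      exact hn1 (conj_eq_one_iff.1 (show g0⁻¹ * n * g0⁻¹⁻¹ = 1 by rwa [inv_inv]))
    obtain rfl | rfl : c = 1 ∨ c = 2 := by omega
    · left
      rw [pow_one] at hc'
      rw [← hc']; group
    · right
      rw [show k = (k ^ 2)⁻¹ from eq_inv_of_mul_eq_one_left (by rw [← pow_succ']; exact hk3), ← hc']
      group
  -- an element of order five
  have h5 : 5 ∣ Nat.card (↥C ⧸ (zpowers k).subgroupOf C) := by
    haveI : Fact (Nat.Prime 5) := ⟨by norm_num⟩
    obtain ⟨y, hy⟩ : ∃ y, y = s 9 * r * k * n := ⟨_, rfl⟩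
    have hy5 : y ^ 5 = 1 := by
      have e : y = wprod s [9, 3, 2, 5, 7, 6, 3, 6, 7, 8] := by
        rw [hy, hr, hk, hn, ← hw1 9, ← wprod_append, ← wprod_append, ← wprod_append]; rfl
      rw [e, ← wprod_rep]
      exact B.base _ (by decide)
    have hy1 : y ≠ 1 := fun h => by
      have h9 : wprod s ([9] ++ [0, 1, 0, 1] ++ [9] ++ [5]) = 1 := B.base _ (by decide)
      rw [wprod_append, wprod_append, wprod_append, hzw', hw1, hw1] at h9
      have h9' : s 9 * z * s 9 = s 5 := by rw [eq_inv_of_mul_eq_one_left h9, hsi]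
      have e1 : y * z * y⁻¹ = s 9 * (r * k * s 4 * k⁻¹ * r⁻¹) * s 9 := by
        rw [hy, ← hnz, mul_inv_rev, mul_inv_rev, mul_inv_rev, hsi]; group
      rw [h, one_mul, inv_one, mul_one] at e1
      refine nev (L := [3, 2, 5, 7, 6, 4, 6, 7, 5, 2, 3]) (M := [5]) (by decide) (by decide) f14 ?_
      rw [hw1, show ([3, 2, 5, 7, 6, 4, 6, 7, 5, 2, 3] : List ℕ) =
        [3, 2, 5] ++ kW ++ [4] ++ kW.reverse ++ [3, 2, 5].reverse from rfl, wprod_append, wprod_append,
        wprod_append, wprod_append, wprod_reverse s hs, wprod_reverse s hs, ← hr, ← hk, hw1, ← h9', e1]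
      have cancel : ∀ w, s 9 * (s 9 * w * s 9) * s 9 = w := fun w => by
        rw [← mul_assoc, ← mul_assoc, hs, one_mul, mul_assoc, hs, mul_one]
      rw [cancel]
    have hyn : y * n = n * y := by
      have h9n : wprod s ([9] ++ nW ++ [9] ++ niW) = 1 := B.base _ (by decide)
      rw [wprod_append, wprod_append, wprod_append, ← hn, hw1, show niW = nW.reverse from rfl,
        wprod_reverse s hs, ← hn, mul_inv_eq_one] at h9n
      have c9 : Commute (s 9) n := by
        show s 9 * n = n * s 9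
        calc s 9 * n = s 9 * n * s 9 * s 9 := by rw [mul_assoc (s 9 * n), hs, mul_one]
          _ = n * s 9 := by rw [h9n]
      have cr : Commute r n := hnr.symm
      have ck : Commute k n := hnk.symm
      rw [hy]
      exact (((c9.mul_left cr).mul_left ck).mul_left (Commute.refl n)).eq
    have hyo : orderOf y = 5 := orderOf_eq_prime hy5 hy1
    have hmem : g⁻¹ * y * g ∈ C := hmemC _ (by
      rcases hg with hg | hg
      · calc g⁻¹ * y * g * k = g⁻¹ * (y * (g * k * g⁻¹)) * g := by group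
          _ = g⁻¹ * ((g * k * g⁻¹) * y) * g := by rw [hg, hyn]
          _ = k * (g⁻¹ * y * g) := by group
      · calc g⁻¹ * y * g * k = g⁻¹ * (y * (g * k * g⁻¹)) * g := by group
          _ = g⁻¹ * ((g * k * g⁻¹) * y) * g := by
              rw [hg, (Commute.inv_right (show Commute y n from hyn)).eq]
          _ = k * (g⁻¹ * y * g) := by group)
    have h1 : 5 ∣ Nat.card C := by
      rw [← hyo, ← CfsgLib.Invol.orderOf_conj_inv_eq g y]
      exact C.orderOf_dvd_natCard hmem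
    have h2 : Nat.card ↥((zpowers k).subgroupOf C) = 3 := by
      rw [Nat.card_congr (subgroupOfEquivOfLe (zpowers_le.2 (hmemC k rfl))).toEquiv, Nat.card_zpowers,
        orderOf_eq_prime (p := 3) hk3 hk1]
    rw [card_eq_card_quotient_mul_card_subgroup ((zpowers k).subgroupOf C), h2] at h1
    exact (Nat.Coprime.dvd_of_dvd_mul_right (by norm_num) h1)
  obtain ⟨θ⟩ : Nonempty (↥C ⧸ (zpowers k).subgroupOf C ≃* ↥(alternatingGroup (Fin 6))) := by
    rcases hX with h | ⟨⟨θ⟩⟩ | ⟨⟨θ⟩⟩ | ⟨⟨θ⟩⟩ | h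
    · exfalso
      haveI : (Cfsg.oddCore (↥C ⧸ (zpowers k).subgroupOf C)).Normal := Cfsg.pPrimeCore_normal 2 _
      obtain ⟨c, hc, o, ho, e⟩ := mem_sup_of_normal_right.1 (h ▸ mem_top (q ⟨n, hnC⟩))
      have hcz' := mem_centralizer_singleton_iff.1 hc
      have hzi : zb⁻¹ = zb := inv_eq_of_mul_eq_one_right hzb2
      have hm : zb * q ⟨s 4, h4C⟩ ∈ Cfsg.oddCore (↥C ⧸ (zpowers k).subgroupOf C) := by
        rw [← hc4, ← e]
        have h1 : c⁻¹ * zb * c = zb := by rw [mul_assoc, ← hcz', inv_mul_cancel_left]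
        have hin : (zb * o * zb⁻¹) * o⁻¹ ∈ Cfsg.oddCore (↥C ⧸ (zpowers k).subgroupOf C) :=
          mul_mem (Normal.conj_mem inferInstance o ho zb) (inv_mem ho)
        have h2 := Normal.conj_mem inferInstance _ hin c
        convert h2 using 1
        calc zb * (c * o * zb * (c * o)⁻¹) = c * (c⁻¹ * zb * c) * o * zb * o⁻¹ * c⁻¹ := by group
          _ = c * (zb * o * zb⁻¹ * o⁻¹) * c⁻¹ := by rw [h1, hzi]; group
      have hodd := CfsgLib.Invol.odd_card_oddCore (↥C ⧸ (zpowers k).subgroupOf C)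
      have h44' : q ⟨s 4, h4C⟩ * q ⟨s 4, h4C⟩ = 1 := by
        rw [← map_mul, show (⟨s 4, h4C⟩ : ↥C) * ⟨s 4, h4C⟩ = 1 from Subtype.ext (hs 4), map_one]
      have hsq : zb * q ⟨s 4, h4C⟩ * (zb * q ⟨s 4, h4C⟩) = 1 := by
        rw [(show Commute (q ⟨s 4, h4C⟩) zb from h44.symm).mul_mul_mul_comm, hzb2, h44', one_mul]
      have h11 := CfsgLib.Invol.eq_one_of_sq_of_odd hsq
        (hodd.of_dvd_nat (Subgroup.orderOf_dvd_natCard _ hm))
      exact h4ne (by rw [eq_inv_of_mul_eq_one_right h11, hzi])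
    · exact (hsym 4 perm_four_even θ).elim
    · exact (hsym 5 perm_five_even θ).elim
    · exfalso
      rw [Nat.card_congr θ.toEquiv] at h5
      have h168 : Nat.card (Matrix.SpecialLinearGroup (Fin 3) (ZMod 2)) = 168 := by
        rw [Nat.card_eq_fintype_card]; decide +kernel
      rw [h168] at h5
      norm_num at h5
    · exact h
  refine ⟨⟨θ.toMonoidHom.comp q, θ.surjective.comp hq, ?_⟩, ⟨g, hg⟩, ?_⟩
  · ext c
    rw [MonoidHom.mem_ker, MonoidHom.comp_apply]
    exact (map_eq_one_iff _ θ.injective).trans (QuotientGroup.eq_one_iff c)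
  -- the two products of order five
  have hT : wprod s aaW = n * n' ∧ wprod s bbW = n * n'⁻¹ := by
    rw [aaW, bbW, wprod_append, wprod_append, ← hn, hnp, hnpi]
    exact ⟨rfl, rfl⟩
  have haC : n * n' ∈ C := mul_mem hnC hn'C
  have hbC : n * n'⁻¹ ∈ C := mul_mem hnC (inv_mem hn'C)
  have hpow : ∀ {a : G} (ha : a ∈ C) (e : ℕ), θ (q ⟨a, ha⟩) ^ e = 1 → ∃ c < 3, a ^ e * k ^ c = 1 := by
    intro a ha e he
    rw [← map_pow, ← map_pow, map_eq_one_iff _ θ.injective] at he
    obtain ⟨c, hc, ec⟩ := hq1 (pow_mem ha e) he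
    refine ⟨(3 - c) % 3, by omega, ?_⟩
    show a ^ e * _ = 1
    rw [ec, ← pow_add]
    interval_cases c <;> simp [hk3]
  have hA : ∀ e c, (n * n') ^ e * k ^ c = 1 → wprod (subGen s K5) (rep aW5 e ++ rep [3, 2] c) = 1 :=
    fun e c h => rel_K5 aW5 (by decide) e c (by
      rw [show aW5.map (fun x => K5.getD x 0) = aaW from rfl, hT.1, ← hk]; exact h)
  have hB : ∀ e c, (n * n'⁻¹) ^ e * k ^ c = 1 → wprod (subGen s K5) (rep bW5 e ++ rep [3, 2] c) = 1 :=
    fun e c h => rel_K5 bW5 (by decide) e c (by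
      rw [show bW5.map (fun x => K5.getD x 0) = bbW from rfl, hT.2, ← hk]; exact h)
  have ht := subGen_mul_self s hs K5
  have hkf : ¬ wprod (subGen s K5) [3, 2] ∈ (⊥ : Subgroup G) := fun h => by
    rw [mem_bot, wprod_K5 _ (by decide)] at h
    exact hk1 (hk.trans h)
  have hzf : ¬ wprod (subGen s K5) [1, 0, 1, 0] ∈ (⊥ : Subgroup G) := fun h => by
    rw [mem_bot, wprod_K5 _ (by decide)] at h
    exact S.zne (hzw.symm.trans h)
  have one1 : ∀ {r : List ℕ}, wprod (subGen s K5) r = 1 →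
      ∀ r' ∈ [r], wprod (subGen s K5) r' = 1 := fun h r' h' => by
    rw [List.mem_singleton] at h'; subst h'; exact h
  have one2 : ∀ {r r₂ : List ℕ}, wprod (subGen s K5) r = 1 → wprod (subGen s K5) r₂ = 1 →
      ∀ r' ∈ [r, r₂], wprod (subGen s K5) r' = 1 := fun h h2 r' h' => by
    rcases List.mem_cons.1 h' with rfl | h'
    · exact h
    · rw [List.mem_singleton] at h'; subst h'; exact h2
  have hA5 : (n * n') ^ 5 = 1 := by
    rcases (a6_orders (θ (q ⟨_, haC⟩))).1 with h | h | h | h | h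
    · obtain ⟨c, hc, hca⟩ := hpow haC 1 (by rw [pow_one]; exact h)
      interval_cases c
      · exact (hzf (J3O10.mem _ ht (B.small_append (one1 (hA _ _ hca))) ⊥
          (by simp [J3O10.subs]))).elim
      · exact (hkf (J3O11.mem _ ht (B.small_append (one1 (hA _ _ hca))) ⊥
          (by simp [J3O11.subs]))).elim
      · exact (hkf (J3O12.mem _ ht (B.small_append (one1 (hA _ _ hca))) ⊥
          (by simp [J3O12.subs]))).elim
    · obtain ⟨c, hc, hca⟩ := hpow haC 2 h
      interval_cases c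
      · exact (hzf (J3O20.mem _ ht (B.small_append (one1 (hA _ _ hca))) ⊥
          (by simp [J3O20.subs]))).elim
      · exact (hkf (J3O21.mem _ ht (B.small_append (one1 (hA _ _ hca))) ⊥
          (by simp [J3O21.subs]))).elim
      · exact (hkf (J3O22.mem _ ht (B.small_append (one1 (hA _ _ hca))) ⊥
          (by simp [J3O22.subs]))).elim
    · obtain ⟨c, hc, hca⟩ := hpow haC 3 h
      interval_cases c
      · obtain ⟨u, hu, hu'⟩ : ∃ u ∈ [12, 5], θ (q ⟨_, hbC⟩) ^ u = 1 := by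
          rcases (a6_orders (θ (q ⟨_, hbC⟩))).2.1 with h | h
          exacts [⟨12, by simp, h⟩, ⟨5, by simp, h⟩]
        obtain ⟨c', hc'3, hcb⟩ := hpow hbC u hu'
        simp only [List.mem_cons, List.not_mem_nil, or_false] at hu
        rcases hu with rfl | rfl <;> interval_cases c'
        · exact (hzf (J3P3120.mem _ ht (B.small_append (one2 (hA _ _ hca) (hB _ _ hcb))) ⊥
            (by simp [J3P3120.subs]))).elim
        · exact (hkf (J3P3121.mem _ ht (B.small_append (one2 (hA _ _ hca) (hB _ _ hcb))) ⊥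
            (by simp [J3P3121.subs]))).elim
        · exact (hkf (J3P3122.mem _ ht (B.small_append (one2 (hA _ _ hca) (hB _ _ hcb))) ⊥
            (by simp [J3P3122.subs]))).elim
        · exact (hkf (J3P350.mem _ ht (B.small_append (one2 (hA _ _ hca) (hB _ _ hcb))) ⊥
            (by simp [J3P350.subs]))).elim
        · exact (hzf (J3P351.mem _ ht (B.small_append (one2 (hA _ _ hca) (hB _ _ hcb))) ⊥
            (by simp [J3P351.subs]))).elim
        · exact (hkf (J3P352.mem _ ht (B.small_append (one2 (hA _ _ hca) (hB _ _ hcb))) ⊥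
            (by simp [J3P352.subs]))).elim
      · exact (hkf (J3O31.mem _ ht (B.small_append (one1 (hA _ _ hca))) ⊥
          (by simp [J3O31.subs]))).elim
      · exact (hkf (J3O32.mem _ ht (B.small_append (one1 (hA _ _ hca))) ⊥
          (by simp [J3O32.subs]))).elim
    · obtain ⟨c, hc, hca⟩ := hpow haC 4 h
      interval_cases c
      · obtain ⟨u, hu, hu'⟩ : ∃ u ∈ [12, 5], θ (q ⟨_, hbC⟩) ^ u = 1 := by
          rcases (a6_orders (θ (q ⟨_, hbC⟩))).2.1 with h | h
          exacts [⟨12, by simp, h⟩, ⟨5, by simp, h⟩]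
        obtain ⟨c', hc'3, hcb⟩ := hpow hbC u hu'
        simp only [List.mem_cons, List.not_mem_nil, or_false] at hu
        rcases hu with rfl | rfl <;> interval_cases c'
        · exact (hzf (J3P4120.mem _ ht (B.small_append (one2 (hA _ _ hca) (hB _ _ hcb))) ⊥
            (by simp [J3P4120.subs]))).elim
        · exact (hkf (J3P4121.mem _ ht (B.small_append (one2 (hA _ _ hca) (hB _ _ hcb))) ⊥
            (by simp [J3P4121.subs]))).elim
        · exact (hkf (J3P4122.mem _ ht (B.small_append (one2 (hA _ _ hca) (hB _ _ hcb))) ⊥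
            (by simp [J3P4122.subs]))).elim
        · exact (hkf (J3P450.mem _ ht (B.small_append (one2 (hA _ _ hca) (hB _ _ hcb))) ⊥
            (by simp [J3P450.subs]))).elim
        · exact (hzf (J3P451.mem _ ht (B.small_append (one2 (hA _ _ hca) (hB _ _ hcb))) ⊥
            (by simp [J3P451.subs]))).elim
        · exact (hkf (J3P452.mem _ ht (B.small_append (one2 (hA _ _ hca) (hB _ _ hcb))) ⊥
            (by simp [J3P452.subs]))).elim
      · exact (hkf (J3O41.mem _ ht (B.small_append (one1 (hA _ _ hca))) ⊥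
          (by simp [J3O41.subs]))).elim
      · exact (hkf (J3O42.mem _ ht (B.small_append (one1 (hA _ _ hca))) ⊥
          (by simp [J3O42.subs]))).elim
    · obtain ⟨c, hc, hca⟩ := hpow haC 5 h
      interval_cases c
      · simpa using hca
      · exact (hkf (J3A1.mem _ ht (B.small_append (one1 (hA _ _ hca))) ⊥
          (by simp [J3A1.subs]))).elim
      · exact (hkf (J3A2.mem _ ht (B.small_append (one1 (hA _ _ hca))) ⊥
          (by simp [J3A2.subs]))).elim
  refine ⟨?_, ?_⟩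
  · simp only [wprod_append, hT.1]
    rw [← hA5]; simp [pow_succ, mul_assoc]
  have hA50 := hA 5 0 (by rw [hA5, pow_zero, one_mul])
  obtain ⟨c, hc, hcb⟩ : ∃ c < 3, (n * n'⁻¹) ^ 4 * k ^ c = 1 := by
    rcases (a6_orders (θ (q ⟨_, hbC⟩))).2.2 with h | h | h
    · exact hpow hbC 4 h
    · obtain ⟨c, hc, hcb⟩ := hpow hbC 3 h
      interval_cases c
      · exact (hzf (J3B30.mem _ ht (B.small_append (one2 hA50 (hB _ _ hcb))) ⊥
          (by simp [J3B30.subs]))).elim
      · exact (hkf (J3B31.mem _ ht (B.small_append (one2 hA50 (hB _ _ hcb))) ⊥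
          (by simp [J3B31.subs]))).elim
      · exact (hkf (J3B32.mem _ ht (B.small_append (one2 hA50 (hB _ _ hcb))) ⊥
          (by simp [J3B32.subs]))).elim
    · obtain ⟨c, hc, hcb⟩ := hpow hbC 5 h
      interval_cases c
      · exact (hkf (J3B50.mem _ ht (B.small_append (one2 hA50 (hB _ _ hcb))) ⊥
          (by simp [J3B50.subs]))).elim
      · exact (hzf (J3B51.mem _ ht (B.small_append (one2 hA50 (hB _ _ hcb))) ⊥
          (by simp [J3B51.subs]))).elim
      · exact (hkf (J3B52.mem _ ht (B.small_append (one2 hA50 (hB _ _ hcb))) ⊥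
          (by simp [J3B52.subs]))).elim
  have fin : ∀ (g : List ℕ) (M : List ℕ), (∀ x ∈ g, x < 5) →
      red (g.map fun x => K5.getD x 0) = red M → wprod (subGen s K5) g ∈ (⊥ : Subgroup G) →
      wprod s M = 1 := by
    intro g M hg e h
    rw [mem_bot, wprod_K5 g hg, ← wprod_red s hs, e, wprod_red s hs] at h
    exact h
  interval_cases c
  · exact Or.inr (Or.inr (fin _ _ (by decide) (by decide +kernel)
      (J3L0.mem _ ht (B.small_append (one2 hA50 (hB _ _ hcb))) ⊥ (by simp [J3L0.subs]))))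
  · exact Or.inr (Or.inl (fin _ _ (by decide) (by decide +kernel)
      (J3L1.mem _ ht (B.small_append (one2 hA50 (hB _ _ hcb))) ⊥ (by simp [J3L1.subs]))))
  · exact Or.inl (fin _ _ (by decide) (by decide +kernel)
      (J3L2.mem _ ht (B.small_append (one2 hA50 (hB _ _ hcb))) ⊥ (by simp [J3L2.subs])))

end CfsgLib.InvChar.J3Rec
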