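import Cfsg.Agent.Lib.InvChar.J3FrameTable
import Cfsg.Agent.Lib.InvChar.HallJankoClasses

/-!
# The elementary abelian group of order 16 and the action of its normaliser

The bits of `i < 16` give the element `el s i` of `E = C(z) ∩ C(a)` over the basis `z, x₄, a, b`; an
element normalising `E` is described by the list of the images of the sixteen indices. `Rel e u` says
that two commuting involutions lie in the position of `z` and a non-central involution of `Q`.
-/

set_option autoImplicit false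
set_option maxRecDepth 100000

namespace CfsgLib.InvChar.J3Rec

open Subgroup Coset CfsgLib.InvChar.HJType CfsgLib.Invol

universe u

/-- The basis words `z, x₄, a, b`. -/
def bW : List (List ℕ) := [[4, 0, 4, 0], [4], [5], [6, 7, 5, 7, 6]]

/-- The word of the element of `E` with the given bits. -/
def ew (i : ℕ) : List ℕ :=
  (List.range 4).flatMap fun j => if i.testBit j then bW.getD j [] else []

theorem ew_lt : ∀ i < 16, ∀ x ∈ ew i, x < 8 := by decide

theorem ew_mul : (List.range 16).all (fun i => (List.range 16).all fun j =>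
    decide (hv (ew i ++ ew j) = hv (ew (i ^^^ j)))) = true := by decide +kernel

theorem ew_inj : (List.range 16).all (fun i => (List.range 16).all fun j =>
    decide (i = j) || !decide (hv (ew i) = hv (ew j))) = true := by decide +kernel

theorem cent_a : (List.range 1920).all (fun t =>
    !decide (hv (J3H.wd t ++ [5]) = hv ([5] ++ J3H.wd t)) ||
      (List.range 16).any (fun i => decide (hv (ew i) = t))) = true := by decide +kernel

theorem ew_outer : (List.range 16).all (fun i => decide (i < 4) || (List.range 5).any (fun x =>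
    !decide (hv (cw (ew i) x) = 0) && !decide (hv (cw (ew i) x) = hv [4, 0, 4, 0]))) = true := by
  decide +kernel

variable {G : Type u} [Group G] {z : G} {Q : Subgroup G} {s : ℕ → G}

/-- An element of `E`. -/
def el (s : ℕ → G) (i : ℕ) : G := wprod s (ew i)

section

variable (Φ : Frame z Q s) (S : Pre z Q)
include Φ

theorem el_mem {i : ℕ} (hi : i < 16) : el s i ∈ centralizer ({z} : Set G) := Φ.mem_C (ew_lt i hi)

omit Φ in
theorem el_zero : el s 0 = 1 := rfl

theorem el_one : el s 1 = z := by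
  rw [← Φ.hz]; rfl

omit Φ in
theorem el_two : el s 2 = s 4 := by
  simp [el, ew, bW, wprod, List.range_succ, Nat.testBit, Nat.shiftRight_eq_div_pow]

omit Φ in
theorem el_four : el s 4 = s 5 := by
  simp [el, ew, bW, wprod, List.range_succ, Nat.testBit, Nat.shiftRight_eq_div_pow]

theorem el_mul {i j : ℕ} (hi : i < 16) (hj : j < 16) : el s i * el s j = el s (i ^^^ j) := by
  rw [el, el, el, ← wprod_append]
  refine Φ.eq_of_hv (fun x hx => ?_) (ew_lt _ (Nat.xor_lt_two_pow (n := 4) hi hj)) ?_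
  · rcases List.mem_append.1 hx with h | h
    exacts [ew_lt i hi x h, ew_lt j hj x h]
  · have := List.all_eq_true.1 (List.all_eq_true.1 ew_mul i (List.mem_range.2 hi)) j
      (List.mem_range.2 hj)
    exact of_decide_eq_true this

theorem el_sq {i : ℕ} (hi : i < 16) : el s i * el s i = 1 := by
  rw [el_mul Φ hi hi, Nat.xor_self, el_zero]

theorem el_inv {i : ℕ} (hi : i < 16) : (el s i)⁻¹ = el s i :=
  inv_eq_of_mul_eq_one_right (el_sq Φ hi)

theorem el_comm {i j : ℕ} (hi : i < 16) (hj : j < 16) : el s i * el s j = el s j * el s i := by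
  rw [el_mul Φ hi hj, el_mul Φ hj hi, Nat.xor_comm]

include S

theorem el_inj {i j : ℕ} (hi : i < 16) (hj : j < 16) (h : el s i = el s j) : i = j := by
  have := List.all_eq_true.1 (List.all_eq_true.1 ew_inj i (List.mem_range.2 hi)) j
    (List.mem_range.2 hj)
  simp only [Bool.or_eq_true, decide_eq_true_eq, Bool.not_eq_true', decide_eq_false_iff_not] at this
  exact this.resolve_right fun hne => hne (Φ.hv_eq_of_eq S (ew_lt i hi) (ew_lt j hj) h)

theorem el_ne_one {i : ℕ} (hi : i < 16) (h0 : i ≠ 0) : el s i ≠ 1 := fun e =>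
  h0 (el_inj Φ S hi (by norm_num) (e.trans el_zero.symm))

theorem el_order {i : ℕ} (hi : i < 16) (h0 : i ≠ 0) : orderOf (el s i) = 2 :=
  invol_of_mul_self (el_sq Φ hi) (el_ne_one Φ S hi h0)

theorem el_ni {i : ℕ} (hi : i = 2 ∨ i = 3) : NI z Q (el s i) := by
  have hi16 : i < 16 := by omega
  refine ⟨?_, el_sq Φ hi16, el_ne_one Φ S hi16 (by omega), fun e => ?_⟩
  · rcases hi with rfl | rfl
    · rw [el_two]; exact Φ.hQ 4 (by norm_num)
    · rw [show (3 : ℕ) = 1 ^^^ 2 from rfl, ← el_mul Φ (by norm_num) (by norm_num), el_one Φ, el_two]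
      exact mul_mem S.hzQ (Φ.hQ 4 (by norm_num))
  · have := el_inj Φ S hi16 (j := 1) (by norm_num) (e.trans (el_one Φ).symm)
    omega

theorem el_outer [Finite G] {i : ℕ} (hi : i < 16) (h4 : 4 ≤ i) : Outer z Q (el s i) := by
  refine ⟨el_mem Φ hi, el_sq Φ hi, fun hQ => ?_⟩
  have := List.all_eq_true.1 ew_outer i (List.mem_range.2 hi)
  simp only [Bool.or_eq_true, decide_eq_true_eq, List.any_eq_true, Bool.and_eq_true,
    Bool.not_eq_true', decide_eq_false_iff_not, List.mem_range] at this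
  obtain ⟨x, hx, h0, h1⟩ := this.resolve_left (by omega)
  have hxQ := Φ.hQ x hx
  have hlt := Frame.cw_lt (ew_lt i hi) (show x < 8 by omega)
  have hc : wprod s (cw (ew i) x) = el s i * s x * (el s i)⁻¹ * s x := by
    rw [cw, wprod_append, wprod_append, wprod_append, wprod_reverse s Φ.hs, wprod_cons, wprod_nil,
      mul_one]
    rfl
  rcases S.comm_Q hQ hxQ with e | e
  · refine h0 (Φ.hv_eq_zero S hlt ?_)
    rw [hc, e, mul_inv_cancel_right, Φ.hs]
  · refine h1 (Φ.hv_eq_of_eq S hlt (by simp) ?_)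
    rw [hc, e, mul_assoc (s x) (el s i), S.commZ (el_mem Φ hi), ← mul_assoc, mul_inv_cancel_right,
      mul_assoc, ← S.commZQ hxQ, ← mul_assoc, Φ.hs, one_mul, Φ.hz]

theorem mem_E [Finite G] {g : G} (hz : g * z = z * g) (ha : g * el s 4 = el s 4 * g) :
    ∃ i < 16, g = el s i := by
  obtain ⟨t, ht, e⟩ := Φ.exists_wd S (mem_centralizer_singleton_iff.2 hz)
  have h := List.all_eq_true.1 cent_a t (List.mem_range.2 ht)
  have hw := Frame.wd_lt ht
  have heq : hv (J3H.wd t ++ [5]) = hv ([5] ++ J3H.wd t) := by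
    refine Φ.hv_eq_of_eq S ?_ ?_ ?_
    · intro x hx
      rcases List.mem_append.1 hx with hx | hx
      · exact hw x hx
      · simp only [List.mem_singleton] at hx; omega
    · intro x hx
      rcases List.mem_append.1 hx with hx | hx
      · simp only [List.mem_singleton] at hx; omega
      · exact hw x hx
    · rw [el_four] at ha
      rw [wprod_append, wprod_append, wprod_cons, wprod_nil, mul_one, e]
      exact ha
  simp only [heq, decide_true, Bool.not_true, Bool.false_or, List.any_eq_true, List.mem_range,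
    decide_eq_true_eq] at h
  obtain ⟨i, hi, hit⟩ := h
  refine ⟨i, hi, ?_⟩
  rw [← e]
  exact Φ.eq_of_hv hw (ew_lt i hi) ((Frame.hv_wd ht).trans hit.symm)

end

/-- `g` permutes `E` by the listed images. -/
def Act (s : ℕ → G) (g : G) (L : List ℕ) : Prop :=
  ∀ i < 16, L.getD i 0 < 16 ∧ g * el s i * g⁻¹ = el s (L.getD i 0)

/-- The composite of two lists of images. -/
def cmp (L M : List ℕ) : List ℕ := (List.range 16).map fun i => L.getD (M.getD i 0) 0

/-- The identity list. -/
def idL : List ℕ := List.range 16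

theorem cmp_get (L M : List ℕ) {i : ℕ} (hi : i < 16) :
    (cmp L M).getD i 0 = L.getD (M.getD i 0) 0 := by
  simp [cmp, hi]

theorem Act.mul {g h : G} {L M : List ℕ} (hg : Act s g L) (hh : Act s h M) :
    Act s (g * h) (cmp L M) := by
  intro i hi
  obtain ⟨h1, h2⟩ := hh i hi
  obtain ⟨g1, g2⟩ := hg _ h1
  rw [cmp_get L M hi]
  refine ⟨g1, ?_⟩
  rw [← g2, ← h2]
  group

theorem Act.congr {g : G} {L M : List ℕ} (hg : Act s g L) (h : L = M) : Act s g M := h ▸ hg

/-- The linear extension of the images of the basis. -/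
def lin (y₁ y₂ y₄ y₈ : ℕ) : List ℕ := (List.range 16).map fun i =>
  (if i.testBit 0 then y₁ else 0) ^^^ (if i.testBit 1 then y₂ else 0) ^^^
    (if i.testBit 2 then y₄ else 0) ^^^ (if i.testBit 3 then y₈ else 0)

section

variable (Φ : Frame z Q s)
include Φ

theorem act_el {j : ℕ} (hj : j < 16) : Act s (el s j) idL := by
  intro i hi
  have e : idL.getD i 0 = i := by simp [idL, hi]
  rw [e]
  exact ⟨hi, by rw [el_comm Φ hj hi, mul_inv_cancel_right]⟩

theorem act_word (u L : List ℕ) (hu : ∀ x ∈ u, x < 8) (h : (List.range 16).all (fun i =>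
    decide (L.getD i 0 < 16) &&
      decide (hv (u ++ ew i ++ u.reverse) = hv (ew (L.getD i 0)))) = true) :
    Act s (wprod s u) L := by
  intro i hi
  have h' := List.all_eq_true.1 h i (List.mem_range.2 hi)
  simp only [Bool.and_eq_true, decide_eq_true_eq] at h'
  refine ⟨h'.1, ?_⟩
  rw [el, el, ← Φ.eq_of_hv (fun x hx => ?_) (ew_lt _ h'.1) h'.2, wprod_append, wprod_append,
    wprod_reverse s Φ.hs]
  simp only [List.mem_append, List.mem_reverse] at hx
  rcases hx with (hx | hx) | hx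
  exacts [hu x hx, ew_lt i hi x hx, hu x hx]

theorem act_of_basis {g : G} {y₁ y₂ y₄ y₈ : ℕ} (h₁ : y₁ < 16) (h₂ : y₂ < 16) (h₄ : y₄ < 16)
    (h₈ : y₈ < 16) (e₁ : g * el s 1 * g⁻¹ = el s y₁) (e₂ : g * el s 2 * g⁻¹ = el s y₂)
    (e₄ : g * el s 4 * g⁻¹ = el s y₄) (e₈ : g * el s 8 * g⁻¹ = el s y₈) :
    Act s g (lin y₁ y₂ y₄ y₈) := by
  have hmul : ∀ {a b c d : ℕ}, a < 16 → b < 16 → c < 16 → d < 16 → g * el s a * g⁻¹ = el s c →
      g * el s b * g⁻¹ = el s d → g * el s (a ^^^ b) * g⁻¹ = el s (c ^^^ d) := by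
    intro a b c d ha hb hc hd ea eb
    rw [← el_mul Φ ha hb, ← el_mul Φ hc hd, ← ea, ← eb]
    group
  have h0 : g * el s 0 * g⁻¹ = el s 0 := by rw [el_zero, mul_one, mul_inv_cancel]
  have bit : ∀ (b : Bool) (e y : ℕ), e < 16 → y < 16 → g * el s e * g⁻¹ = el s y →
      (if b then e else 0) < 16 ∧ (if b then y else 0) < 16 ∧
      g * el s (if b then e else 0) * g⁻¹ = el s (if b then y else 0) := by
    intro b e y he hy ee
    cases b
    · exact ⟨by norm_num, by norm_num, h0⟩
    · exact ⟨he, hy, ee⟩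
  intro i hi
  obtain ⟨a1, b1, c1⟩ := bit (i.testBit 0) 1 y₁ (by norm_num) h₁ e₁
  obtain ⟨a2, b2, c2⟩ := bit (i.testBit 1) 2 y₂ (by norm_num) h₂ e₂
  obtain ⟨a4, b4, c4⟩ := bit (i.testBit 2) 4 y₄ (by norm_num) h₄ e₄
  obtain ⟨a8, b8, c8⟩ := bit (i.testBit 3) 8 y₈ (by norm_num) h₈ e₈
  have a12 := Nat.xor_lt_two_pow (n := 4) a1 a2
  have b12 := Nat.xor_lt_two_pow (n := 4) b1 b2
  have a124 := Nat.xor_lt_two_pow (n := 4) a12 a4
  have b124 := Nat.xor_lt_two_pow (n := 4) b12 b4
  have e := hmul a124 a8 b124 b8 (hmul a12 a4 b12 b4 (hmul a1 a2 b1 b2 c1 c2) c4) c8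
  have hdec : ∀ j < 16, (if j.testBit 0 then 1 else 0) ^^^ (if j.testBit 1 then 2 else 0) ^^^
      (if j.testBit 2 then 4 else 0) ^^^ (if j.testBit 3 then 8 else 0) = j := by decide
  rw [hdec i hi] at e
  simp only [lin, List.getD_eq_getElem?_getD, List.getElem?_map, List.getElem?_range hi,
    Option.map_some, Option.getD_some]
  exact ⟨Nat.xor_lt_two_pow (n := 4) b124 b8, e⟩

variable (S : Pre z Q)
include S

theorem act_id [Finite G] {g : G} (hg : Act s g idL) : ∃ i < 16, g = el s i := by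
  refine mem_E Φ S ?_ ?_
  · have := (hg 1 (by norm_num)).2
    rw [el_one Φ, show idL.getD 1 0 = 1 from rfl, el_one Φ] at this
    exact mul_inv_eq_iff_eq_mul.1 this
  · exact mul_inv_eq_iff_eq_mul.1 (hg 4 (by norm_num)).2

/-- An element acting trivially and commuting with a fixed-point-free one is trivial. -/
theorem eq_one_of_act_id [Finite G] {g n : G} {N : List ℕ} (hg : Act s g idL) (hn : Act s n N)
    (hfree : ∀ j < 16, N.getD j 0 = j → j = 0) (hc : n * g = g * n) : g = 1 := by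
  obtain ⟨j, hj, rfl⟩ := act_id Φ S hg
  obtain ⟨h1, h2⟩ := hn j hj
  rw [hc, mul_inv_cancel_right] at h2
  rw [hfree j hj (el_inj Φ S h1 hj h2.symm), el_zero]

end

/-- Two commuting involutions placed like `z` and a non-central involution of `Q`. -/
def Rel (e u : G) : Prop :=
  orderOf e = 2 ∧ orderOf u = 2 ∧ e ≠ u ∧ e * u = u * e ∧
    Nat.card ↥(centralizer ({e} : Set G) ⊓ centralizer ({u} : Set G) : Subgroup G) = 192

theorem Rel.symm {e u : G} (h : Rel e u) : Rel u e :=
  ⟨h.2.1, h.1, h.2.2.1.symm, h.2.2.2.1.symm, by rw [inf_comm]; exact h.2.2.2.2⟩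

theorem Rel.conj {e u : G} (g : G) (h : Rel e u) : Rel (g * e * g⁻¹) (g * u * g⁻¹) := by
  refine ⟨by rw [orderOf_conj_eq]; exact h.1, by rw [orderOf_conj_eq]; exact h.2.1, fun e' => ?_,
    ?_, ?_⟩
  · exact h.2.2.1 (mul_left_cancel (mul_right_cancel e'))
  · calc g * e * g⁻¹ * (g * u * g⁻¹) = g * (e * u) * g⁻¹ := by group
      _ = g * (u * e) * g⁻¹ := by rw [h.2.2.2.1]
      _ = g * u * g⁻¹ * (g * e * g⁻¹) := by group
  · rw [← h.2.2.2.2]
    have key : ∀ x v : G, x * (g * v * g⁻¹) = g * v * g⁻¹ * x ↔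
        g⁻¹ * x * g * v = v * (g⁻¹ * x * g) := by
      intro x v
      constructor <;> intro hx
      · calc g⁻¹ * x * g * v = g⁻¹ * (x * (g * v * g⁻¹)) * g := by group
          _ = v * (g⁻¹ * x * g) := by rw [hx]; group
      · calc x * (g * v * g⁻¹) = g * (g⁻¹ * x * g * v) * g⁻¹ := by group
          _ = g * v * g⁻¹ * x := by rw [hx]; group
    refine Nat.card_congr ((MulAut.conj g⁻¹).toEquiv.subtypeEquiv fun x => ?_)
    show x ∈ _ ↔ g⁻¹ * x * g⁻¹⁻¹ ∈ _
    rw [inv_inv]
    simp only [mem_inf, mem_centralizer_singleton_iff, key]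

theorem card_cent_x4 : ((List.range 1920).filter fun t =>
    decide (hv (J3H.wd t ++ [4]) = hv ([4] ++ J3H.wd t))).length = 192 := by decide +kernel

section

variable (Φ : Frame z Q s) (S : Pre z Q)
include Φ S

theorem rel_x4 [Finite G] : Rel z (el s 2) := by
  classical
  have hni := el_ni Φ S (Or.inl rfl : (2 : ℕ) = 2 ∨ 2 = 3)
  refine ⟨S.hz, hni.order, Ne.symm hni.2.2.2, (S.commZQ hni.1).symm, ?_⟩
  rw [el_two, ← card_cent_x4]
  set l := (List.range 1920).filter fun t => decide (hv (J3H.wd t ++ [4]) = hv ([4] ++ J3H.wd t))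
    with hl
  have hl1 : ∀ {t}, t ∈ l ↔ t < 1920 ∧ hv (J3H.wd t ++ [4]) = hv ([4] ++ J3H.wd t) := by
    simp [hl, List.mem_filter]
  have hlt : ∀ {t}, t < 1920 → (∀ x ∈ J3H.wd t ++ [4], x < 8) ∧ ∀ x ∈ [4] ++ J3H.wd t, x < 8 := by
    intro t ht
    constructor <;> intro x hx <;> rcases List.mem_append.1 hx with hx | hx
    exacts [Frame.wd_lt ht x hx, by simp at hx; omega, by simp at hx; omega, Frame.wd_lt ht x hx]
  have hnd : l.Nodup := List.nodup_range.filter _
  rw [← List.toFinset_card_of_nodup hnd, ← Fintype.card_coe, ← Nat.card_eq_fintype_card]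
  refine (Nat.card_congr (Equiv.ofBijective (fun t : ↥l.toFinset =>
    (⟨wprod s (J3H.wd t), ?_⟩ : ↥(centralizer ({z} : Set G) ⊓ centralizer ({s 4} : Set G) :
      Subgroup G))) ⟨?_, ?_⟩)).symm
  · obtain ⟨h1, h2⟩ := hl1.1 (List.mem_toFinset.1 t.2)
    refine mem_inf.2 ⟨Φ.mem_C (Frame.wd_lt h1), mem_centralizer_singleton_iff.2 ?_⟩
    have := Φ.eq_of_hv (hlt h1).1 (hlt h1).2 h2
    simpa [wprod_append, wprod_cons, wprod_nil] using this
  · intro p q e
    have h1 := (hl1.1 (List.mem_toFinset.1 p.2)).1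
    have h2 := (hl1.1 (List.mem_toFinset.1 q.2)).1
    have := Φ.hv_eq_of_eq S (Frame.wd_lt h1) (Frame.wd_lt h2) (congrArg Subtype.val e)
    rw [Frame.hv_wd h1, Frame.hv_wd h2] at this
    exact Subtype.ext this
  · rintro ⟨g, hg⟩
    obtain ⟨t, ht, e⟩ := Φ.exists_wd S (mem_inf.1 hg).1
    refine ⟨⟨t, List.mem_toFinset.2 (hl1.2 ⟨ht, ?_⟩)⟩, Subtype.ext e⟩
    refine Φ.hv_eq_of_eq S (hlt ht).1 (hlt ht).2 ?_
    rw [wprod_append, wprod_append, e, wprod_cons, wprod_nil, mul_one]
    exact mem_centralizer_singleton_iff.1 (mem_inf.1 hg).2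

/-- What the relation says at `z`. -/
theorem rel_z_iff [Finite G] {u : G} : Rel z u ↔ NI z Q u := by
  constructor
  · intro h
    refine ⟨?_, invol_mul_self h.2.1, invol_ne_one h.2.1, h.2.2.1.symm⟩
    by_contra hQ
    have hout : Outer z Q u :=
      ⟨mem_centralizer_singleton_iff.2 h.2.2.2.1.symm, invol_mul_self h.2.1, hQ⟩
    have := (S.outer_class hout).1
    rw [h.2.2.2.2] at this
    norm_num at this
  · intro h
    obtain ⟨g, hg, e⟩ := S.ni_transitive (el_ni Φ S (Or.inl rfl : (2 : ℕ) = 2 ∨ 2 = 3)) h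
    have := (rel_x4 Φ S).conj g
    rwa [S.conjZ hg, e] at this

theorem rel_trans [Finite G] (hone : ∀ x y : G, orderOf x = 2 → orderOf y = 2 → IsConj x y)
    {e u v : G} (hu : Rel e u) (hv : Rel e v) (hc : u * v = v * u) : v = u ∨ v = u * e := by
  obtain ⟨g, rfl⟩ := isConj_iff.1 (hone z e S.hz hu.1)
  have h1 := (rel_z_iff Φ S).1 (by simpa [mul_assoc] using hu.conj g⁻¹)
  have h2 := (rel_z_iff Φ S).1 (by simpa [mul_assoc] using hv.conj g⁻¹)
  obtain ⟨-, -, -, -, hpair, -⟩ := S.exists_five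
  rcases hpair _ _ h1 h2 (by
      calc g⁻¹ * (u * g) * (g⁻¹ * (v * g)) = g⁻¹ * (u * v) * g := by group
        _ = g⁻¹ * (v * u) * g := by rw [hc]
        _ = g⁻¹ * (v * g) * (g⁻¹ * (u * g)) := by group) with e | e
  · left; simpa using congrArg (fun t => g * t * g⁻¹) e
  · right
    have e' := congrArg (fun t => g * t * g⁻¹) e
    simpa [mul_assoc] using e'

theorem rel_mul [Finite G] (hone : ∀ x y : G, orderOf x = 2 → orderOf y = 2 → IsConj x y)
    {e u : G} (hu : Rel e u) : Rel e (u * e) := by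
  obtain ⟨g, rfl⟩ := isConj_iff.1 (hone z e S.hz hu.1)
  have h1 := (rel_z_iff Φ S).1 (by simpa [mul_assoc] using hu.conj g⁻¹)
  have h2 := ((rel_z_iff Φ S).2 (S.ni_mul_z h1)).conj g
  simpa [mul_assoc] using h2

end

end CfsgLib.InvChar.J3Rec
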