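import Cfsg.Agent.Lib.InvChar.CosetWordGroup

/-!
# Multiplication tables from enumerations over the trivial subgroup

A word is evaluated by following its reverse from coset `0`; equal values mean equal products in
every group satisfying the relators, and the converse holds when the order is that of the table.
-/

set_option autoImplicit false

namespace CfsgLib.InvChar.Coset

/-- The number of the element spelled by a word. -/
noncomputable def Table.val (T : Table) (L : List ℕ) : ℕ := T.follow L.reverse 0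

/-- The word of element `i` along a parent table (`16 * parent + letter`). -/
noncomputable def parWord (par : Tr) : ℕ → ℕ → List ℕ :=
  fun fuel => Nat.rec (fun _ => [])
    (fun _ ih i => bif Nat.beq i 0 then [] else
      force (field par 128 20 i) fun v => (v % 16) :: ih (v / 16)) fuel

variable {D : Cert} {T : Table} {live fin : Tr} (hC : Covered D T live fin)
variable {G : Type*} [Group G] (s : ℕ → G)

theorem Table.val_append (L M : List ℕ) : T.val (L ++ M) = T.follow L.reverse (T.val M) := by
  rw [Table.val, List.reverse_append, T.follow_append]; rfl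

theorem Table.val_cons (x : ℕ) (L : List ℕ) : T.val (x :: L) = T.app (T.val L) x := by
  rw [show x :: L = [x] ++ L from rfl, T.val_append]
  exact force_eq _ _

section
include hC

theorem Covered.val_lt : ∀ L : List ℕ, (∀ x ∈ L, x < T.g) → T.val L < T.n := by
  intro L
  induction L with
  | nil => intro _; exact hC.hn
  | cons x L ih =>
    intro h
    rw [T.val_cons]
    exact (hC.rows _ (ih fun y hy => h y (List.mem_cons_of_mem x hy)) x (h x List.mem_cons_self)).1

theorem Covered.coset_eq_word (H : Subgroup G) (hs : ∀ x, s x * s x = 1)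
    (hR : ∀ r ∈ D.rels, wprod s r = 1) (hS : ∀ r ∈ D.subs, wprod s r ∈ H) :
    ∀ L : List ℕ, (∀ x ∈ L, x < T.g) →
      coset s H D live (T.val L) = ((wprod s L : G) : G ⧸ H) := by
  intro L
  induction L with
  | nil => intro _; exact (hC.coset_zero s H).trans (by simp [wprod])
  | cons x L ih =>
    intro h
    have hL : ∀ y ∈ L, y < T.g := fun y hy => h y (List.mem_cons_of_mem x hy)
    rw [T.val_cons, ← hC.smul_coset s H hs hR hS (h x List.mem_cons_self) (hC.val_lt L hL), ih hL]
    simp [wprod]

/-- Equal values give equal products. -/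
theorem Covered.eq_of_val (hs : ∀ x, s x * s x = 1) (hR : ∀ r ∈ D.rels, wprod s r = 1)
    (hsub : D.subs = []) {L M : List ℕ} (hL : ∀ x ∈ L, x < T.g) (hM : ∀ x ∈ M, x < T.g)
    (h : T.val L = T.val M) : wprod s L = wprod s M := by
  have hS : ∀ r ∈ D.subs, wprod s r ∈ (⊥ : Subgroup G) := by simp [hsub]
  have e1 := hC.coset_eq_word s ⊥ hs hR hS L hL
  rw [h, hC.coset_eq_word s ⊥ hs hR hS M hM, QuotientGroup.eq, Subgroup.mem_bot,
    inv_mul_eq_one] at e1
  exact e1.symm

/-- A value `0` gives a trivial product. -/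
theorem Covered.eq_one_of_val (hs : ∀ x, s x * s x = 1) (hR : ∀ r ∈ D.rels, wprod s r = 1)
    (hsub : D.subs = []) {L : List ℕ} (hL : ∀ x ∈ L, x < T.g) (h : T.val L = 0) :
    wprod s L = 1 :=
  hC.eq_of_val s hs hR hsub (M := []) hL (by simp) h

/-- In a group of the order of the table values determine products. -/
theorem Covered.val_eq_iff (hs : ∀ x, s x * s x = 1) (hR : ∀ r ∈ D.rels, wprod s r = 1)
    (hsub : D.subs = []) (hgen : Subgroup.closure (s '' Set.Iio T.g) = ⊤) [Finite G]
    (hcard : T.n ≤ Nat.card G) {L M : List ℕ} (hL : ∀ x ∈ L, x < T.g) (hM : ∀ x ∈ M, x < T.g) :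
    wprod s L = wprod s M ↔ T.val L = T.val M := by
  refine ⟨fun h => ?_, hC.eq_of_val s hs hR hsub hL hM⟩
  have hS : ∀ r ∈ D.subs, wprod s r ∈ (⊥ : Subgroup G) := by simp [hsub]
  let f : Fin T.n → G ⧸ (⊥ : Subgroup G) := fun i => coset s ⊥ D live i
  have hf : Function.Surjective f := fun y => by
    obtain ⟨i, hi, rfl⟩ := hC.exists_coset s ⊥ hs hR hS hgen y
    exact ⟨⟨i, hi⟩, rfl⟩
  have hb := hf.bijective_of_nat_card_le (by
    rw [Nat.card_fin, ← Subgroup.index, Subgroup.index_bot]; exact hcard)
  have e1 := hC.coset_eq_word s ⊥ hs hR hS L hL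
  rw [h, ← hC.coset_eq_word s ⊥ hs hR hS M hM] at e1
  exact congrArg Fin.val (hb.1 (a₁ := ⟨_, hC.val_lt L hL⟩) (a₂ := ⟨_, hC.val_lt M hM⟩) e1)

/-- Every element is the product of one of the parent words. -/
theorem Covered.exists_word (hs : ∀ x, s x * s x = 1) (hR : ∀ r ∈ D.rels, wprod s r = 1)
    (hsub : D.subs = []) (hgen : Subgroup.closure (s '' Set.Iio T.g) = ⊤) {par : Tr} {fuel : ℕ}
    (hw : ∀ i < T.n, T.val (parWord par fuel i) = i ∧ ∀ x ∈ parWord par fuel i, x < T.g) (g : G) :
    ∃ i < T.n, wprod s (parWord par fuel i) = g := by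
  have hS : ∀ r ∈ D.subs, wprod s r ∈ (⊥ : Subgroup G) := by simp [hsub]
  obtain ⟨i, hi, e⟩ := hC.exists_coset s ⊥ hs hR hS hgen (g : G ⧸ (⊥ : Subgroup G))
  obtain ⟨h1, h2⟩ := hw i hi
  rw [← h1, hC.coset_eq_word s ⊥ hs hR hS _ h2, QuotientGroup.eq, Subgroup.mem_bot,
    inv_mul_eq_one] at e
  exact ⟨i, hi, e⟩

end

end CfsgLib.InvChar.Coset
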