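import Cfsg.Agent.Lib.InvChar.J3Outer
import Cfsg.Agent.Lib.InvChar.J3Table
import Cfsg.Agent.Lib.InvChar.SporData.J3H.Main
import Cfsg.Agent.Lib.InvChar.SporData.J3H.Par
import Cfsg.Agent.Lib.InvChar.SporData.J3A5u.Main
import Cfsg.Agent.Lib.InvChar.SporData.J3A5v.Main

/-!
# Generators of an involution centraliser of J₃ type

`x₀, …, x₄` are the involutions of `Q` up to `z`, and the letters `5, 6, 7` are involutions outside `Q`
permuting them exactly. They satisfy the relators of the table `J3H`.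
-/

set_option autoImplicit false

namespace CfsgLib.InvChar.J3Rec

open Subgroup Coset CfsgLib.InvChar.HJType

universe u

/-- Free reduction of a word in involutions. -/
def red : List ℕ → List ℕ
  | [] => []
  | x :: L =>
    match red L with
    | [] => [x]
    | y :: M => if x = y then M else x :: y :: M

theorem wprod_nil {G : Type*} [Monoid G] (s : ℕ → G) : wprod s [] = 1 := rfl

theorem wprod_cons {G : Type*} [Monoid G] (s : ℕ → G) (x : ℕ) (L : List ℕ) :
    wprod s (x :: L) = s x * wprod s L := by simp [wprod]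

theorem wprod_red {G : Type*} [Group G] (s : ℕ → G) (hs : ∀ x, s x * s x = 1) :
    ∀ L, wprod s (red L) = wprod s L := by
  intro L
  induction L with
  | nil => rfl
  | cons x L ih =>
    rw [wprod_cons, ← ih, red]
    split
    · next h => simp [h, wprod]
    · next y M h =>
      rw [h]
      split
      · next e => subst e; rw [wprod_cons, ← mul_assoc, hs, one_mul]
      · rw [wprod_cons]

variable {G : Type u} [Group G] {z : G} {Q : Subgroup G}

theorem a5_pairs : ∀ σ ∈ ([Equiv.swap 0 1 * Equiv.swap 2 3, Equiv.swap 0 1 * Equiv.swap 3 4,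
      Equiv.swap 0 2 * Equiv.swap 3 4] : List (Equiv.Perm (Fin 5))),
    ∀ τ : Equiv.Perm (Fin 5), Equiv.Perm.sign τ = 1 → τ * τ = 1 → τ ≠ 1 →
      ∃ g, Equiv.Perm.sign g = 1 ∧ g * τ * g⁻¹ = σ := by decide +kernel

/-- An involution of `H` inducing a given double transposition exactly. -/
theorem exists_lift [Finite G] (S : Pre z Q) {o : G} (ho : Outer z Q o) (x : Fin 5 → G)
    (ψ : ↥(centralizer ({z} : Set G)) →* Equiv.Perm (Fin 5))
    (hx : ∀ i, NI z Q (x i)) (hne : ∀ i j, i ≠ j → x j * x i = x i * x j * z)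
    (hconj : ∀ (h : ↥(centralizer ({z} : Set G))) i, (h : G) * x i * (h : G)⁻¹ = x (ψ h i) ∨
        (h : G) * x i * (h : G)⁻¹ = x (ψ h i) * z)
    (hrange : ∀ g : Equiv.Perm (Fin 5), Equiv.Perm.sign g = 1 → ∃ h, ψ h = g)
    (hψo : ∀ h : ↥(centralizer ({z} : Set G)), (h : G) = o →
      Equiv.Perm.sign (ψ h) = 1 ∧ ψ h * ψ h = 1 ∧ ψ h ≠ 1)
    (hprod : x 0 * x 1 * x 2 * x 3 * x 4 = 1)
    (σ : Equiv.Perm (Fin 5))
    (hσ : σ ∈ ([Equiv.swap 0 1 * Equiv.swap 2 3, Equiv.swap 0 1 * Equiv.swap 3 4,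
      Equiv.swap 0 2 * Equiv.swap 3 4] : List (Equiv.Perm (Fin 5))))
    (hσp : x (σ 0) * x (σ 1) * x (σ 2) * x (σ 3) * x (σ 4) = 1)
    (i j k l p : Fin 5) (hij : σ i = j) (hji : σ j = i) (hkl : σ k = l) (hlk : σ l = k)
    (hp : σ p = p)
    (hd : i ≠ j ∧ i ≠ k ∧ i ≠ l ∧ i ≠ p ∧ j ≠ k ∧ j ≠ l ∧ j ≠ p ∧ k ≠ l ∧ k ≠ p ∧ l ≠ p)
    (hall : ∀ m : Fin 5, m = i ∨ m = j ∨ m = k ∨ m = l ∨ m = p) :
    ∃ a : G, a ∈ centralizer ({z} : Set G) ∧ a * a = 1 ∧ ∀ m, a * x m * a = x (σ m) := by
  classical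
  -- a first involution
  obtain ⟨hs, h2, h1⟩ := hψo ⟨o, ho.1⟩ rfl
  obtain ⟨g, hg, hgσ⟩ := a5_pairs σ hσ _ hs h2 h1
  obtain ⟨h, rfl⟩ := hrange g hg
  have hz2 : ∀ m, x m * z = z * x m := fun m => S.commZQ (hx m).1
  have base : ∃ a : G, a ∈ centralizer ({z} : Set G) ∧ a * a = 1 ∧
      ∀ m, a * x m * a = x (σ m) ∨ a * x m * a = x (σ m) * z := by
    refine ⟨(h : G) * o * (h : G)⁻¹, mul_mem (mul_mem h.2 ho.1) (inv_mem h.2), ?_, fun m => ?_⟩
    · calc (h : G) * o * (h : G)⁻¹ * ((h : G) * o * (h : G)⁻¹)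
          = (h : G) * (o * o) * (h : G)⁻¹ := by group
        _ = 1 := by rw [ho.2.1, mul_one, mul_inv_cancel]
    · have e := hconj (h * ⟨o, ho.1⟩ * h⁻¹) m
      rw [map_mul, map_mul, map_inv, hgσ] at e
      have hi : ((h : G) * o * (h : G)⁻¹)⁻¹ = (h : G) * o * (h : G)⁻¹ := by
        rw [mul_inv_rev, mul_inv_rev, inv_inv, inv_eq_of_mul_eq_one_right ho.2.1, mul_assoc]
      simp only [Subgroup.coe_mul, Subgroup.coe_inv] at e
      rwa [hi] at e
  -- removing the sign on a pair
  have flip : ∀ (i j : Fin 5), i ≠ j → σ i = j → σ j = i → ∀ a : G,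
      a ∈ centralizer ({z} : Set G) → a * a = 1 →
      (∀ m, a * x m * a = x (σ m) ∨ a * x m * a = x (σ m) * z) →
      ∃ b : G, b ∈ centralizer ({z} : Set G) ∧ b * b = 1 ∧
        (∀ m, b * x m * b = x (σ m) ∨ b * x m * b = x (σ m) * z) ∧
        b * x i * b = x j ∧ b * x j * b = x i ∧
        ∀ m, m ≠ i → m ≠ j → b * x m * b = a * x m * a := by
    intro i j hne' hij hji a haC haa hact
    have haz : a * z = z * a := mem_centralizer_singleton_iff.1 haC
    have hxi := (hx i).2.1
    have hxj := (hx j).2.1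
    rcases hij ▸ hact i with e | e
    · refine ⟨a, haC, haa, hact, e, ?_, fun m _ _ => rfl⟩
      rw [← e]
      simp only [mul_assoc, haa, mul_one]
      rw [← mul_assoc a a, haa, one_mul]
    · -- `a` sends both members to the other one times `z`
      have e' : a * x j * a = x i * z := by
        have h3 : a * (x j * z) * a = x i := by
          rw [← e]; simp only [mul_assoc, haa, mul_one]; rw [← mul_assoc a a, haa, one_mul]
        calc a * x j * a = a * x j * a * (z * z) := by rw [S.zz, mul_one]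
          _ = a * x j * (a * z) * z := by group
          _ = a * (x j * z) * a * z := by rw [haz]; group
          _ = x i * z := by rw [h3]
      have hqq : a * (x i * x j) * a = x j * x i := by
        calc a * (x i * x j) * a = a * x i * a * (a * x j * a) := by
              simp only [mul_assoc]; rw [← mul_assoc a a, haa, one_mul]
          _ = x j * z * (x i * z) := by rw [e, e']
          _ = x j * x i := by
              rw [mul_assoc, ← mul_assoc z, ← hz2 i, mul_assoc (x i), S.zz, mul_one]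
      set q := x i * x j with hq
      have hqC : q ∈ centralizer ({z} : Set G) := S.hQH (mul_mem (hx i).1 (hx j).1)
      have hbb : (a * q) * (a * q) = 1 := by
        rw [← mul_assoc, hqq, hq, mul_assoc, ← mul_assoc (x i), hxi, one_mul, hxj]
      have hbinv : a * q = x j * (x i * a) := by
        rw [eq_inv_of_mul_eq_one_left hbb, hq, mul_inv_rev, mul_inv_rev,
          inv_eq_of_mul_eq_one_right haa, inv_eq_of_mul_eq_one_right hxi,
          inv_eq_of_mul_eq_one_right hxj, mul_assoc]
      have hrule : ∀ y, (a * q) * y * (a * q) = a * (q * y * (x j * x i)) * a := by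
        intro y
        calc a * q * y * (a * q) = a * q * y * (x j * (x i * a)) := by rw [hbinv]
          _ = a * (q * y * (x j * x i)) * a := by group
      have hsw : ∀ m n, m ≠ n → x n * x m * x n = x m * z := fun m n hmn => by
        rw [hne m n hmn, mul_assoc, ← hz2 n, ← mul_assoc, mul_assoc (x m), (hx n).2.1, mul_one]
      have hin : ∀ m, q * x m * (x j * x i) = x i * (x j * x m * x j) * x i := fun m => by
        rw [hq]; simp only [mul_assoc]
      have hfix : ∀ m, m ≠ i → m ≠ j → q * x m * (x j * x i) = x m := by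
        intro m h1 h2
        rw [hin, hsw m j h2, mul_assoc, mul_assoc (x m), ← hz2 i, ← mul_assoc, ← mul_assoc,
          hsw m i h1, mul_assoc, S.zz, mul_one]
      have hswi : q * x i * (x j * x i) = x i * z := by
        rw [hin, hsw i j hne', ← mul_assoc, hxi, one_mul, hz2 i]
      have hswj : q * x j * (x j * x i) = x j * z := by
        rw [hin, hxj, one_mul, hsw j i (Ne.symm hne')]
      refine ⟨a * q, mul_mem haC hqC, hbb, fun m => ?_, ?_, ?_, fun m h1 h2 => ?_⟩
      · rw [hrule]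
        rcases eq_or_ne m i with rfl | h1
        · rw [hswi]; left; rw [hij]
          rw [← mul_assoc a, mul_assoc _ z a, ← haz, ← mul_assoc]
          rw [e, mul_assoc, S.zz, mul_one]
        rcases eq_or_ne m j with rfl | h2
        · rw [hswj]; left; rw [hji]
          rw [← mul_assoc a, mul_assoc _ z a, ← haz, ← mul_assoc]
          rw [e', mul_assoc, S.zz, mul_one]
        rw [hfix m h1 h2]
        exact hact m
      · rw [hrule, hswi]
        rw [← mul_assoc a, mul_assoc _ z a, ← haz, ← mul_assoc]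
        rw [e, mul_assoc, S.zz, mul_one]
      · rw [hrule, hswj]
        rw [← mul_assoc a, mul_assoc _ z a, ← haz, ← mul_assoc]
        rw [e', mul_assoc, S.zz, mul_one]
      · rw [hrule, hfix m h1 h2]
  obtain ⟨a₀, ha₀C, ha₀, hact₀⟩ := base
  obtain ⟨a₁, ha₁C, ha₁, hact₁, hi₁, hj₁, -⟩ := flip i j hd.1 hij hji a₀ ha₀C ha₀ hact₀
  obtain ⟨a, haC, haa, hact, hk, hl, hrest⟩ :=
    flip k l hd.2.2.2.2.2.2.2.1 hkl hlk a₁ ha₁C ha₁ hact₁
  have hi : a * x i * a = x j := by rw [hrest i hd.2.1 hd.2.2.1, hi₁]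
  have hj : a * x j * a = x i := by rw [hrest j hd.2.2.2.2.1 hd.2.2.2.2.2.1, hj₁]
  -- the fixed point carries no sign, as the product is trivial
  have hp' : a * x p * a = x p := by
    rcases hp ▸ hact p with e | e
    · exact e
    exfalso
    have key : ∀ m, a * x m * a = x (σ m) * (if m = p then z else 1) := by
      intro m
      rcases hall m with rfl | rfl | rfl | rfl | rfl
      · rw [if_neg hd.2.2.2.1, mul_one, hij, hi]
      · rw [if_neg hd.2.2.2.2.2.2.1, mul_one, hji, hj]
      · rw [if_neg hd.2.2.2.2.2.2.2.2.1, mul_one, hkl, hk]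
      · rw [if_neg hd.2.2.2.2.2.2.2.2.2, mul_one, hlk, hl]
      · rw [if_pos rfl, hp, e]
    have hd5 : ∀ y₀ y₁ y₂ y₃ y₄ : G, a * (y₀ * y₁ * y₂ * y₃ * y₄) * a =
        a * y₀ * a * (a * y₁ * a) * (a * y₂ * a) * (a * y₃ * a) * (a * y₄ * a) := by
      intros
      have c : ∀ t, a * (a * t) = t := fun t => by rw [← mul_assoc, haa, one_mul]
      simp only [mul_assoc, c]
    have h := congrArg (fun t => a * t * a) hprod
    simp only [mul_one, haa, hd5, key] at h
    have hzc : ∀ (m n : Fin 5) (t : G),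
        (if n = p then z else 1) * (x m * t) = x m * ((if n = p then z else 1) * t) := by
      intro m n t
      split
      · rw [← mul_assoc, ← hz2 m, mul_assoc]
      · simp
    have hzz : ∀ n, x (σ 0) * x (σ 1) * x (σ 2) * x (σ 3) * x (σ 4) * n = n := fun n => by
      rw [hσp, one_mul]
    apply S.zne
    simp only [mul_assoc, hzc] at h
    simp only [mul_assoc] at hzz
    rw [hzz] at h
    rcases (show p = 0 ∨ p = 1 ∨ p = 2 ∨ p = 3 ∨ p = 4 by omega) with rfl | rfl | rfl | rfl | rfl <;>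
      simpa using h
  refine ⟨a, haC, haa, fun m => ?_⟩
  rcases hall m with rfl | rfl | rfl | rfl | rfl
  · rw [hij, hi]
  · rw [hji, hj]
  · rw [hkl, hk]
  · rw [hlk, hl]
  · rw [hp, hp']

/-- Ten letters, the first eight of them spanning the centraliser of `z`. -/
structure Frame (z : G) (Q : Subgroup G) (s : ℕ → G) : Prop where
  hs : ∀ x, s x * s x = 1
  hR : ∀ r ∈ J3H.rels, wprod s r = 1
  hz : wprod s [4, 0, 4, 0] = z
  hmem : ∀ x, x < 8 → s x ∈ centralizer ({z} : Set G)
  hQ : ∀ x, x < 5 → s x ∈ Q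

set_option maxHeartbeats 4000000 in
theorem exists_frame [Finite G] (S : Pre z Q) (hout : ∃ o, Outer z Q o) :
    ∃ s : ℕ → G, Frame z Q s := by
  classical
  obtain ⟨o, ho⟩ := hout
  obtain ⟨x, ψ, hx, hne, hall, hconj, hsgn, hker⟩ := S.exists_five_ni
  -- normalise the product
  have hsq : ∀ i, x i * x i = 1 := fun i => (hx i).2.1
  have hcz : ∀ i, z * x i = x i * z := fun i => (S.commZQ (hx i).1).symm
  have hne' : ∀ i j, i ≠ j → x i ≠ x j ∧ x i ≠ x j * z := by
    intro i j hij
    have h := hne i j hij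
    constructor <;> intro e <;> rw [e] at h
    · exact S.zne (mul_eq_left.1 h.symm)
    · apply S.zne
      simp only [mul_assoc, hcz j] at h
      have h' := mul_left_cancel h
      rw [← mul_assoc, ← hcz j] at h'
      simp only [mul_assoc] at h'
      exact mul_eq_left.1 (mul_left_cancel h').symm
  have sw : ∀ i j, i ≠ j → ∀ t, x j * (x i * t) = x i * (x j * (z * t)) := fun i j hij t => by
    rw [← mul_assoc, hne i j hij]; simp only [mul_assoc]
  have sz : ∀ i t, z * (x i * t) = x i * (z * t) := fun i t => by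
    rw [← mul_assoc, hcz i, mul_assoc]
  have sq : ∀ i t, x i * (x i * t) = t := fun i t => by rw [← mul_assoc, hsq, one_mul]
  have szz : ∀ t, z * (z * t) = t := fun t => by rw [← mul_assoc, S.zz, one_mul]
  -- elements of `Q` commuting with the five involutions are central
  have hcent : ∀ q ∈ Q, (∀ i, q * x i = x i * q) → q = 1 ∨ q = z := by
    intro q hq hc
    by_contra hnc
    push Not at hnc
    have key : ∀ y, NI z Q y → ∀ a b, a ≠ b → y * x a = x a * y → y * x b = x b * y → False := by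
      intro y hy a b hab ha hb
      obtain ⟨m, hm⟩ := hall y hy
      have : ∀ c, y * x c = x c * y → c = m := by
        intro c hcy
        by_contra hcm
        have h := hne c m hcm
        rcases hm with rfl | rfl
        · rw [hcy] at h; exact S.zne (mul_eq_left.1 h.symm)
        · simp only [mul_assoc, hcz c] at hcy
          rw [← mul_assoc, ← mul_assoc] at hcy
          have := mul_right_cancel hcy
          rw [this] at h; exact S.zne (mul_eq_left.1 h.symm)
      exact hab ((this a ha).trans (this b hb).symm)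
    rcases S.sq_Q hq with h | h
    · exact key q ⟨hq, h, hnc.1, hnc.2⟩ 0 1 (by decide) (hc 0) (hc 1)
    · set q' := q * (x 0 * x 1) with hq'
      have hq'Q : q' ∈ Q := mul_mem hq (mul_mem (hx 0).1 (hx 1).1)
      have h01 : x 0 * x 1 * (x 0 * x 1) = z := by
        have sz : ∀ t, z * (x 1 * t) = x 1 * (z * t) := fun t => by
          rw [← mul_assoc, hcz 1, mul_assoc]
        calc x 0 * x 1 * (x 0 * x 1) = x 0 * (x 1 * x 0) * x 1 := by group
          _ = x 0 * x 0 * (x 1 * z * x 1) := by rw [hne 0 1 (by decide)]; group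
          _ = z := by rw [hsq, one_mul, mul_assoc, hcz 1, ← mul_assoc, hsq, one_mul]
      have hcq : q * (x 0 * x 1) = x 0 * x 1 * q := by
        rw [← mul_assoc, hc 0, mul_assoc, hc 1, mul_assoc]
      have hqq : q' * q' = 1 := by
        calc q' * q' = q * ((x 0 * x 1) * q) * (x 0 * x 1) := by rw [hq']; group
          _ = q * q * (x 0 * x 1 * (x 0 * x 1)) := by rw [← hcq]; group
          _ = 1 := by rw [h, h01, S.zz]
      have hc' : ∀ c, c ≠ 0 → c ≠ 1 → q' * x c = x c * q' := by
        intro c c0 c1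
        calc q' * x c = q * (x 0 * (x 1 * x c)) := by rw [hq']; group
          _ = q * (x 0 * (x c * x 1) * z) := by rw [hne c 1 c1]; group
          _ = q * (x c * x 0 * x 1 * (z * z)) := by
              rw [← mul_assoc (x 0), hne c 0 c0]
              simp only [mul_assoc, hcz 1, sz, szz, S.zz, mul_one]
          _ = x c * q' := by
              rw [S.zz, mul_one, ← mul_assoc, ← mul_assoc, hc c, hq']; group
      by_cases e1 : q' = 1
      · have hqe : q = (x 0 * x 1)⁻¹ := eq_inv_of_mul_eq_one_left e1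
        have h0 := hc 0
        rw [hqe, mul_inv_rev, inv_eq_of_mul_eq_one_right (hsq 0),
          inv_eq_of_mul_eq_one_right (hsq 1), mul_assoc, hsq, mul_one, ← mul_assoc] at h0
        apply S.zne
        have h0' : x 1 * x 0 = x 0 * x 1 := by
          calc x 1 * x 0 = x 0 * x 1 * x 0 * x 0 := by rw [← h0]
            _ = x 0 * x 1 := by rw [mul_assoc, hsq, mul_one]
        exact mul_eq_left.1 ((hne 0 1 (by decide)).symm.trans h0')
      by_cases e2 : q' = z
      · have hqe : q = z * (x 0 * x 1)⁻¹ := eq_mul_inv_of_mul_eq e2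
        have h0 := hc 0
        rw [hqe, mul_inv_rev, inv_eq_of_mul_eq_one_right (hsq 0),
          inv_eq_of_mul_eq_one_right (hsq 1), mul_assoc, mul_assoc, hsq, mul_one, ← mul_assoc,
          ← hcz 0, mul_assoc] at h0
        have h1 := mul_left_cancel h0
        apply S.zne
        have h0' : x 1 * x 0 = x 0 * x 1 := by
          calc x 1 * x 0 = x 0 * (x 1 * x 0) * x 0 := by rw [← h1]
            _ = x 0 * x 1 := by simp only [mul_assoc, hsq, mul_one]
        exact mul_eq_left.1 ((hne 0 1 (by decide)).symm.trans h0')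
      exact key q' ⟨hq'Q, hqq, e1, e2⟩ 2 3 (by decide) (hc' 2 (by decide) (by decide))
        (hc' 3 (by decide) (by decide))
  obtain ⟨x, hx, hne, hconj, hprod, hcent⟩ : ∃ x : Fin 5 → G, (∀ i, NI z Q (x i)) ∧
      (∀ i j, i ≠ j → x j * x i = x i * x j * z) ∧
      (∀ (h : ↥(centralizer ({z} : Set G))) i, (h : G) * x i * (h : G)⁻¹ = x (ψ h i) ∨
        (h : G) * x i * (h : G)⁻¹ = x (ψ h i) * z) ∧
      x 0 * x 1 * x 2 * x 3 * x 4 = 1 ∧
      ∀ q ∈ Q, (∀ i, q * x i = x i * q) → q = 1 ∨ q = z := by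
    have hPQ : x 0 * x 1 * x 2 * x 3 * x 4 ∈ Q :=
      mul_mem (mul_mem (mul_mem (mul_mem (hx 0).1 (hx 1).1) (hx 2).1) (hx 3).1) (hx 4).1
    have hPc : ∀ i, x 0 * x 1 * x 2 * x 3 * x 4 * x i = x i * (x 0 * x 1 * x 2 * x 3 * x 4) := by
      intro i
      fin_cases i <;>
        simp [mul_assoc, sw 0 1, sw 0 2, sw 0 3, sw 0 4, sw 1 2, sw 1 3, sw 1 4, sw 2 3, sw 2 4,
          sw 3 4, hne 0 1, hne 0 2, hne 0 3, hne 0 4, hne 1 2, hne 1 3, hne 1 4, hne 2 3,
          hne 2 4, hne 3 4, hsq, hcz, sz, sq, szz, S.zz]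
    rcases hcent _ hPQ hPc with hP | hP
    · exact ⟨x, hx, hne, hconj, hP, hcent⟩
    · let c : Fin 5 → G := fun i => if i = 4 then z else 1
      have hc : ∀ i, c i = 1 ∨ c i = z := fun i => by
        simp only [c]; split <;> simp
      have hcc : ∀ i g, g ∈ centralizer ({z} : Set G) → g * c i = c i * g := fun i g hg => by
        rcases hc i with e | e <;> rw [e]
        · simp
        · exact mem_centralizer_singleton_iff.1 hg
      refine ⟨fun i => x i * c i, fun i => ?_, fun i j hij => ?_, fun h i => ?_, ?_, fun q hq hq' => ?_⟩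
      · rcases hc i with e | e <;> simp only [e, mul_one]
        exacts [hx i, S.ni_mul_z (hx i)]
      · have a1 := hcc j (x i) (S.hQH (hx i).1)
        have a2 := hcc i (x j) (S.hQH (hx j).1)
        have a3 : z * c i = c i * z := hcc i z S.zH
        have a4 : c j * c i = c i * c j := (hcc i _ (by rcases hc j with e | e <;> rw [e]; exacts [one_mem _, S.zH]))
        have a5 : z * c j = c j * z := hcc j z S.zH
        calc x j * c j * (x i * c i) = x j * (c j * x i) * c i := by group
          _ = x j * x i * (c j * c i) := by rw [← a1]; group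
          _ = x i * x j * z * (c i * c j) := by rw [hne i j hij, a4]
          _ = x i * (x j * c i) * c j * z := by
              rw [mul_assoc (x i * x j), ← mul_assoc z, a3, mul_assoc (c i), a5]; group
          _ = x i * c i * (x j * c j) * z := by rw [a2]; group
      · have a1 := hcc i h h.2
        have e : (h : G) * (x i * c i) * (h : G)⁻¹ = (h : G) * x i * (h : G)⁻¹ * c i := by
          rw [mul_assoc _ _ (h : G)⁻¹, mul_assoc (x i), ← hcc i _ (inv_mem h.2)]; group
        simp only [e]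
        rcases hc i with e1 | e1 <;> rcases hc (ψ h i) with e2 | e2 <;>
          rcases hconj h i with e3 | e3 <;> simp [e1, e2, e3, mul_assoc, S.zz]
      · simp [c, ← mul_assoc, hP, S.zz]
      · refine hcent q hq fun i => ?_
        have h1 : q * (x i * c i) = x i * c i * q := hq' i
        rw [mul_assoc (x i), ← hcc i q (S.hQH hq), ← mul_assoc, ← mul_assoc] at h1
        exact mul_right_cancel h1
  have hsq : ∀ i, x i * x i = 1 := fun i => (hx i).2.1
  have hcz : ∀ i, z * x i = x i * z := fun i => (S.commZQ (hx i).1).symm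
  have hne2 : ∀ i j, (x i = x j ∨ x i = x j * z) → i = j := by
    intro i j h
    by_contra hij
    have hc : x j * x i = x i * x j := by
      rcases h with e | e <;> rw [e]
      rw [mul_assoc (x j), hcz j, ← mul_assoc]
    exact S.zne (mul_eq_left.1 ((hne i j hij).symm.trans hc))
  have hψ : ∀ (h : ↥(centralizer ({z} : Set G))) i j, ((h : G) * x i * (h : G)⁻¹ = x j ∨
      (h : G) * x i * (h : G)⁻¹ = x j * z) → ψ h i = j := by
    intro h i j hj
    refine hne2 _ _ ?_
    rcases hconj h i with e | e <;> rcases hj with e' | e' <;> rw [e] at e'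
    · exact Or.inl e'
    · exact Or.inr e'
    · exact Or.inr (by rw [← e', mul_assoc, S.zz, mul_one])
    · exact Or.inl (mul_right_cancel e')
  have hψQ : ∀ h : ↥(centralizer ({z} : Set G)), (h : G) ∈ Q → ψ h = 1 := by
    intro h hQ
    refine Equiv.ext fun i => hψ h i i ?_
    rcases S.comm_Q hQ (hx i).1 with e | e
    · exact Or.inl (by rw [e, mul_inv_cancel_right])
    · exact Or.inr (by rw [e, mul_assoc (x i), S.commZQ hQ, ← mul_assoc, mul_inv_cancel_right])
  have hrange : ∀ g : Equiv.Perm (Fin 5), Equiv.Perm.sign g = 1 → ∃ h, ψ h = g := by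
    have hker' : ψ.ker = Q.subgroupOf (centralizer ({z} : Set G)) :=
      le_antisymm (fun h hh => hker h hh) fun h hh => hψQ h hh
    have hle : ψ.range ≤ alternatingGroup (Fin 5) := by
      rintro _ ⟨h, rfl⟩; exact hsgn h
    have hc : Nat.card ↥ψ.range = Nat.card ↥(alternatingGroup (Fin 5)) := by
      have h1 := ψ.ker.index_mul_card
      rw [Subgroup.index_ker, hker', Nat.card_congr (subgroupOfEquivOfLe S.hQH).toEquiv, S.hQc,
        S.card_H] at h1
      rw [nat_card_alternatingGroup, Nat.card_fin, Nat.factorial]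
      simp only [Nat.factorial] at *
      omega
    intro g hg
    exact ((Subgroup.eq_of_le_of_card_ge hle hc.ge).symm ▸ (hg : g ∈ alternatingGroup (Fin 5)) :
      g ∈ ψ.range)
  have hψo : ∀ h : ↥(centralizer ({z} : Set G)), (h : G) = o →
      Equiv.Perm.sign (ψ h) = 1 ∧ ψ h * ψ h = 1 ∧ ψ h ≠ 1 := fun h e =>
    ⟨hsgn h, by rw [← map_mul, show h * h = 1 from Subtype.ext (by simp [e, ho.2.1]), map_one],
      fun e1 => ho.2.2 (e ▸ hker h e1)⟩
  have sw : ∀ i j, i ≠ j → ∀ t, x j * (x i * t) = x i * (x j * (z * t)) := fun i j hij t => by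
    rw [← mul_assoc, hne i j hij]; simp only [mul_assoc]
  have sz : ∀ i t, z * (x i * t) = x i * (z * t) := fun i t => by
    rw [← mul_assoc, hcz i, mul_assoc]
  have sq : ∀ i t, x i * (x i * t) = t := fun i t => by rw [← mul_assoc, hsq, one_mul]
  have szz : ∀ t, z * (z * t) = t := fun t => by rw [← mul_assoc, S.zz, one_mul]
  have hp : x 1 * x 0 * x 3 * x 2 * x 4 = 1 ∧ x 1 * x 0 * x 2 * x 4 * x 3 = 1 ∧
      x 2 * x 1 * x 0 * x 4 * x 3 = 1 := by
    have e := hprod
    simp only [mul_assoc] at e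
    refine ⟨?_, ?_, ?_⟩ <;>
      simp [mul_assoc, sw 0 1, sw 0 2, sw 0 3, sw 0 4, sw 1 2, sw 1 3, sw 1 4, sw 2 3, sw 2 4,
        sw 3 4, hne 0 1, hne 0 2, hne 0 3, hne 0 4, hne 1 2, hne 1 3, hne 1 4, hne 2 3,
        hne 2 4, hne 3 4, hcz, sz, sq, szz, S.zz, e]
  have pv : ∀ (σ : Equiv.Perm (Fin 5)) (a b c d e : Fin 5), σ 0 = a → σ 1 = b → σ 2 = c → σ 3 = d →
      σ 4 = e → x a * x b * x c * x d * x e = 1 →
      x (σ 0) * x (σ 1) * x (σ 2) * x (σ 3) * x (σ 4) = 1 := by
    intro σ a b c d e h0 h1 h2 h3 h4 h; rw [h0, h1, h2, h3, h4]; exact h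
  obtain ⟨a5, h5C, h55, h5⟩ := exists_lift S ho x ψ hx hne hconj hrange hψo hprod
    (Equiv.swap 0 1 * Equiv.swap 2 3) (by simp) (pv _ 1 0 3 2 4 (by decide) (by decide) (by decide) (by decide) (by decide) hp.1) 0 1 2 3 4 (by decide)
    (by decide) (by decide) (by decide) (by decide) (by decide) (by decide)
  obtain ⟨a6, h6C, h66, h6⟩ := exists_lift S ho x ψ hx hne hconj hrange hψo hprod
    (Equiv.swap 0 1 * Equiv.swap 3 4) (by simp) (pv _ 1 0 2 4 3 (by decide) (by decide) (by decide) (by decide) (by decide) hp.2.1) 0 1 3 4 2 (by decide)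
    (by decide) (by decide) (by decide) (by decide) (by decide) (by decide)
  obtain ⟨a7, h7C, h77, h7⟩ := exists_lift S ho x ψ hx hne hconj hrange hψo hprod
    (Equiv.swap 0 2 * Equiv.swap 3 4) (by simp) (pv _ 2 1 0 4 3 (by decide) (by decide) (by decide) (by decide) (by decide) hp.2.2) 0 2 3 4 1 (by decide)
    (by decide) (by decide) (by decide) (by decide) (by decide) (by decide)
  -- choosing signs
  have hgz : ∀ g ∈ centralizer ({z} : Set G), g * z = z * g := fun g hg =>
    mem_centralizer_singleton_iff.1 hg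
  have central : ∀ (g : G) (σ : Equiv.Perm (Fin 5)), g ∈ centralizer ({z} : Set G) →
      (∀ i, g * x i * g⁻¹ = x (σ i)) → σ = 1 → g = 1 ∨ g = z := by
    intro g σ hg hgx hσ
    have hgQ : g ∈ Q := hker ⟨g, hg⟩ (Equiv.ext fun i => hψ ⟨g, hg⟩ i i (Or.inl (by
      simpa [hσ] using hgx i)))
    exact hcent g hgQ fun i => mul_inv_eq_iff_eq_mul.1 (by simpa [hσ] using hgx i)
  have conjmul : ∀ (g h : G) (σ τ : Equiv.Perm (Fin 5)), (∀ i, g * x i * g⁻¹ = x (σ i)) →
      (∀ i, h * x i * h⁻¹ = x (τ i)) → ∀ i, g * h * x i * (g * h)⁻¹ = x ((σ * τ) i) := by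
    intro g h σ τ hg hh i
    calc g * h * x i * (g * h)⁻¹ = g * (h * x i * h⁻¹) * g⁻¹ := by group
      _ = x ((σ * τ) i) := by rw [hh, hg]; rfl
  have inv5 := inv_eq_of_mul_eq_one_right h55
  have inv6 := inv_eq_of_mul_eq_one_right h66
  have inv7 := inv_eq_of_mul_eq_one_right h77
  have c5 : ∀ i, a5 * x i * a5⁻¹ = x ((Equiv.swap 0 1 * Equiv.swap 2 3 : Equiv.Perm (Fin 5)) i) := by
    rw [inv5]; exact h5
  have c6 : ∀ i, a6 * x i * a6⁻¹ = x ((Equiv.swap 0 1 * Equiv.swap 3 4 : Equiv.Perm (Fin 5)) i) := by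
    rw [inv6]; exact h6
  have c7 : ∀ i, a7 * x i * a7⁻¹ = x ((Equiv.swap 0 2 * Equiv.swap 3 4 : Equiv.Perm (Fin 5)) i) := by
    rw [inv7]; exact h7
  have h56 := conjmul _ _ _ _ c5 c6
  have h67 := conjmul _ _ _ _ c6 c7
  have h567 := conjmul _ _ _ _ h56 c7
  have m56 := mul_mem h5C h6C
  have m67 := mul_mem h6C h7C
  have m567 := mul_mem m56 h7C
  have E1 := central _ _ (mul_mem (mul_mem m56 m56) m56)
    (conjmul _ _ _ _ (conjmul _ _ _ _ h56 h56) h56) (by decide)
  have E2 := central _ _ (mul_mem (mul_mem m67 m67) m67)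
    (conjmul _ _ _ _ (conjmul _ _ _ _ h67 h67) h67) (by decide)
  have E3 := central _ _ (mul_mem (mul_mem m567 m567) m567)
    (conjmul _ _ _ _ (conjmul _ _ _ _ h567 h567) h567) (by decide)
  obtain ⟨b5, b6, b7, hb5, hb6, hb7, f1, f2, f3⟩ : ∃ b5 b6 b7 : G,
      (b5 = a5 ∨ b5 = a5 * z) ∧ (b6 = a6 ∨ b6 = a6 * z) ∧ (b7 = a7 ∨ b7 = a7 * z) ∧
      b5 * b6 * (b5 * b6) * (b5 * b6) = 1 ∧ b6 * b7 * (b6 * b7) * (b6 * b7) = 1 ∧
      b5 * b6 * b7 * (b5 * b6 * b7) * (b5 * b6 * b7) = 1 := by
    set d1 := a5 * a6 * (a5 * a6) * (a5 * a6) with hd1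
    set d2 := a6 * a7 * (a6 * a7) * (a6 * a7) with hd2
    set d3 := a5 * a6 * a7 * (a5 * a6 * a7) * (a5 * a6 * a7) with hd3
    let K : Set G := {g | g = 1 ∨ g = z}
    have Kmul : ∀ {p q : G}, p ∈ K → q ∈ K → p * q ∈ K := by
      rintro p q (rfl | rfl) (rfl | rfl)
      all_goals first
        | exact Or.inl (one_mul _)
        | exact Or.inl S.zz
        | exact Or.inr (one_mul _)
        | exact Or.inr (mul_one _)
    have Ksq : ∀ {p : G}, p ∈ K → p * p = 1 := by
      rintro p (rfl | rfl)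
      exacts [one_mul _, S.zz]
    have Kc : ∀ {g p : G}, g ∈ centralizer ({z} : Set G) → p ∈ K → Commute p g := by
      rintro g p hg (rfl | rfl)
      exacts [Commute.one_left g, (hgz g hg).symm]
    have Kmem : ∀ {g p : G}, p ∈ K → g * p = g ∨ g * p = g * z := by
      rintro g p (rfl | rfl)
      exacts [Or.inl (mul_one g), Or.inr rfl]
    have cube : ∀ {g c d : G}, g ∈ centralizer ({z} : Set G) → c ∈ K → g * g * g = d → c = d →
        g * c * (g * c) * (g * c) = 1 := by
      intro g c d hg hc hgd hcd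
      have h : c * g = g * c := Kc hg hc
      calc g * c * (g * c) * (g * c) = g * (c * g) * c * g * c := by group
        _ = g * g * (c * c) * g * c := by rw [h]; group
        _ = d * c := by rw [Ksq hc, mul_one, hgd]
        _ = 1 := by rw [← hcd, Ksq hc]
    have merge : ∀ {g h p q : G}, h ∈ centralizer ({z} : Set G) → p ∈ K →
        g * p * (h * q) = g * h * (p * q) := by
      intro g h p q hh hp
      calc g * p * (h * q) = g * (p * h) * q := by group
        _ = g * h * (p * q) := by rw [show p * h = h * p from Kc hh hp]; group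
    have k7 : d3 * d1 ∈ K := Kmul E3 E1
    have k6 : d2 * (d3 * d1) ∈ K := Kmul E2 k7
    have k5 : d1 * (d2 * (d3 * d1)) ∈ K := Kmul E1 k6
    have kc : ∀ {p q : G}, p ∈ K → q ∈ K → p * q = q * p := fun hp hq =>
      Kc (g := _) (by rcases hq with rfl | rfl; exacts [one_mem _, S.zH]) hp
    refine ⟨a5 * (d1 * (d2 * (d3 * d1))), a6 * (d2 * (d3 * d1)), a7 * (d3 * d1), Kmem k5, Kmem k6,
      Kmem k7, ?_, ?_, ?_⟩
    · rw [merge h6C k5]
      exact cube m56 (Kmul k5 k6) rfl (by rw [mul_assoc, Ksq k6, mul_one])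
    · rw [merge h7C k6]
      exact cube m67 (Kmul k6 k7) rfl (by rw [mul_assoc, Ksq k7, mul_one])
    · rw [merge h6C k5, merge h7C (Kmul k5 k6)]
      refine cube m567 (Kmul (Kmul k5 k6) k7) rfl ?_
      rw [show d1 * (d2 * (d3 * d1)) * (d2 * (d3 * d1)) = d1 by rw [mul_assoc, Ksq k6, mul_one],
        kc E1 k7, mul_assoc, Ksq E1, mul_one]
  have hb : ∀ (b a : G) (σ : Equiv.Perm (Fin 5)), a ∈ centralizer ({z} : Set G) → a * a = 1 →
      (∀ i, a * x i * a = x (σ i)) → (b = a ∨ b = a * z) →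
      b ∈ centralizer ({z} : Set G) ∧ b * b = 1 ∧ ∀ i, b * x i * b = x (σ i) := by
    rintro b a σ haC haa hax (rfl | rfl)
    · exact ⟨haC, haa, hax⟩
    refine ⟨mul_mem haC S.zH, ?_, fun i => ?_⟩
    · rw [mul_assoc, ← mul_assoc z, ← hgz a haC, mul_assoc a z z, S.zz, mul_one, haa]
    · rw [← hax i]
      calc a * z * x i * (a * z) = a * (z * x i * (a * z)) := by group
        _ = a * (x i * (a * (z * z))) := by
            rw [hcz i, mul_assoc (x i), ← mul_assoc z, ← hgz a haC, mul_assoc]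
        _ = a * x i * a := by rw [S.zz, mul_one]; group
  obtain ⟨q5C, q55, q5⟩ := hb b5 a5 _ h5C h55 h5 hb5
  obtain ⟨q6C, q66, q6⟩ := hb b6 a6 _ h6C h66 h6 hb6
  obtain ⟨q7C, q77, q7⟩ := hb b7 a7 _ h7C h77 h7 hb7
  let s : ℕ → G := fun n => [x 0, x 1, x 2, x 3, x 4, b5, b6, b7].getD n 1
  have hs : ∀ n, s n * s n = 1 := by
    intro n
    rcases n with _ | _ | _ | _ | _ | _ | _ | _ | n <;> simp [s, hsq, q55, q66, q77]
  have hmem : ∀ n, s n ∈ centralizer ({z} : Set G) := by
    intro n
    rcases n with _ | _ | _ | _ | _ | _ | _ | _ | n <;>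
      simp [s, q5C, q6C, q7C, S.hQH (hx _).1]
  have hzw : ∀ i j : Fin 5, i ≠ j → x i * (x j * (x i * x j)) = z := fun i j hij => by
    rw [sw i j hij, sq, hcz, sq]
  have hz : wprod s [4, 0, 4, 0] = z := by
    show x 4 * (x 0 * (x 4 * (x 0 * 1))) = z
    rw [mul_one]; exact hzw 4 0 (by decide)
  -- the two relators of length ten
  let t : ℕ → G := fun n => [b5, b6, b7].getD n 1
  have ht : ∀ n, t n * t n = 1 := by
    intro n; rcases n with _ | _ | _ | n <;> simp [t, q55, q66, q77]
  have htC : ∀ n, t n ∈ centralizer ({z} : Set G) := by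
    intro n; rcases n with _ | _ | _ | n <;> simp [t, q5C, q6C, q7C]
  have htW : ∀ L, wprod t L ∈ centralizer ({z} : Set G) := fun L => by
    induction L with
    | nil => exact one_mem _
    | cons n L ih => rw [wprod_cons]; exact mul_mem (htC n) ih
  let τ : ℕ → Equiv.Perm (Fin 5) := fun n => [Equiv.swap 0 1 * Equiv.swap 2 3,
    Equiv.swap 0 1 * Equiv.swap 3 4, Equiv.swap 0 2 * Equiv.swap 3 4].getD n 1
  have htx : ∀ L i, wprod t L * x i * (wprod t L)⁻¹ = x ((L.map τ).prod i) := by
    intro L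
    induction L with
    | nil => intro i; simp [wprod]
    | cons n L ih =>
      intro i
      rw [wprod_cons, List.map_cons, List.prod_cons]
      refine conjmul _ _ _ _ (fun j => ?_) ih i
      rw [inv_eq_of_mul_eq_one_right (ht n)]
      rcases n with _ | _ | _ | n
      · exact q5 j
      · exact q6 j
      · exact q7 j
      · simp [t, τ]
  have hu : ∀ L, (L.map τ).prod = 1 → wprod t L = 1 ∨ wprod t L = z := fun L hL =>
    central _ _ (htW L) (htx L) hL
  have hu5 := hu [0, 2, 0, 2, 0, 2, 0, 2, 0, 2] (by decide +kernel)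
  have hv5 := hu [0, 1, 0, 2, 0, 1, 0, 2, 0, 1, 0, 2, 0, 1, 0, 2, 0, 1, 0, 2] (by decide +kernel)
  have hrel : ∀ r ∈ J3A5u.rels, wprod t r = 1 := by
    have cc : ∀ (i : ℕ) (L : List ℕ), (wprod t L = 1 ∨ wprod t L = z) →
        wprod t (red ([i] ++ L ++ [i] ++ L.reverse)) = 1 := by
      intro i L hL
      rw [wprod_red t ht, wprod_append, wprod_append, wprod_append, wprod_reverse t ht, wprod_cons,
        wprod_nil, mul_one]
      rcases hL with e | e <;> rw [e]
      · simp [ht]
      · rw [mul_assoc (t i) z, ← hgz _ (htC i), ← mul_assoc, ht, one_mul, mul_inv_cancel]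
    have uu : ∀ L, (wprod t L = 1 ∨ wprod t L = z) → wprod t (L ++ L) = 1 := by
      intro L hL
      rw [wprod_append]
      rcases hL with e | e <;> rw [e] <;> simp [S.zz]
    intro r hr
    simp only [J3A5u.rels, List.mem_cons, List.not_mem_nil, or_false] at hr
    rcases hr with rfl | rfl | rfl | rfl | rfl | rfl | rfl | rfl | rfl | rfl | rfl | rfl | rfl | rfl
    · simp [wprod, ht]
    · simp [wprod, ht]
    · simp [wprod, ht]
    · simpa [wprod, t, mul_assoc] using f1
    · simpa [wprod, t, mul_assoc] using f2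
    · simpa [wprod, t, mul_assoc] using f3
    · exact uu _ hu5
    · exact cc 0 _ hu5
    · exact cc 0 _ hv5
    · exact cc 1 _ hu5
    · exact cc 1 _ hv5
    · exact cc 2 _ hu5
    · exact cc 2 _ hv5
    · exact uu _ hv5
  have hu1 : wprod t [0, 2, 0, 2, 0, 2, 0, 2, 0, 2] = 1 :=
    mem_bot.1 (J3A5u.mem t ht hrel ⊥ (by simp [J3A5u.subs]))
  have hv1 : wprod t [0, 1, 0, 2, 0, 1, 0, 2, 0, 1, 0, 2, 0, 1, 0, 2, 0, 1, 0, 2] = 1 :=
    mem_bot.1 (J3A5v.mem t ht (by
      intro r hr; exact hrel r hr) ⊥ (by simp [J3A5v.subs]))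
  refine ⟨s, hs, ?_, hz, fun n _ => hmem n, fun n hn => ?_⟩
  · intro r hr
    have hzc : ∀ g ∈ centralizer ({z} : Set G), ∀ t, z * (g * t) = g * (z * t) := fun g hg t => by
      rw [← mul_assoc, ← hgz g hg, mul_assoc]
    have hcom : ∀ i j : Fin 5, i ≠ j → x i * (x j * (x i * (x j * z))) = 1 := fun i j hij => by
      rw [sw i j hij, sq, sz, sq, S.zz]
    have hz4 : x 4 * (x 0 * (x 4 * x 0)) = z := hzw 4 0 (by decide)
    have hz4' : ∀ t, x 4 * (x 0 * (x 4 * (x 0 * t))) = z * t := fun t => by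
      rw [← hz4]; simp only [mul_assoc]
    have hz0 : x 0 * (x 4 * (x 0 * x 4)) = z := hzw 0 4 (by decide)
    have hperm : ∀ (b : G) (σ : Equiv.Perm (Fin 5)), (∀ i, b * x i * b = x (σ i)) →
        ∀ i j, σ i = j → b * (x i * (b * x j)) = 1 := fun b σ h i j e => by
      rw [← mul_assoc, ← mul_assoc, h, e, hsq]
    have hcl : ∀ g ∈ centralizer ({z} : Set G), g * g = 1 →
        x 4 * (x 0 * (x 4 * (x 0 * (g * (x 0 * (x 4 * (x 0 * (x 4 * g)))))))) = 1 := fun g hg hgg => by
      rw [hz4']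
      have h0 : x 0 * (x 4 * (x 0 * (x 4 * g))) = z * g := by rw [← hz0]; simp only [mul_assoc]
      rw [h0, ← mul_assoc g z g, hgz g hg, mul_assoc z g g, hgg, mul_one, S.zz]
    simp only [J3H.rels, List.mem_cons, List.not_mem_nil, or_false] at hr
    simp only [s, wprod]
    rcases hr with rfl | rfl | rfl | rfl | rfl | rfl | rfl | rfl | rfl | rfl | rfl | rfl | rfl |
      rfl | rfl | rfl | rfl | rfl | rfl | rfl | rfl | rfl | rfl | rfl | rfl | rfl | rfl | rfl | rfl |
      rfl | rfl | rfl | rfl | rfl | rfl | rfl | rfl | rfl | rfl | rfl | rfl | rfl | rfl | rfl | rfl |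
      rfl
    all_goals simp only [List.map_cons, List.map_nil, List.prod_cons, List.prod_nil, mul_one,
      List.getD_cons_zero, List.getD_cons_succ]
    all_goals first
      | exact hsq _
      | exact q55
      | exact q66
      | exact q77
      | (rw [hz0]; exact hcom _ _ (by decide))
      | simpa [mul_assoc] using hprod
      | exact hperm _ _ q5 _ _ (by decide)
      | exact hperm _ _ q6 _ _ (by decide)
      | exact hperm _ _ q7 _ _ (by decide)
      | exact hcl _ (S.hQH (hx _).1) (hsq _)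
      | exact hcl _ q5C q55
      | exact hcl _ q6C q66
      | exact hcl _ q7C q77
      | (rw [hz4', hz4]; exact S.zz)
      | simpa [mul_assoc] using f1
      | simpa [mul_assoc] using f2
      | simpa [mul_assoc] using f3
      | simpa [wprod, t, mul_assoc] using hu1
      | simpa [wprod, t, mul_assoc] using hv1
  · rcases n with _ | _ | _ | _ | _ | n
    all_goals first | exact (hx _).1 | omega

end CfsgLib.InvChar.J3Rec
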