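import Cfsg.Agent.Lib.InvChar.J3Frame

/-!
# Computing in an involution centraliser of J₃ type

Products of the eight letters are determined by, and determine, their values in the table `J3H`, and
they exhaust the centraliser.
-/

set_option autoImplicit false
set_option maxRecDepth 100000

namespace CfsgLib.InvChar.J3Rec

open Subgroup Coset CfsgLib.InvChar.HJType

universe u

/-- The value of a word in the table of the centraliser. -/
noncomputable def hv (L : List ℕ) : ℕ := J3H.table.val L

/-- The word of the commutator with a letter. -/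
def cw (L : List ℕ) (x : ℕ) : List ℕ := L ++ [x] ++ L.reverse ++ [x]

theorem cent_detect : (List.range 1920).all (fun i => decide (i = 0) || decide (i = hv [4, 0, 4, 0]) ||
    (List.range 5).any (fun x => decide (hv (cw (J3H.wd i) x) = hv [4, 0, 4, 0]) ||
      (List.range 5).any (fun y =>
        decide (hv (cw (cw (J3H.wd i) x) y) = hv [4, 0, 4, 0])))) = true := by
  decide +kernel

theorem app_app : (List.range 1920).all (fun i => (List.range 8).all fun x =>
    decide (J3H.table.app (J3H.table.app i x) x = i)) = true := by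
  decide +kernel

theorem follow_follow (L : List ℕ) (hL : ∀ x ∈ L, x < 8) : ∀ {i : ℕ}, i < 1920 →
    J3H.table.follow L.reverse (J3H.table.follow L i) = i := by
  induction L with
  | nil => intro i _; rfl
  | cons x L ih =>
    intro i hi
    have hx : x < 8 := hL x List.mem_cons_self
    have e : ∀ M j, J3H.table.follow (x :: M) j = J3H.table.follow M (J3H.table.app j x) :=
      fun M j => force_eq _ _
    rw [e, List.reverse_cons, J3H.table.follow_append, ih (fun y hy => hL y (List.mem_cons_of_mem x hy))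
      ((J3H.covered.rows i hi x hx).1), e]
    have := List.all_eq_true.1 app_app i (List.mem_range.2 hi)
    exact of_decide_eq_true (List.all_eq_true.1 this x (List.mem_range.2 hx))

namespace Frame

variable {G : Type u} [Group G] {z : G} {Q : Subgroup G} {s : ℕ → G} (Φ : Frame z Q s)
include Φ

theorem eq_of_hv {L M : List ℕ} (hL : ∀ x ∈ L, x < 8) (hM : ∀ x ∈ M, x < 8) (h : hv L = hv M) :
    wprod s L = wprod s M :=
  J3H.covered.eq_of_val s Φ.hs Φ.hR rfl hL hM h

theorem mem_C : ∀ {L : List ℕ}, (∀ x ∈ L, x < 8) → wprod s L ∈ centralizer ({z} : Set G) := by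
  intro L
  induction L with
  | nil => intro _; exact one_mem _
  | cons x L ih =>
    intro h
    rw [wprod_cons]
    exact mul_mem (Φ.hmem x (h x List.mem_cons_self)) (ih fun y hy => h y (List.mem_cons_of_mem x hy))

omit Φ in
theorem wd_lt {i : ℕ} (hi : i < 1920) : ∀ x ∈ J3H.wd i, x < 8 := (J3H.wd_ok i hi).2

omit Φ in
theorem hv_wd {i : ℕ} (hi : i < 1920) : hv (J3H.wd i) = i := (J3H.wd_ok i hi).1

omit Φ in
theorem cw_lt {L : List ℕ} (hL : ∀ x ∈ L, x < 8) {x : ℕ} (hx : x < 8) : ∀ y ∈ cw L x, y < 8 := by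
  intro y hy
  simp only [cw, List.mem_append, List.mem_reverse, List.mem_singleton] at hy
  rcases hy with ((hy | rfl) | hy) | rfl
  exacts [hL y hy, hx, hL y hy, hx]

theorem wprod_cw (L : List ℕ) (x : ℕ) (h : wprod s L = 1) : wprod s (cw L x) = 1 := by
  rw [cw, wprod_append, wprod_append, wprod_append, wprod_reverse s Φ.hs, h, inv_one, wprod_cons,
    wprod_nil, one_mul, mul_one, mul_one, Φ.hs]

variable (S : Pre z Q)
include S

theorem hv_eq_zero {L : List ℕ} (hL : ∀ x ∈ L, x < 8) (h : wprod s L = 1) : hv L = 0 := by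
  have hi : hv L < 1920 := J3H.covered.val_lt L hL
  have h' : wprod s (J3H.wd (hv L)) = 1 := by
    rw [Φ.eq_of_hv (wd_lt hi) hL (hv_wd hi), h]
  have hd := List.all_eq_true.1 cent_detect (hv L) (List.mem_range.2 hi)
  simp only [Bool.or_eq_true, decide_eq_true_eq, List.any_eq_true, List.mem_range] at hd
  have hne : ∀ {M : List ℕ}, (∀ x ∈ M, x < 8) → wprod s M = 1 → hv M ≠ hv [4, 0, 4, 0] := by
    intro M hM h1 e
    exact S.zne (by rw [← Φ.hz, ← Φ.eq_of_hv hM (by simp) e, h1])
  rcases hd with (hd | hd) | ⟨x, hx, hd | ⟨y, hy, hd⟩⟩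
  · exact hd
  · exact absurd ((hv_wd hi).trans hd) (hne (wd_lt hi) h')
  · exact absurd hd (hne (cw_lt (wd_lt hi) (by omega)) (Φ.wprod_cw _ _ h'))
  · exact absurd hd (hne (cw_lt (cw_lt (wd_lt hi) (by omega)) (by omega))
      (Φ.wprod_cw _ _ (Φ.wprod_cw _ _ h')))

/-- Equal products have equal values. -/
theorem hv_eq_of_eq {L M : List ℕ} (hL : ∀ x ∈ L, x < 8) (hM : ∀ x ∈ M, x < 8)
    (h : wprod s L = wprod s M) : hv L = hv M := by
  have hi : J3H.table.val M < 1920 := J3H.covered.val_lt M hM
  have h0 : hv (L.reverse ++ M) = 0 := Φ.hv_eq_zero S (fun x hx => by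
    rcases List.mem_append.1 hx with hx | hx
    exacts [hL x (List.mem_reverse.1 hx), hM x hx])
    (by rw [wprod_append, wprod_reverse s Φ.hs, h, inv_mul_cancel])
  unfold hv at h0 ⊢
  rw [Table.val_append, List.reverse_reverse] at h0
  have := congrArg (J3H.table.follow L.reverse) h0
  rw [follow_follow L hL hi] at this
  exact this.symm

theorem hv_iff {L M : List ℕ} (hL : ∀ x ∈ L, x < 8) (hM : ∀ x ∈ M, x < 8) :
    wprod s L = wprod s M ↔ hv L = hv M :=
  ⟨Φ.hv_eq_of_eq S hL hM, Φ.eq_of_hv hL hM⟩

/-- Every element of the centraliser is one of the words of the table. -/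
theorem exists_wd [Finite G] {g : G} (hg : g ∈ centralizer ({z} : Set G)) :
    ∃ i < 1920, wprod s (J3H.wd i) = g := by
  let f : Fin 1920 → ↥(centralizer ({z} : Set G)) := fun i => ⟨_, Φ.mem_C (wd_lt i.2)⟩
  have hf : Function.Injective f := fun i j e => by
    have := Φ.hv_eq_of_eq S (wd_lt i.2) (wd_lt j.2) (congrArg Subtype.val e)
    rw [hv_wd i.2, hv_wd j.2] at this
    exact Fin.ext this
  have hb := hf.bijective_of_nat_card_le (by rw [S.card_H, Nat.card_fin])
  obtain ⟨i, hi⟩ := hb.2 ⟨g, hg⟩
  exact ⟨i, i.2, congrArg Subtype.val hi⟩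

end Frame

end CfsgLib.InvChar.J3Rec
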