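import Cfsg.Agent.Lib.InvChar.J3Base

/-!
# The 45 involutions of the centraliser of `k`, as words

`invPairs` lists the pairs of indices which the images of `r = s 3 * s 2 * s 5` and `s 9` can take.
-/

set_option autoImplicit false

namespace CfsgLib.InvChar.J3Rec

/-- Words of the involutions of the centraliser of `k`. -/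
def invWords : List (List ℕ) := [
  [4, 0, 4, 0],
  [3, 6, 7, 8, 4, 0, 4, 0, 8, 7, 6, 3],
  [8, 7, 6, 3, 4, 0, 4, 0, 3, 6, 7, 8],
  [6, 3, 6, 7, 8, 6, 4, 0, 4, 0, 6, 8, 7, 6, 3, 6],
  [6, 8, 7, 6, 3, 6, 4, 0, 4, 0, 6, 3, 6, 7, 8, 6],
  [6, 3, 6, 7, 8, 6, 3, 6, 7, 8, 4, 0, 4, 0, 8, 7, 6, 3, 6, 8, 7, 6, 3, 6],
  [6, 8, 7, 6, 3, 6, 3, 6, 7, 8, 4, 0, 4, 0, 8, 7, 6, 3, 6, 3, 6, 7, 8, 6],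
  [3, 6, 7, 8, 6, 3, 6, 7, 8, 6, 4, 0, 4, 0, 6, 8, 7, 6, 3, 6, 8, 7, 6, 3],
  [8, 7, 6, 3, 6, 3, 6, 7, 8, 6, 4, 0, 4, 0, 6, 8, 7, 6, 3, 6, 3, 6, 7, 8],
  [6, 3, 6, 7, 8, 6, 8, 7, 6, 3, 4, 0, 4, 0, 3, 6, 7, 8, 6, 8, 7, 6, 3, 6],
  [6, 8, 7, 6, 3, 6, 8, 7, 6, 3, 4, 0, 4, 0, 3, 6, 7, 8, 6, 3, 6, 7, 8, 6],
  [3, 6, 7, 8, 6, 8, 7, 6, 3, 6, 4, 0, 4, 0, 6, 3, 6, 7, 8, 6, 8, 7, 6, 3],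
  [8, 7, 6, 3, 6, 8, 7, 6, 3, 6, 4, 0, 4, 0, 6, 3, 6, 7, 8, 6, 3, 6, 7, 8],
  [3, 6, 7, 8, 6, 3, 6, 7, 8, 6, 3, 6, 7, 8, 4, 0, 4, 0, 8, 7, 6, 3, 6, 8, 7, 6, 3, 6, 8, 7, 6, 3],
  [8, 7, 6, 3, 6, 3, 6, 7, 8, 6, 3, 6, 7, 8, 4, 0, 4, 0, 8, 7, 6, 3, 6, 8, 7, 6, 3, 6, 3, 6, 7, 8],
  [3, 6, 7, 8, 6, 8, 7, 6, 3, 6, 3, 6, 7, 8, 4, 0, 4, 0, 8, 7, 6, 3, 6, 3, 6, 7, 8, 6, 8, 7, 6, 3],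
  [8, 7, 6, 3, 6, 8, 7, 6, 3, 6, 3, 6, 7, 8, 4, 0, 4, 0, 8, 7, 6, 3, 6, 3, 6, 7, 8, 6, 3, 6, 7, 8],
  [3, 6, 7, 8, 6, 3, 6, 7, 8, 6, 8, 7, 6, 3, 4, 0, 4, 0, 3, 6, 7, 8, 6, 8, 7, 6, 3, 6, 8, 7, 6, 3],
  [8, 7, 6, 3, 6, 3, 6, 7, 8, 6, 8, 7, 6, 3, 4, 0, 4, 0, 3, 6, 7, 8, 6, 8, 7, 6, 3, 6, 3, 6, 7, 8],
  [3, 6, 7, 8, 6, 8, 7, 6, 3, 6, 8, 7, 6, 3, 4, 0, 4, 0, 3, 6, 7, 8, 6, 3, 6, 7, 8, 6, 8, 7, 6, 3],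
  [8, 7, 6, 3, 6, 8, 7, 6, 3, 6, 8, 7, 6, 3, 4, 0, 4, 0, 3, 6, 7, 8, 6, 3, 6, 7, 8, 6, 3, 6, 7, 8],
  [6, 3, 6, 7, 8, 6, 3, 6, 7, 8, 6, 3, 6, 7, 8, 6, 4, 0, 4, 0, 6, 8, 7, 6, 3, 6, 8, 7, 6, 3, 6, 8, 7, 6, 3, 6],
  [6, 8, 7, 6, 3, 6, 3, 6, 7, 8, 6, 3, 6, 7, 8, 6, 4, 0, 4, 0, 6, 8, 7, 6, 3, 6, 8, 7, 6, 3, 6, 3, 6, 7, 8, 6],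
  [6, 3, 6, 7, 8, 6, 8, 7, 6, 3, 6, 3, 6, 7, 8, 6, 4, 0, 4, 0, 6, 8, 7, 6, 3, 6, 3, 6, 7, 8, 6, 8, 7, 6, 3, 6],
  [6, 8, 7, 6, 3, 6, 8, 7, 6, 3, 6, 3, 6, 7, 8, 6, 4, 0, 4, 0, 6, 8, 7, 6, 3, 6, 3, 6, 7, 8, 6, 3, 6, 7, 8, 6],
  [6, 3, 6, 7, 8, 6, 3, 6, 7, 8, 6, 8, 7, 6, 3, 6, 4, 0, 4, 0, 6, 3, 6, 7, 8, 6, 8, 7, 6, 3, 6, 8, 7, 6, 3, 6],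
  [6, 8, 7, 6, 3, 6, 3, 6, 7, 8, 6, 8, 7, 6, 3, 6, 4, 0, 4, 0, 6, 3, 6, 7, 8, 6, 8, 7, 6, 3, 6, 3, 6, 7, 8, 6],
  [6, 3, 6, 7, 8, 6, 8, 7, 6, 3, 6, 8, 7, 6, 3, 6, 4, 0, 4, 0, 6, 3, 6, 7, 8, 6, 3, 6, 7, 8, 6, 8, 7, 6, 3, 6],
  [6, 8, 7, 6, 3, 6, 8, 7, 6, 3, 6, 8, 7, 6, 3, 6, 4, 0, 4, 0, 6, 3, 6, 7, 8, 6, 3, 6, 7, 8, 6, 3, 6, 7, 8, 6],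
  [6, 3, 6, 7, 8, 6, 3, 6, 7, 8, 6, 3, 6, 7, 8, 6, 3, 6, 7, 8, 4, 0, 4, 0, 8, 7, 6, 3, 6, 8, 7, 6, 3, 6, 8, 7, 6, 3, 6, 8, 7, 6, 3, 6],
  [6, 8, 7, 6, 3, 6, 3, 6, 7, 8, 6, 3, 6, 7, 8, 6, 3, 6, 7, 8, 4, 0, 4, 0, 8, 7, 6, 3, 6, 8, 7, 6, 3, 6, 8, 7, 6, 3, 6, 3, 6, 7, 8, 6],
  [6, 3, 6, 7, 8, 6, 8, 7, 6, 3, 6, 3, 6, 7, 8, 6, 3, 6, 7, 8, 4, 0, 4, 0, 8, 7, 6, 3, 6, 8, 7, 6, 3, 6, 3, 6, 7, 8, 6, 8, 7, 6, 3, 6],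
  [6, 8, 7, 6, 3, 6, 8, 7, 6, 3, 6, 3, 6, 7, 8, 6, 3, 6, 7, 8, 4, 0, 4, 0, 8, 7, 6, 3, 6, 8, 7, 6, 3, 6, 3, 6, 7, 8, 6, 3, 6, 7, 8, 6],
  [6, 3, 6, 7, 8, 6, 3, 6, 7, 8, 6, 8, 7, 6, 3, 6, 3, 6, 7, 8, 4, 0, 4, 0, 8, 7, 6, 3, 6, 3, 6, 7, 8, 6, 8, 7, 6, 3, 6, 8, 7, 6, 3, 6],
  [6, 8, 7, 6, 3, 6, 3, 6, 7, 8, 6, 8, 7, 6, 3, 6, 3, 6, 7, 8, 4, 0, 4, 0, 8, 7, 6, 3, 6, 3, 6, 7, 8, 6, 8, 7, 6, 3, 6, 3, 6, 7, 8, 6],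
  [6, 3, 6, 7, 8, 6, 8, 7, 6, 3, 6, 8, 7, 6, 3, 6, 3, 6, 7, 8, 4, 0, 4, 0, 8, 7, 6, 3, 6, 3, 6, 7, 8, 6, 3, 6, 7, 8, 6, 8, 7, 6, 3, 6],
  [6, 8, 7, 6, 3, 6, 8, 7, 6, 3, 6, 8, 7, 6, 3, 6, 3, 6, 7, 8, 4, 0, 4, 0, 8, 7, 6, 3, 6, 3, 6, 7, 8, 6, 3, 6, 7, 8, 6, 3, 6, 7, 8, 6],
  [3, 6, 7, 8, 6, 8, 7, 6, 3, 6, 3, 6, 7, 8, 6, 3, 6, 7, 8, 6, 4, 0, 4, 0, 6, 8, 7, 6, 3, 6, 8, 7, 6, 3, 6, 3, 6, 7, 8, 6, 8, 7, 6, 3],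
  [8, 7, 6, 3, 6, 8, 7, 6, 3, 6, 8, 7, 6, 3, 6, 3, 6, 7, 8, 6, 4, 0, 4, 0, 6, 8, 7, 6, 3, 6, 3, 6, 7, 8, 6, 3, 6, 7, 8, 6, 3, 6, 7, 8],
  [6, 3, 6, 7, 8, 6, 3, 6, 7, 8, 6, 3, 6, 7, 8, 6, 8, 7, 6, 3, 4, 0, 4, 0, 3, 6, 7, 8, 6, 8, 7, 6, 3, 6, 8, 7, 6, 3, 6, 8, 7, 6, 3, 6],
  [6, 3, 6, 7, 8, 6, 8, 7, 6, 3, 6, 3, 6, 7, 8, 6, 8, 7, 6, 3, 4, 0, 4, 0, 3, 6, 7, 8, 6, 8, 7, 6, 3, 6, 3, 6, 7, 8, 6, 8, 7, 6, 3, 6],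
  [6, 8, 7, 6, 3, 6, 8, 7, 6, 3, 6, 3, 6, 7, 8, 6, 8, 7, 6, 3, 4, 0, 4, 0, 3, 6, 7, 8, 6, 8, 7, 6, 3, 6, 3, 6, 7, 8, 6, 3, 6, 7, 8, 6],
  [6, 3, 6, 7, 8, 6, 3, 6, 7, 8, 6, 8, 7, 6, 3, 6, 8, 7, 6, 3, 4, 0, 4, 0, 3, 6, 7, 8, 6, 3, 6, 7, 8, 6, 8, 7, 6, 3, 6, 8, 7, 6, 3, 6],
  [6, 8, 7, 6, 3, 6, 3, 6, 7, 8, 6, 8, 7, 6, 3, 6, 8, 7, 6, 3, 4, 0, 4, 0, 3, 6, 7, 8, 6, 3, 6, 7, 8, 6, 8, 7, 6, 3, 6, 3, 6, 7, 8, 6],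
  [6, 8, 7, 6, 3, 6, 8, 7, 6, 3, 6, 8, 7, 6, 3, 6, 8, 7, 6, 3, 4, 0, 4, 0, 3, 6, 7, 8, 6, 3, 6, 7, 8, 6, 3, 6, 7, 8, 6, 3, 6, 7, 8, 6]]

/-- The admissible pairs of indices. -/
def invPairs : List (ℕ × ℕ) := [
  (0, 24), (0, 26), (1, 29), (1, 40), (2, 38), (2, 42), (22, 3), (22, 24), (28, 3), (28, 26), (30, 8), (30, 38), (36, 7), (36, 40), (37, 7), (37, 29), (44, 8), (44, 42)]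

end CfsgLib.InvChar.J3Rec
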