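import Cfsg.Agent.Lib.InvChar.HallJankoQ
import Cfsg.Agent.Lib.InvChar.HallJankoSetup
import Cfsg.Agent.Lib.InvChar.HallJankoCount
import Cfsg.Agent.Lib.Janko3.SL2Sixteen
import Cfsg.Agent.Lib.Janko3.SylowOddFacts

/-!
Consequences of an isomorphism with the model of the third Janko group, and the hypotheses on the
centralizer of an involution from its abstract description.
-/

set_option autoImplicit false

namespace CfsgLib.InvChar.J3Rec

open CfsgLib.Janko3 (QQ Field4 threeJ3_eq card_QQ)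

variable {F : Type} [Field F] [Fintype F] {ω : F}

theorem isoJ3_of_equiv (hf : Field4 F ω) (hF : Fintype.card F = 4) {G : Type*} [Group G]
    (h : Nonempty (G ≃* QQ F ω)) : Cfsg.Spor.IsoJ3 G := by
  refine ⟨F, inferInstance, inferInstance, ω, hF, hf.omega, ?_⟩
  have key : ∀ {S T : Subgroup (GL Cfsg.Spor.F9 F)}, S = T →
      Nonempty (G ≃* T ⧸ Subgroup.center T) → Nonempty (G ≃* S ⧸ Subgroup.center S) := by
    rintro S T rfl h'
    exact h'
  exact key (threeJ3_eq hf) h

theorem isJ3_of_equiv (hf : Field4 F ω) (hF : Fintype.card F = 4) {G : Type*} [Group G]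
    [IsSimpleGroup G] (h : Nonempty (G ≃* QQ F ω)) : Cfsg.IsJ3 G := by
  obtain ⟨e⟩ := h
  exact ⟨inferInstance, by rw [Nat.card_congr e.toEquiv, card_QQ hf hF]⟩

theorem exists_sl2_16_of_equiv (hf : Field4 F ω) (hF : Fintype.card F = 4) {G : Type*} [Group G]
    (h : Nonempty (G ≃* QQ F ω)) : ∃ (H : Subgroup G) (N : Subgroup H) (K : Type) (_ : Field K)
      (_ : Fintype K), N.Normal ∧ N.index = 2 ∧ Fintype.card K = 16 ∧
        Nonempty (N ≃* Matrix.SpecialLinearGroup (Fin 2) K) := by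
  obtain ⟨e⟩ := h
  obtain ⟨H, N, K, hK1, hK2, hn, hi, hc, ⟨b⟩⟩ := CfsgLib.Janko3SL.exists_sl2_16 hf hF
  set d : H ≃* H.map e.symm.toMonoidHom := e.symm.subgroupMap H
  refine ⟨H.map e.symm.toMonoidHom, N.map d.toMonoidHom, K, hK1, hK2,
    hn.map _ d.surjective, ?_, hc, ⟨(d.subgroupMap N).symm.trans b⟩⟩
  rw [← hi]
  exact Subgroup.index_map_equiv N d

open CfsgLib.InvChar.HJType Subgroup in
/-- The hypotheses on the centralizer, when it is 2-constrained. -/
theorem pre_of_constrained {G : Type*} [Group G] [Finite G] (t : G) (ht : orderOf t = 2)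
    (Q : Subgroup (Subgroup.centralizer ({t} : Set G))) [Q.Normal] (hQ : Cfsg.IsExtraspecial 2 Q)
    (hcard : Nat.card Q = 32)
    (h2c : Subgroup.centralizer (Q : Set (Subgroup.centralizer ({t} : Set G))) ≤ Q)
    (e : (Subgroup.centralizer ({t} : Set G)) ⧸ Q ≃* alternatingGroup (Fin 5)) :
    Pre t (Q.map (centralizer ({t} : Set G)).subtype) := by
  have htH : t ∈ centralizer ({t} : Set G) := mem_centralizer_singleton_iff.2 rfl
  have htQ : (⟨t, htH⟩ : ↥(centralizer ({t} : Set G))) ∈ Q :=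
    h2c (mem_centralizer_iff.2 fun q _ => Subtype.ext (mem_centralizer_singleton_iff.1 q.2))
  let eQ := Q.equivMapOfInjective (centralizer ({t} : Set G)).subtype
    (centralizer ({t} : Set G)).subtype_injective
  refine
    { hz := ht
      hQH := map_subtype_le _
      hnorm := ?_
      hzQ := ⟨_, htQ, rfl⟩
      hes := extraspecial_of_equiv eQ hQ
      hQc := by rw [← Nat.card_congr eQ.toEquiv, hcard]
      hC := ?_
      hquot := ⟨e.toMonoidHom.comp (QuotientGroup.mk' Q),
        e.surjective.comp (QuotientGroup.mk'_surjective Q), ?_⟩ }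
  · rintro h hh _ ⟨q, hq, rfl⟩
    exact ⟨⟨h, hh⟩ * q * ⟨h, hh⟩⁻¹, Normal.conj_mem inferInstance q hq _, rfl⟩
  · intro c hc
    have hcH : c ∈ centralizer ({t} : Set G) := mem_centralizer_singleton_iff.2
      (mem_centralizer_iff.1 hc t ⟨_, htQ, rfl⟩).symm
    exact ⟨⟨c, hcH⟩, h2c (mem_centralizer_iff.2 fun q hq =>
      Subtype.ext (mem_centralizer_iff.1 hc _ ⟨q, hq, rfl⟩)), rfl⟩
  · ext h
    rw [mem_subgroupOf, MonoidHom.mem_ker]
    show e (QuotientGroup.mk' Q h) = 1 ↔ _
    rw [map_eq_one_iff _ e.injective, QuotientGroup.mk'_apply, QuotientGroup.eq_one_iff]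
    exact (mem_map_iff_mem (centralizer ({t} : Set G)).subtype_injective).symm

end CfsgLib.InvChar.J3Rec
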