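import Cfsg.Agent.Lib.InvChar.J3XTGroup
import Cfsg.Agent.Lib.InvChar.J3BaseSmall
import Cfsg.Agent.Lib.Invol.Basic
import Mathlib.GroupTheory.SpecificGroups.Alternating.Simple

/-!
# The centraliser of `k` modulo `⟨k⟩` read in the table

`KData` bundles the base relators with the map of `C(k)` onto `A₆`; the four letters of `J3XT` then
give an `XImage`, and the tokens `n, n⁻¹, n', n'⁻¹, z, x₄` are read through it.
-/

set_option autoImplicit false
set_option maxRecDepth 100000

namespace CfsgLib.InvChar.J3Rec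

open Subgroup Coset CfsgLib.Invol CfsgLib.InvChar.HJType

universe u

variable {G : Type u} [Group G] {z : G} {Q : Subgroup G} {s : ℕ → G}

namespace Base

variable (B : Base z Q s)
include B

theorem hw8 {u v : List ℕ} (h : hv u = hv v) (hu : ∀ x ∈ u, x < 8) (hv' : ∀ x ∈ v, x < 8) :
    wprod s u = wprod s v := B.frame.eq_of_hv hu hv' h

theorem cw {u v : List ℕ} (h : hv u = hv v) (hu : ∀ x ∈ u, x < 8 := by decide)
    (hv' : ∀ x ∈ v, x < 8 := by decide) : wprod s u = wprod s v := B.hw8 h hu hv'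

omit B in
theorem nW_eq : wprod s nW = s 3 * (s 6 * (s 7 * s 8)) := by simp [nW, wprod]

omit B in
theorem kW_eq : wprod s kW = s 7 * s 6 := by simp [kW, wprod]

theorem n_commute_k : wprod s nW * wprod s kW = wprod s kW * wprod s nW := by
  have h := B.base [3, 6, 7, 8, 7, 6, 8, 7, 6, 3, 6, 7] (by decide)
  have e : wprod s (nW ++ kW ++ niW ++ [6, 7]) = 1 := h
  rw [wprod_append, wprod_append, wprod_append, show niW = nW.reverse from rfl,
    show ([6, 7] : List ℕ) = kW.reverse from rfl, wprod_reverse s B.frame.hs,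
    wprod_reverse s B.frame.hs] at e
  calc wprod s nW * wprod s kW =
      wprod s nW * wprod s kW * (wprod s nW)⁻¹ * (wprod s kW)⁻¹ * (wprod s kW * wprod s nW) := by
        group
    _ = wprod s kW * wprod s nW := by rw [e, one_mul]

theorem k_cube : wprod s kW ^ 3 = 1 := by
  rw [pow_succ, pow_two, ← wprod_append, ← wprod_append]
  exact (B.cw (v := []) (by decide +kernel)).trans rfl

theorem n_cube : wprod s nW ^ 3 = 1 := by
  rw [pow_succ, pow_two, ← wprod_append, ← wprod_append]
  exact B.base _ (by decide)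

theorem s8_eq : s 8 = wprod s kW * (s 3 * wprod s nW) := by
  rw [nW_eq, kW_eq, ← mul_assoc (s 3), B.frame.hs, one_mul, mul_assoc (s 7), ← mul_assoc (s 6),
    B.frame.hs, one_mul, ← mul_assoc, B.frame.hs, one_mul]

theorem k_comm_3 : s 3 * wprod s kW = wprod s kW * s 3 := by
  have h := B.cw (u := [3] ++ kW) (v := kW ++ [3]) (by decide +kernel)
  rw [wprod_append, wprod_append, wprod_cons, wprod_nil, mul_one] at h
  exact h

theorem k_comm_4 : s 4 * wprod s kW = wprod s kW * s 4 := by
  have h := B.cw (u := [4] ++ kW) (v := kW ++ [4]) (by decide +kernel)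
  rw [wprod_append, wprod_append, wprod_cons, wprod_nil, mul_one] at h
  exact h

theorem k_conj_6 : s 6 * wprod s kW * s 6 = (wprod s kW)⁻¹ := by
  rw [← wprod_reverse s B.frame.hs]
  have h := B.cw (u := [6] ++ kW ++ [6]) (v := kW.reverse) (by decide +kernel)
  rw [wprod_append, wprod_append, wprod_cons, wprod_nil, mul_one] at h
  exact h

theorem k_comm_8 : s 8 * wprod s kW = wprod s kW * s 8 := by
  rw [B.s8_eq]
  calc wprod s kW * (s 3 * wprod s nW) * wprod s kW
      = wprod s kW * s 3 * (wprod s nW * wprod s kW) := by group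
    _ = wprod s kW * (s 3 * wprod s kW) * wprod s nW := by rw [B.n_commute_k]; group
    _ = wprod s kW * (wprod s kW * (s 3 * wprod s nW)) := by rw [B.k_comm_3]; group

theorem xtGen_comm (x : ℕ) : xtGen s x * wprod s kW = wprod s kW * xtGen s x := by
  rcases x with _ | _ | _ | _ | x
  · simpa [xtGen, xtWords, wprod_cons, wprod_nil] using B.k_comm_3
  · simpa [xtGen, xtWords, wprod_cons, wprod_nil] using B.k_comm_4
  · simpa [xtGen, xtWords, wprod_cons, wprod_nil] using B.k_comm_8
  · simp only [xtGen, xtWords, List.getD_cons_succ, List.getD_cons_zero, wprod_cons, wprod_nil,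
      mul_one]
    have h6 := B.frame.hs 6
    have a := B.k_conj_6
    have b : s 8 * (wprod s kW)⁻¹ = (wprod s kW)⁻¹ * s 8 :=
      (Commute.inv_right (show Commute (s 8) (wprod s kW) from B.k_comm_8)).eq
    calc s 6 * (s 8 * s 6) * wprod s kW
        = s 6 * s 8 * (s 6 * wprod s kW * s 6) * (s 6)⁻¹ := by group
      _ = s 6 * (s 8 * (wprod s kW)⁻¹) * (s 6)⁻¹ := by rw [a]; group
      _ = s 6 * (wprod s kW)⁻¹ * s 8 * (s 6)⁻¹ := by rw [b]; group
      _ = s 6 * (s 6 * wprod s kW * s 6) * s 8 * s 6 := by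
          rw [a, inv_eq_of_mul_eq_one_right h6]
      _ = wprod s kW * (s 6 * (s 8 * s 6)) := by
          rw [← mul_assoc (s 6), ← mul_assoc (s 6), h6, one_mul]; group
  · simp [xtGen, xtWords, wprod]

end Base

/-- The base relators together with `C(k)` mapped onto `A₆` and `(n n')⁵ = 1`. -/
structure KData (z : G) (Q : Subgroup G) (s : ℕ → G)
    (π : ↥(centralizer ({wprod s kW} : Set G)) →* ↥(alternatingGroup (Fin 6))) : Prop where
  B : Base z Q s
  S : HJType.Pre z Q
  hsurj : Function.Surjective π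
  hker : π.ker = (zpowers (wprod s kW)).subgroupOf (centralizer ({wprod s kW} : Set G))
  hA : wprod s (aaW ++ aaW ++ aaW ++ aaW ++ aaW) = 1

namespace KData

variable {π : ↥(centralizer ({wprod s kW} : Set G)) →* ↥(alternatingGroup (Fin 6))}
variable (D : KData z Q s π)
include D

theorem mem_xt (x : ℕ) : xtGen s x ∈ centralizer ({wprod s kW} : Set G) :=
  mem_centralizer_singleton_iff.2 (D.B.xtGen_comm x)

/-- The letters in `C(k)`. -/
noncomputable def t4 (x : ℕ) : ↥(centralizer ({wprod s kW} : Set G)) := ⟨xtGen s x, D.mem_xt x⟩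

theorem coe_t4 : ∀ L : List ℕ, Subtype.val (wprod D.t4 L) = wprod (xtGen s) L := by
  intro L
  induction L with
  | nil => rfl
  | cons x L ih => rw [wprod_cons, wprod_cons, Subgroup.coe_mul, ih]; rfl

theorem pi_eq_one_iff {g : ↥(centralizer ({wprod s kW} : Set G))} :
    π g = 1 ↔ (g : G) ∈ zpowers (wprod s kW) := by
  rw [← MonoidHom.mem_ker, D.hker, mem_subgroupOf]

theorem pi_k (h : wprod s kW ∈ centralizer ({wprod s kW} : Set G)) : π ⟨wprod s kW, h⟩ = 1 :=
  D.pi_eq_one_iff.2 (mem_zpowers _)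

/-- An involution centralising `k` is not killed. -/
theorem pi_invol_ne_one {g : ↥(centralizer ({wprod s kW} : Set G))} (h2 : (g : G) * g = 1)
    (hne : (g : G) ≠ 1) : π g ≠ 1 := by
  intro h
  obtain ⟨i, hi⟩ := mem_zpowers_iff.1 (D.pi_eq_one_iff.1 h)
  have h3 : (g : G) ^ 3 = 1 := by
    rw [← hi, ← zpow_natCast, ← zpow_mul, mul_comm, zpow_mul, zpow_natCast, D.B.k_cube, one_zpow]
  rw [pow_succ, pow_two, h2, one_mul] at h3
  exact hne h3

/-- Two elements of `C(k)` with the same image, both involutions, are equal. -/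
theorem invol_eq {g h : ↥(centralizer ({wprod s kW} : Set G))} (hg : (g : G) * g = 1)
    (hh : (h : G) * h = 1) (e : π g = π h) : (g : G) = h := by
  have h1 : π (h * g) = 1 := by
    rw [map_mul, e, ← map_mul, show h * h = 1 from Subtype.ext hh, map_one]
  obtain ⟨i, hi⟩ := mem_zpowers_iff.1 (D.pi_eq_one_iff.1 h1)
  rw [Subgroup.coe_mul] at hi
  have hc : Commute (wprod s kW) (h : G) := (mem_centralizer_singleton_iff.1 h.2).symm
  have hgk : (g : G) = h * (wprod s kW) ^ i := by
    rw [hi, ← mul_assoc, hh, one_mul]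
  have h2 : (wprod s kW) ^ (2 * i) = 1 := by
    rw [hgk] at hg
    calc (wprod s kW) ^ (2 * i) = (h : G) * h * ((wprod s kW) ^ i * (wprod s kW) ^ i) := by
          rw [hh, one_mul, two_mul, zpow_add]
      _ = (h : G) * ((h : G) * (wprod s kW) ^ i) * (wprod s kW) ^ i := by group
      _ = (h : G) * ((wprod s kW) ^ i * (h : G)) * (wprod s kW) ^ i := by rw [(hc.zpow_left i).eq]
      _ = (h : G) * (wprod s kW) ^ i * ((h : G) * (wprod s kW) ^ i) := by group
      _ = 1 := hg
  have h3 : (wprod s kW) ^ (3 * i) = 1 := by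
    rw [zpow_mul, show ((3 : ℤ)) = ((3 : ℕ) : ℤ) from rfl, zpow_natCast, D.B.k_cube, one_zpow]
  have : (wprod s kW) ^ i = 1 := by
    rw [show i = 3 * i - 2 * i by ring, zpow_sub, h2, h3, inv_one, mul_one]
  rw [hgk, this, mul_one]

/-- The images of the four letters. -/
noncomputable def f (x : ℕ) : ↥(alternatingGroup (Fin 6)) := π (D.t4 x)

theorem f_wprod (L : List ℕ) : wprod D.f L = π (wprod D.t4 L) :=
  (map_wprod π D.t4 D.f L fun _ _ => rfl).symm

theorem z_eq : wprod (xtGen s) zX = z := by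
  rw [← D.B.frame.hz, ← D.B.cw (u := [4, 3, 4, 3]) (v := [4, 0, 4, 0]) (by decide +kernel)]
  simp [zX, xtGen, xtWords, wprod]

theorem image : XImage D.f := by
  have hsq : ∀ x, D.t4 x * D.t4 x = 1 := fun x =>
    Subtype.ext (xtGen_mul_self D.B.frame.hs x)
  refine ⟨fun x => by rw [f, ← map_mul, hsq, map_one], fun r hr => ?_, ?_, ?_, ?_⟩
  · rw [D.f_wprod, show wprod D.t4 r = 1 from Subtype.ext (by
      rw [D.coe_t4, D.B.xt D.hA r hr]; rfl), map_one]
  · rw [D.f_wprod]
    refine D.pi_invol_ne_one ?_ ?_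
    · rw [D.coe_t4, D.z_eq]; exact D.S.zz
    · rw [D.coe_t4, D.z_eq]; exact D.S.zne
  · intro c hc
    have h := alternatingGroup.center_eq_bot (α := Fin 6) (by simp)
    exact mem_bot.1 (h ▸ mem_center_iff.2 fun x => (hc x).symm)
  · rw [nat_card_alternatingGroup, Nat.card_fin]
    rfl

/-- A token lies in `C(k)` and is read as its table word. -/
theorem tok (t : ℕ) (ht : t < 6) :
    ∃ h : wprod s (tokW.getD t []) ∈ centralizer ({wprod s kW} : Set G),
      π ⟨_, h⟩ = wprod D.f (tokX.getD t []) := by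
  have hs := D.B.frame.hs
  have hk : wprod s kW ∈ centralizer ({wprod s kW} : Set G) := mem_centralizer_singleton_iff.2 rfl
  have hn : wprod s nW ∈ centralizer ({wprod s kW} : Set G) :=
    mem_centralizer_singleton_iff.2 D.B.n_commute_k
  have hinv : ∀ (L : List ℕ) (X : List ℕ) (h : wprod s L ∈ centralizer ({wprod s kW} : Set G)),
      π ⟨_, h⟩ = wprod D.f X → ∃ h' : wprod s L.reverse ∈ centralizer ({wprod s kW} : Set G),
        π ⟨_, h'⟩ = wprod D.f X.reverse := by
    intro L X h e
    have h' : wprod s L.reverse ∈ centralizer ({wprod s kW} : Set G) := by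
      rw [wprod_reverse s hs]; exact inv_mem h
    refine ⟨h', ?_⟩
    rw [wprod_reverse D.f D.image.hs, ← e, ← map_inv]
    exact congrArg π (Subtype.ext (wprod_reverse s hs L))
  have t0 : π ⟨_, hn⟩ = wprod D.f [0, 2] := by
    rw [D.f_wprod, show wprod D.t4 [0, 2] = ⟨_, hk⟩ * ⟨_, hn⟩ from Subtype.ext (by
      rw [D.coe_t4, Subgroup.coe_mul]
      show xtGen s 0 * (xtGen s 2 * 1) = _
      simp only [xtGen, xtWords, List.getD_cons_succ, List.getD_cons_zero, wprod_cons, wprod_nil,
        mul_one]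
      rw [D.B.s8_eq, ← mul_assoc, D.B.k_comm_3, mul_assoc, ← mul_assoc (s 3), hs, one_mul]),
      map_mul, D.pi_k hk, one_mul]
  have hki : (wprod s kW)⁻¹ ∈ centralizer ({wprod s kW} : Set G) := inv_mem hk
  have e13 : xtGen s 1 * xtGen s 3 = (wprod s kW)⁻¹ * wprod s npW := by
    have h34 : s 6 * s 3 * s 6 = s 4 := by
      simpa [wprod_cons, wprod_nil, mul_assoc] using
        D.B.cw (u := [6, 3, 6]) (v := [4]) (by decide +kernel)
    have hnp : wprod s npW = s 6 * wprod s nW * s 6 := by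
      simp [npW, nW, wprod, mul_assoc]
    simp only [xtGen, xtWords, List.getD_cons_succ, List.getD_cons_zero, wprod_cons, wprod_nil,
      mul_one]
    rw [hnp, ← D.B.k_conj_6, ← h34]
    have hx : s 3 * s 8 = wprod s kW * wprod s nW := by
      rw [D.B.s8_eq, ← mul_assoc, D.B.k_comm_3, mul_assoc, ← mul_assoc (s 3), hs, one_mul]
    calc s 6 * s 3 * s 6 * (s 6 * (s 8 * s 6)) = s 6 * s 3 * (s 6 * s 6) * (s 8 * s 6) := by group
      _ = s 6 * (s 3 * s 8) * s 6 := by rw [hs, mul_one]; group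
      _ = s 6 * wprod s kW * (s 6 * s 6) * (wprod s nW * s 6) := by rw [hx, hs, mul_one]; group
      _ = s 6 * wprod s kW * s 6 * (s 6 * wprod s nW * s 6) := by group
  have hnp : wprod s npW ∈ centralizer ({wprod s kW} : Set G) := by
    rw [show wprod s npW = wprod s kW * (xtGen s 1 * xtGen s 3) by rw [e13, mul_inv_cancel_left]]
    exact mul_mem hk (mul_mem (D.mem_xt 1) (D.mem_xt 3))
  have t2 : π ⟨_, hnp⟩ = wprod D.f [1, 3] := by
    rw [D.f_wprod, show wprod D.t4 [1, 3] = (⟨_, hk⟩ : ↥(centralizer ({wprod s kW} : Set G)))⁻¹ *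
      ⟨_, hnp⟩ from Subtype.ext (by
        rw [D.coe_t4, Subgroup.coe_mul, Subgroup.coe_inv, ← e13]; simp [wprod]), map_mul, map_inv,
      D.pi_k hk, inv_one, one_mul]
  interval_cases t
  · exact ⟨hn, t0⟩
  · exact hinv nW [0, 2] hn t0
  · exact ⟨hnp, t2⟩
  · exact hinv npW [1, 3] hnp t2
  · have e : wprod s [4, 0, 4, 0] = Subtype.val (wprod D.t4 zX) := by rw [D.coe_t4, D.z_eq, D.B.frame.hz]
    have h : wprod s [4, 0, 4, 0] ∈ centralizer ({wprod s kW} : Set G) := e ▸ (wprod D.t4 zX).2
    exact ⟨h, (congrArg π (Subtype.ext e)).trans (D.f_wprod zX).symm⟩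
  · have e : wprod s [4] = Subtype.val (wprod D.t4 [1]) := by
      rw [D.coe_t4]; simp [wprod, xtGen, xtWords]
    have h : wprod s [4] ∈ centralizer ({wprod s kW} : Set G) := e ▸ (wprod D.t4 [1]).2
    exact ⟨h, (congrArg π (Subtype.ext e)).trans (D.f_wprod [1]).symm⟩

/-- Products of tokens. -/
theorem toks : ∀ T : List ℕ, (∀ t ∈ T, t < 6) →
    ∃ h : wprod s (T.flatMap fun t => tokW.getD t []) ∈ centralizer ({wprod s kW} : Set G),
      π ⟨_, h⟩ = wprod D.f (T.flatMap fun t => tokX.getD t []) := by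
  intro T
  induction T with
  | nil => intro _; exact ⟨one_mem _, map_one π⟩
  | cons t T ih =>
    intro h
    obtain ⟨h1, e1⟩ := D.tok t (h t List.mem_cons_self)
    obtain ⟨h2, e2⟩ := ih fun u hu => h u (List.mem_cons_of_mem t hu)
    have e : wprod s ((t :: T).flatMap fun t => tokW.getD t []) =
        wprod s (tokW.getD t []) * wprod s (T.flatMap fun t => tokW.getD t []) := by
      rw [List.flatMap_cons, wprod_append]
    refine ⟨e ▸ mul_mem h1 h2, ?_⟩
    rw [List.flatMap_cons (f := fun t => tokX.getD t []), wprod_append, ← e1, ← e2, ← map_mul]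
    exact congrArg π (Subtype.ext e)

end KData

end CfsgLib.InvChar.J3Rec
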