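import Cfsg.Agent.Lib.InvChar.J3Normalizer

/-!
# Ten involutions satisfying the base relators

With `n` and `w` from `J3Normalizer` the letters `8 ↦ k * s 3 * n` and `9 ↦ w` satisfy every relator
of the normaliser of `E`: each is a word acting trivially on `E` and commuting with `n`, or says how
`n` or `w` moves an element of `E`.
-/

set_option autoImplicit false
set_option maxRecDepth 100000

namespace CfsgLib.InvChar.J3Rec

open Subgroup Coset CfsgLib.InvChar.HJType CfsgLib.Invol

universe u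

/-- The relators involving `n` and `w`. -/
def topRels : List (List ℕ) := [[8, 8], [9, 9],
  [3, 6, 7, 8, 3, 6, 7, 8, 3, 6, 7, 8], [9, 3, 6, 7, 8, 9, 8, 7, 6, 3],
  [9, 3, 2, 5, 9, 3, 2, 5, 9, 3, 2, 5], [9, 7, 6, 3, 6, 7, 8, 9, 7, 6, 3, 6, 7, 8],
  [9, 3, 2, 5, 7, 6, 3, 6, 7, 8, 9, 3, 2, 5, 7, 6, 3, 6, 7, 8, 9, 3, 2, 5, 7, 6, 3, 6, 7, 8, 9, 3,
    2, 5, 7, 6, 3, 6, 7, 8, 9, 3, 2, 5, 7, 6, 3, 6, 7, 8],
  [6, 7, 8, 3, 2, 5, 8, 7, 6, 3, 5, 2],
  [3, 6, 7, 8, 7, 6, 8, 7, 6, 3, 6, 7],
  [3, 6, 7, 8, 0, 1, 0, 1, 8, 7, 6, 3, 4],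
  [9, 0, 1, 0, 1, 9, 5],
  [3, 6, 7, 8, 4, 8, 7, 6, 3, 0, 4, 0],
  [9, 4, 9, 7, 5, 6, 5, 7],
  [3, 6, 7, 8, 5, 8, 7, 6, 3, 7, 5, 6, 5, 7],
  [9, 5, 9, 1, 0, 1, 0],
  [3, 6, 7, 8, 6, 7, 5, 7, 6, 8, 7, 6, 3, 5],
  [9, 6, 7, 5, 7, 6, 9, 0, 4, 0],
  [6, 7, 8, 6, 7, 8, 6, 7]]

theorem baseRels_cases : baseRels.all (fun r => J3H.rels.contains r || topRels.contains r) = true := by
  decide +kernel

theorem act_lists : cmp (cmp wL rL) (cmp (cmp wL rL) (cmp wL rL)) = idL ∧
    cmp (cmp wL (cmp kL nL)) (cmp wL (cmp kL nL)) = idL ∧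
    cmp (cmp (cmp wL rL) (cmp kL nL))
      (cmp (cmp (cmp wL rL) (cmp kL nL))
        (cmp (cmp (cmp wL rL) (cmp kL nL))
          (cmp (cmp (cmp wL rL) (cmp kL nL)) (cmp (cmp wL rL) (cmp kL nL))))) = idL := by
  decide

variable {G : Type u} [Group G] {z : G} {Q : Subgroup G} {s : ℕ → G}

theorem exists_base [Finite G] (S : Pre z Q) (Φ : Frame z Q s)
    (hone : ∀ x y : G, orderOf x = 2 → orderOf y = 2 → IsConj x y) :
    ∃ s' : ℕ → G, Base z Q s' := by
  classical
  obtain ⟨g, hg⟩ := exists_swap_za Φ S hone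
  obtain ⟨n, hN, hn3, hkn, hrn, hsq⟩ := exists_n Φ S hg
  obtain ⟨w, hW, hww, hnw⟩ := exists_w Φ S hg hN
  set k := wprod s kW with hk
  set r := wprod s rW with hr
  have hK : Act s k kL := act_k Φ
  have hR : Act s r rL := act_r Φ
  have hkx : k * s 3 = s 3 * k := by
    have := eq_words (s := s) Φ (u := kW ++ [3]) (v := [3] ++ kW) (by decide +kernel) (by decide)
      (by decide)
    rwa [wprod_append, wprod_append, wprod_cons, wprod_nil, mul_one] at this
  set v := k * (s 3 * n) with hvd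
  have hkp : k * (s 3 * n) = s 3 * n * k := by rw [← mul_assoc, hkx, mul_assoc, hkn, mul_assoc]
  have hvv : v * v = 1 := by
    calc v * v = k * (s 3 * n * k) * (s 3 * n) := by rw [hvd]; group
      _ = k * k * (s 3 * n * (s 3 * n)) := by rw [← hkp]; group
      _ = 1 := by rw [hsq, hk]; exact k_cube Φ
  let s' : ℕ → G := fun x => if x = 8 then v else if x = 9 then w else s x
  have heq : ∀ x, x < 8 → s' x = s x := fun x hx => by
    simp [s', show x ≠ 8 by omega, show x ≠ 9 by omega]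
  have hweq : ∀ L : List ℕ, (∀ x ∈ L, x < 8) → wprod s' L = wprod s L := fun L hL =>
    congrArg List.prod (List.map_congr_left fun x hx => heq x (hL x hx))
  have h8 : s' 8 = v := by simp [s']
  have h9 : s' 9 = w := by simp [s']
  have hs' : ∀ x, s' x * s' x = 1 := by
    intro x
    simp only [s']
    split
    · exact hvv
    split
    · exact hww
    · exact Φ.hs x
  have hlt : ∀ r ∈ J3H.rels, ∀ x ∈ r, x < 8 := by decide +kernel
  have Φ' : Frame z Q s' := by
    refine ⟨hs', fun r hr => by rw [hweq r (hlt r hr)]; exact Φ.hR r hr, ?_, fun x hx => ?_,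
      fun x hx => ?_⟩
    · rw [hweq _ (by decide)]; exact Φ.hz
    · rw [heq x hx]; exact Φ.hmem x hx
    · rw [heq x (by omega)]; exact Φ.hQ x hx
  refine ⟨s', Φ', ?_⟩
  have hki : k⁻¹ = s 6 * s 7 := by
    rw [hk, ← wprod_reverse s Φ.hs]; simp [kW, wprod]
  -- the words of `n` and its inverse
  have w8 : ∀ t, s 3 * (s 6 * (s 7 * (v * t))) = n * t := fun t => by
    rw [← mul_assoc (s 6), ← hki, ← mul_assoc k⁻¹, hvd, inv_mul_cancel_left, ← mul_assoc (s 3),
      ← mul_assoc (s 3), Φ.hs, one_mul]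
  have hni : n⁻¹ = v * (s 7 * (s 6 * s 3)) := by
    have e := w8 1
    rw [mul_one, mul_one] at e
    rw [← e]
    simp only [mul_inv_rev, inv_eq_of_mul_eq_one_right hvv, inv_eq_of_mul_eq_one_right (Φ.hs _),
      mul_assoc]
  have w8i : ∀ t, v * (s 7 * (s 6 * (s 3 * t))) = n⁻¹ * t := fun t => by
    rw [hni]; simp only [mul_assoc]
  have kc : ∀ t, s 7 * (s 6 * t) = k * t := fun t => by simp [hk, kW, wprod, mul_assoc]
  have rc : ∀ t, s 3 * (s 2 * (s 5 * t)) = r * t := fun t => by simp [hr, rW, wprod, mul_assoc]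
  -- words in `w, r, k, n` acting trivially are trivial
  have cW : n * w = w * n := hnw
  have cR : n * r = r * n := hrn.symm
  have cK : n * k = k * n := hkn.symm
  have kill : ∀ {x : G}, Act s x idL → n * x = x * n → x = 1 := fun h hc =>
    eq_one_of_act_id Φ S h hN n_free hc
  have cwr : Commute n (w * r) := Commute.mul_right cW cR
  have ckn : Commute n (k * n) := Commute.mul_right cK (Commute.refl n)
  have R50 : w * r * (w * r * (w * r)) = 1 :=
    kill (((hW.mul hR).mul ((hW.mul hR).mul (hW.mul hR))).congr act_lists.1)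
      (cwr.mul_right (cwr.mul_right cwr)).eq
  have R51 : w * (k * n) * (w * (k * n)) = 1 :=
    kill (((hW.mul (hK.mul hN)).mul (hW.mul (hK.mul hN))).congr act_lists.2.1)
      ((Commute.mul_right cW ckn).mul_right (Commute.mul_right cW ckn)).eq
  have R52 : w * r * (k * n) * (w * r * (k * n) * (w * r * (k * n) * (w * r * (k * n) *
      (w * r * (k * n))))) = 1 := by
    have a := (hW.mul hR).mul (hK.mul hN)
    have c := cwr.mul_right ckn
    exact kill ((a.mul (a.mul (a.mul (a.mul a)))).congr act_lists.2.2)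
      (c.mul_right (c.mul_right (c.mul_right (c.mul_right c)))).eq
  -- words moving elements of `E`
  have mv : ∀ (g : G) (L : List ℕ) (i j : ℕ) (u u' : List ℕ), Act s g L → i < 16 → j < 16 →
      L.getD i 0 = j → (∀ x ∈ u, x < 8) → (∀ x ∈ u', x < 8) → hv u = hv (ew i) → hv u' = hv (ew j) →
      g * (wprod s u * (g⁻¹ * wprod s u')) = 1 := by
    intro g L i j u u' hA hi hj hij hu hu' e1 e2
    rw [Φ.eq_of_hv hu (ew_lt i hi) e1, Φ.eq_of_hv hu' (ew_lt j hj) e2]
    calc g * (wprod s (ew i) * (g⁻¹ * wprod s (ew j))) = g * el s i * g⁻¹ * el s j := by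
          rw [el, el]; group
      _ = 1 := by rw [(hA i hi).2, hij, el_sq Φ hj]
  have hwi : w⁻¹ = w := inv_eq_of_mul_eq_one_right hww
  intro rr hr'
  have hc := List.all_eq_true.1 baseRels_cases rr hr'
  simp only [Bool.or_eq_true, List.contains_iff_mem] at hc
  rcases hc with hc | hc
  · rw [hweq rr (hlt rr hc)]; exact Φ.hR rr hc
  simp only [topRels, List.mem_cons, List.not_mem_nil, or_false] at hc
  rcases hc with rfl | rfl | rfl | rfl | rfl | rfl | rfl | rfl | rfl | rfl | rfl | rfl | rfl | rfl |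
    rfl | rfl | rfl | rfl
  all_goals simp only [wprod, List.map_cons, List.map_nil, List.prod_cons, List.prod_nil]
  all_goals simp only [heq, h8, h9, Nat.reduceLT]
  all_goals try simp only [w8, w8i]
  all_goals try simp only [kc, rc]
  all_goals simp only [mul_one]
  · exact hvv
  · exact hww
  · rw [← mul_assoc]; exact hn3
  · rw [← mul_assoc n w, cW, mul_assoc w n, mul_inv_cancel, mul_one, hww]
  · simpa [mul_assoc] using R50
  · simpa [mul_assoc] using R51
  · simpa [mul_assoc] using R52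
  · rw [← mul_assoc (s 6), ← hki, ← mul_assoc k⁻¹, hvd, inv_mul_cancel_left]
    calc s 3 * n * (r * (n⁻¹ * (s 5 * s 2))) = s 3 * (n * r) * n⁻¹ * (s 5 * s 2) := by group
      _ = s 3 * r * (s 5 * s 2) := by rw [cR]; group
      _ = 1 := by
          rw [hr]
          simp only [rW, wprod, List.map_cons, List.map_nil, List.prod_cons, List.prod_nil, mul_one]
          calc s 3 * (s 3 * (s 2 * s 5)) * (s 5 * s 2) = s 3 * s 3 * (s 2 * (s 5 * s 5) * s 2) := by
                group
            _ = 1 := by rw [Φ.hs, Φ.hs, mul_one, one_mul, Φ.hs]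
  · rw [← hki]
    calc n * (k * (n⁻¹ * k⁻¹)) = n * k * n⁻¹ * k⁻¹ := by group
      _ = 1 := by rw [cK]; group
  · have e := mv n nL 1 2 [0, 1, 0, 1] [4] hN (by decide) (by decide) (by decide) (by decide) (by decide)
      (by decide +kernel) (by decide +kernel)
    simpa [wprod, kW, hk, hwi, mul_assoc] using e
  · have e := mv w wL 1 4 [0, 1, 0, 1] [5] hW (by decide) (by decide) (by decide) (by decide) (by decide)
      (by decide +kernel) (by decide +kernel)
    simpa [wprod, kW, hk, hwi, mul_assoc] using e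
  · have e := mv n nL 2 3 [4] [0, 4, 0] hN (by decide) (by decide) (by decide) (by decide) (by decide)
      (by decide +kernel) (by decide +kernel)
    simpa [wprod, kW, hk, hwi, mul_assoc] using e
  · have e := mv w wL 2 12 [4] [7, 5, 6, 5, 7] hW (by decide) (by decide) (by decide) (by decide) (by decide)
      (by decide +kernel) (by decide +kernel)
    simpa [wprod, kW, hk, hwi, mul_assoc] using e
  · have e := mv n nL 4 12 [5] [7, 5, 6, 5, 7] hN (by decide) (by decide) (by decide) (by decide) (by decide)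
      (by decide +kernel) (by decide +kernel)
    simpa [wprod, kW, hk, hwi, mul_assoc] using e
  · have e := mv w wL 4 1 [5] [1, 0, 1, 0] hW (by decide) (by decide) (by decide) (by decide) (by decide)
      (by decide +kernel) (by decide +kernel)
    simpa [wprod, kW, hk, hwi, mul_assoc] using e
  · have e := mv n nL 8 4 [6, 7, 5, 7, 6] [5] hN (by decide) (by decide) (by decide) (by decide) (by decide)
      (by decide +kernel) (by decide +kernel)
    simpa [wprod, kW, hk, hwi, mul_assoc] using e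
  · have e := mv w wL 8 3 [6, 7, 5, 7, 6] [0, 4, 0] hW (by decide) (by decide) (by decide) (by decide) (by decide)
      (by decide +kernel) (by decide +kernel)
    simpa [wprod, kW, hk, hwi, mul_assoc] using e
  · have hvk : v * k⁻¹ = k⁻¹ * v := by
      rw [hvd]
      calc k * (s 3 * n) * k⁻¹ = s 3 * n * k * k⁻¹ := by rw [hkp]
        _ = k⁻¹ * (k * (s 3 * n)) := by group
    calc s 6 * (s 7 * (v * (s 6 * (s 7 * (v * (s 6 * s 7)))))) =
        s 6 * s 7 * (v * (s 6 * s 7) * (v * (s 6 * s 7))) := by group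
      _ = k⁻¹ * (v * k⁻¹ * (v * k⁻¹)) := by rw [← hki]
      _ = k⁻¹ * (k⁻¹ * (v * v) * k⁻¹) := by
          conv_lhs => arg 2; arg 1; rw [hvk]
          group
      _ = (k * k * k)⁻¹ := by rw [hvv]; group
      _ = 1 := by rw [hk, k_cube Φ, inv_one]

end CfsgLib.InvChar.J3Rec
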