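import Cfsg.Agent.Lib.Janko3Out.Auto

/-!
Ten involutions of the third Janko group satisfying the presentation on ten involutions.
-/

set_option autoImplicit false
set_option linter.unusedSectionVars false
set_option maxRecDepth 100000

namespace CfsgLib.InvChar.J3N

open Cfsg.Spor Matrix
open CfsgLib.Janko3
open CfsgLib.Janko3Out (gens gens_mem word_spec wp one_lt two qX qY xC yC xC_mem yC_mem closure_pair)
open CfsgLib.KnownA.JankoThreeSchur (prodC scalEq scalEq_iff mul_lt)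
open CfsgLib.InvChar.Coset (force force_eq)

/-- The relators. -/
def modelRels : List (List ℕ) := [
  [0, 0],
  [1, 1],
  [2, 2],
  [3, 3],
  [4, 4],
  [5, 5],
  [6, 6],
  [7, 7],
  [8, 8],
  [9, 9],
  [5, 6, 5, 6, 5, 6],
  [5, 7, 5, 7, 5, 7, 5, 7, 5, 7],
  [6, 7, 6, 7, 6, 7],
  [5, 6, 7, 5, 6, 7, 5, 6, 7],
  [5, 6, 5, 7, 5, 6, 5, 7, 5, 6, 5, 7, 5, 6, 5, 7, 5, 6, 5, 7],
  [0, 1, 0, 1, 0, 4, 0, 4],
  [0, 2, 0, 2, 0, 4, 0, 4],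
  [0, 3, 0, 3, 0, 4, 0, 4],
  [0, 4, 0, 4, 0, 4, 0, 4],
  [1, 2, 1, 2, 0, 4, 0, 4],
  [1, 3, 1, 3, 0, 4, 0, 4],
  [1, 4, 1, 4, 0, 4, 0, 4],
  [2, 3, 2, 3, 0, 4, 0, 4],
  [2, 4, 2, 4, 0, 4, 0, 4],
  [3, 4, 3, 4, 0, 4, 0, 4],
  [0, 1, 2, 3, 4],
  [5, 0, 5, 1],
  [5, 1, 5, 0],
  [5, 2, 5, 3],
  [5, 3, 5, 2],
  [5, 4, 5, 4],
  [6, 0, 6, 1],
  [6, 1, 6, 0],
  [6, 2, 6, 2],
  [6, 3, 6, 4],
  [6, 4, 6, 3],
  [7, 0, 7, 2],
  [7, 1, 7, 1],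
  [7, 2, 7, 0],
  [7, 3, 7, 4],
  [7, 4, 7, 3],
  [4, 0, 4, 0, 4, 0, 4, 0],
  [4, 0, 4, 0, 1, 0, 4, 0, 4, 1],
  [4, 0, 4, 0, 2, 0, 4, 0, 4, 2],
  [4, 0, 4, 0, 3, 0, 4, 0, 4, 3],
  [4, 0, 4, 0, 5, 0, 4, 0, 4, 5],
  [4, 0, 4, 0, 6, 0, 4, 0, 4, 6],
  [4, 0, 4, 0, 7, 0, 4, 0, 4, 7],
  [3, 6, 7, 8, 3, 6, 7, 8, 3, 6, 7, 8],
  [9, 3, 6, 7, 8, 9, 8, 7, 6, 3],
  [9, 3, 2, 5, 9, 3, 2, 5, 9, 3, 2, 5],
  [9, 7, 6, 3, 6, 7, 8, 9, 7, 6, 3, 6, 7, 8],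
  [9, 3, 2, 5, 7, 6, 3, 6, 7, 8, 9, 3, 2, 5, 7, 6, 3, 6, 7, 8, 9, 3, 2, 5, 7, 6, 3, 6, 7, 8, 9, 3,
    2, 5, 7, 6, 3, 6, 7, 8, 9, 3, 2, 5, 7, 6, 3, 6, 7, 8],
  [6, 7, 8, 3, 2, 5, 8, 7, 6, 3, 5, 2],
  [3, 6, 7, 8, 7, 6, 8, 7, 6, 3, 6, 7],
  [3, 6, 7, 8, 0, 1, 0, 1, 8, 7, 6, 3, 4],
  [9, 0, 1, 0, 1, 9, 5],
  [3, 6, 7, 8, 4, 8, 7, 6, 3, 0, 4, 0],
  [9, 4, 9, 7, 5, 6, 5, 7],
  [3, 6, 7, 8, 5, 8, 7, 6, 3, 7, 5, 6, 5, 7],
  [9, 5, 9, 1, 0, 1, 0],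
  [3, 6, 7, 8, 6, 7, 5, 7, 6, 8, 7, 6, 3, 5],
  [9, 6, 7, 5, 7, 6, 9, 0, 4, 0],
  [6, 7, 8, 6, 7, 8, 6, 7],
  [9, 3, 2, 5, 4, 6, 3, 6, 7, 8, 6, 3, 6, 7, 8, 4, 3, 6, 7, 8, 6, 3, 6, 7, 8, 6, 9, 3, 2, 5, 4, 6,
    3, 6, 7, 8, 6, 3, 6, 7, 8, 4, 3, 6, 7, 8, 6, 3, 6, 7, 8, 6],
  [4, 6, 3, 6, 7, 8, 6, 3, 6, 7, 8, 4, 3, 6, 7, 8, 6, 3, 6, 7, 8, 6, 3, 6, 7, 8, 6, 8, 7, 6, 3, 6,
    8, 7, 6, 3, 4, 8, 7, 6, 3, 6, 8, 7, 6, 3, 6, 4, 8, 7, 6, 3],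
  [3, 6, 7, 8, 6, 3, 6, 7, 8, 6, 3, 6, 7, 8, 6, 3, 6, 7, 8, 6, 3, 6, 7, 8, 6, 3, 6, 7, 8, 6, 3, 6,
    7, 8, 6, 3, 6, 7, 8, 6, 3, 6, 7, 8, 6, 3, 6, 7, 8, 6]]

/-- The ten elements as words in the seven generators. -/
def modelWords : List (List ℕ) := [
  [4, 6, 3, 6, 5, 6, 5, 4, 4, 6, 2, 4, 5, 6, 1],
  [1, 5, 4, 5, 6, 4, 5, 6, 4, 5, 6, 5, 4, 4, 6],
  [0, 6, 6, 5, 6, 4, 5, 1, 6, 3, 5, 6, 4, 6, 6],
  [3, 5, 6, 6, 5, 4, 6, 5, 6, 6, 5, 4, 0],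
  [0, 1, 3, 5, 4, 1, 6, 4, 5, 6, 6, 1, 5, 3, 4],
  [5, 3, 4, 4, 6, 5, 6, 6, 5, 6, 1, 5, 4, 4, 3, 3],
  [2, 6, 5, 1, 3, 6, 4, 5, 6, 5, 4, 4, 6, 4, 3],
  [3, 6, 5, 6, 6, 4, 5, 1, 5, 6, 6, 5, 1, 5, 0],
  [0, 4, 4, 4, 6, 5, 6, 5, 4, 6, 5, 6, 1, 0, 5],
  [1, 5, 0, 4, 0, 6, 5, 6, 6, 2, 4, 6, 5, 1, 5]]

/-- The element of order 19 as a word in the ten. -/
def wordX : List ℕ := [0, 9, 2, 9, 3, 9, 2, 9, 0, 1, 2, 9, 1, 2, 9, 6, 8, 7, 9, 7, 0, 9, 8, 7, 9, 2, 7, 8, 6, 3, 9, 1, 8, 9, 6, 9, 7, 9, 0, 3, 9]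

/-- The involution as a word in the ten. -/
def wordY : List ℕ := [0, 9, 2, 9, 3, 9, 2, 9, 0]


/-- The checks. -/
noncomputable def modelOK : Bool :=
  force (prodC gens (modelWords.getD 0 [])) fun a0 => force (prodC gens (modelWords.getD 1 [])) fun a1 =>
  force (prodC gens (modelWords.getD 2 [])) fun a2 => force (prodC gens (modelWords.getD 3 [])) fun a3 =>
  force (prodC gens (modelWords.getD 4 [])) fun a4 => force (prodC gens (modelWords.getD 5 [])) fun a5 =>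
  force (prodC gens (modelWords.getD 6 [])) fun a6 => force (prodC gens (modelWords.getD 7 [])) fun a7 =>
  force (prodC gens (modelWords.getD 8 [])) fun a8 => force (prodC gens (modelWords.getD 9 [])) fun a9 =>
    (modelRels.all fun r => scalEq (prodC [a0, a1, a2, a3, a4, a5, a6, a7, a8, a9] r) one &&
      r.all fun k => Nat.blt k 10) &&
    scalEq (prodC [a0, a1, a2, a3, a4, a5, a6, a7, a8, a9] wordX) xC &&
    scalEq (prodC [a0, a1, a2, a3, a4, a5, a6, a7, a8, a9] wordY) yC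

theorem check_model : modelOK = true := by decide +kernel

theorem check_word_lt : ((wordX ++ wordY).all fun k => Nat.blt k 10) = true := by decide +kernel

variable {F : Type*} [Field F] [Fintype F] {ω : F} (hf : Field4 F ω) (hF : Fintype.card F = 4)
include hf hF

/-- Ten elements satisfying the relators generate. -/
theorem exists_model : ∃ f : ℕ → QQ F ω, (∀ r ∈ modelRels, (r.map f).prod = 1) ∧
    Subgroup.closure (f '' Set.Iio 10) = ⊤ := by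
  have h := check_model
  simp only [modelOK, force_eq, Bool.and_eq_true, List.all_eq_true, Nat.blt_eq] at h
  set codes : List ℕ := [prodC gens (modelWords.getD 0 []), prodC gens (modelWords.getD 1 []),
    prodC gens (modelWords.getD 2 []), prodC gens (modelWords.getD 3 []),
    prodC gens (modelWords.getD 4 []), prodC gens (modelWords.getD 5 []),
    prodC gens (modelWords.getD 6 []), prodC gens (modelWords.getD 7 []),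
    prodC gens (modelWords.getD 8 []), prodC gens (modelWords.getD 9 [])]
  have hc : ∀ k, Mem F ω (codes.getD k one) := by
    intro k
    rcases Nat.lt_or_ge k 10 with hk | hk
    · interval_cases k <;> exact (word_spec hf (gens_mem hf) _).1
    · rw [List.getD_eq_default _ _ (by simpa [codes] using hk)]
      exact (qEl_one hf).1
  obtain ⟨⟨hr, hx⟩, hy⟩ := h
  refine ⟨fun k => qEl F ω (codes.getD k one), fun r hr' => ?_, ?_⟩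
  · obtain ⟨m, l, e⟩ := word_spec hf hc r
    have e1 := (scalEq_iff hf hF m (qEl_one hf).1 l one_lt).1 (hr r hr').1
    rw [e, (qEl_one hf).2] at e1
    exact e1
  · have hwl := List.all_eq_true.1 check_word_lt
    simp only [Nat.blt_eq] at hwl
    have key : ∀ (w : List ℕ) (c : ℕ), Mem F ω c → c < 2 ^ 162 → (∀ k ∈ w, k < 10) →
        scalEq (prodC codes w) c = true →
        qEl F ω c ∈ Subgroup.closure ((fun k => qEl F ω (codes.getD k one)) '' Set.Iio 10) := by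
      intro w c hm hl hw he
      obtain ⟨m, l, e⟩ := word_spec hf hc w
      rw [← (scalEq_iff hf hF m hm l hl).1 he, e]
      refine Subgroup.list_prod_mem _ fun z hz => ?_
      obtain ⟨i, hi, rfl⟩ := List.mem_map.1 hz
      exact Subgroup.subset_closure ⟨i, hw i hi, rfl⟩
    refine eq_top_iff.2 ((closure_pair hf hF).symm.le.trans ((Subgroup.closure_le _).2 ?_))
    rintro _ (rfl | rfl)
    · exact key wordX xC (xC_mem hf).1 (xC_mem hf).2 (fun k hk => hwl k (List.mem_append_left _ hk)) hx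
    · exact key wordY yC (yC_mem hf).1 (yC_mem hf).2 (fun k hk => hwl k (List.mem_append_right _ hk)) hy

end CfsgLib.InvChar.J3N
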