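import Cfsg.Agent.Lib.Janko3.Involutions
import Cfsg.Agent.Lib.Invol.Strong
import Mathlib.GroupTheory.Transfer
import Mathlib.GroupTheory.Perm.Cycle.Type
import Mathlib.GroupTheory.SpecificGroups.Cyclic

/-!
A subgroup isomorphic to the third Janko group containing an involution centraliser is the whole
group: otherwise it is strongly embedded, so has a subgroup of odd order transitive on its
26163 = 3^4 · 17 · 19 involutions, and such a subgroup contains commuting elements of orders
17 and 19, which do not exist in `GL(9,4)`.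
-/

set_option autoImplicit false

namespace CfsgLib.InvChar.J3Rec

open Cfsg Cfsg.Spor Matrix Subgroup CfsgLib.Janko3

/-- Fixed points of a permutation of prime order, modulo the prime. -/
theorem card_fix_modEq {α : Type*} [Finite α] {p : ℕ} [Fact p.Prime] (σ : Equiv.Perm α)
    (h : σ ^ p = 1) : Nat.card α ≡ Nat.card {v : α // σ v = v} [MOD p] := by
  classical
  have : Fintype α := Fintype.ofFinite α
  have h2 := (Equiv.Perm.card_compl_support_modEq (n := 1) (σ := σ) (by rwa [pow_one])).symm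
  have he : σ.supportᶜ.card = Nat.card {v : α // σ v = v} := by
    rw [Nat.card_eq_fintype_card, Fintype.card_subtype]
    refine congrArg Finset.card ?_
    ext v
    simp
  rwa [he, ← Nat.card_eq_fintype_card] at h2

/-- An additive automorphism of order 17 and one of order 19 of a group of order `2^18` do not
commute. -/
theorem eq_one_of_commute_additive {V : Type*} [AddCommGroup V] [Finite V]
    (hV : Nat.card V = 2 ^ 18) (f g : V ≃+ V) (hf : (f.toEquiv : Equiv.Perm V) ^ 19 = 1)
    (hg : (g.toEquiv : Equiv.Perm V) ^ 17 = 1) (hc : ∀ v, f (g v) = g (f v))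
    (hf1 : ∃ v, f v ≠ v) : ∀ v, g v = v := by
  haveI : Fact (Nat.Prime 19) := ⟨by norm_num⟩
  haveI : Fact (Nat.Prime 17) := ⟨by norm_num⟩
  let fixA : (V ≃+ V) → AddSubgroup V := fun e => (e.toAddMonoidHom - AddMonoidHom.id V).ker
  have hmem : ∀ e : V ≃+ V, ∀ v, v ∈ fixA e ↔ e v = v := fun e v => by
    simp [fixA, AddMonoidHom.mem_ker, sub_eq_zero]
  have hfull : ∀ e : V ≃+ V, Nat.card (fixA e) = 2 ^ 18 → ∀ v, e v = v := fun e h v => by
    rw [← hV] at h
    exact (hmem e v).1 (by rw [AddSubgroup.eq_top_of_card_eq _ h]; trivial)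
  have hpow : ∀ e : V ≃+ V, ∃ a ≤ 18, Nat.card (fixA e) = 2 ^ a := fun e =>
    (Nat.dvd_prime_pow Nat.prime_two).1 (hV ▸ AddSubgroup.card_addSubgroup_dvd_card (fixA e))
  have hfmod : Nat.card (fixA f) % 19 = 1 := by
    have h : Nat.card V ≡ Nat.card {v : V // f.toEquiv v = v} [MOD 19] :=
      card_fix_modEq (p := 19) f.toEquiv hf
    rw [hV, show Nat.card {v : V // f.toEquiv v = v} = Nat.card (fixA f) from
      Nat.card_congr (Equiv.subtypeEquivRight fun v => (hmem f v).symm)] at h
    rw [Nat.ModEq] at h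
    omega
  have hfix : ∀ v, f v = v → v = 0 := by
    obtain ⟨a, ha, hcard⟩ := hpow f
    rw [hcard] at hfmod
    intro v hv
    have ha' : a = 0 ∨ a = 18 := by
      interval_cases a <;> first | exact Or.inl rfl | exact Or.inr rfl | norm_num at hfmod
    rcases ha' with rfl | rfl
    · have h1 : Subsingleton (fixA f) := (Nat.card_eq_one_iff_unique.1 (by rw [hcard]; rfl)).1
      exact congrArg Subtype.val (h1.elim ⟨v, (hmem f v).2 hv⟩ 0)
    · obtain ⟨w, hw⟩ := hf1
      exact absurd (hfull f hcard w) hw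
  have hinv : ∀ v, v ∈ fixA g ↔ f v ∈ fixA g := fun v => by
    rw [hmem, hmem, ← hc, f.injective.eq_iff]
  let τ : Equiv.Perm (fixA g) := Equiv.Perm.subtypePerm f.toEquiv fun v => (hinv v).symm
  have hτ : τ ^ 19 = 1 := by
    rw [Equiv.Perm.subtypePerm_pow]
    ext v
    exact Equiv.ext_iff.1 hf v
  have hgmod : Nat.card (fixA g) % 19 = 1 := by
    have h := card_fix_modEq (p := 19) τ hτ
    have h1 : Nat.card {v : fixA g // τ v = v} = 1 := by
      refine Nat.card_eq_one_iff_unique.2 ⟨⟨fun a b => ?_⟩, ⟨⟨0, Subtype.ext ?_⟩⟩⟩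
      · have ha := hfix _ (congrArg Subtype.val a.2)
        have hb := hfix _ (congrArg Subtype.val b.2)
        exact Subtype.ext (Subtype.ext (ha.trans hb.symm))
      · show f ((0 : fixA g) : V) = _
        simp
    rw [h1] at h
    exact h
  have hgmod17 : Nat.card (fixA g) % 17 = 4 := by
    have h : Nat.card V ≡ Nat.card {v : V // g.toEquiv v = v} [MOD 17] :=
      card_fix_modEq (p := 17) g.toEquiv hg
    rw [hV, show Nat.card {v : V // g.toEquiv v = v} = Nat.card (fixA g) from
      Nat.card_congr (Equiv.subtypeEquivRight fun v => (hmem g v).symm)] at h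
    rw [Nat.ModEq] at h
    omega
  obtain ⟨a, ha, hcard⟩ := hpow g
  rw [hcard] at hgmod hgmod17
  interval_cases a <;> first | omega | exact hfull g hcard

/-- An element of odd order normalising a cyclic group of prime order whose automorphism group has
order prime to it centralises it. -/
theorem commute_of_normalizes {G : Type*} [Group G] [Finite G] {Q : Subgroup G} {q : ℕ}
    (hq : q.Prime) (hQ : Nat.card Q = q) {y : G} (hy : y ∈ normalizer (Q : Set G))
    (hcop : (orderOf y).Coprime (q - 1)) : ∀ x ∈ Q, Commute y x := by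
  haveI : Fact q.Prime := ⟨hq⟩
  haveI : IsCyclic Q := isCyclic_of_prime_card hQ
  set φ := Q.normalizerMonoidHom
  have h1 : orderOf (φ ⟨y, hy⟩) ∣ orderOf y := by
    have := orderOf_map_dvd φ ⟨y, hy⟩
    rwa [← Subgroup.orderOf_coe] at this
  have h2 : orderOf (φ ⟨y, hy⟩) ∣ q - 1 := by
    have h := orderOf_dvd_natCard (φ ⟨y, hy⟩)
    rwa [IsCyclic.card_mulAut, hQ, Nat.totient_prime hq] at h
  have h3 : φ ⟨y, hy⟩ = 1 := orderOf_eq_one_iff.1 (Nat.eq_one_of_dvd_coprimes hcop h1 h2)
  intro x hx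
  have := congrArg (fun e : MulAut Q => ((e ⟨x, hx⟩ : Q) : G)) h3
  simp only [MulAut.one_apply] at this
  exact mul_inv_eq_iff_eq_mul.1 this

/-- A group of odd order divisible by 17 and 19, each at most once, has commuting elements of
these orders. -/
theorem exists_commute_orders {D : Type*} [Group D] [Finite D] (hodd : Odd (Nat.card D))
    (h17 : 17 ∣ Nat.card D) (h17' : ¬ 17 ^ 2 ∣ Nat.card D) (h19 : 19 ∣ Nat.card D)
    (h19' : ¬ 19 ^ 2 ∣ Nat.card D) :
    ∃ x y : D, orderOf x = 19 ∧ orderOf y = 17 ∧ Commute x y := by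
  haveI : Fact (Nat.Prime 17) := ⟨by norm_num⟩
  haveI : Fact (Nat.Prime 19) := ⟨by norm_num⟩
  obtain ⟨P⟩ : Nonempty (Sylow 17 D) := inferInstance
  have hP : Nat.card P = 17 := by
    rw [P.card_eq_multiplicity]
    have h1 : (Nat.card D).factorization 17 = 1 := by
      have hpos : Nat.card D ≠ 0 := Nat.card_pos.ne'
      have hp : Nat.Prime 17 := by norm_num
      rw [hp.pow_dvd_iff_le_factorization hpos] at h17'
      rw [← pow_one 17, hp.pow_dvd_iff_le_factorization hpos] at h17
      omega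
    rw [h1, pow_one]
  have hcent : normalizer (P : Set D) ≤ centralizer (P : Set D) := by
    intro y hy
    refine mem_centralizer_iff.2 fun x hx => ?_
    refine (commute_of_normalizes (Q := (P : Subgroup D)) (by norm_num : Nat.Prime 17) hP hy ?_ x hx).eq.symm
    have ho : Odd (orderOf y) := hodd.of_dvd_nat (orderOf_dvd_natCard y)
    exact (Nat.Coprime.pow_right 4 (Nat.coprime_two_right.2 ho) : _)
  set M := (MonoidHom.transferSylow P hcent).ker
  have hM := MonoidHom.ker_transferSylow_isComplement' P hcent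
  have hmul : Nat.card M * 17 = Nat.card D := by rw [← hP]; exact hM.card_mul_card
  obtain ⟨Q⟩ : Nonempty (Sylow 19 M) := inferInstance
  set Q' := (Q : Subgroup M).map M.subtype with hQ'
  have h19M : 19 ∣ Nat.card M := by
    have : Nat.Coprime 19 17 := by norm_num
    exact this.dvd_of_dvd_mul_right (hmul ▸ h19)
  have hQc : Nat.card Q' = 19 := by
    rw [hQ', Subgroup.card_map_of_injective M.subtype_injective, Q.card_eq_multiplicity]
    have hpos : Nat.card M ≠ 0 := Nat.card_pos.ne'
    have hp : Nat.Prime 19 := by norm_num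
    have h2 : ¬ 19 ^ 2 ∣ Nat.card M := fun h => h19' (h.trans (hmul ▸ dvd_mul_right _ _))
    rw [hp.pow_dvd_iff_le_factorization hpos] at h2
    rw [← pow_one 19, hp.pow_dvd_iff_le_factorization hpos] at h19M
    have h1 : (Nat.card M).factorization 19 = 1 := by omega
    rw [h1, pow_one]
  have hsup := Sylow.normalizer_sup_eq_top Q
  have h17N : 17 ∣ Nat.card (normalizer (Q' : Set D)) := by
    have h : M.relIndex (normalizer (Q' : Set D) ⊔ M) = M.relIndex (normalizer (Q' : Set D)) :=
      Subgroup.relIndex_sup_right _ _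
    have hd : M.relIndex (normalizer (Q' : Set D)) ∣ Nat.card (normalizer (Q' : Set D)) :=
      Subgroup.relIndex_dvd_card _ _
    have hidx : M.index = 17 := by rw [hM.symm.index_eq_card]; exact hP
    rw [hsup, relIndex_top_right, hidx] at h
    rwa [← h] at hd
  obtain ⟨y, hy⟩ := exists_prime_orderOf_dvd_card' 17 h17N
  obtain ⟨x, hx⟩ := exists_prime_orderOf_dvd_card' (G := Q') 19 (by rw [hQc])
  rw [← Subgroup.orderOf_coe] at hx hy
  refine ⟨x, y, hx, hy, (commute_of_normalizes (by norm_num : Nat.Prime 19) hQc y.2 ?_ x x.2).symm⟩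
  rw [hy]
  norm_num

variable {F : Type*} [Field F] [Fintype F] {ω : F} (hf : Field4 F ω)
  (hF : Fintype.card F = 4)
include hf hF

/-- `GL(9,4)` acting on the vectors. -/
def vecAct {G : Type*} [Monoid G] (φ : G →* GL F9 F) (g : G) : (F9 → F) ≃+ (F9 → F) where
  toFun v := (φ g : Matrix F9 F9 F) *ᵥ v
  invFun v := ((φ g)⁻¹ : GL F9 F).val *ᵥ v
  left_inv v := by simp [Matrix.mulVec_mulVec]
  right_inv v := by simp [Matrix.mulVec_mulVec]
  map_add' := Matrix.mulVec_add _

/-- The third Janko group has no commuting elements of orders 17 and 19. -/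
theorem not_commute_orders {x y : QQ F ω} (hx : orderOf x = 19) (hy : orderOf y = 17) :
    ¬ Commute x y := by
  intro hc
  obtain ⟨w, hw⟩ := QuotientGroup.mk_surjective (x * y)
  have hz : ∀ c ∈ Subgroup.center (GG F ω), c ^ 3 = 1 := fun c hcc => by
    have := pow_card_eq_one' (x := (⟨c, hcc⟩ : Subgroup.center (GG F ω)))
    rw [card_center hf hF] at this
    exact congrArg Subtype.val this
  have h323 : w ^ 323 ∈ Subgroup.center (GG F ω) := by
    rw [← QuotientGroup.eq_one_iff, QuotientGroup.mk_pow, hw, hc.mul_pow,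
      orderOf_dvd_iff_pow_eq_one.1 (by rw [hx]; norm_num : orderOf x ∣ 323),
      orderOf_dvd_iff_pow_eq_one.1 (by rw [hy]; norm_num : orderOf y ∣ 323), one_mul]
  set a : GL F9 F := ((w : GG F ω) : GL F9 F) ^ 51
  set b : GL F9 F := ((w : GG F ω) : GL F9 F) ^ 57
  have hw3 : ((w : GG F ω) : GL F9 F) ^ (323 * 3) = 1 := by
    rw [pow_mul]
    exact congrArg Subtype.val (hz _ h323)
  let φ : GL F9 F →* GL F9 F := MonoidHom.id _
  have hperm : ∀ (g : GL F9 F) (n : ℕ), g ^ n = 1 →
      ((vecAct φ g).toEquiv : Equiv.Perm (F9 → F)) ^ n = 1 := by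
    intro g n hn
    have h : ∀ (k : ℕ) v, (((vecAct φ g).toEquiv : Equiv.Perm (F9 → F)) ^ k) v =
        ((g ^ k : GL F9 F) : Matrix F9 F9 F) *ᵥ v := by
      intro k
      induction k with
      | zero => intro v; simp
      | succ k ih =>
        intro v
        rw [pow_succ, Equiv.Perm.mul_apply, ih, pow_succ, Units.val_mul, ← Matrix.mulVec_mulVec]
        rfl
    refine Equiv.ext fun v => ?_
    rw [h, hn]
    simp
  have hV : Nat.card (F9 → F) = 2 ^ 18 := by
    rw [Nat.card_fun, Nat.card_eq_fintype_card (α := F), hF, Nat.card_eq_fintype_card]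
    rfl
  have hne : ∀ n, ¬ orderOf (x * y) ∣ n → ((w : GG F ω) : GL F9 F) ^ n ≠ 1 := by
    intro n hn h
    refine hn (orderOf_dvd_iff_pow_eq_one.2 ?_)
    rw [← hw, ← QuotientGroup.mk_pow, show w ^ n = 1 from Subtype.ext h, QuotientGroup.mk_one]
  have hord : orderOf (x * y) = 323 := by
    rw [hc.orderOf_mul_eq_mul_orderOf_of_coprime (by rw [hx, hy]; norm_num), hx, hy]
  have hfix : ∀ g : GL F9 F, (∀ v, vecAct φ g v = v) → g = 1 := by
    intro g h
    refine Units.ext (Matrix.toLin'.injective (LinearMap.ext fun v => ?_))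
    rw [Matrix.toLin'_apply, Units.val_one, Matrix.toLin'_apply, Matrix.one_mulVec]
    exact h v
  have key := eq_one_of_commute_additive hV (vecAct φ a) (vecAct φ b)
    (hperm a 19 (by rw [← pow_mul]; exact hw3)) (hperm b 17 (by rw [← pow_mul]; exact hw3))
    (fun v => by
      show (a : Matrix F9 F9 F) *ᵥ ((b : Matrix F9 F9 F) *ᵥ v) = _
      rw [Matrix.mulVec_mulVec, ← Units.val_mul, ((Commute.refl _).pow_pow 51 57).eq, Units.val_mul,
        ← Matrix.mulVec_mulVec]
      rfl)
    (by
      by_contra h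
      push_neg at h
      exact hne 51 (by rw [hord]; norm_num) (hfix a h))
  exact hne 57 (by rw [hord]; norm_num) (hfix b key)

/-- The involutions of the third Janko group form one class. -/
theorem isConj_invol {x y : QQ F ω} (hx : orderOf x = 2) (hy : orderOf y = 2) : IsConj x y := by
  obtain ⟨g, hg⟩ := conj_tQ hf hF hx
  obtain ⟨k, hk⟩ := conj_tQ hf hF hy
  exact (isConj_iff.2 ⟨g, hg⟩).trans (isConj_iff.2 ⟨k, hk⟩).symm

/-- A subgroup of the type of the third Janko group containing an involution centraliser is the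
whole group. -/
theorem eq_top_of_equiv {G : Type*} [Group G] [Finite G] (P : Subgroup G) (e : P ≃* QQ F ω)
    (z : G) (hz : orderOf z = 2) (hzP : z ∈ P)
    (hC : Subgroup.centralizer ({z} : Set G) ≤ P) : P = ⊤ := by
  by_contra hP
  have hord : ∀ u (hu : u ∈ P), orderOf (e ⟨u, hu⟩) = orderOf u := fun u hu => by
    rw [e.orderOf_eq, Subgroup.orderOf_mk]
  have hclass : ∀ u ∈ P, orderOf u = 2 → ∃ a ∈ P, a * z * a⁻¹ = u := by
    intro u hu h2
    obtain ⟨g, hg⟩ := isConj_iff.1 (isConj_invol hf hF (x := e ⟨z, hzP⟩) (y := e ⟨u, hu⟩)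
      (by rw [hord, hz]) (by rw [hord, h2]))
    obtain ⟨a, rfl⟩ := e.surjective g
    rw [← map_inv, ← map_mul, ← map_mul] at hg
    exact ⟨a, a.2, congrArg Subtype.val (e.injective hg)⟩
  have hSE : Cfsg.IsStronglyEmbedded P := by
    refine ⟨hP, CfsgLib.Invol.even_card_of_invol_mem hz hzP, fun g hg => ?_⟩
    by_contra hev
    obtain ⟨u, hu, h2⟩ := CfsgLib.Invol.exists_invol_mem (Nat.not_odd_iff_even.1 hev)
    obtain ⟨hu1, v, hv, rfl⟩ := hu
    rw [MulEquiv.coe_toMonoidHom, MulAut.conj_apply] at hu1 h2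
    rw [CfsgLib.Invol.orderOf_conj_eq] at h2
    obtain ⟨b, hb, hbv⟩ := hclass v hv h2
    obtain ⟨a, ha, hau⟩ := hclass _ hu1 (by rw [CfsgLib.Invol.orderOf_conj_eq, h2])
    have hmem : a⁻¹ * g * b ∈ P := by
      refine hC (Subgroup.mem_centralizer_singleton_iff.2 ?_)
      subst hbv
      calc a⁻¹ * g * b * z = a⁻¹ * (g * (b * z * b⁻¹) * g⁻¹) * (g * b) := by group
        _ = a⁻¹ * (a * z * a⁻¹) * (g * b) := by rw [hau]
        _ = z * (a⁻¹ * g * b) := by group
    have h3 := mul_mem (mul_mem ha hmem) (inv_mem hb)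
    rw [show a * (a⁻¹ * g * b) * b⁻¹ = g by group] at h3
    exact hg h3
  obtain ⟨g, -, hg⟩ := SetLike.exists_of_lt (lt_top_iff_ne_top.2 hP)
  set D := P ⊓ P.map (MulAut.conj g).toMonoidHom with hD
  have hDle : D ≤ P := inf_le_left
  -- the two-point stabiliser is transitive on the involutions of `P`
  let ψ : D →* QQ F ω := e.toMonoidHom.comp (Subgroup.inclusion hDle)
  have hψ : Function.Injective ψ := e.injective.comp (Subgroup.inclusion_injective hDle)
  set t : QQ F ω := e ⟨z, hzP⟩
  have ht : orderOf t = 2 := by rw [hord, hz]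
  letI : MulAction D (QQ F ω) := MulAction.compHom _ (MulAut.conj.comp ψ)
  have horbit : MulAction.orbit D t = {u | IsConj t u} := by
    ext u
    constructor
    · rintro ⟨d, rfl⟩
      exact isConj_iff.2 ⟨ψ d, rfl⟩
    · intro hu
      have hu2 : orderOf (e.symm u : G) = 2 := by
        rw [Subgroup.orderOf_coe, e.symm.orderOf_eq,
          CfsgLib.Invol.orderOf_eq_of_isConj hu, ht]
      have hxy : ((1 : G) : G ⧸ P) ≠ (g : G ⧸ P) := fun h => hg (by simpa using QuotientGroup.eq.1 h)
      obtain ⟨d, hd1, hd2, hd⟩ := CfsgLib.Invol.se_stab_transitive hSE hxy hz hu2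
        ((CfsgLib.Invol.fix_coset_iff _ _).2 (by simpa using hzP))
        ((CfsgLib.Invol.fix_coset_iff _ _).2 (by simp))
      have hdD : d ∈ D := CfsgLib.Invol.mem_inter_conj_iff.2 ⟨hd1, hd2⟩
      refine ⟨⟨d, hdD⟩, ?_⟩
      show ψ ⟨d, hdD⟩ * t * (ψ ⟨d, hdD⟩)⁻¹ = u
      refine (e.symm.injective ?_)
      apply Subtype.ext
      simpa [ψ, t] using hd
  have hodd : Odd (Nat.card D) := hSE.2.2 g hg
  have hcls : Nat.card {u | IsConj t u} = 26163 := by
    obtain ⟨k, hk⟩ := conj_tQ hf hF ht
    have hc : Nat.card {u | IsConj (tQ F ω) u} * Nat.card (CC F ω) = Nat.card (QQ F ω) :=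
      CfsgLib.Invol.card_class_mul_card_centralizer (tQ F ω)
    rw [(cent_spec hf hF).1, card_QQ hf hF] at hc
    have he : {u | IsConj t u} = {u | IsConj (tQ F ω) u} := Set.ext fun u =>
      ⟨fun h => (isConj_iff.2 ⟨k, hk⟩).symm.trans h, fun h => (isConj_iff.2 ⟨k, hk⟩).trans h⟩
    rw [he]
    omega
  have hdvd : 26163 ∣ Nat.card D := by
    rw [← hcls, ← horbit, Nat.card_coe_set_eq, ← MulAction.index_stabilizer]
    exact Subgroup.index_dvd_card _
  have hDQ : Nat.card D ∣ 50232960 := card_QQ hf hF ▸ Subgroup.card_dvd_of_injective ψ hψ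
  obtain ⟨x, y, hx, hy, hxy⟩ := exists_commute_orders hodd ((by norm_num : 17 ∣ 26163).trans hdvd)
    (fun h => absurd (h.trans hDQ) (by norm_num)) ((by norm_num : 19 ∣ 26163).trans hdvd)
    (fun h => absurd (h.trans hDQ) (by norm_num))
  exact not_commute_orders hf hF (by rw [orderOf_injective ψ hψ, hx])
    (by rw [orderOf_injective ψ hψ, hy]) (hxy.map ψ)

end CfsgLib.InvChar.J3Rec
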