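import Cfsg.Agent.Lib.InvChar.J3Base
import Cfsg.Agent.Lib.InvChar.J3NModel
import Cfsg.Agent.Lib.InvChar.J3NoStrong
import Cfsg.Agent.Lib.InvChar.SporData.J3M.Main
import Cfsg.Agent.Lib.InvChar.SporData.J3H.Main
import Cfsg.Agent.Lib.InvChar.CosetWordGroup
import Cfsg.Agent.Lib.Janko3.Simple

/-!
# A group with the relators of the presentation on ten involutions is the third Janko group

The presented group has order at most `26163 * 1920` by two certified enumerations, and maps onto
the model, so it is the model; its image in a group with the involution centraliser is everything,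
since it contains that centraliser.
-/

set_option autoImplicit false
set_option maxRecDepth 100000

namespace CfsgLib.InvChar.J3Rec

open Subgroup Coset CfsgLib.InvChar.HJType

universe u

/-- The presentation on ten involutions. -/
def presM : WordPres where
  g := 10
  rels := J3M.rels
  pos := by decide
  lt := by decide +kernel
  sq := by decide +kernel

theorem presM_card_le : Finite presM.Grp ∧ Nat.card presM.Grp ≤ 26163 * 1920 := by
  have h0 := card_lettersClosure_nil presM.gen
  have h1 := J3H.covered.chain_step presM.gen presM.gen_mul_self J3H.emb [] rfl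
    (presM.rels_subGen _ _ (by decide +kernel)) (by decide) (by decide +kernel) h0.1 h0.2
  have h2 := J3M.covered.chain_step presM.gen presM.gen_mul_self J3M.emb J3H.emb rfl
    (presM.rels_subGen _ _ (by decide +kernel)) (by decide) (by decide +kernel) h1.1 h1.2
  have h := presM.card_le_of_lettersClosure (emb := J3M.emb) (by decide) h2
  exact ⟨h.1, h.2.trans (le_of_eq rfl)⟩

theorem modelRels_eq : J3N.modelRels = J3M.rels := by decide +kernel

/-- The presented group is the model. -/
theorem presM_equiv_QQ {F : Type} [Field F] [Fintype F] {ω : F} (hf : Janko3.Field4 F ω)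
    (hF : Fintype.card F = 4) : Nonempty (presM.Grp ≃* Janko3.QQ F ω) := by
  obtain ⟨f, hrel, hgen⟩ := J3N.exists_model hf hF
  rw [modelRels_eq] at hrel
  obtain ⟨φ, hφ⟩ := presM.exists_hom f hrel
  have hs : Function.Surjective φ := by
    rw [← MonoidHom.range_eq_top, eq_top_iff, ← hgen, closure_le]
    rintro _ ⟨x, hx, rfl⟩
    exact ⟨presM.gen x, hφ x hx⟩
  haveI := presM_card_le.1
  have hb : Function.Bijective φ :=
    hs.bijective_of_nat_card_le (by rw [Janko3.card_QQ hf hF]; exact presM_card_le.2)
  exact ⟨MulEquiv.ofBijective φ hb⟩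

/-- A group with the involution centraliser and ten involutions satisfying all relators is the
third Janko group. -/
theorem equiv_QQ_of_rels {G : Type u} [Group G] [Finite G] {z : G} {Q : Subgroup G}
    (S : HJType.Pre z Q) {s : ℕ → G} (B : J3Rec.Base z Q s) (hR : ∀ r ∈ J3M.rels, wprod s r = 1)
    {F : Type} [Field F] [Fintype F] {ω : F} (hf : Janko3.Field4 F ω) (hF : Fintype.card F = 4) :
    Nonempty (G ≃* Janko3.QQ F ω) := by
  obtain ⟨e⟩ := presM_equiv_QQ hf hF
  haveI : IsSimpleGroup (Janko3.QQ F ω) := Janko3.simple_quotient hf hF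
  haveI : IsSimpleGroup presM.Grp := e.isSimpleGroup
  obtain ⟨θ, hθ⟩ := presM.exists_hom s hR
  have hw : ∀ L : List ℕ, (∀ x ∈ L, x < 8) → θ (wprod presM.gen L) = wprod s L := fun L hL =>
    map_wprod θ presM.gen s L fun x hx => hθ x (Nat.lt_of_lt_of_le (hL x hx) (by decide))
  have hz : θ (wprod presM.gen [4, 0, 4, 0]) = z := by rw [hw _ (by simp), B.frame.hz]
  have hinj : Function.Injective θ := by
    rw [← MonoidHom.ker_eq_bot_iff]
    refine (IsSimpleGroup.eq_bot_or_eq_top_of_normal θ.ker inferInstance).resolve_right fun h => ?_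
    exact S.zne (hz.symm.trans (MonoidHom.mem_ker.1 (h ▸ mem_top _)))
  have hC : centralizer ({z} : Set G) ≤ θ.range := by
    intro g hg
    obtain ⟨i, hi, rfl⟩ := B.frame.exists_wd S hg
    exact ⟨_, hw _ (Frame.wd_lt hi)⟩
  have ht : θ.range = ⊤ := eq_top_of_equiv hf hF θ.range
    ((MonoidHom.ofInjective hinj).symm.trans e) z S.hz ⟨_, hz⟩ hC
  exact ⟨((MulEquiv.ofBijective θ ⟨hinj, MonoidHom.range_eq_top.1 ht⟩).symm).trans e⟩

end CfsgLib.InvChar.J3Rec
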