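import Cfsg.Agent.Lib.InvChar.J3NonSplit
import Cfsg.Agent.Lib.InvChar.J3Letters
import Cfsg.Agent.Lib.InvChar.SporData.J3S01.Main
import Cfsg.Agent.Lib.InvChar.SporData.J3S02.Main
import Cfsg.Agent.Lib.InvChar.SporData.J3S10.Main
import Cfsg.Agent.Lib.InvChar.SporData.J3S11.Main
import Cfsg.Agent.Lib.InvChar.SporData.J3S12.Main
import Cfsg.Agent.Lib.InvChar.SporData.J3S20.Main
import Cfsg.Agent.Lib.InvChar.SporData.J3S21.Main
import Cfsg.Agent.Lib.InvChar.SporData.J3S22.Main
import Cfsg.Agent.Lib.InvChar.SporData.J3S30.Main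
import Cfsg.Agent.Lib.InvChar.SporData.J3S31.Main
import Cfsg.Agent.Lib.InvChar.SporData.J3S32.Main
import Cfsg.Agent.Lib.InvChar.SporData.J3S40.Main
import Cfsg.Agent.Lib.InvChar.SporData.J3S41.Main
import Cfsg.Agent.Lib.InvChar.SporData.J3S42.Main
import Cfsg.Agent.Lib.InvChar.SporData.J3S50.Main
import Cfsg.Agent.Lib.InvChar.SporData.J3S51.Main
import Cfsg.Agent.Lib.InvChar.SporData.J3S52.Main

/-!
# The last three relators of `J3M`

The alternatives left by the centraliser of `k` all make `n` centralise `z`, except the one of the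
presentation.
-/

set_option autoImplicit false
set_option maxRecDepth 100000

namespace CfsgLib.InvChar.J3Rec

open Subgroup Coset CfsgLib.Invol CfsgLib.InvChar.HJType

universe u

/-- The tokens of `l`. -/
def lToks : List ℕ := [5, 2, 0, 5, 0, 2]

/-- The table word of `l`. -/
def lX : List ℕ := lToks.flatMap fun t => tokX.getD t []

theorem lX_notMem : xz lX = false ∧ xeq lX [0, 2] = false ∧ xeq lX [2, 0] = false := by
  decide +kernel

theorem invToks_shape : (List.range 45).all (fun a =>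
    decide (invToks.getD a [] = (invToks.getD a []).take ((invToks.getD a []).length / 2) ++ [4] ++
      ((invToks.getD a []).take ((invToks.getD a []).length / 2)).reverse.map (fun t => t ^^^ 1)) &&
    ((invToks.getD a []).take ((invToks.getD a []).length / 2)).all (fun t => decide (t < 4))) = true := by
  decide +kernel

/-- The six options as letter words `(p, l^±, q)`. -/
def optW : List (List ℕ × List ℕ × List ℕ) := [([3, 2, 5], lW, []),
  (niW ++ [6, 7], lW, [3, 2, 5]), (niW ++ [6, 7] ++ [3, 2, 5], lW, []),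
  ([3, 2, 5] ++ (niW ++ [6, 7]), lW, []), (niW ++ [6, 7] ++ [3, 2, 5] ++ (niW ++ [6, 7]), liW, []),
  (kW ++ nW ++ [3, 2, 5], liW, [])]

/-- The word whose square lies in `⟨n⟩` for option `j`. -/
def uW (j : ℕ) : List ℕ :=
  match optW.getD j ([], [], []) with
  | (p, l, q) => [9] ++ p ++ l ++ q

/-- `n ^ e` as a word. -/
def npow : ℕ → List ℕ
  | 0 => []
  | 1 => nW
  | _ => niW

/-- The relators of a collapsing certificate of the split case. -/
def spGens (j e : ℕ) : List (List ℕ) :=
  [aaW ++ aaW ++ aaW ++ aaW ++ aaW, lW ++ nW ++ liW ++ niW, uW j ++ uW j ++ npow e]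

theorem M_last : J3M.rels = baseRels ++ [cred (uW 0 ++ uW 0), cred (lW ++ nW ++ liW ++ niW),
    cred (aaW ++ aaW ++ aaW ++ aaW ++ aaW)] := by decide +kernel

variable {G : Type u} [Group G] {z : G} {Q : Subgroup G} {s : ℕ → G}

theorem collapse0 (B : Base z Q s) {j e : ℕ} (hj : j < 6) (he : e < 3) (h0 : ¬(j = 0 ∧ e = 0))
    (hR : ∀ g ∈ spGens j e, wprod s g = 1) (H : Subgroup G) (hH : ∀ x < 8, s x ∈ H) :
    wprod s nW ∈ H := by
  interval_cases j <;> interval_cases e
  · exact absurd ⟨rfl, rfl⟩ h0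
  · exact J3S01.mem s B.frame.hs (rels_hold B _ _ hR (by decide +kernel)) H (subs_hold hH _ (by decide))
  · exact J3S02.mem s B.frame.hs (rels_hold B _ _ hR (by decide +kernel)) H (subs_hold hH _ (by decide))
  · exact J3S10.mem s B.frame.hs (rels_hold B _ _ hR (by decide +kernel)) H (subs_hold hH _ (by decide))
  · exact J3S11.mem s B.frame.hs (rels_hold B _ _ hR (by decide +kernel)) H (subs_hold hH _ (by decide))
  · exact J3S12.mem s B.frame.hs (rels_hold B _ _ hR (by decide +kernel)) H (subs_hold hH _ (by decide))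
  · exact J3S20.mem s B.frame.hs (rels_hold B _ _ hR (by decide +kernel)) H (subs_hold hH _ (by decide))
  · exact J3S21.mem s B.frame.hs (rels_hold B _ _ hR (by decide +kernel)) H (subs_hold hH _ (by decide))
  · exact J3S22.mem s B.frame.hs (rels_hold B _ _ hR (by decide +kernel)) H (subs_hold hH _ (by decide))
  · exact J3S30.mem s B.frame.hs (rels_hold B _ _ hR (by decide +kernel)) H (subs_hold hH _ (by decide))
  · exact J3S31.mem s B.frame.hs (rels_hold B _ _ hR (by decide +kernel)) H (subs_hold hH _ (by decide))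
  · exact J3S32.mem s B.frame.hs (rels_hold B _ _ hR (by decide +kernel)) H (subs_hold hH _ (by decide))
  · exact J3S40.mem s B.frame.hs (rels_hold B _ _ hR (by decide +kernel)) H (subs_hold hH _ (by decide))
  · exact J3S41.mem s B.frame.hs (rels_hold B _ _ hR (by decide +kernel)) H (subs_hold hH _ (by decide))
  · exact J3S42.mem s B.frame.hs (rels_hold B _ _ hR (by decide +kernel)) H (subs_hold hH _ (by decide))
  · exact J3S50.mem s B.frame.hs (rels_hold B _ _ hR (by decide +kernel)) H (subs_hold hH _ (by decide))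
  · exact J3S51.mem s B.frame.hs (rels_hold B _ _ hR (by decide +kernel)) H (subs_hold hH _ (by decide))
  · exact J3S52.mem s B.frame.hs (rels_hold B _ _ hR (by decide +kernel)) H (subs_hold hH _ (by decide))

namespace Base

variable (B : Base z Q s)
include B

theorem n_notMem (S : HJType.Pre z Q) : wprod s nW ∉ centralizer ({z} : Set G) := by
  intro h
  have hb := B.base [3, 6, 7, 8, 0, 1, 0, 1, 8, 7, 6, 3, 4] (by decide)
  have e : wprod s (nW ++ [0, 1, 0, 1] ++ niW ++ [4]) = 1 := hb
  rw [wprod_append, wprod_append, wprod_append, show niW = nW.reverse from rfl,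
    wprod_reverse s B.frame.hs, B.cw (u := [0, 1, 0, 1]) (v := [4, 0, 4, 0]) (by decide +kernel),
    B.frame.hz, mem_centralizer_singleton_iff.1 h, mul_inv_cancel_right, wprod_cons, wprod_nil,
    mul_one] at e
  refine (el_ni B.frame S (Or.inl rfl : (2 : ℕ) = 2 ∨ 2 = 3)).2.2.2 ?_
  rw [el_two, eq_inv_of_mul_eq_one_right e, S.zInv]

theorem nr : wprod s [3, 2, 5] * wprod s nW = wprod s nW * wprod s [3, 2, 5] := by
  have hb := B.base [6, 7, 8, 3, 2, 5, 8, 7, 6, 3, 5, 2] (by decide)
  have hs := B.frame.hs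
  have e : wprod s (nW ++ [3, 2, 5] ++ niW ++ [5, 2, 3]) = 1 := by
    rw [show nW ++ [3, 2, 5] ++ niW ++ [5, 2, 3] = [3] ++ [6, 7, 8, 3, 2, 5, 8, 7, 6, 3, 5, 2] ++ [3]
      from rfl, wprod_append, wprod_append, hb, wprod_cons, wprod_nil, mul_one, mul_one, hs]
  rw [wprod_append, wprod_append, wprod_append, show niW = nW.reverse from rfl,
    show ([5, 2, 3] : List ℕ) = ([3, 2, 5] : List ℕ).reverse from rfl, wprod_reverse s hs,
    wprod_reverse s hs] at e
  calc wprod s [3, 2, 5] * wprod s nW = wprod s nW * wprod s [3, 2, 5] * (wprod s nW)⁻¹ *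
      (wprod s [3, 2, 5])⁻¹ * (wprod s [3, 2, 5] * wprod s nW) := by rw [e, one_mul]
    _ = wprod s nW * wprod s [3, 2, 5] := by group

theorem nw : s 9 * wprod s nW = wprod s nW * s 9 := by
  have hb := B.base [9, 3, 6, 7, 8, 9, 8, 7, 6, 3] (by decide)
  have hs := B.frame.hs
  have e : wprod s ([9] ++ nW ++ [9] ++ niW) = 1 := hb
  rw [wprod_append, wprod_append, wprod_append, show niW = nW.reverse from rfl,
    wprod_reverse s hs, wprod_cons, wprod_nil, mul_one] at e
  calc s 9 * wprod s nW = s 9 * wprod s nW * s 9 * (wprod s nW)⁻¹ * (wprod s nW * (s 9)⁻¹) := by group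
    _ = wprod s nW * s 9 := by rw [e, one_mul, inv_eq_of_mul_eq_one_right (hs 9)]

theorem wkw : s 9 * wprod s kW * s 9 = (wprod s kW)⁻¹ * wprod s nW := by
  have hs := B.frame.hs
  have e : wprod s ([9] ++ kW ++ nW ++ ([9] ++ kW ++ nW)) = 1 :=
    B.base [9, 7, 6, 3, 6, 7, 8, 9, 7, 6, 3, 6, 7, 8] (by decide)
  simp only [wprod_append, wprod_cons, wprod_nil, mul_one] at e
  set k := wprod s kW
  set n := wprod s nW
  have hn3 : n * n * n = 1 := by
    have := B.n_cube
    rwa [pow_succ, pow_two] at this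
  have hnk : Commute n k := B.n_commute_k
  have hnw : n * s 9 = s 9 * n := B.nw.symm
  have e' : s 9 * k * s 9 * n * k * n = 1 := by
    calc s 9 * k * s 9 * n * k * n = s 9 * k * (s 9 * n) * k * n := by group
      _ = s 9 * k * (n * s 9) * k * n := by rw [hnw]
      _ = s 9 * k * n * (s 9 * k * n) := by group
      _ = 1 := e
  calc s 9 * k * s 9 = s 9 * k * s 9 * n * k * n * (n⁻¹ * k⁻¹ * n⁻¹) := by group
    _ = k⁻¹ * (n * n * n)⁻¹ * n := by
        rw [e', one_mul, ← (hnk.inv_inv).eq.symm]; group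
    _ = k⁻¹ * n := by rw [hn3, inv_one, mul_one]

end Base

namespace KData

variable {π : ↥(centralizer ({wprod s kW} : Set G)) →* ↥(alternatingGroup (Fin 6))}
variable (D : KData z Q s π)
include D

theorem l_mem : ∃ h : wprod s lW ∈ centralizer ({wprod s kW} : Set G),
    π ⟨_, h⟩ = wprod D.f lX :=
  D.toks lToks (by decide)

theorem pi_n (h : wprod s nW ∈ centralizer ({wprod s kW} : Set G)) :
    π ⟨_, h⟩ = wprod D.f [0, 2] := by
  obtain ⟨_, e⟩ := D.tok 0 (by norm_num)
  exact e

/-- An involution of `C(k)` is one of the 45. -/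
theorem invol_cases {g : ↥(centralizer ({wprod s kW} : Set G))} (h2 : (g : G) * g = 1)
    (hne : (g : G) ≠ 1) :
    ∃ a < 45, π g = wprod D.f (invX a) ∧ wprod s (invWords.getD a []) = g := by
  obtain ⟨i, hi, e⟩ := D.image.exists_rep (π g)
  have hw := xwd_lt (xreps_lt hi)
  have h := List.all_eq_true.1 invX_cover i hi
  have hii : xz (J3XT.wd i ++ J3XT.wd i) = true := by
    rw [← D.image.eq_one_iff (xlt_append hw hw), wprod_append, e, ← map_mul,
      show g * g = 1 from Subtype.ext h2, map_one]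
  have hni : xz (J3XT.wd i) = false := by
    rw [Bool.eq_false_iff]
    intro h'
    exact D.pi_invol_ne_one h2 hne (e ▸ (D.image.eq_one_iff hw).2 h')
  simp only [hii, hni, Bool.not_true, Bool.false_or, List.any_eq_true, List.mem_range] at h
  obtain ⟨a, ha, hai⟩ := h
  have ea : π g = wprod D.f (invX a) := by
    rw [← e, (D.image.eq_iff (invX_lt a ha) hw).2 hai]
  refine ⟨a, ha, ea, ?_⟩
  have ht := List.all_eq_true.1 invWords_toks a (List.mem_range.2 ha)
  simp only [Bool.and_eq_true, decide_eq_true_eq, List.all_eq_true] at ht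
  obtain ⟨hm, he⟩ := D.toks (invToks.getD a []) ht.2
  have hs := D.B.frame.hs
  have hval : wprod s (invWords.getD a []) =
      wprod s ((invToks.getD a []).flatMap fun t => tokW.getD t []) := by
    rw [← wprod_red s hs (invWords.getD a []), ← ht.1, wprod_red s hs]
  have hu2 : wprod s ((invToks.getD a []).flatMap fun t => tokW.getD t []) *
      wprod s ((invToks.getD a []).flatMap fun t => tokW.getD t []) = 1 := by
    have hsh := List.all_eq_true.1 invToks_shape a (List.mem_range.2 ha)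
    simp only [Bool.and_eq_true, decide_eq_true_eq, List.all_eq_true] at hsh
    set P := (invToks.getD a []).take ((invToks.getD a []).length / 2)
    rw [hsh.1]
    have hinv : ∀ T : List ℕ, (∀ t ∈ T, t < 4) →
        wprod s ((T.reverse.map fun t => t ^^^ 1).flatMap fun t => tokW.getD t []) =
          (wprod s (T.flatMap fun t => tokW.getD t []))⁻¹ := by
      intro T
      induction T with
      | nil => intro _; simp [wprod]
      | cons t T ih =>
        intro hT
        have ht4 := hT t List.mem_cons_self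
        have htt : tokW.getD (t ^^^ 1) [] = (tokW.getD t []).reverse := by
          clear * - ht4; revert t; decide
        rw [List.reverse_cons, List.map_append, List.flatMap_append, wprod_append, List.flatMap_cons,
          wprod_append, mul_inv_rev, ih fun u hu => hT u (List.mem_cons_of_mem t hu), List.map_cons,
          List.map_nil, List.flatMap_cons, List.flatMap_nil, List.append_nil, htt,
          wprod_reverse s hs]
    rw [List.flatMap_append, List.flatMap_append, wprod_append, wprod_append, hinv P hsh.2,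
      List.flatMap_cons, List.flatMap_nil, List.append_nil]
    have hz : wprod s (tokW.getD 4 []) = z := D.B.frame.hz
    rw [hz]
    generalize wprod s (P.flatMap fun t => tokW.getD t []) = p
    calc p * z * p⁻¹ * (p * z * p⁻¹) = p * (z * z) * p⁻¹ := by group
      _ = 1 := by rw [D.S.zz, mul_one, mul_inv_cancel]
  rw [hval]
  exact (D.invol_eq (g := ⟨_, hm⟩) (h := g) hu2 h2 (he.trans ea.symm))

/-- **The case in which `l` moves `n` is impossible.** -/
theorem not_nonsplit {i : ℕ} (hi : i = 1 ∨ i = 2)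
    (hl : wprod s (lW ++ nW ++ liW ++ niW ++ kpow i) = 1) : False := by
  have hs := D.B.frame.hs
  set n := wprod s nW with hn
  set l := wprod s lW with hldef
  obtain ⟨hlC, -⟩ := D.l_mem
  have hlk : l * (wprod s kW) = (wprod s kW) * l := mem_centralizer_singleton_iff.1 hlC
  have hnk : Commute n (wprod s kW) := D.B.n_commute_k
  have hk3 : (wprod s kW) * (wprod s kW) * (wprod s kW) = 1 := by
    have := D.B.k_cube
    rwa [pow_succ, pow_two] at this
  have hn3 : n * n * n = 1 := by
    have := D.B.n_cube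
    rwa [pow_succ, pow_two, ← hn] at this
  -- `w L w` with `L n L⁻¹ = (wprod s kW)⁻¹ n`
  obtain ⟨L, hLk, hLn, hy⟩ : ∃ L : G, L * (wprod s kW) = (wprod s kW) * L ∧ L * n * L⁻¹ = (wprod s kW)⁻¹ * n ∧
      wprod s (yW i) = s 9 * L * s 9 := by
    simp only [wprod_append] at hl
    rw [show niW = nW.reverse from rfl, show liW = lW.reverse from rfl, wprod_reverse s hs,
      wprod_reverse s hs, ← hn, ← hldef] at hl
    rcases hi with rfl | rfl
    · refine ⟨l, hlk, ?_, by rw [yW, if_neg (by norm_num), wprod_append, wprod_append, ← hldef, wprod_cons, wprod_nil, mul_one]⟩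
      simp only [kpow, List.append_nil] at hl
      calc l * n * l⁻¹ = l * n * l⁻¹ * n⁻¹ * (wprod s kW) * ((wprod s kW)⁻¹ * n) := by group
        _ = (wprod s kW)⁻¹ * n := by rw [hl, one_mul]
    · refine ⟨l⁻¹, ((show Commute l (wprod s kW) from hlk).inv_left).eq, ?_, ?_⟩
      · simp only [kpow, List.append_nil, wprod_append] at hl
        have e : l * n * l⁻¹ = (wprod s kW) * n := by
          calc l * n * l⁻¹ = l * n * l⁻¹ * n⁻¹ * ((wprod s kW) * (wprod s kW)) * (((wprod s kW) * (wprod s kW))⁻¹ * n) := by group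
            _ = ((wprod s kW) * (wprod s kW) * (wprod s kW)) * ((wprod s kW) * (wprod s kW))⁻¹ * n := by rw [hl, one_mul, hk3, one_mul]
            _ = (wprod s kW) * n := by rw [show (wprod s kW) * (wprod s kW) * (wprod s kW) * ((wprod s kW) * (wprod s kW))⁻¹ = (wprod s kW) * ((wprod s kW) * (wprod s kW)) * ((wprod s kW) * (wprod s kW))⁻¹ by group,
                mul_inv_cancel_right]
        calc l⁻¹ * n * l⁻¹⁻¹ = l⁻¹ * ((wprod s kW)⁻¹ * ((wprod s kW) * n)) * l := by group
          _ = l⁻¹ * (wprod s kW)⁻¹ * (l * n * l⁻¹) * l := by rw [e]; group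
          _ = l⁻¹ * ((wprod s kW)⁻¹ * l) * n := by group
          _ = (wprod s kW)⁻¹ * n := by
              rw [((show Commute l (wprod s kW) from hlk).inv_right).eq.symm, inv_mul_cancel_left]
      · rw [yW, if_pos rfl, wprod_append, wprod_append, show liW = lW.reverse from rfl,
          wprod_reverse s hs, ← hldef, wprod_cons, wprod_nil, mul_one]
  set y := wprod s (yW i) with hydef
  have h9 := hs 9
  have h9i : (s 9)⁻¹ = s 9 := inv_eq_of_mul_eq_one_right h9
  have hwn : s 9 * n * s 9 = n := by rw [D.B.nw, mul_assoc, h9, mul_one]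
  have hwk : s 9 * (wprod s kW) * s 9 = (wprod s kW)⁻¹ * n := D.B.wkw
  have hwki : s 9 * (wprod s kW)⁻¹ * s 9 = n⁻¹ * (wprod s kW) := by
    have := congrArg (·⁻¹) hwk
    simpa [h9i, mul_assoc] using this
  have hyn : y * n * y⁻¹ = (wprod s kW) := by
    calc y * n * y⁻¹ = s 9 * (L * (s 9 * n * s 9) * L⁻¹) * s 9 := by
          rw [hy, mul_inv_rev, mul_inv_rev, h9i]; group
      _ = s 9 * (wprod s kW)⁻¹ * (s 9 * s 9) * n * s 9 := by rw [hwn, hLn, h9]; group
      _ = s 9 * (wprod s kW)⁻¹ * s 9 * (s 9 * n * s 9) := by group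
      _ = n⁻¹ * (wprod s kW) * n := by rw [hwki, hwn]
      _ = (wprod s kW) := by rw [mul_assoc, hnk.eq.symm, inv_mul_cancel_left]
  have hyk : y * (wprod s kW) * y⁻¹ = (wprod s kW)⁻¹ * n⁻¹ := by
    calc y * (wprod s kW) * y⁻¹ = s 9 * (L * (s 9 * (wprod s kW) * s 9) * L⁻¹) * s 9 := by
          rw [hy, mul_inv_rev, mul_inv_rev, h9i]; group
      _ = s 9 * (L * (wprod s kW)⁻¹ * L⁻¹ * (L * n * L⁻¹)) * s 9 := by rw [hwk]; group
      _ = s 9 * ((wprod s kW)⁻¹ * ((wprod s kW)⁻¹ * n)) * s 9 := by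
          rw [hLn, ((show Commute L (wprod s kW) from hLk).inv_right).eq, mul_inv_cancel_right]
      _ = s 9 * (wprod s kW)⁻¹ * (s 9 * s 9) * (wprod s kW)⁻¹ * (s 9 * s 9) * n * s 9 := by rw [h9]; group
      _ = s 9 * (wprod s kW)⁻¹ * s 9 * (s 9 * (wprod s kW)⁻¹ * s 9) * (s 9 * n * s 9) := by group
      _ = n⁻¹ * (wprod s kW) * (n⁻¹ * (wprod s kW)) * n := by rw [hwki, hwn]
      _ = n⁻¹ * (wprod s kW) * (n⁻¹ * ((wprod s kW) * n)) := by group
      _ = n⁻¹ * (wprod s kW) * (wprod s kW) := by rw [hnk.eq.symm, inv_mul_cancel_left]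
      _ = (wprod s kW)⁻¹ * (n⁻¹ * ((wprod s kW) * (wprod s kW) * (wprod s kW))) := by
          rw [show (wprod s kW)⁻¹ * (n⁻¹ * ((wprod s kW) * (wprod s kW) * (wprod s kW))) = (wprod s kW)⁻¹ * n⁻¹ * (wprod s kW) * ((wprod s kW) * (wprod s kW)) by group,
            mul_assoc (wprod s kW)⁻¹, (hnk.inv_left).eq, inv_mul_cancel_left, mul_assoc]
          rw [← mul_assoc (wprod s kW), ← (hnk.inv_left).eq, mul_assoc]
      _ = (wprod s kW)⁻¹ * n⁻¹ := by rw [hk3, mul_one]
  have hmem : ∀ x, x * n = n * x → y * x * y⁻¹ ∈ centralizer ({(wprod s kW)} : Set G) := by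
    intro x hx
    rw [mem_centralizer_singleton_iff, ← hyn]
    calc y * x * y⁻¹ * (y * n * y⁻¹) = y * (x * n) * y⁻¹ := by group
      _ = y * n * y⁻¹ * (y * x * y⁻¹) := by rw [hx]; group
  set r := wprod s [3, 2, 5] with hr
  have hr2 : r * r = 1 := by
    rw [hr, ← wprod_append]; exact (D.B.cw (v := []) (by decide +kernel)).trans rfl
  have hr1 : r ≠ 1 := fun h => by
    have := D.B.frame.hv_eq_zero D.S (L := [3, 2, 5]) (by decide) (by rw [← hr]; exact h)
    revert this
    decide +kernel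
  have hw1 : s 9 ≠ 1 := fun h => by
    have := hwk
    rw [h, one_mul, mul_one] at this
    have hkn : n = (wprod s kW) * (wprod s kW) := by rw [← mul_inv_cancel_left (wprod s kW) n, ← this]
    refine D.B.n_notMem D.S ?_
    rw [← hn, hkn]
    exact mul_mem (D.B.frame.mem_C (by decide)) (D.B.frame.mem_C (by decide))
  let Y : ↥(centralizer ({n} : Set G)) → ↥(centralizer ({(wprod s kW)} : Set G)) := fun x =>
    ⟨y * (x : G) * y⁻¹, hmem _ (mem_centralizer_singleton_iff.1 x.2)⟩
  let ψ : ↥(centralizer ({n} : Set G)) →* ↥(alternatingGroup (Fin 6)) :=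
    { toFun := fun x => π (Y x)
      map_one' := (congrArg π (Subtype.ext (by simp [Y]))).trans (map_one π)
      map_mul' := fun a b => by
        rw [← map_mul]; exact congrArg π (Subtype.ext (by simp [Y, mul_assoc])) }
  have hRn : r ∈ centralizer ({n} : Set G) := mem_centralizer_singleton_iff.2 D.B.nr
  have hWn : s 9 ∈ centralizer ({n} : Set G) := mem_centralizer_singleton_iff.2 D.B.nw
  have hKn : (wprod s kW) ∈ centralizer ({n} : Set G) := mem_centralizer_singleton_iff.2 hnk.eq.symm
  have hNn : n ∈ centralizer ({n} : Set G) := mem_centralizer_singleton_iff.2 rfl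
  set R' : ↥(centralizer ({n} : Set G)) := ⟨r, hRn⟩
  set W' : ↥(centralizer ({n} : Set G)) := ⟨s 9, hWn⟩
  set K' : ↥(centralizer ({n} : Set G)) := ⟨(wprod s kW), hKn⟩
  set N' : ↥(centralizer ({n} : Set G)) := ⟨n, hNn⟩
  have hψN : ψ N' = 1 := by
    show π (Y N') = 1
    refine D.pi_eq_one_iff.2 ?_
    show y * n * y⁻¹ ∈ zpowers (wprod s kW)
    rw [hyn]
    exact mem_zpowers (wprod s kW)
  have hnCk : n ∈ centralizer ({(wprod s kW)} : Set G) := mem_centralizer_singleton_iff.2 hnk.eq
  have hψK : ψ K' = wprod D.f niX := by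
    rw [show niX = ([0, 2] : List ℕ).reverse from rfl, wprod_reverse D.f D.image.hs,
      ← D.pi_n hnCk, ← map_inv]
    show π (Y K') = _
    have : Y K' = (⟨(wprod s kW), mem_centralizer_singleton_iff.2 rfl⟩ : ↥(centralizer ({(wprod s kW)} : Set G)))⁻¹ *
        (⟨n, hnCk⟩ : ↥(centralizer ({(wprod s kW)} : Set G)))⁻¹ := Subtype.ext (by
      show y * (wprod s kW) * y⁻¹ = (wprod s kW)⁻¹ * n⁻¹
      exact hyk)
    rw [this, map_mul, map_inv, map_inv, D.pi_k, inv_one, one_mul]
  obtain ⟨a, ha, eA, heA⟩ := D.invol_cases (g := Y R') (by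
    show y * r * y⁻¹ * (y * r * y⁻¹) = 1
    calc y * r * y⁻¹ * (y * r * y⁻¹) = y * (r * r) * y⁻¹ := by group
      _ = 1 := by rw [hr2, mul_one, mul_inv_cancel]) (by
    intro h; exact hr1 (conj_eq_one_iff.1 h))
  obtain ⟨c, hc, eC, heC⟩ := D.invol_cases (g := Y W') (by
    show y * s 9 * y⁻¹ * (y * s 9 * y⁻¹) = 1
    calc y * s 9 * y⁻¹ * (y * s 9 * y⁻¹) = y * (s 9 * s 9) * y⁻¹ := by group
      _ = 1 := by rw [h9, mul_one, mul_inv_cancel]) (by
    intro h; exact hw1 (conj_eq_one_iff.1 h))
  have eA' : ψ R' = wprod D.f (invX a) := eA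
  have eC' : ψ W' = wprod D.f (invX c) := eC
  have hla := invX_lt a ha
  have hlc := invX_lt c hc
  have hln : ∀ x ∈ niX, x < 4 := by decide
  have one : ∀ {L : List ℕ}, (∀ x ∈ L, x < 4) → wprod D.f L = 1 → xz L = true := fun hL h =>
    (D.image.eq_one_iff hL).1 h
  have t1 : R' * K' * (R' * K') * (R' * K') = 1 := Subtype.ext (by
    show r * (wprod s kW) * (r * (wprod s kW)) * (r * (wprod s kW)) = 1
    rw [hr, ← wprod_append, ← wprod_append, ← wprod_append]
    exact (D.B.cw (v := []) (by decide +kernel)).trans rfl)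
  have t2 : W' * R' * (W' * R') * (W' * R') = 1 := Subtype.ext (by
    show s 9 * r * (s 9 * r) * (s 9 * r) = 1
    have e : wprod s [9, 3, 2, 5, 9, 3, 2, 5, 9, 3, 2, 5] = 1 := D.B.base _ (by decide)
    simpa [hr, wprod, mul_assoc] using e)
  have t3 : W' * K' * W' = K'⁻¹ * N' := Subtype.ext hwk
  have t4 : W' * R' * (K' * N') * (W' * R' * (K' * N')) * (W' * R' * (K' * N')) *
      (W' * R' * (K' * N')) * (W' * R' * (K' * N')) = 1 := Subtype.ext (by
    show s 9 * r * ((wprod s kW) * n) * (s 9 * r * ((wprod s kW) * n)) * (s 9 * r * ((wprod s kW) * n)) * (s 9 * r * ((wprod s kW) * n)) *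
      (s 9 * r * ((wprod s kW) * n)) = 1
    have e : wprod s [9, 3, 2, 5, 7, 6, 3, 6, 7, 8, 9, 3, 2, 5, 7, 6, 3, 6, 7, 8, 9, 3, 2, 5, 7, 6,
      3, 6, 7, 8, 9, 3, 2, 5, 7, 6, 3, 6, 7, 8, 9, 3, 2, 5, 7, 6, 3, 6, 7, 8] = 1 :=
      D.B.base _ (by decide)
    simpa [hr, hn, kW, nW, wprod, mul_assoc] using e)
  have q1 := congrArg ψ t1
  have q2 := congrArg ψ t2
  have q3 := congrArg ψ t3
  have q4 := congrArg ψ t4
  simp only [map_mul, map_one, map_inv, hψN, mul_one, hψK, eA', eC'] at q1 q2 q3 q4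
  have hp := List.all_eq_true.1 pairs_ok a (List.mem_range.2 ha)
  have c1 : xz (invX a ++ niX ++ invX a ++ niX ++ invX a ++ niX) = true := by
    refine one (by repeat' first | apply xlt_append | assumption) ?_
    simpa [wprod_append, mul_assoc] using q1
  simp only [c1, Bool.not_true, Bool.false_or, List.all_eq_true, List.mem_range] at hp
  have hp' := hp c hc
  have c2 : xz (invX c ++ invX a ++ invX c ++ invX a ++ invX c ++ invX a) = true := by
    refine one (by repeat' first | apply xlt_append | assumption) ?_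
    simpa [wprod_append, mul_assoc] using q2
  have c3 : xeq (invX c ++ niX ++ invX c) niX.reverse = true := by
    refine (D.image.eq_iff (by repeat' first | apply xlt_append | assumption) (by decide)).1 ?_
    rw [wprod_reverse D.f D.image.hs]
    simpa [wprod_append, mul_assoc] using q3
  have c4 : xz (invX c ++ invX a ++ niX ++ (invX c ++ invX a ++ niX) ++ (invX c ++ invX a ++ niX) ++
      (invX c ++ invX a ++ niX) ++ (invX c ++ invX a ++ niX)) = true := by
    refine one (by repeat' first | apply xlt_append | assumption) ?_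
    simpa [wprod_append, mul_assoc] using q4
  simp only [c2, c3, c4, Bool.and_self, Bool.not_true, Bool.false_or, List.contains_iff_mem] at hp'
  have hgen : ∀ g ∈ nsGens i a c, wprod s g = 1 := by
    intro g hg
    simp only [nsGens, List.mem_cons, List.not_mem_nil, or_false] at hg
    rcases hg with rfl | rfl | rfl | rfl
    · exact D.hA
    · exact hl
    · rw [wprod_append, wprod_append, wprod_append, wprod_reverse s hs, heA, ← hydef]
      show y * r * y⁻¹ * (y * r * y⁻¹) = 1
      calc y * r * y⁻¹ * (y * r * y⁻¹) = y * (r * r) * y⁻¹ := by group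
        _ = 1 := by rw [hr2, mul_one, mul_inv_cancel]
    · rw [wprod_append, wprod_append, wprod_append, wprod_reverse s hs, heC, ← hydef, wprod_cons,
        wprod_nil, mul_one]
      show y * s 9 * y⁻¹ * (y * s 9 * y⁻¹) = 1
      calc y * s 9 * y⁻¹ * (y * s 9 * y⁻¹) = y * (s 9 * s 9) * y⁻¹ := by group
        _ = 1 := by rw [h9, mul_one, mul_inv_cancel]
  refine D.B.n_notMem D.S ?_
  rcases hi with rfl | rfl
  · exact collapse1 D.B hp' hgen _ fun x hx => D.B.frame.hmem x hx
  · exact collapse2 D.B hp' hgen _ fun x hx => D.B.frame.hmem x hx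

/-- **The split case gives the relator of the presentation.** -/
theorem split (hkn : ∃ g : G, g * wprod s kW * g⁻¹ = wprod s nW ∨
      g * wprod s kW * g⁻¹ = (wprod s nW)⁻¹)
    (hl : wprod s (lW ++ nW ++ liW ++ niW) = 1) : wprod s (uW 0 ++ uW 0) = 1 := by
  have hs := D.B.frame.hs
  set n := wprod s nW with hn
  set l := wprod s lW with hldef
  set r := wprod s [3, 2, 5] with hr
  obtain ⟨g, hg⟩ := hkn
  obtain ⟨hlC, hlimg⟩ := D.l_mem
  have hnk : Commute n (wprod s kW) := D.B.n_commute_k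
  have hln : l * n = n * l := by
    have e := hl
    rw [wprod_append, wprod_append, wprod_append, show niW = nW.reverse from rfl,
      show liW = lW.reverse from rfl, wprod_reverse s hs, wprod_reverse s hs, ← hn, ← hldef] at e
    calc l * n = l * n * l⁻¹ * n⁻¹ * (n * l) := by group
      _ = n * l := by rw [e, one_mul]
  have hmem : ∀ x, x * n = n * x → g⁻¹ * x * g ∈ centralizer ({(wprod s kW)} : Set G) := by
    intro x hx
    rw [mem_centralizer_singleton_iff]
    have hx' : ∀ m, (m = n ∨ m = n⁻¹) → x * m = m * x := by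
      rintro m (rfl | rfl)
      exacts [hx, ((show Commute x n from hx).inv_right).eq]
    calc g⁻¹ * x * g * (wprod s kW) = g⁻¹ * (x * (g * (wprod s kW) * g⁻¹)) * g := by group
      _ = g⁻¹ * ((g * (wprod s kW) * g⁻¹) * x) * g := by rw [hx' _ hg]
      _ = (wprod s kW) * (g⁻¹ * x * g) := by group
  let φ₀ : ↥(centralizer ({n} : Set G)) →* ↥(alternatingGroup (Fin 6)) :=
    { toFun := fun x => π ⟨g⁻¹ * (x : G) * g, hmem _ (mem_centralizer_singleton_iff.1 x.2)⟩
      map_one' := (congrArg π (Subtype.ext (by simp))).trans (map_one π)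
      map_mul' := fun a b => by
        rw [← map_mul]; exact congrArg π (Subtype.ext (by simp [mul_assoc])) }
  -- the kernel is `⟨n⟩`
  have hker : ∀ x : ↥(centralizer ({n} : Set G)), φ₀ x = 1 →
      (x : G) = 1 ∨ (x : G) = n ∨ (x : G) = n⁻¹ := by
    intro x hx
    obtain ⟨i, hi⟩ := mem_zpowers_iff.1 (D.pi_eq_one_iff.1 hx)
    have e : (x : G) = (g * (wprod s kW) * g⁻¹) ^ i := by
      rw [conj_zpow, hi]; group
    have key : ∀ m : G, m * m * m = 1 → ∀ i : ℤ, m ^ i = 1 ∨ m ^ i = m ∨ m ^ i = m⁻¹ := by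
      intro m hm i
      have h3 : m ^ (3 : ℤ) = 1 := by
        rw [show (3 : ℤ) = 1 + 1 + 1 from rfl, zpow_add, zpow_add, zpow_one, hm]
      have hmod : m ^ i = m ^ (i % 3) := by
        conv_lhs => rw [← Int.emod_add_mul_ediv i 3, zpow_add, zpow_mul, h3, one_zpow, mul_one]
      rcases (show i % 3 = 0 ∨ i % 3 = 1 ∨ i % 3 = 2 by omega) with h | h | h <;> rw [hmod, h]
      · exact Or.inl (zpow_zero m)
      · exact Or.inr (Or.inl (zpow_one m))
      · refine Or.inr (Or.inr ?_)
        rw [show (2 : ℤ) = 1 + 1 from rfl, zpow_add, zpow_one]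
        exact eq_inv_of_mul_eq_one_left hm
    have hn3 : n * n * n = 1 := by
      have := D.B.n_cube
      rwa [pow_succ, pow_two, ← hn] at this
    rcases hg with hg | hg <;> rw [hg] at e
    · rw [e]; exact key n hn3 i
    · rw [inv_zpow, ← zpow_neg] at e
      rw [e]; exact key n hn3 (-i)
  have hsurj : Function.Surjective φ₀ := by
    intro p
    obtain ⟨x, hx⟩ := D.hsurj p
    have hxk : (x : G) * (wprod s kW) = (wprod s kW) * x := mem_centralizer_singleton_iff.1 x.2
    have hxn : g * (x : G) * g⁻¹ * n = n * (g * (x : G) * g⁻¹) := by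
      have h1 : Commute (g * (x : G) * g⁻¹) (g * (wprod s kW) * g⁻¹) := by
        show g * (x : G) * g⁻¹ * (g * (wprod s kW) * g⁻¹) = g * (wprod s kW) * g⁻¹ * (g * (x : G) * g⁻¹)
        calc g * (x : G) * g⁻¹ * (g * (wprod s kW) * g⁻¹) = g * ((x : G) * (wprod s kW)) * g⁻¹ := by group
          _ = g * (wprod s kW) * g⁻¹ * (g * (x : G) * g⁻¹) := by rw [hxk]; group
      rcases hg with hg | hg <;> rw [hg] at h1
      · exact h1.eq
      · exact (inv_inv n ▸ h1.inv_right).eq
    exact ⟨⟨g * (x : G) * g⁻¹, mem_centralizer_singleton_iff.2 hxn⟩,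
      (congrArg π (Subtype.ext (by simp [mul_assoc]) : _ = x)).trans hx⟩
  have hr2 : r * r = 1 := by
    rw [hr, ← wprod_append]; exact (D.B.cw (v := []) (by decide +kernel)).trans rfl
  have hr1 : r ≠ 1 := fun h => by
    have := D.B.frame.hv_eq_zero D.S (L := [3, 2, 5]) (by decide) (by rw [← hr]; exact h)
    revert this
    decide +kernel
  have hnC := D.B.n_notMem D.S
  have hkz : (wprod s kW) ∈ centralizer ({z} : Set G) := D.B.frame.mem_C (by decide)
  have hk1 : (wprod s kW) ≠ 1 := fun h => by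
    have := D.B.frame.hv_eq_zero D.S (L := kW) (by decide) (by skip; exact h)
    revert this
    decide +kernel
  set K' : ↥(centralizer ({n} : Set G)) := ⟨(wprod s kW), mem_centralizer_singleton_iff.2 hnk.eq.symm⟩
  set R' : ↥(centralizer ({n} : Set G)) := ⟨r, mem_centralizer_singleton_iff.2 D.B.nr⟩
  set W' : ↥(centralizer ({n} : Set G)) := ⟨s 9, mem_centralizer_singleton_iff.2 D.B.nw⟩
  set L' : ↥(centralizer ({n} : Set G)) := ⟨l, mem_centralizer_singleton_iff.2 hln⟩
  set N' : ↥(centralizer ({n} : Set G)) := ⟨n, mem_centralizer_singleton_iff.2 rfl⟩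
  have hN1 : φ₀ N' = 1 := by
    refine D.pi_eq_one_iff.2 ?_
    show g⁻¹ * n * g ∈ zpowers (wprod s kW)
    rcases hg with hg | hg
    · rw [← hg, show g⁻¹ * (g * (wprod s kW) * g⁻¹) * g = (wprod s kW) by group]; exact mem_zpowers (wprod s kW)
    · have e : n = (g * (wprod s kW) * g⁻¹)⁻¹ := by rw [hg, inv_inv]
      rw [e, show g⁻¹ * (g * (wprod s kW) * g⁻¹)⁻¹ * g = (wprod s kW)⁻¹ by group]
      exact inv_mem (mem_zpowers (wprod s kW))
  -- move the image of `(wprod s kW)` to a representative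
  obtain ⟨ik, hik, eK⟩ := D.image.exists_rep (φ₀ K')
  have hwk := xwd_lt (xreps_lt hik)
  have k3 : K' * K' * K' = 1 := Subtype.ext (by
    show (wprod s kW) * (wprod s kW) * (wprod s kW) = 1
    have := D.B.k_cube
    rwa [pow_succ, pow_two] at this)
  have notker : ∀ X : ↥(centralizer ({n} : Set G)), (X : G) ∈ centralizer ({z} : Set G) →
      (X : G) ≠ 1 → φ₀ X ≠ 1 := by
    intro X hXz hX1 h
    rcases hker X h with e | e | e
    · exact hX1 e
    · exact hnC (by rw [← hn, ← e]; exact hXz)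
    · exact hnC (by rw [← hn, ← inv_inv n, ← e]; exact inv_mem hXz)
  have h3c := List.all_eq_true.1 three_conj ik hik
  have a1 : xz (J3XT.wd ik ++ J3XT.wd ik ++ J3XT.wd ik) = true := by
    rw [← D.image.eq_one_iff (xlt_append (xlt_append hwk hwk) hwk), wprod_append, wprod_append, eK,
      ← map_mul, ← map_mul, k3, map_one]
  have a2 : xz (J3XT.wd ik) = false := by
    rw [Bool.eq_false_iff]
    exact fun h => notker K' hkz hk1 (eK ▸ (D.image.eq_one_iff hwk).2 h)
  simp only [a1, a2, Bool.not_true, Bool.false_or, List.any_eq_true, Bool.or_eq_true] at h3c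
  obtain ⟨hh, hhr, hconj⟩ := h3c
  have hwh := xwd_lt (xreps_lt hhr)
  obtain ⟨b, hb, eKb⟩ : ∃ b, b ∈ ([6, 10] : List ℕ) ∧
      wprod D.f (J3XT.wd hh) * φ₀ K' * (wprod D.f (J3XT.wd hh))⁻¹ = wprod D.f (J3XT.wd b) := by
    have hlt := xlt_append (xlt_append hwh hwk) (xlt_reverse hwh)
    rcases hconj with h | h
    · refine ⟨6, by decide, ?_⟩
      rw [← (D.image.eq_iff hlt (xwd_lt (by norm_num))).2 h, wprod_append, wprod_append,
        wprod_reverse D.f D.image.hs, eK]
    · refine ⟨10, by decide, ?_⟩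
      rw [← (D.image.eq_iff hlt (xwd_lt (by norm_num))).2 h, wprod_append, wprod_append,
        wprod_reverse D.f D.image.hs, eK]
  set φ := (MulAut.conj (wprod D.f (J3XT.wd hh))).toMonoidHom.comp φ₀ with hφ
  have hφker : ∀ X, φ X = 1 → φ₀ X = 1 := fun X h =>
    (MulAut.conj (wprod D.f (J3XT.wd hh))).injective (h.trans (map_one _).symm)
  have hφK : φ K' = wprod D.f (J3XT.wd b) := eKb
  have hφN : φ N' = 1 := by rw [hφ, MonoidHom.comp_apply, hN1, map_one]
  have hbl : ∀ x ∈ J3XT.wd b, x < 4 := by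
    refine xwd_lt ?_
    simp only [List.mem_cons, List.not_mem_nil, or_false] at hb
    rcases hb with rfl | rfl <;> norm_num
  -- images of involutions
  have invol : ∀ X : ↥(centralizer ({n} : Set G)), (X : G) * X = 1 → (X : G) ≠ 1 →
      ∃ a < 45, φ X = wprod D.f (invX a) := by
    intro X h2 h1
    obtain ⟨i, hi, e⟩ := D.image.exists_rep (φ X)
    have hw := xwd_lt (xreps_lt hi)
    have h := List.all_eq_true.1 invX_cover i hi
    have hii : xz (J3XT.wd i ++ J3XT.wd i) = true := by
      rw [← D.image.eq_one_iff (xlt_append hw hw), wprod_append, e, ← map_mul,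
        show X * X = 1 from Subtype.ext h2, map_one]
    have hni : xz (J3XT.wd i) = false := by
      rw [Bool.eq_false_iff]
      intro h'
      have hX := hφker X (e ▸ (D.image.eq_one_iff hw).2 h')
      have hn3 : n * n * n = 1 := by
        have := D.B.n_cube
        rwa [pow_succ, pow_two, ← hn] at this
      rcases hker X hX with e' | e' | e'
      · exact h1 e'
      · rw [e'] at h2
        rw [h2, one_mul] at hn3
        exact h1 (e'.trans hn3)
      · rw [e', ← mul_inv_rev, inv_eq_one] at h2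
        rw [h2, one_mul] at hn3
        exact h1 (by rw [e', hn3, inv_one])
    simp only [hii, hni, Bool.not_true, Bool.false_or, List.any_eq_true, List.mem_range] at h
    obtain ⟨a, ha, hai⟩ := h
    exact ⟨a, ha, by rw [← e, (D.image.eq_iff (invX_lt a ha) hw).2 hai]⟩
  obtain ⟨a, ha, eR⟩ := invol R' hr2 hr1
  have hw1 : s 9 ≠ 1 := fun h => by
    have := D.B.wkw
    rw [h, one_mul, mul_one, ← hn] at this
    have hkn : n = (wprod s kW) * (wprod s kW) := by rw [← mul_inv_cancel_left (wprod s kW) n, ← this]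
    exact hnC (by rw [← hn, hkn]; exact mul_mem hkz hkz)
  obtain ⟨c, hc, eW⟩ := invol W' (hs 9) hw1
  obtain ⟨il, hil, eL⟩ := D.image.exists_rep (φ L')
  have hwl := xwd_lt (xreps_lt hil)
  have hla := invX_lt a ha
  have hlc := invX_lt c hc
  have one : ∀ {L : List ℕ}, (∀ x ∈ L, x < 4) → wprod D.f L = 1 → xz L = true := fun hL h =>
    (D.image.eq_one_iff hL).1 h
  have t1 : R' * K' * (R' * K') * (R' * K') = 1 := Subtype.ext (by
    show r * (wprod s kW) * (r * (wprod s kW)) * (r * (wprod s kW)) = 1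
    rw [hr, ← wprod_append, ← wprod_append, ← wprod_append]
    exact (D.B.cw (v := []) (by decide +kernel)).trans rfl)
  have t2 : W' * R' * (W' * R') * (W' * R') = 1 := Subtype.ext (by
    show s 9 * r * (s 9 * r) * (s 9 * r) = 1
    have e : wprod s [9, 3, 2, 5, 9, 3, 2, 5, 9, 3, 2, 5] = 1 := D.B.base _ (by decide)
    simpa [hr, wprod, mul_assoc] using e)
  have t3 : W' * (K' * N') * (W' * (K' * N')) = 1 := Subtype.ext (by
    show s 9 * ((wprod s kW) * n) * (s 9 * ((wprod s kW) * n)) = 1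
    have e : wprod s [9, 7, 6, 3, 6, 7, 8, 9, 7, 6, 3, 6, 7, 8] = 1 := D.B.base _ (by decide)
    simpa [hn, kW, nW, wprod, mul_assoc] using e)
  have t4 : W' * R' * (K' * N') * (W' * R' * (K' * N')) * (W' * R' * (K' * N')) *
      (W' * R' * (K' * N')) * (W' * R' * (K' * N')) = 1 := Subtype.ext (by
    show s 9 * r * ((wprod s kW) * n) * (s 9 * r * ((wprod s kW) * n)) * (s 9 * r * ((wprod s kW) * n)) * (s 9 * r * ((wprod s kW) * n)) *
      (s 9 * r * ((wprod s kW) * n)) = 1
    have e : wprod s [9, 3, 2, 5, 7, 6, 3, 6, 7, 8, 9, 3, 2, 5, 7, 6, 3, 6, 7, 8, 9, 3, 2, 5, 7, 6,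
      3, 6, 7, 8, 9, 3, 2, 5, 7, 6, 3, 6, 7, 8, 9, 3, 2, 5, 7, 6, 3, 6, 7, 8] = 1 :=
      D.B.base _ (by decide)
    simpa [hr, hn, kW, nW, wprod, mul_assoc] using e)
  have t5 : L' * K' = K' * L' := Subtype.ext (mem_centralizer_singleton_iff.1 hlC)
  have q1 := congrArg φ t1
  have q2 := congrArg φ t2
  have q3 := congrArg φ t3
  have q4 := congrArg φ t4
  have q5 := congrArg φ t5
  simp only [map_mul, map_one, hφN, mul_one, hφK, eR, eW, ← eL] at q1 q2 q3 q4 q5
  have hopt := List.all_eq_true.1 options_ok b hb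
  simp only [List.all_eq_true, List.mem_range] at hopt
  have ho := hopt a ha
  have c1 : xz (invX a ++ J3XT.wd b ++ invX a ++ J3XT.wd b ++ invX a ++ J3XT.wd b) = true := by
    refine one (by repeat' first | apply xlt_append | assumption) ?_
    simpa [wprod_append, mul_assoc] using q1
  simp only [c1, Bool.not_true, Bool.false_or, List.all_eq_true, List.mem_range] at ho
  have ho' := ho c hc
  have c2 : xz (invX c ++ invX a ++ invX c ++ invX a ++ invX c ++ invX a) = true := by
    refine one (by repeat' first | apply xlt_append | assumption) ?_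
    simpa [wprod_append, mul_assoc] using q2
  have c3 : xz (invX c ++ J3XT.wd b ++ invX c ++ J3XT.wd b) = true := by
    refine one (by repeat' first | apply xlt_append | assumption) ?_
    simpa [wprod_append, mul_assoc] using q3
  have c4 : xz (invX c ++ invX a ++ J3XT.wd b ++ (invX c ++ invX a ++ J3XT.wd b) ++
      (invX c ++ invX a ++ J3XT.wd b) ++ (invX c ++ invX a ++ J3XT.wd b) ++
      (invX c ++ invX a ++ J3XT.wd b)) = true := by
    refine one (by repeat' first | apply xlt_append | assumption) ?_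
    simpa [wprod_append, mul_assoc] using q4
  simp only [c2, c3, c4, Bool.and_self, Bool.not_true, Bool.false_or, List.all_eq_true] at ho'
  have ho'' := ho' il hil
  -- `l ∉ ⟨(wprod s kW), n⟩`
  have hlne : ∀ X : ↥(centralizer ({n} : Set G)),
      (∃ h : (X : G) ∈ centralizer ({(wprod s kW)} : Set G), π ⟨(X : G), h⟩ = 1) → φ L' ≠ φ X := by
    rintro X ⟨hXk, hXπ⟩ he
    have h1 : φ₀ (L' * X⁻¹) = 1 := hφker _ (by rw [map_mul, map_inv, he, mul_inv_cancel])
    have hlx : π ⟨l, hlC⟩ = π (⟨l, hlC⟩ * (⟨(X : G), hXk⟩ : ↥(centralizer ({(wprod s kW)} : Set G)))⁻¹) := by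
      rw [map_mul, map_inv, hXπ, inv_one, mul_one]
    have hnCk : n ∈ centralizer ({(wprod s kW)} : Set G) := mem_centralizer_singleton_iff.2 hnk.eq
    obtain ⟨nz, no, ni⟩ := lX_notMem
    have hll : ∀ x ∈ lX, x < 4 := by decide
    rcases hker _ h1 with e | e | e
    · rw [show (⟨l, hlC⟩ : ↥(centralizer ({(wprod s kW)} : Set G))) * (⟨(X : G), hXk⟩)⁻¹ = 1 from Subtype.ext e,
        map_one, hlimg] at hlx
      rw [(D.image.eq_one_iff hll).1 hlx] at nz
      exact Bool.noConfusion nz
    · rw [show (⟨l, hlC⟩ : ↥(centralizer ({(wprod s kW)} : Set G))) * (⟨(X : G), hXk⟩)⁻¹ = ⟨n, hnCk⟩ from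
          Subtype.ext e, hlimg, D.pi_n hnCk] at hlx
      rw [(D.image.eq_iff hll (by decide)).1 hlx] at no
      exact Bool.noConfusion no
    · rw [show (⟨l, hlC⟩ : ↥(centralizer ({(wprod s kW)} : Set G))) * (⟨(X : G), hXk⟩)⁻¹ = (⟨n, hnCk⟩)⁻¹ from
          Subtype.ext e, map_inv, hlimg, D.pi_n hnCk, ← wprod_reverse D.f D.image.hs] at hlx
      have hx2 := (D.image.eq_iff hll (by decide)).1 hlx
      rw [show ([0, 2] : List ℕ).reverse = [2, 0] from rfl] at hx2
      rw [hx2] at ni
      exact Bool.noConfusion ni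
  have e1 : xeq (J3XT.wd il ++ J3XT.wd b) (J3XT.wd b ++ J3XT.wd il) = true :=
    (D.image.eq_iff (xlt_append hwl hbl) (xlt_append hbl hwl)).1 (by
      simpa [wprod_append] using q5)
  have hkk : (wprod s kW) ∈ centralizer ({(wprod s kW)} : Set G) := mem_centralizer_singleton_iff.2 rfl
  have hπk : π ⟨(wprod s kW), hkk⟩ = 1 := D.pi_k hkk
  have n1 : xz (J3XT.wd il) = false := by
    rw [Bool.eq_false_iff]
    exact fun h => hlne 1 ⟨one_mem _, map_one π⟩ (by
      rw [map_one, ← eL]; exact (D.image.eq_one_iff hwl).2 h)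
  have n2 : xeq (J3XT.wd b) (J3XT.wd il) = false := by
    rw [Bool.eq_false_iff]
    exact fun h => hlne K' ⟨hkk, hπk⟩ (by
      rw [hφK, ← eL]; exact ((D.image.eq_iff hbl hwl).2 h).symm)
  have n3 : xeq (J3XT.wd b ++ J3XT.wd b) (J3XT.wd il) = false := by
    rw [Bool.eq_false_iff]
    refine fun h => hlne (K' * K') ⟨mul_mem hkk hkk, ?_⟩ ?_
    · rw [show (⟨((K' * K' : ↥(centralizer ({n} : Set G))) : G), mul_mem hkk hkk⟩ :
          ↥(centralizer ({(wprod s kW)} : Set G))) = ⟨(wprod s kW), hkk⟩ * ⟨(wprod s kW), hkk⟩ from rfl, map_mul, hπk, one_mul]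
    · rw [map_mul, hφK, ← eL, ← wprod_append]
      exact ((D.image.eq_iff (xlt_append hbl hbl) hwl).2 h).symm
  simp only [e1, n1, n2, n3, Bool.not_true, Bool.false_or, someOpt, Bool.or_eq_true] at ho''
  have hsq : ∀ (j : ℕ), j < 6 → ∀ (p L q : List ℕ) (X : ↥(centralizer ({n} : Set G))),
      (∀ x ∈ p, x < 4) → (∀ x ∈ L, x < 4) → (∀ x ∈ q, x < 4) →
      optOK (invX c) p L q = true → (X : G) = wprod s (uW j) →
      φ X = φ W' * wprod D.f p * wprod D.f L * wprod D.f q → wprod s (uW 0 ++ uW 0) = 1 := by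
    intro j hj p L q X hp hL hq hopt hX hφX
    have hlt : ∀ x ∈ invX c ++ p ++ L ++ q, x < 4 :=
      xlt_append (xlt_append (xlt_append hlc hp) hL) hq
    have h2 := (D.image.eq_one_iff (xlt_append hlt hlt)).2 hopt
    rw [wprod_append, wprod_append, wprod_append, wprod_append, ← eW, ← hφX, ← map_mul] at h2
    obtain ⟨e, he, hxe⟩ : ∃ e < 3, wprod s (uW j ++ uW j ++ npow e) = 1 := by
      rcases hker _ (hφker _ h2) with h | h | h <;> rw [Subgroup.coe_mul, hX] at h
      · exact ⟨0, by norm_num, by rw [wprod_append, wprod_append, h]; simp [npow, wprod]⟩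
      · exact ⟨2, by norm_num, by
          rw [wprod_append, wprod_append, h, show npow 2 = nW.reverse from rfl, wprod_reverse s hs,
            ← hn, mul_inv_cancel]⟩
      · exact ⟨1, by norm_num, by
          rw [wprod_append, wprod_append, h, show npow 1 = nW from rfl, ← hn, inv_mul_cancel]⟩
    by_cases h0 : j = 0 ∧ e = 0
    · obtain ⟨rfl, rfl⟩ := h0
      simpa [npow] using hxe
    · exfalso
      refine hnC (collapse0 D.B hj he h0 ?_ _ fun x hx => D.B.frame.hmem x hx)
      intro g hg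
      simp only [spGens, List.mem_cons, List.not_mem_nil, or_false] at hg
      rcases hg with rfl | rfl | rfl
      exacts [D.hA, hl, hxe]
  have hr' : wprod s [3, 2, 5] = r := rfl
  have hkni : wprod s (niW ++ [6, 7]) = ((wprod s kW) * n)⁻¹ := by
    rw [hn, ← wprod_append, ← wprod_reverse s hs]; rfl
  have hkn' : wprod s (kW ++ nW) = (wprod s kW) * n := by rw [wprod_append]
  have hli : wprod s liW = l⁻¹ := wprod_reverse s hs lW
  have hu : ∀ j, wprod s (uW j) =
      s 9 * wprod s (optW.getD j ([], [], [])).1 * wprod s (optW.getD j ([], [], [])).2.1 *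
        wprod s (optW.getD j ([], [], [])).2.2 := fun j => by
    simp only [uW, wprod_append, wprod_cons, wprod_nil, mul_one]
  have hbl' := xlt_reverse hbl
  have hwl' := xlt_reverse hwl
  have hKi : ∀ L : List ℕ, wprod D.f L.reverse = (wprod D.f L)⁻¹ := wprod_reverse D.f D.image.hs
  have hnil : ∀ x ∈ ([] : List ℕ), x < 4 := by simp
  rcases ho'' with ((((h | h) | h) | h) | h) | h
  · refine hsq 0 (by norm_num) _ _ _ (W' * R' * L') hla hwl hnil h ?_ ?_
    · rw [hu]; simp only [optW, List.getD_cons_zero, List.getD_cons_succ, W', R', L', K', N', Subgroup.coe_mul, Subgroup.coe_inv]; rw [hr', ← hldef, wprod_nil]; try group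
    · simp [map_mul, eR, eL, wprod_nil]
  · refine hsq 1 (by norm_num) _ _ _ (W' * (K' * N')⁻¹ * L' * R') hbl' hwl hla h ?_ ?_
    · rw [hu]; simp only [optW, List.getD_cons_zero, List.getD_cons_succ, W', R', L', K', N', Subgroup.coe_mul, Subgroup.coe_inv]; rw [hkni, hr', ← hldef]; try group
    · simp [map_mul, hKi, eR, eL, hφK, hφN]
  · refine hsq 2 (by norm_num) _ _ _ (W' * ((K' * N')⁻¹ * R') * L') (xlt_append hbl' hla) hwl hnil h ?_ ?_
    · rw [hu]; simp only [optW, List.getD_cons_zero, List.getD_cons_succ, W', R', L', K', N', Subgroup.coe_mul, Subgroup.coe_inv]; rw [wprod_append s (niW ++ [6, 7]), hkni, hr', ← hldef, wprod_nil]; try group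
    · simp [map_mul, hKi, wprod_append, eR, eL, hφK, hφN, wprod_nil, mul_assoc]
  · refine hsq 3 (by norm_num) _ _ _ (W' * (R' * (K' * N')⁻¹) * L') (xlt_append hla hbl') hwl hnil h ?_ ?_
    · rw [hu]; simp only [optW, List.getD_cons_zero, List.getD_cons_succ, W', R', L', K', N', Subgroup.coe_mul, Subgroup.coe_inv]; rw [wprod_append s [3, 2, 5], hkni, hr', ← hldef, wprod_nil]; try group
    · simp [map_mul, hKi, wprod_append, eR, eL, hφK, hφN, wprod_nil, mul_assoc]
  · refine hsq 4 (by norm_num) _ _ _ (W' * ((K' * N')⁻¹ * R' * (K' * N')⁻¹) * L'⁻¹)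
      (xlt_append (xlt_append hbl' hla) hbl') hwl' hnil h ?_ ?_
    · rw [hu]; simp only [optW, List.getD_cons_zero, List.getD_cons_succ, W', R', L', K', N', Subgroup.coe_mul, Subgroup.coe_inv]; rw [wprod_append s (niW ++ [6, 7] ++ [3, 2, 5]), wprod_append s (niW ++ [6, 7]), hkni, hr', hli, wprod_nil]; try group
    · simp [map_mul, hKi, wprod_append, eR, eL, hφK, hφN, wprod_nil, mul_assoc]
  · refine hsq 5 (by norm_num) _ _ _ (W' * (K' * N' * R') * L'⁻¹) (xlt_append hbl hla) hwl' hnil h ?_ ?_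
    · rw [hu]; simp only [optW, List.getD_cons_zero, List.getD_cons_succ, W', R', L', K', N', Subgroup.coe_mul, Subgroup.coe_inv]; rw [wprod_append s (kW ++ nW), hkn', hr', hli, wprod_nil]; try group
    · simp [map_mul, hKi, wprod_append, eR, eL, hφK, hφN, wprod_nil, mul_assoc]

end KData

/-- **All relators of `J3M`.** -/
theorem Base.rels_all {π : ↥(centralizer ({wprod s kW} : Set G)) →* ↥(alternatingGroup (Fin 6))}
    (D : KData z Q s π) (hkn : ∃ g : G, g * wprod s kW * g⁻¹ = wprod s nW ∨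
      g * wprod s kW * g⁻¹ = (wprod s nW)⁻¹)
    (hl : wprod s (lW ++ nW ++ liW ++ niW) = 1 ∨ wprod s (lW ++ nW ++ liW ++ niW ++ kW) = 1 ∨
      wprod s (lW ++ nW ++ liW ++ niW ++ kW ++ kW) = 1) :
    ∀ r ∈ J3M.rels, wprod s r = 1 := by
  have hl0 : wprod s (lW ++ nW ++ liW ++ niW) = 1 := by
    rcases hl with h | h | h
    · exact h
    · exact (D.not_nonsplit (i := 1) (Or.inl rfl) (by simpa [kpow] using h)).elim
    · exact (D.not_nonsplit (i := 2) (Or.inr rfl) (by simpa [kpow, List.append_assoc] using h)).elim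
  have h64 := D.split hkn hl0
  intro r hr
  rw [M_last, List.mem_append] at hr
  rcases hr with hr | hr
  · exact D.B.base r hr
  · simp only [List.mem_cons, List.not_mem_nil, or_false] at hr
    rcases hr with rfl | rfl | rfl
    exacts [wprod_cred D.B.frame.hs h64, wprod_cred D.B.frame.hs hl0, wprod_cred D.B.frame.hs D.hA]

end CfsgLib.InvChar.J3Rec
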