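import Cfsg.Agent.Lib.InvChar.J3Letters
import Cfsg.Agent.Lib.InvChar.J3Centralizer
import Cfsg.Agent.Lib.InvChar.J3Split
import Cfsg.Agent.Lib.InvChar.J3Presented
import Cfsg.Agent.Lib.InvChar.HallJankoFusion

/-!
# Recognition of the third Janko group by the centraliser of an involution

A finite simple group with one class of involutions in which the centraliser of an involution is
`2^{1+4}:A₅` is isomorphic to the quotient `QQ F ω` of the matrix model of `J₃`.
-/

set_option autoImplicit false

namespace CfsgLib.InvChar.J3Rec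

open Subgroup CfsgLib.InvChar.HJType CfsgLib.Janko3

universe u

/-- **Recognition of `J₃`.** -/
theorem equiv_QQ_of_pre {G : Type u} [Group G] [Finite G] [IsSimpleGroup G] {z : G} {Q : Subgroup G}
    (S : HJType.Pre z Q) (hone : ∀ x y : G, orderOf x = 2 → orderOf y = 2 → IsConj x y)
    {F : Type} [Field F] [Fintype F] {ω : F} (hf : Field4 F ω) (hF : Fintype.card F = 4) :
    Nonempty (G ≃* Janko3.QQ F ω) := by
  obtain ⟨s₀, Φ⟩ := exists_frame S (S.exists_outer_of_one_class S.not_comm hone)
  obtain ⟨s, B⟩ := exists_base S Φ hone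
  obtain ⟨⟨π, hsurj, hker⟩, hkn, hA, hl⟩ := B.kfacts S hone
  exact equiv_QQ_of_rels S B (Base.rels_all ⟨B, S, hsurj, hker, hA⟩ hkn hl) hf hF

end CfsgLib.InvChar.J3Rec
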