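import Cfsg.Agent.Lib.InvChar.J3KImage
import Cfsg.Agent.Lib.InvChar.SporData.J3N0r0c24.Main
import Cfsg.Agent.Lib.InvChar.SporData.J3N0r1c29.Main
import Cfsg.Agent.Lib.InvChar.SporData.J3N0r22c24.Main
import Cfsg.Agent.Lib.InvChar.SporData.J3N0r22c3.Main
import Cfsg.Agent.Lib.InvChar.SporData.J3N0r28c26.Main
import Cfsg.Agent.Lib.InvChar.SporData.J3N0r28c3.Main
import Cfsg.Agent.Lib.InvChar.SporData.J3N0r2c38.Main
import Cfsg.Agent.Lib.InvChar.SporData.J3N0r30c38.Main
import Cfsg.Agent.Lib.InvChar.SporData.J3N0r30c8.Main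
import Cfsg.Agent.Lib.InvChar.SporData.J3N0r36c40.Main
import Cfsg.Agent.Lib.InvChar.SporData.J3N0r36c7.Main
import Cfsg.Agent.Lib.InvChar.SporData.J3N0r37c29.Main
import Cfsg.Agent.Lib.InvChar.SporData.J3N0r37c7.Main
import Cfsg.Agent.Lib.InvChar.SporData.J3N0r44c42.Main
import Cfsg.Agent.Lib.InvChar.SporData.J3N0r44c8.Main
import Cfsg.Agent.Lib.InvChar.SporData.J3N1r0c24.Main
import Cfsg.Agent.Lib.InvChar.SporData.J3N1r1c29.Main
import Cfsg.Agent.Lib.InvChar.SporData.J3N1r22c24.Main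
import Cfsg.Agent.Lib.InvChar.SporData.J3N1r22c3.Main
import Cfsg.Agent.Lib.InvChar.SporData.J3N1r28c26.Main
import Cfsg.Agent.Lib.InvChar.SporData.J3N1r28c3.Main
import Cfsg.Agent.Lib.InvChar.SporData.J3N1r2c38.Main
import Cfsg.Agent.Lib.InvChar.SporData.J3N1r30c38.Main
import Cfsg.Agent.Lib.InvChar.SporData.J3N1r30c8.Main
import Cfsg.Agent.Lib.InvChar.SporData.J3N1r36c40.Main
import Cfsg.Agent.Lib.InvChar.SporData.J3N1r36c7.Main
import Cfsg.Agent.Lib.InvChar.SporData.J3N1r37c29.Main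
import Cfsg.Agent.Lib.InvChar.SporData.J3N1r37c7.Main
import Cfsg.Agent.Lib.InvChar.SporData.J3N1r44c42.Main
import Cfsg.Agent.Lib.InvChar.SporData.J3N1r44c8.Main

/-!
# The case in which `l` moves `n`

If `l n l⁻¹ = k⁻ⁱ n` with `i = 1, 2`, conjugation by `w l^± w` carries `n` to `k`, so `r` and `s 9` to
two of the 45 involutions of `C(k)`; each admissible pair makes `n` centralise `z`.
-/

set_option autoImplicit false
set_option maxRecDepth 100000

namespace CfsgLib.InvChar.J3Rec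

open Subgroup Coset CfsgLib.Invol CfsgLib.InvChar.HJType

universe u

/-- Removes equal first and last letters. -/
def cycRed : ℕ → List ℕ → List ℕ
  | 0, L => L
  | n + 1, L =>
    match L with
    | [] => []
    | x :: M => if M.getLast? = some x then cycRed n M.dropLast else x :: M

/-- The freely and cyclically reduced word. -/
def cred (L : List ℕ) : List ℕ := cycRed L.length (red L)

variable {G : Type u} [Group G] {z : G} {Q : Subgroup G} {s : ℕ → G}

theorem cycRed_one (hs : ∀ x, s x * s x = 1) :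
    ∀ n L, wprod s L = 1 → wprod s (cycRed n L) = 1 := by
  intro n
  induction n with
  | zero => intro L h; exact h
  | succ n ih =>
    intro L h
    match L with
    | [] => exact h
    | x :: M =>
      simp only [cycRed]
      split
      · next hlast =>
        refine ih _ ?_
        obtain ⟨ys, rfl⟩ : ∃ ys, M = ys ++ [x] := List.getLast?_eq_some_iff.1 hlast
        rw [List.dropLast_concat]
        rw [wprod_cons, wprod_append, wprod_cons, wprod_nil, mul_one] at h
        calc wprod s ys = s x * s x * wprod s ys * (s x * s x) := by rw [hs, one_mul, mul_one]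
          _ = s x * (s x * (wprod s ys * s x)) * s x := by group
          _ = 1 := by rw [h, mul_one, hs]
      · exact h

theorem wprod_cred (hs : ∀ x, s x * s x = 1) {L : List ℕ} (h : wprod s L = 1) :
    wprod s (cred L) = 1 :=
  cycRed_one hs _ _ (by rw [wprod_red s hs]; exact h)

/-- Relators that are base relators or reductions of given ones hold. -/
theorem rels_hold (B : Base z Q s) (R gens : List (List ℕ)) (hg : ∀ g ∈ gens, wprod s g = 1)
    (h : R.all (fun r => baseRels.contains r || gens.any (fun g => decide (cred g = r))) = true) :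
    ∀ r ∈ R, wprod s r = 1 := by
  intro r hr
  have h' := List.all_eq_true.1 h r hr
  simp only [Bool.or_eq_true, List.contains_iff_mem, List.any_eq_true, decide_eq_true_eq] at h'
  rcases h' with h' | ⟨g, hgm, rfl⟩
  exacts [B.base r h', wprod_cred B.frame.hs (hg g hgm)]

/-- Subgroup words over the first eight letters. -/
theorem subs_hold {H : Subgroup G} (hH : ∀ x < 8, s x ∈ H) (L : List (List ℕ))
    (hL : ∀ r ∈ L, ∀ x ∈ r, x < 8) : ∀ r ∈ L, wprod s r ∈ H := by
  intro r hr
  have key : ∀ r : List ℕ, (∀ x ∈ r, x < 8) → wprod s r ∈ H := by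
    intro r
    induction r with
    | nil => intro _; exact one_mem H
    | cons x r ih =>
      intro h
      rw [wprod_cons]
      exact mul_mem (hH x (h x List.mem_cons_self)) (ih fun y hy => h y (List.mem_cons_of_mem x hy))
  exact key r (hL r hr)

/-- `k ^ i` as a word. -/
def kpow : ℕ → List ℕ
  | 0 => []
  | i + 1 => kW ++ kpow i

/-- The word of the element carrying `n` to `k`. -/
def yW (i : ℕ) : List ℕ := if i = 2 then [9] ++ liW ++ [9] else [9] ++ lW ++ [9]

/-- The relators of a collapsing certificate of the case `i`. -/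
def nsGens (i a c : ℕ) : List (List ℕ) :=
  [aaW ++ aaW ++ aaW ++ aaW ++ aaW, lW ++ nW ++ liW ++ niW ++ kpow i,
    yW i ++ [3, 2, 5] ++ (yW i).reverse ++ invWords.getD a [],
    yW i ++ [9] ++ (yW i).reverse ++ invWords.getD c []]

theorem collapse2 (B : Base z Q s) {a c : ℕ} (h : (a, c) ∈ invPairs)
    (hR : ∀ g ∈ nsGens 2 a c, wprod s g = 1) (H : Subgroup G) (hH : ∀ x < 8, s x ∈ H) :
    wprod s nW ∈ H := by
  simp only [invPairs, List.mem_cons, List.not_mem_nil, or_false, Prod.mk.injEq] at h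
  rcases h with ⟨rfl, rfl⟩ | ⟨rfl, rfl⟩ | ⟨rfl, rfl⟩ | ⟨rfl, rfl⟩ | ⟨rfl, rfl⟩ | ⟨rfl, rfl⟩ | ⟨rfl, rfl⟩ | ⟨rfl, rfl⟩ | ⟨rfl, rfl⟩ | ⟨rfl, rfl⟩ | ⟨rfl, rfl⟩ | ⟨rfl, rfl⟩ | ⟨rfl, rfl⟩ | ⟨rfl, rfl⟩ | ⟨rfl, rfl⟩ | ⟨rfl, rfl⟩ | ⟨rfl, rfl⟩ | ⟨rfl, rfl⟩
  · exact J3N0r0c24.mem s B.frame.hs (rels_hold B _ _ hR (by decide +kernel)) H (subs_hold hH _ (by decide))
  · exact J3N0r0c24.mem s B.frame.hs (rels_hold B _ _ hR (by decide +kernel)) H (subs_hold hH _ (by decide))
  · exact J3N0r1c29.mem s B.frame.hs (rels_hold B _ _ hR (by decide +kernel)) H (subs_hold hH _ (by decide))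
  · exact J3N0r1c29.mem s B.frame.hs (rels_hold B _ _ hR (by decide +kernel)) H (subs_hold hH _ (by decide))
  · exact J3N0r2c38.mem s B.frame.hs (rels_hold B _ _ hR (by decide +kernel)) H (subs_hold hH _ (by decide))
  · exact J3N0r2c38.mem s B.frame.hs (rels_hold B _ _ hR (by decide +kernel)) H (subs_hold hH _ (by decide))
  · exact J3N0r22c3.mem s B.frame.hs (rels_hold B _ _ hR (by decide +kernel)) H (subs_hold hH _ (by decide))
  · exact J3N0r22c24.mem s B.frame.hs (rels_hold B _ _ hR (by decide +kernel)) H (subs_hold hH _ (by decide))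
  · exact J3N0r28c3.mem s B.frame.hs (rels_hold B _ _ hR (by decide +kernel)) H (subs_hold hH _ (by decide))
  · exact J3N0r28c26.mem s B.frame.hs (rels_hold B _ _ hR (by decide +kernel)) H (subs_hold hH _ (by decide))
  · exact J3N0r30c8.mem s B.frame.hs (rels_hold B _ _ hR (by decide +kernel)) H (subs_hold hH _ (by decide))
  · exact J3N0r30c38.mem s B.frame.hs (rels_hold B _ _ hR (by decide +kernel)) H (subs_hold hH _ (by decide))
  · exact J3N0r36c7.mem s B.frame.hs (rels_hold B _ _ hR (by decide +kernel)) H (subs_hold hH _ (by decide))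
  · exact J3N0r36c40.mem s B.frame.hs (rels_hold B _ _ hR (by decide +kernel)) H (subs_hold hH _ (by decide))
  · exact J3N0r37c7.mem s B.frame.hs (rels_hold B _ _ hR (by decide +kernel)) H (subs_hold hH _ (by decide))
  · exact J3N0r37c29.mem s B.frame.hs (rels_hold B _ _ hR (by decide +kernel)) H (subs_hold hH _ (by decide))
  · exact J3N0r44c8.mem s B.frame.hs (rels_hold B _ _ hR (by decide +kernel)) H (subs_hold hH _ (by decide))
  · exact J3N0r44c42.mem s B.frame.hs (rels_hold B _ _ hR (by decide +kernel)) H (subs_hold hH _ (by decide))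

theorem collapse1 (B : Base z Q s) {a c : ℕ} (h : (a, c) ∈ invPairs)
    (hR : ∀ g ∈ nsGens 1 a c, wprod s g = 1) (H : Subgroup G) (hH : ∀ x < 8, s x ∈ H) :
    wprod s nW ∈ H := by
  simp only [invPairs, List.mem_cons, List.not_mem_nil, or_false, Prod.mk.injEq] at h
  rcases h with ⟨rfl, rfl⟩ | ⟨rfl, rfl⟩ | ⟨rfl, rfl⟩ | ⟨rfl, rfl⟩ | ⟨rfl, rfl⟩ | ⟨rfl, rfl⟩ | ⟨rfl, rfl⟩ | ⟨rfl, rfl⟩ | ⟨rfl, rfl⟩ | ⟨rfl, rfl⟩ | ⟨rfl, rfl⟩ | ⟨rfl, rfl⟩ | ⟨rfl, rfl⟩ | ⟨rfl, rfl⟩ | ⟨rfl, rfl⟩ | ⟨rfl, rfl⟩ | ⟨rfl, rfl⟩ | ⟨rfl, rfl⟩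
  · exact J3N1r0c24.mem s B.frame.hs (rels_hold B _ _ hR (by decide +kernel)) H (subs_hold hH _ (by decide))
  · exact J3N1r0c24.mem s B.frame.hs (rels_hold B _ _ hR (by decide +kernel)) H (subs_hold hH _ (by decide))
  · exact J3N1r1c29.mem s B.frame.hs (rels_hold B _ _ hR (by decide +kernel)) H (subs_hold hH _ (by decide))
  · exact J3N1r1c29.mem s B.frame.hs (rels_hold B _ _ hR (by decide +kernel)) H (subs_hold hH _ (by decide))
  · exact J3N1r2c38.mem s B.frame.hs (rels_hold B _ _ hR (by decide +kernel)) H (subs_hold hH _ (by decide))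
  · exact J3N1r2c38.mem s B.frame.hs (rels_hold B _ _ hR (by decide +kernel)) H (subs_hold hH _ (by decide))
  · exact J3N1r22c3.mem s B.frame.hs (rels_hold B _ _ hR (by decide +kernel)) H (subs_hold hH _ (by decide))
  · exact J3N1r22c24.mem s B.frame.hs (rels_hold B _ _ hR (by decide +kernel)) H (subs_hold hH _ (by decide))
  · exact J3N1r28c3.mem s B.frame.hs (rels_hold B _ _ hR (by decide +kernel)) H (subs_hold hH _ (by decide))
  · exact J3N1r28c26.mem s B.frame.hs (rels_hold B _ _ hR (by decide +kernel)) H (subs_hold hH _ (by decide))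
  · exact J3N1r30c8.mem s B.frame.hs (rels_hold B _ _ hR (by decide +kernel)) H (subs_hold hH _ (by decide))
  · exact J3N1r30c38.mem s B.frame.hs (rels_hold B _ _ hR (by decide +kernel)) H (subs_hold hH _ (by decide))
  · exact J3N1r36c7.mem s B.frame.hs (rels_hold B _ _ hR (by decide +kernel)) H (subs_hold hH _ (by decide))
  · exact J3N1r36c40.mem s B.frame.hs (rels_hold B _ _ hR (by decide +kernel)) H (subs_hold hH _ (by decide))
  · exact J3N1r37c7.mem s B.frame.hs (rels_hold B _ _ hR (by decide +kernel)) H (subs_hold hH _ (by decide))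
  · exact J3N1r37c29.mem s B.frame.hs (rels_hold B _ _ hR (by decide +kernel)) H (subs_hold hH _ (by decide))
  · exact J3N1r44c8.mem s B.frame.hs (rels_hold B _ _ hR (by decide +kernel)) H (subs_hold hH _ (by decide))
  · exact J3N1r44c42.mem s B.frame.hs (rels_hold B _ _ hR (by decide +kernel)) H (subs_hold hH _ (by decide))

end CfsgLib.InvChar.J3Rec
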