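import Cfsg.Agent.Lib.InvChar.J3Swap
import Cfsg.Agent.Lib.InvChar.J3Base

/-!
# The letters `8` and `9`

From the exchange `g` of `z` and `a` the element `(k g)²` permutes `E` as `n` has to; corrections by
elements of `E` make `n` commute with `k` and `r` with `(x₃ n)² = k`, and `w` commute with `n`.
-/

set_option autoImplicit false
set_option maxRecDepth 100000

namespace CfsgLib.InvChar.J3Rec

open Subgroup Coset CfsgLib.InvChar.HJType CfsgLib.Invol

universe u

/-- The images for `k`. -/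
def kL : List ℕ := [0, 1, 2, 3, 12, 13, 14, 15, 4, 5, 6, 7, 8, 9, 10, 11]

/-- The images for `r = s 3 * s 2 * s 5`. -/
def rL : List ℕ := [0, 1, 2, 3, 5, 4, 7, 6, 11, 10, 9, 8, 14, 15, 12, 13]

/-- The images for `n`. -/
def nL : List ℕ := [0, 2, 3, 1, 12, 14, 15, 13, 4, 6, 7, 5, 8, 10, 11, 9]

/-- The word of `r`. -/
def rW : List ℕ := [3, 2, 5]

/-- The target of conjugating `a` by `(x₃ n)²`. -/
def tgW : List ℕ := [3, 7, 6, 3, 2, 5, 6, 7, 3]

theorem lists_eq : cmp (cmp kL wL) (cmp kL wL) = nL ∧ cmp (cmp nL nL) nL = idL ∧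
    cmp nL kL = cmp kL nL ∧ cmp nL rL = cmp rL nL ∧ cmp nL wL = cmp wL nL ∧ cmp wL wL = idL := by
  decide

theorem n_free : ∀ j < 16, nL.getD j 0 = j → j = 0 := by decide

theorem k_fix : ∀ e₀ < 16, kL.getD (kL.getD e₀ 0) 0 ^^^ kL.getD e₀ 0 ^^^ e₀ = 0 →
    ∃ e ∈ List.range 16, kL.getD e 0 ^^^ e₀ = e := by decide

theorem r_fix : ∀ e < 16, rL.getD e 0 = e → kL.getD (rL.getD (kL.getD (rL.getD (kL.getD e 0) 0) 0) 0) 0
    ^^^ kL.getD (rL.getD (kL.getD e 0) 0) 0 ^^^ kL.getD e 0 = 0 → e = 0 := by decide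

theorem w_fix : ∀ e₁ < 16, ∃ e ∈ List.range 16, nL.getD e 0 ^^^ e₁ = e := by decide

theorem kfix_small : ∀ e < 4, kL.getD e 0 = e ∧ rL.getD e 0 = e := by decide

theorem square_cases : (List.range 1920).all (fun t =>
    !(decide (hv (J3H.wd t ++ kW) = hv (kW ++ J3H.wd t)) &&
      decide (hv (J3H.wd t ++ [4]) = hv ([4] ++ J3H.wd t)) &&
      decide (hv (J3H.wd t ++ [5] ++ (J3H.wd t).reverse) = hv tgW)) ||
    (List.range 4).any (fun j => decide (t = hv (kW ++ ew j)))) = true := by decide +kernel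

variable {G : Type u} [Group G] {z : G} {Q : Subgroup G} {s : ℕ → G}

section

variable (Φ : Frame z Q s)
include Φ

theorem eq_words {u v : List ℕ} (h : hv u = hv v) (hu : ∀ x ∈ u, x < 8) (hv' : ∀ x ∈ v, x < 8) :
    wprod s u = wprod s v := Φ.eq_of_hv hu hv' h

theorem act_k : Act s (wprod s kW) kL := act_word Φ _ _ (by decide) (by decide +kernel)

theorem act_r : Act s (wprod s rW) rL := act_word Φ _ _ (by decide) (by decide +kernel)

theorem k_cube : wprod s kW * wprod s kW * wprod s kW = 1 := by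
  rw [← wprod_append, ← wprod_append, eq_words Φ (v := []) (by decide +kernel) (by decide) (by decide)]
  rfl

theorem r_sq : wprod s rW * wprod s rW = 1 := by
  rw [← wprod_append, eq_words Φ (v := []) (by decide +kernel) (by decide) (by decide)]
  rfl

theorem kr_cube : wprod s kW * wprod s rW * (wprod s kW * wprod s rW) *
    (wprod s kW * wprod s rW) = 1 := by
  rw [← wprod_append, ← wprod_append, ← wprod_append,
    eq_words Φ (v := []) (by decide +kernel) (by decide) (by decide)]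
  rfl

variable (S : Pre z Q)
include S

theorem cube_of_act [Finite G] {n : G} (hn : Act s n nL) : n * n * n = 1 :=
  eq_one_of_act_id Φ S (((hn.mul hn).mul hn).congr lists_eq.2.1) hn n_free (by group)

/-- Two elements whose actions commute commute up to an element of `E`. -/
theorem exists_el [Finite G] {g h : G} {L M : List ℕ} (hg : Act s g L) (hh : Act s h M)
    (hc : cmp L M = cmp M L) : ∃ e < 16, g * h * g⁻¹ = el s e * h := by
  have h1 := hg.mul hh
  have h2 := hh.mul hg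
  suffices hid : Act s (g * h * g⁻¹ * h⁻¹) idL by
    obtain ⟨e, he, he'⟩ := act_id Φ S hid
    exact ⟨e, he, by rw [← he']; group⟩
  intro i hi
  have e : idL.getD i 0 = i := by simp [idL, hi]
  rw [e]
  refine ⟨hi, ?_⟩
  set p := h * g with hp
  set q := g * h with hq
  have hgh : g * h * g⁻¹ * h⁻¹ = q * p⁻¹ := by rw [hp, hq]; group
  rw [hgh]
  -- every index is an image of `p`
  let f : Fin 16 → Fin 16 := fun j => ⟨(cmp M L).getD j 0, (h2 j j.2).1⟩
  have hf : Function.Injective f := by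
    intro a b hab
    have e1 := (h2 a a.2).2
    have e2 := (h2 b b.2).2
    rw [show (cmp M L).getD (a : ℕ) 0 = (cmp M L).getD (b : ℕ) 0 from congrArg Fin.val hab] at e1
    exact Fin.ext (el_inj Φ S a.2 b.2 (mul_left_cancel (mul_right_cancel (e1.trans e2.symm))))
  obtain ⟨j, hj⟩ := (Finite.injective_iff_surjective.1 hf) ⟨i, hi⟩
  have hji : (cmp M L).getD (j : ℕ) 0 = i := congrArg Fin.val hj
  have e1 := (h2 j j.2).2
  have e2 := (h1 j j.2).2
  rw [hji] at e1
  rw [hc, hji] at e2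
  calc q * p⁻¹ * el s i * (q * p⁻¹)⁻¹ = q * (p⁻¹ * el s i * p) * q⁻¹ := by group
    _ = q * el s j * q⁻¹ := by rw [← e1]; group
    _ = el s i := e2

/-- **The element `n`.** -/
theorem exists_n [Finite G] {g : G} (hg : Act s g wL) :
    ∃ n : G, Act s n nL ∧ n * n * n = 1 ∧ wprod s kW * n = n * wprod s kW ∧
      wprod s rW * n = n * wprod s rW ∧
      s 3 * n * (s 3 * n) = wprod s kW := by
  classical
  set k := wprod s kW with hk
  set r := wprod s rW with hr
  have hK : Act s k kL := act_k Φ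
  have hR : Act s r rL := act_r Φ
  set n₀ := k * g * (k * g) with hn0
  have hN0 : Act s n₀ nL := ((hK.mul hg).mul (hK.mul hg)).congr lists_eq.1
  -- making it commute with `k`
  obtain ⟨e₀, he₀, hc₀⟩ := exists_el Φ S hK hN0 lists_eq.2.2.1.symm
  obtain ⟨k1, k2⟩ := hK e₀ he₀
  obtain ⟨k3, k4⟩ := hK _ k1
  have hx : ∀ {a b : ℕ}, a < 16 → b < 16 → a ^^^ b < 16 := fun ha hb =>
    Nat.xor_lt_two_pow (n := 4) ha hb
  have hcond : kL.getD (kL.getD e₀ 0) 0 ^^^ kL.getD e₀ 0 ^^^ e₀ = 0 := by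
    have h3 : el s (kL.getD (kL.getD e₀ 0) 0 ^^^ kL.getD e₀ 0 ^^^ e₀) * n₀ = n₀ := by
      rw [← el_mul Φ (hx k3 k1) he₀, ← el_mul Φ k3 k1, mul_assoc, ← hc₀, ← k4, ← k2]
      calc k * (k * el s e₀ * k⁻¹) * k⁻¹ * (k * el s e₀ * k⁻¹) * (k * n₀ * k⁻¹)
          = k * k * el s e₀ * (k⁻¹ * el s e₀ * n₀) * k⁻¹ := by group
        _ = k * k * el s e₀ * (k⁻¹ * (k * n₀ * k⁻¹)) * k⁻¹ := by rw [hc₀]; group
        _ = k * k * (el s e₀ * n₀) * (k * k)⁻¹ := by group
        _ = k * k * k * n₀ * (k * k * k)⁻¹ := by rw [← hc₀]; group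
        _ = n₀ := by rw [k_cube Φ, one_mul, inv_one, mul_one]
    exact el_inj Φ S (hx (hx k3 k1) he₀) (by norm_num)
      ((mul_eq_right.1 h3).trans el_zero.symm)
  obtain ⟨e, he, hee⟩ := k_fix e₀ he₀ hcond
  rw [List.mem_range] at he
  set n₁ := el s e * n₀ with hn1
  have hN1 : Act s n₁ nL := ((act_el Φ he).mul hN0).congr (by decide)
  have hk1 : k * n₁ * k⁻¹ = n₁ := by
    calc k * (el s e * n₀) * k⁻¹ = k * el s e * k⁻¹ * (k * n₀ * k⁻¹) := by group
      _ = el s (kL.getD e 0) * (el s e₀ * n₀) := by rw [(hK e he).2, hc₀]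
      _ = el s e * n₀ := by rw [← mul_assoc, el_mul Φ (hK e he).1 he₀, hee]
  -- it commutes with `r` as well
  obtain ⟨f, hf, hfc⟩ := exists_el Φ S hR hN1 lists_eq.2.2.2.1.symm
  obtain ⟨r1, r2⟩ := hR f hf
  have hfR : rL.getD f 0 = f := by
    have h3 : el s (rL.getD f 0) * el s f * n₁ = n₁ := by
      rw [← r2, mul_assoc, ← hfc]
      calc r * el s f * r⁻¹ * (r * n₁ * r⁻¹) = r * (el s f * n₁) * r⁻¹ := by group
        _ = r * r * n₁ * (r * r)⁻¹ := by rw [← hfc]; group
        _ = n₁ := by rw [r_sq Φ, one_mul, inv_one, mul_one]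
    have h4 := mul_eq_right.1 h3
    rw [el_mul Φ r1 hf] at h4
    have h5 := el_inj Φ S (hx r1 hf) (by norm_num) (h4.trans el_zero.symm)
    have h6 := congrArg (· ^^^ f) h5
    simpa [Nat.xor_assoc] using h6
  obtain ⟨f1, f2⟩ := hK f hf
  set f' := kL.getD f 0 with hf'
  have hu : ∀ j, j < 16 → kL.getD (rL.getD j 0) 0 < 16 ∧
      k * r * el s j * (k * r)⁻¹ = el s (kL.getD (rL.getD j 0) 0) := by
    intro j hj
    obtain ⟨a1, a2⟩ := hR j hj
    obtain ⟨b1, b2⟩ := hK _ a1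
    exact ⟨b1, by rw [← b2, ← a2]; group⟩
  have hun : k * r * n₁ * (k * r)⁻¹ = el s f' * n₁ := by
    calc k * r * n₁ * (k * r)⁻¹ = k * (r * n₁ * r⁻¹) * k⁻¹ := by group
      _ = k * el s f * k⁻¹ * (k * n₁ * k⁻¹) := by rw [hfc]; group
      _ = el s f' * n₁ := by rw [f2, hk1]
  obtain ⟨u1, u2⟩ := hu f' f1
  obtain ⟨u3, u4⟩ := hu _ u1
  have hf0 : f = 0 := by
    refine r_fix f hf hfR (el_inj Φ S (hx (hx u3 u1) f1) (by norm_num) ?_)
    rw [el_zero, ← el_mul Φ (hx u3 u1) f1, ← el_mul Φ u3 u1, ← u4, ← u2]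
    set u := k * r with hudef
    have h3 : u * (u * el s f' * u⁻¹) * u⁻¹ * (u * el s f' * u⁻¹) * el s f' * n₁ = n₁ := by
      calc u * (u * el s f' * u⁻¹) * u⁻¹ * (u * el s f' * u⁻¹) * el s f' * n₁
          = u * u * el s f' * u⁻¹ * el s f' * u⁻¹ * (el s f' * n₁) := by group
        _ = u * u * el s f' * u⁻¹ * el s f' * u⁻¹ * (u * n₁ * u⁻¹) := by rw [hun]
        _ = u * u * el s f' * u⁻¹ * (el s f' * n₁) * u⁻¹ := by group
        _ = u * u * el s f' * u⁻¹ * (u * n₁ * u⁻¹) * u⁻¹ := by rw [hun]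
        _ = u * u * (el s f' * n₁) * (u * u)⁻¹ := by group
        _ = u * u * u * n₁ * (u * u * u)⁻¹ := by rw [← hun]; group
        _ = n₁ := by rw [kr_cube Φ, one_mul, inv_one, mul_one]
    exact mul_eq_right.1 h3
  have hr1 : r * n₁ * r⁻¹ = n₁ := by rw [hfc, hf0, el_zero, one_mul]
  -- the square of `x₃ n`
  have h3sq := Φ.hs 3
  have hc3 : ∀ j, j < 16 → ∀ l, l < 16 → hv ([3] ++ ew j ++ [3]) = hv (ew l) →
      s 3 * el s j * s 3 = el s l := by
    intro j hj l hl h
    have := eq_words (s := s) Φ h (fun x hx => by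
      simp only [List.mem_append, List.mem_singleton] at hx
      rcases hx with (rfl | hx) | rfl
      exacts [by norm_num, ew_lt j hj x hx, by norm_num]) (ew_lt l hl)
    rw [el, el, ← this, wprod_append, wprod_append, wprod_cons, wprod_nil, mul_one]
  have c31 : s 3 * el s 1 * s 3 = el s 1 := hc3 1 (by norm_num) 1 (by norm_num) (by decide +kernel)
  have c32 : s 3 * el s 2 * s 3 = el s 3 := hc3 2 (by norm_num) 3 (by norm_num) (by decide +kernel)
  have c33 : s 3 * el s 3 * s 3 = el s 2 := hc3 3 (by norm_num) 2 (by norm_num) (by decide +kernel)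
  set p := s 3 * n₁ with hp
  have hpi : p⁻¹ = n₁⁻¹ * s 3 := by rw [hp, mul_inv_rev, inv_eq_of_mul_eq_one_right h3sq]
  have pc : ∀ i, i < 16 → ∀ l, s 3 * el s (nL.getD i 0) * s 3 = el s l → p * el s i * p⁻¹ = el s l := by
    intro i hi l h
    rw [hpi, ← h, ← (hN1 i hi).2, hp]
    group
  have p1 : p * el s 1 * p⁻¹ = el s 3 := pc 1 (by norm_num) 3 c32
  have p3 : p * el s 3 * p⁻¹ = el s 1 := pc 3 (by norm_num) 1 c31
  have p2 : p * el s 2 * p⁻¹ = el s 2 := pc 2 (by norm_num) 2 c33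
  have hkp : k * p = p * k := by
    have e3 : k * s 3 = s 3 * k := by
      have := eq_words (s := s) Φ (u := kW ++ [3]) (v := [3] ++ kW) (by decide +kernel) (by decide)
        (by decide)
      rwa [wprod_append, wprod_append, wprod_cons, wprod_nil, mul_one] at this
    calc k * p = k * s 3 * n₁ := by rw [hp, mul_assoc]
      _ = s 3 * (k * n₁ * k⁻¹) * k := by rw [e3]; group
      _ = p * k := by rw [hk1, hp]
  have hq2 : ∀ i, p * p * el s i * (p * p)⁻¹ = p * (p * el s i * p⁻¹) * p⁻¹ := fun i => by group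
  obtain ⟨t, ht, htp⟩ := Φ.exists_wd S (g := p * p) (mem_centralizer_singleton_iff.2 (by
    refine mul_inv_eq_iff_eq_mul.1 ?_
    rw [← el_one Φ, hq2, p1, p3]))
  have hw := Frame.wd_lt ht
  have hlt : ∀ {u v : List ℕ}, (∀ x ∈ u, x < 8) → (∀ x ∈ v, x < 8) → ∀ x ∈ u ++ v, x < 8 :=
    fun h1 h2 x hx => (List.mem_append.1 hx).elim (h1 x) (h2 x)
  have hsc := List.all_eq_true.1 square_cases t (List.mem_range.2 ht)
  have hk' : hv (J3H.wd t ++ kW) = hv (kW ++ J3H.wd t) := by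
    refine Φ.hv_eq_of_eq S (hlt hw (by decide)) (hlt (by decide) hw) ?_
    rw [wprod_append, wprod_append, htp, ← hk]
    calc p * p * k = p * (k * p) := by rw [hkp, mul_assoc]
      _ = k * (p * p) := by rw [← mul_assoc, ← hkp, mul_assoc]
  have h4' : hv (J3H.wd t ++ [4]) = hv ([4] ++ J3H.wd t) := by
    refine Φ.hv_eq_of_eq S (hlt hw (by decide)) (hlt (by decide) hw) ?_
    rw [wprod_append, wprod_append, htp, wprod_cons, wprod_nil, mul_one, ← el_two (s := s)]
    refine mul_inv_eq_iff_eq_mul.1 ?_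
    rw [hq2, p2, p2]
  have h5' : hv (J3H.wd t ++ [5] ++ (J3H.wd t).reverse) = hv tgW := by
    refine Φ.hv_eq_of_eq S (hlt (hlt hw (by decide)) fun x hx => hw x (List.mem_reverse.1 hx))
      (by decide) ?_
    rw [wprod_append, wprod_append, wprod_reverse s Φ.hs, htp, wprod_cons, wprod_nil, mul_one,
      ← el_four (s := s), hq2]
    set R₀ := wprod s [7, 6, 3, 2, 5, 6, 7] with hR0
    have e12 : s 3 * el s 12 * s 3 = R₀ := by
      have := eq_words (s := s) Φ (u := [3] ++ ew 12 ++ [3]) (v := [7, 6, 3, 2, 5, 6, 7])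
        (by decide +kernel) (by decide) (by decide)
      rw [el, hR0, ← this, wprod_append, wprod_append, wprod_cons, wprod_nil, mul_one]
    have hRc : n₁ * R₀ * n₁⁻¹ = R₀ := by
      have hR0' : R₀ = k * r * k⁻¹ := by
        rw [hk, hr, ← wprod_reverse s Φ.hs, ← wprod_append, ← wprod_append]; rfl
      rw [hR0', mul_inv_eq_iff_eq_mul]
      have a := (mul_inv_eq_iff_eq_mul.1 hk1 : k * n₁ = n₁ * k)
      have b := (mul_inv_eq_iff_eq_mul.1 hr1 : r * n₁ = n₁ * r)
      calc n₁ * (k * r * k⁻¹) = n₁ * k * r * k⁻¹ := by group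
        _ = k * (r * n₁) * k⁻¹ := by rw [← a, b]; group
        _ = k * r * k⁻¹ * (k * n₁ * k⁻¹) := by group
        _ = k * r * k⁻¹ * n₁ := by rw [hk1]
    have e4 : n₁ * el s 4 * n₁⁻¹ = el s 12 := (hN1 4 (by norm_num)).2
    have hfirst : p * el s 4 * p⁻¹ = R₀ := by
      rw [hpi, hp, ← e12, ← e4]; group
    rw [hfirst, hpi, hp]
    calc s 3 * n₁ * R₀ * (n₁⁻¹ * s 3) = s 3 * (n₁ * R₀ * n₁⁻¹) * s 3 := by group
      _ = wprod s tgW := by
          rw [hRc, hR0]
          simp [tgW, wprod, mul_assoc]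
  simp only [hk', h4', h5', decide_true, Bool.and_self, Bool.not_true, Bool.false_or,
    List.any_eq_true, List.mem_range, decide_eq_true_eq] at hsc
  obtain ⟨j, hj, htj⟩ := hsc
  have hj16 : j < 16 := by omega
  have hpp : p * p = k * el s j := by
    have hl := hlt (u := kW) (v := ew j) (by decide) (ew_lt j hj16)
    rw [← htp, Φ.eq_of_hv hw hl ((Frame.hv_wd ht).trans htj), wprod_append, hk]
    rfl
  have hpj : p * el s j * p⁻¹ = el s j := by
    have hkk : p * k * p⁻¹ = k := by rw [← hkp, mul_inv_cancel_right]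
    have : k * (p * el s j * p⁻¹) = k * el s j := by
      calc k * (p * el s j * p⁻¹) = p * k * p⁻¹ * (p * el s j * p⁻¹) := by rw [hkk]
        _ = p * (k * el s j) * p⁻¹ := by group
        _ = k * el s j := by rw [← hpp]; group
    exact mul_left_cancel this
  have hkel : ∀ j, j < 4 → k * el s j * k⁻¹ = el s j ∧ r * el s j * r⁻¹ = el s j := by
    intro j hj
    refine ⟨?_, ?_⟩
    · rw [(hK j (by omega)).2, (kfix_small j hj).1]
    · rw [(hR j (by omega)).2, (kfix_small j hj).2]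
  have fin : ∀ c, c < 4 → s 3 * (el s c * n₁) * (s 3 * (el s c * n₁)) = k →
      ∃ n : G, Act s n nL ∧ n * n * n = 1 ∧ k * n = n * k ∧ r * n = n * r ∧
        s 3 * n * (s 3 * n) = k := by
    intro c hc hsq
    have hN := ((act_el Φ (show c < 16 by omega)).mul hN1).congr (show cmp idL nL = nL by decide)
    refine ⟨el s c * n₁, hN, cube_of_act Φ S hN, ?_, ?_, hsq⟩
    · refine mul_inv_eq_iff_eq_mul.1 ?_
      calc k * (el s c * n₁) * k⁻¹ = k * el s c * k⁻¹ * (k * n₁ * k⁻¹) := by group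
        _ = el s c * n₁ := by rw [(hkel c hc).1, hk1]
    · refine mul_inv_eq_iff_eq_mul.1 ?_
      calc r * (el s c * n₁) * r⁻¹ = r * el s c * r⁻¹ * (r * n₁ * r⁻¹) := by group
        _ = el s c * n₁ := by rw [(hkel c hc).2, hr1]
  rcases (show j = 0 ∨ j = 1 ∨ j = 2 ∨ j = 3 by omega) with rfl | rfl | rfl | rfl
  · refine fin 0 (by norm_num) ?_
    rw [el_zero, one_mul, ← hp, hpp, el_zero, mul_one]
  · rw [p1] at hpj; exact absurd (el_inj Φ S (by norm_num) (by norm_num) hpj) (by norm_num)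
  · refine fin 1 (by norm_num) ?_
    have hz3 : s 3 * el s 1 = el s 1 * s 3 := by
      calc s 3 * el s 1 = s 3 * el s 1 * (s 3 * s 3) := by rw [h3sq, mul_one]
        _ = el s 1 * s 3 := by rw [← mul_assoc, c31]
    have e0 : s 3 * (el s 1 * n₁) = el s 1 * p := by rw [hp, ← mul_assoc, hz3, mul_assoc]
    rw [e0]
    calc el s 1 * p * (el s 1 * p) = el s 1 * (p * el s 1 * p⁻¹) * (p * p) := by group
      _ = el s (1 ^^^ 3) * (k * el s 2) := by
          rw [p1, hpp, el_mul Φ (by norm_num) (by norm_num)]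
      _ = k * (el s 2 * el s 2) := by
          rw [show (1 : ℕ) ^^^ 3 = 2 from rfl, ← mul_assoc,
            ← mul_inv_eq_iff_eq_mul.1 (hkel 2 (by norm_num)).1, mul_assoc]
      _ = k := by rw [el_sq Φ (by norm_num), mul_one]
  · rw [p3] at hpj; exact absurd (el_inj Φ S (by norm_num) (by norm_num) hpj) (by norm_num)

/-- **The element `w`.** -/
theorem exists_w [Finite G] {g n : G} (hg : Act s g wL) (hn : Act s n nL) :
    ∃ w : G, Act s w wL ∧ w * w = 1 ∧ n * w = w * n := by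
  obtain ⟨e₁, he₁, hc⟩ := exists_el Φ S hn hg lists_eq.2.2.2.2.1
  obtain ⟨e, he, hee⟩ := w_fix e₁ he₁
  rw [List.mem_range] at he
  have hW : Act s (el s e * g) wL := ((act_el Φ he).mul hg).congr (by decide)
  have hcom : n * (el s e * g) = el s e * g * n := by
    refine mul_inv_eq_iff_eq_mul.1 ?_
    calc n * (el s e * g) * n⁻¹ = n * el s e * n⁻¹ * (n * g * n⁻¹) := by group
      _ = el s e * g := by
          rw [(hn e he).2, hc, ← mul_assoc, el_mul Φ (hn e he).1 he₁, hee]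
  refine ⟨_, hW, eq_one_of_act_id Φ S ((hW.mul hW).congr lists_eq.2.2.2.2.2) hn n_free ?_, hcom⟩
  rw [← mul_assoc, hcom, mul_assoc, hcom, ← mul_assoc]

end

end CfsgLib.InvChar.J3Rec
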