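import Cfsg.Agent.S5213
import Cfsg.Agent.Lib.Fusion.GroupFusion
import Cfsg.Agent.Lib.Fusion.Center
import Cfsg.Agent.Lib.Invol.Isolated
import Cfsg.Agent.Lib.Invol.Control
import Cfsg.Prelude.Def_TwoFusion

/-!
# Sylow 2-subgroups of groups of 2-rank two without isolated involutions
-/

set_option autoImplicit false

namespace CfsgLib.InvChar

open Cfsg

variable {G : Type*} [Group G] [Finite G]

theorem groupFusion_center_eq_bot (S : Sylow 2 G)
    (hiso : ∀ z : G, ¬ Cfsg.IsIsolatedInvolution z) :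
    (groupFusionSystem (S : Subgroup G)).center = ⊥ := by
  haveI : Fact (Nat.Prime 2) := ⟨Nat.prime_two⟩
  rw [Subgroup.eq_bot_iff_forall]
  intro z hz
  by_contra hne
  have hS : IsPGroup 2 (S : Subgroup G) := S.isPGroup'
  have hsat := CfsgLib.Fusion.group_isSaturated S
  have hzS : z ∈ (S : Subgroup G) := ((CfsgLib.Fusion.mem_center_iff hS hsat).1 hz).1
  obtain ⟨k, hk⟩ := (IsPGroup.iff_orderOf.1 hS) ⟨z, hzS⟩
  rw [Subgroup.orderOf_mk] at hk
  have hk1 : k ≠ 0 := fun h => hne (orderOf_eq_one_iff.1 (by rw [hk, h, pow_zero]))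
  set u := z ^ (2 ^ (k - 1)) with hu
  have hu2 : orderOf u = 2 := by
    rw [hu, orderOf_pow' z (by positivity), hk, Nat.gcd_eq_right (pow_dvd_pow 2 (by omega)),
      Nat.pow_div (by omega) (by norm_num), show k - (k - 1) = 1 by omega, pow_one]
  have huc : u ∈ (groupFusionSystem (S : Subgroup G)).center := pow_mem hz _
  obtain ⟨huS, hfix⟩ := (CfsgLib.Fusion.mem_center_iff hS hsat).1 huc
  refine hiso u (CfsgLib.Invol.isolated_of_sylow S hu2 huS fun g hg => ?_)
  refine hfix (Subgroup.zpowers u) (fun x => g * x * g⁻¹) ?_ (Subgroup.mem_zpowers u)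
  refine ⟨conjHom (Subgroup.zpowers u) g,
    ⟨Subgroup.zpowers_le.2 huS, fun x => ?_, g, fun x => rfl⟩, fun x => rfl⟩
  obtain ⟨n, hn⟩ := Subgroup.mem_zpowers_iff.1 x.2
  show g * (x : G) * g⁻¹ ∈ (S : Subgroup G)
  rw [← hn, ← conj_zpow]
  exact Subgroup.zpow_mem _ hg n

theorem rankAtLeast_of_not_le {p k : ℕ} {H : Type*} [Group H] [Finite H] [Fact p.Prime]
    (h : ¬ PRankLE p k H) : PRankAtLeast p (k + 1) H := by
  simp only [PRankLE, not_forall, not_le] at h
  obtain ⟨A, hA, hexp, hcard⟩ := h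
  refine ⟨A, hA, hexp, ?_⟩
  have hp : IsPGroup p A := fun a => ⟨1, Subtype.ext (by simpa using hexp a a.2)⟩
  obtain ⟨n, hn⟩ := IsPGroup.iff_card.1 hp
  rw [hn] at hcard ⊢
  exact Nat.pow_le_pow_right (Fact.out : p.Prime).pos
    ((Nat.pow_lt_pow_iff_right (Fact.out : p.Prime).one_lt).1 hcard)

theorem sylow_not_prankLE {p k : ℕ} [Fact p.Prime] (h : ¬ PRankLE p k G) (S : Sylow p G) :
    ¬ PRankLE p k (S : Subgroup G) := by
  intro hS
  simp only [PRankLE, not_forall, not_le] at h
  obtain ⟨A, hA, hexp, hcard⟩ := h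
  have hp : IsPGroup p A := fun a => ⟨1, Subtype.ext (by simpa using hexp a a.2)⟩
  obtain ⟨Q, hQ⟩ := hp.exists_le_sylow
  obtain ⟨g, hg⟩ := MulAction.exists_smul_eq G S Q
  have hQS : (Q : Subgroup G) = (S : Subgroup G).map (MulAut.conj g).toMonoidHom := by
    rw [← hg]; rfl
  have hrank := CfsgLib.Invol.prankLE_of_le hQ
    (hQS ▸ (CfsgLib.Invol.prankLE_conj_iff g).2 hS : PRankLE p k (Q : Subgroup G))
  have h1 := hrank ⊤ ⟨⟨fun a b => Subtype.ext (hA.is_comm.comm a.1 b.1)⟩⟩
    (fun a _ => Subtype.ext (by simpa using hexp a a.2))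
  rw [Subgroup.card_top] at h1
  omega

/-- In a homocyclic group of rank two and exponent dividing `2 ^ n`, `k = 2`. -/
theorem homocyclic_rank_two {S : Type*} [Group S] {n k : ℕ}
    (e : S ≃* Multiplicative (Fin k → ZMod (2 ^ n)))
    (hr : PRankAtLeast 2 2 S ∧ ¬ PRankAtLeast 2 3 S) : 1 ≤ n ∧ k = 2 := by
  haveI : Finite S := Finite.of_equiv _ e.symm.toEquiv
  obtain ⟨A, hA, hexp, hcard⟩ := hr.1
  have hn : 1 ≤ n := by
    by_contra h0
    have : n = 0 := by omega
    subst this
    have h1 : Nat.card S = 1 := by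
      rw [Nat.card_congr e.toEquiv]; simp
    have h2 := hcard.trans (Subgroup.card_le_card_group A)
    omega
  refine ⟨hn, ?_⟩
  set m := 2 ^ (n - 1) with hm
  have hmm : 2 * m = 2 ^ n := by
    rw [hm, ← pow_succ', show n - 1 + 1 = n by omega]
  haveI : NeZero (2 ^ n) := ⟨by positivity⟩
  -- elements killed by two in one coordinate
  have hcoord : ∀ x : ZMod (2 ^ n), 2 * x = 0 → x = 0 ∨ x = (m : ZMod (2 ^ n)) := by
    intro x hx
    have hx' : ((2 * x.val : ℕ) : ZMod (2 ^ n)) = 0 := by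
      push_cast
      rwa [ZMod.natCast_zmod_val]
    rw [ZMod.natCast_eq_zero_iff] at hx'
    have hx'' : 2 * m ∣ 2 * x.val := by
      generalize hv : x.val = v at hx' ⊢
      rwa [hmm]
    have hdvd : m ∣ x.val := Nat.dvd_of_mul_dvd_mul_left (by norm_num) hx''
    obtain ⟨q, hq⟩ := hdvd
    have hlt := x.val_lt
    rw [hq, ← hmm] at hlt
    have hq2 : q < 2 := by
      by_contra hq2
      have := Nat.mul_le_mul_left m (show 2 ≤ q by omega)
      omega
    rw [← ZMod.natCast_zmod_val x, hq]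
    interval_cases q <;> simp
  set U : Type := Fin k → ZMod (2 ^ n)
  let T : AddSubgroup U :=
    { carrier := {v | ∀ i, 2 * v i = 0}
      add_mem' := fun {a b} ha hb i => by
        show (2 : ZMod (2 ^ n)) * (a i + b i) = 0
        rw [mul_add, ha i, hb i, add_zero]
      zero_mem' := fun i => by show (2 : ZMod (2 ^ n)) * 0 = 0; rw [mul_zero]
      neg_mem' := fun {a} ha i => by
        show (2 : ZMod (2 ^ n)) * (-a i) = 0
        rw [mul_neg, ha i, neg_zero] }
  have hm0 : (m : ZMod (2 ^ n)) ≠ 0 := by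
    rw [Ne, ZMod.natCast_eq_zero_iff]
    intro hd
    have := Nat.le_of_dvd (by positivity) hd
    have : 0 < m := by positivity
    omega
  have hTcard : Nat.card T = 2 ^ k := by
    let f : (Fin k → Bool) → T := fun b => ⟨fun i => if b i then (m : ZMod (2 ^ n)) else 0,
      fun i => by
        show (2 : ZMod (2 ^ n)) * (if b i then (m : ZMod (2 ^ n)) else 0) = 0
        cases b i
        · simp
        · simp only [if_true]
          rw [show (2 : ZMod (2 ^ n)) = ((2 : ℕ) : ZMod (2 ^ n)) by norm_cast, ← Nat.cast_mul,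
            hmm, ZMod.natCast_self]⟩
    have hf : Function.Bijective f := by
      refine ⟨fun a b hab => funext fun i => ?_, fun v => ?_⟩
      · have h1 := congrFun (congrArg Subtype.val hab) i
        simp only [f] at h1
        cases ha : a i <;> cases hb : b i <;> simp_all [hm0, hm0.symm]
      · classical
        refine ⟨fun i => decide (v.1 i ≠ 0), Subtype.ext (funext fun i => ?_)⟩
        rcases hcoord (v.1 i) (v.2 i) with h | h
        · simp [f, h]
        · simp [f, h, hm0]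
    rw [← Nat.card_congr (Equiv.ofBijective f hf)]
    simp
  let E : Subgroup S := (AddSubgroup.toSubgroup T).map e.symm.toMonoidHom
  have hEcard : Nat.card E = 2 ^ k := by
    rw [Subgroup.card_map_of_injective e.symm.injective, ← hTcard]
    rfl
  have hkey : ∀ a : S, a ^ 2 = 1 → a ∈ E := by
    intro a ha
    refine ⟨e a, ?_, e.symm_apply_apply a⟩
    intro i
    have h1 : e a ^ 2 = 1 := by rw [← map_pow, ha, map_one]
    have h2 := congrArg Multiplicative.toAdd h1
    rw [toAdd_pow, toAdd_one] at h2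
    simpa [nsmul_eq_mul] using congrFun h2 i
  have h4 : 2 ^ 2 ≤ 2 ^ k :=
    hcard.trans ((Subgroup.card_le_of_le fun a ha => hkey a (hexp a ha)).trans hEcard.le)
  have h8 : ¬ 2 ^ 3 ≤ 2 ^ k := by
    intro h
    refine hr.2 ⟨E, ⟨⟨fun a b => ?_⟩⟩, ?_, hEcard ▸ h⟩
    · refine Subtype.ext (e.injective ?_)
      simp only [Subgroup.coe_mul, map_mul]
      exact mul_comm _ _
    · rintro _ ⟨v, hv, rfl⟩
      refine (map_pow _ v 2).symm.trans ?_
      have hv2 : v ^ 2 = 1 := by
        apply Multiplicative.toAdd.injective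
        rw [toAdd_pow, toAdd_one]
        funext i
        simpa [nsmul_eq_mul] using hv i
      rw [hv2, map_one]
  rw [Nat.pow_le_pow_iff_right (by norm_num)] at h4 h8
  omega

/-- Types of the Sylow 2-subgroups of a group of 2-rank two with no isolated involution. -/
theorem sylow_type_of_rank_two (h2 : PRankLE 2 2 G) (h1 : ¬ PRankLE 2 1 G)
    (hiso : ∀ z : G, ¬ Cfsg.IsIsolatedInvolution z) (S : Sylow 2 G) {F : Type*} [Field F]
    [Fintype F] (hF : Fintype.card F = 16) (P : Sylow 2 (Cfsg.PSU 3 F 4)) :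
    (∃ m : ℕ, 2 ≤ m ∧ Nonempty ((S : Subgroup G) ≃* DihedralGroup m)) ∨
      Cfsg.IsQuasiDihedral (S : Subgroup G) ∨ Cfsg.IsWreathed (S : Subgroup G) ∨
      (∃ n : ℕ, 2 ≤ n ∧
        Nonempty ((S : Subgroup G) ≃* Multiplicative (ZMod (2 ^ n) × ZMod (2 ^ n)))) ∨
      Nonempty ((S : Subgroup G) ≃* (P : Subgroup (Cfsg.PSU 3 F 4))) := by
  haveI : Fact (Nat.Prime 2) := ⟨Nat.prime_two⟩
  have hrank1 : PRankAtLeast 2 2 (S : Subgroup G) :=
    rankAtLeast_of_not_le (sylow_not_prankLE h1 S)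
  have hrank2 : ¬ PRankAtLeast 2 3 (S : Subgroup G) := by
    rintro ⟨A, hA, hexp, hcard⟩
    have h := CfsgLib.Invol.prankLE_of_injective (S : Subgroup G).subtype
      Subtype.val_injective h2 A hA hexp
    have := hcard.trans h
    norm_num at this
  rcases Cfsg.Agent.S5213.result S.isPGroup' _ (CfsgLib.Fusion.group_isSaturated S)
    ⟨hrank1, hrank2⟩ (groupFusion_center_eq_bot S hiso) hF with
    ⟨m, ⟨e⟩⟩ | h | h | ⟨n, k, ⟨e⟩⟩ | ⟨T, ⟨e⟩⟩
  · refine Or.inl ⟨m, ?_, ⟨e⟩⟩
    obtain ⟨A, hA, hexp, hcard⟩ := hrank1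
    have hc := hcard.trans (Subgroup.card_le_card_group A)
    rw [Nat.card_congr e.toEquiv, DihedralGroup.nat_card] at hc
    omega
  · exact Or.inr (Or.inl h)
  · exact Or.inr (Or.inr (Or.inl h))
  · obtain ⟨hn, rfl⟩ := homocyclic_rank_two e ⟨hrank1, hrank2⟩
    let f : (Fin 2 → ZMod (2 ^ n)) ≃+ (ZMod (2 ^ n) × ZMod (2 ^ n)) :=
      { toFun := fun v => (v 0, v 1)
        invFun := fun p => ![p.1, p.2]
        left_inv := fun v => by ext i; fin_cases i <;> rfl
        right_inv := fun p => rfl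
        map_add' := fun p q => rfl }
    let g := e.trans (AddEquiv.toMultiplicative f)
    rcases eq_or_lt_of_le hn with rfl | hn2
    · haveI : IsKleinFour (S : Subgroup G) :=
        { card_four := by
            rw [Nat.card_congr g.toEquiv, Nat.card_congr Multiplicative.toAdd, Nat.card_prod,
              Nat.card_zmod]
            rfl
          exponent_two := by
            rw [Monoid.exponent_eq_of_mulEquiv g]
            refine Monoid.exponent_eq_prime_iff (G := Multiplicative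
              (ZMod (2 ^ 1) × ZMod (2 ^ 1))) Nat.prime_two |>.2 fun x hx => ?_
            refine orderOf_eq_prime (Multiplicative.toAdd.injective ?_) hx
            rw [toAdd_pow, toAdd_one, two_nsmul]
            show (x.toAdd.1 + x.toAdd.1, x.toAdd.2 + x.toAdd.2) = 0
            have h0 : ∀ a : ZMod (2 ^ 1), a + a = 0 := by decide +revert
            simp [h0] }
      exact Or.inl ⟨2, le_rfl, IsKleinFour.nonempty_mulEquiv⟩
    · exact Or.inr (Or.inr (Or.inr (Or.inl ⟨n, hn2, ⟨g⟩⟩)))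
  · exact Or.inr (Or.inr (Or.inr (Or.inr ⟨e.trans (T.equiv P)⟩)))

end CfsgLib.InvChar
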