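import Cfsg.Agent.Lib.InvChar.HallJankoClasses
import Cfsg.Agent.Lib.InvChar.RankTwoSylow
import Cfsg.Agent.Lib.InvChar.SimpleInvol
import Cfsg.Agent.Lib.Invol.PSUThreeFour

/-!
# The centraliser of an involution of J₃ type has involutions outside `Q`

Otherwise the group has 2-rank two, and no Sylow 2-subgroup of that kind contains `2^{1+4}` together
with an element of order five acting on it.
-/

set_option autoImplicit false

namespace CfsgLib.InvChar.HJType

open CfsgLib.Invol Subgroup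

universe u

variable {G : Type u} [Group G] {z : G} {Q : Subgroup G}

namespace Pre

variable (S : Pre z Q)
include S

/-- Five involutions of `Q`, pairwise non-commuting. -/
theorem exists_five_ni [Finite G] :
    ∃ (x : Fin 5 → G) (ψ : ↥(centralizer ({z} : Set G)) →* Equiv.Perm (Fin 5)),
      (∀ i, NI z Q (x i)) ∧ (∀ i j, i ≠ j → x j * x i = x i * x j * z) ∧
      (∀ y, NI z Q y → ∃ i, y = x i ∨ y = x i * z) ∧
      (∀ (h : ↥(centralizer ({z} : Set G))) i, (h : G) * x i * (h : G)⁻¹ = x (ψ h i) ∨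
        (h : G) * x i * (h : G)⁻¹ = x (ψ h i) * z) ∧
      (∀ h, Equiv.Perm.sign (ψ h) = 1) ∧
      (∀ h : ↥(centralizer ({z} : Set G)), ψ h = 1 → (h : G) ∈ Q) := by
  obtain ⟨x, r, ψ, -, hx, hinj, hall, -, hψ, hsgn, hker⟩ := S.exists_action
  obtain ⟨-, -, -, -, hpair, -⟩ := S.exists_five
  refine ⟨x, ψ, hx, fun i j hij => ?_, hall, hψ, hsgn, hker⟩
  refine (S.comm_Q (hx j).1 (hx i).1).resolve_left fun h => hij ?_
  exact hinj i j (hpair _ _ (hx j) (hx i) h)

/-- No abelian subgroup of index at most two in a 2-group containing `Q`. -/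
theorem not_abelian_index_two [Finite G] (A : Subgroup G)
    (hA : ∀ a ∈ A, ∀ b ∈ A, a * b = b * a)
    (hidx : ∀ p ∈ Q, ∀ q ∈ Q, p ∉ A → q ∉ A → p * q ∈ A) : False := by
  classical
  obtain ⟨x, -, hx, hne, -, -, -, -⟩ := S.exists_five_ni
  have hnc : ∀ i j, i ≠ j → x i * x j ≠ x j * x i := by
    intro i j hij h
    have h2 := hne i j hij
    rw [← h] at h2
    exact S.zne (mul_eq_left.1 h2.symm)
  have hout : ∃ a b c : Fin 5, a ≠ b ∧ a ≠ c ∧ b ≠ c ∧ x a ∉ A ∧ x b ∉ A ∧ x c ∉ A := by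
    by_cases h : ∃ i, x i ∈ A
    · obtain ⟨i, hi⟩ := h
      have : ∀ j, j ≠ i → x j ∉ A := fun j hj hj' => hnc j i hj (hA _ hj' _ hi)
      obtain ⟨a, b, c, h1, h2, h3, h4, h5, h6⟩ :=
        (by decide : ∀ i : Fin 5, ∃ a b c : Fin 5, a ≠ b ∧ a ≠ c ∧ b ≠ c ∧ a ≠ i ∧ b ≠ i ∧ c ≠ i) i
      exact ⟨a, b, c, h1, h2, h3, this a h4, this b h5, this c h6⟩
    · push Not at h
      exact ⟨0, 1, 2, by decide, by decide, by decide, h 0, h 1, h 2⟩
  obtain ⟨a, b, c, hab, hac, hbc, ha, hb, hc⟩ := hout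
  have h1 := hidx _ (hx a).1 _ (hx b).1 ha hb
  have h2 := hidx _ (hx a).1 _ (hx c).1 ha hc
  have h := hA _ h1 _ h2
  have za : z * x a = x a * z := (S.commZQ (hx a).1).symm
  have zb : z * x b = x b * z := (S.commZQ (hx b).1).symm
  have zc : z * x c = x c * z := (S.commZQ (hx c).1).symm
  have sw : ∀ {p q : G}, p * q = q * p * z → ∀ t, p * (q * t) = q * (p * (z * t)) := by
    intro p q h t; rw [← mul_assoc, h]; group
  have sz : ∀ {q : G}, z * q = q * z → ∀ t, z * (q * t) = q * (z * t) := by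
    intro q h t; rw [← mul_assoc, h]; group
  have sq : ∀ {q : G}, q * q = 1 → ∀ t, q * (q * t) = t := by
    intro q h t; rw [← mul_assoc, h, one_mul]
  simp [mul_assoc, sw (hne a b hab), sw (hne a c hac), sw (hne b c hbc), sz za, sz zb, sz zc,
    sq (hx a).2.1, sq S.zz, hne b c hbc, hne a c hac, hne a b hab, za, zb, zc, S.zz] at h
  exact S.zne h

/-- A group with an element generating a subgroup of index two gives such an abelian subgroup. -/
theorem not_cyclic_index_two [Finite G] {T : Subgroup G} (hQT : Q ≤ T) {x : ↥T}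
    (hx : (zpowers x).index ≤ 2) : False := by
  refine S.not_abelian_index_two ((zpowers x).map T.subtype) ?_ ?_
  · rintro _ ⟨a, ha, rfl⟩ _ ⟨b, hb, rfl⟩
    obtain ⟨i, rfl⟩ := mem_zpowers_iff.1 ha
    obtain ⟨j, rfl⟩ := mem_zpowers_iff.1 hb
    rw [← map_mul, ← map_mul, (Commute.zpow_zpow (Commute.refl x) i j).eq]
  · intro p hp q hq hpA hqA
    have h' : ∀ r (hr : r ∈ Q), r ∉ (zpowers x).map T.subtype → (⟨r, hQT hr⟩ : ↥T) ∉ zpowers x :=
      fun r hr h e => h ⟨_, e, rfl⟩
    have hidx : (zpowers x).index = 2 := by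
      refine le_antisymm hx ?_
      by_contra hlt
      have h1 : (zpowers x).index = 1 := by
        have := (zpowers x).index_ne_zero_of_finite; omega
      exact h' p hp hpA (by rw [index_eq_one.1 h1]; exact mem_top _)
    exact ⟨_, (mul_mem_iff_of_index_two hidx).2 (iff_of_false (h' p hp hpA) (h' q hq hqA)), rfl⟩

/-- **There is an involution of `H` outside `Q`.** -/
theorem exists_outer_of_one_class [Finite G] [IsSimpleGroup G] (hnc : ¬ IsMulCommutative G)
    (hone : ∀ x y : G, orderOf x = 2 → orderOf y = 2 → IsConj x y) :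
    ∃ a, Outer z Q a := by
  classical
  haveI : Fact (Nat.Prime 2) := ⟨Nat.prime_two⟩
  by_contra hno
  push Not at hno
  have hin : ∀ u ∈ centralizer ({z} : Set G), u * u = 1 → u ∈ Q := fun u hu huu =>
    by_contra fun h => hno u ⟨hu, huu, h⟩
  obtain ⟨-, -, -, -, hpair, -⟩ := S.exists_five
  have h2 : Cfsg.PRankLE 2 2 G := by
    intro A hA hexp
    by_contra hlt
    push Not at hlt
    obtain ⟨⟨u, huA⟩, hu1⟩ : ∃ u : ↥A, u ≠ 1 := by
      haveI : Nontrivial ↥A := Finite.one_lt_card_iff_nontrivial.1 (by omega)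
      exact exists_ne 1
    have hu2 : orderOf u = 2 := orderOf_eq_prime (hexp u huA) fun e => hu1 (Subtype.ext e)
    obtain ⟨g, hg⟩ := isConj_iff.1 (hone u z hu2 S.hz)
    set B := A.map (MulAut.conj g).toMonoidHom with hB
    have hzB : z ∈ B := ⟨u, huA, hg⟩
    have hBH : ∀ b ∈ B, b ∈ centralizer ({z} : Set G) ∧ b * b = 1 := by
      rintro _ ⟨a, ha, rfl⟩
      refine ⟨mem_centralizer_singleton_iff.2 ?_, ?_⟩
      · rw [← hg]
        show MulAut.conj g a * MulAut.conj g u = MulAut.conj g u * MulAut.conj g a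
        have hau : a * u = u * a := congrArg Subtype.val (hA.is_comm.comm ⟨a, ha⟩ ⟨u, huA⟩)
        rw [← map_mul, ← map_mul, hau]
      · show MulAut.conj g a * MulAut.conj g a = 1
        rw [← map_mul, ← pow_two, hexp a ha, map_one]
    haveI : Fintype ↥B := Fintype.ofFinite _
    have hB5 : 4 < Fintype.card ↥B := by
      rw [← Nat.card_eq_fintype_card, hB, card_map_of_injective (MulAut.conj g).injective]
      simpa using hlt
    obtain ⟨b, -, hb⟩ := Finset.exists_mem_notMem_of_card_lt_card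
      (s := ({1, ⟨z, hzB⟩} : Finset ↥B)) (t := Finset.univ)
      (by rw [Finset.card_univ]; exact lt_of_le_of_lt Finset.card_le_two (by omega))
    have hbNI : ∀ c : ↥B, c ≠ 1 → c ≠ ⟨z, hzB⟩ → NI z Q c := fun c h1 h2 =>
      ⟨hin _ (hBH _ c.2).1 (hBH _ c.2).2, (hBH _ c.2).2, fun e => h1 (Subtype.ext e),
        fun e => h2 (Subtype.ext e)⟩
    rw [Finset.mem_insert, Finset.mem_singleton, not_or] at hb
    obtain ⟨c, -, hc⟩ := Finset.exists_mem_notMem_of_card_lt_card
      (s := ({1, ⟨z, hzB⟩, b, b * ⟨z, hzB⟩} : Finset ↥B)) (t := Finset.univ)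
      (by rw [Finset.card_univ]; exact lt_of_le_of_lt Finset.card_le_four hB5)
    simp only [Finset.mem_insert, Finset.mem_singleton, not_or] at hc
    have hcomm : (b : G) * c = c * b := by
      obtain ⟨a₁, ha₁, e₁⟩ := b.2
      obtain ⟨a₂, ha₂, e₂⟩ := c.2
      have h12 : a₁ * a₂ = a₂ * a₁ := congrArg Subtype.val (hA.is_comm.comm ⟨a₁, ha₁⟩ ⟨a₂, ha₂⟩)
      rw [← e₁, ← e₂, ← map_mul, ← map_mul, h12]
    rcases hpair _ _ (hbNI b hb.1 hb.2) (hbNI c hc.1 hc.2.1) hcomm with e | e
    · exact hc.2.2.1 (Subtype.ext e)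
    · exact hc.2.2.2 (Subtype.ext e)
  have h1 : ¬ Cfsg.PRankLE 2 1 G := by
    intro h
    obtain ⟨x, -, hx, -, -, -, -, -⟩ := S.exists_five_ni
    have hcom : x 0 * z = z * x 0 := S.commZQ (hx 0).1
    let W : Subgroup G :=
      { carrier := {q | q = 1 ∨ q = z ∨ q = x 0 ∨ q = x 0 * z}
        one_mem' := Or.inl rfl
        mul_mem' := by
          have e1 : z * x 0 = x 0 * z := hcom.symm
          have e2 : ∀ t, x 0 * (x 0 * t) = t := fun t => by rw [← mul_assoc, (hx 0).2.1, one_mul]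
          have e3 : ∀ t, z * (x 0 * t) = x 0 * (z * t) := fun t => by rw [← mul_assoc, e1, mul_assoc]
          rintro p q (rfl | rfl | rfl | rfl) (rfl | rfl | rfl | rfl) <;>
            simp [mul_assoc, S.zz, (hx 0).2.1, e1, e2, e3]
        inv_mem' := by
          rintro p (rfl | rfl | rfl | rfl)
          · simp
          · exact Or.inr (Or.inl S.zInv)
          · exact Or.inr (Or.inr (Or.inl (inv_eq_of_mul_eq_one_right (hx 0).2.1)))
          · refine Or.inr (Or.inr (Or.inr ?_))
            rw [mul_inv_rev, S.zInv, inv_eq_of_mul_eq_one_right (hx 0).2.1, hcom] }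
    have hW : IsMulCommutative W := by
      refine ⟨⟨fun a b => Subtype.ext ?_⟩⟩
      show (a : G) * b = b * a
      have e : ∀ q ∈ W, q * q = 1 := by
        rintro q (rfl | rfl | rfl | rfl)
        · simp
        · exact S.zz
        · exact (hx 0).2.1
        · exact (S.ni_mul_z (hx 0)).2.1
      have h3 := inv_eq_of_mul_eq_one_right (e _ (mul_mem a.2 b.2))
      rw [mul_inv_rev, inv_eq_of_mul_eq_one_right (e _ a.2), inv_eq_of_mul_eq_one_right (e _ b.2)] at h3
      exact h3.symm
    have hexp : ∀ a ∈ W, a ^ 2 = 1 := by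
      rintro q (rfl | rfl | rfl | rfl) <;> rw [pow_two]
      · simp
      · exact S.zz
      · exact (hx 0).2.1
      · exact (S.ni_mul_z (hx 0)).2.1
    have hle := h W hW hexp
    haveI : Fintype ↥W := Fintype.ofFinite _
    have : ({1, ⟨z, Or.inr (Or.inl rfl)⟩, ⟨x 0, Or.inr (Or.inr (Or.inl rfl))⟩} : Finset ↥W).card = 3 := by
      refine Finset.card_eq_three.2 ⟨_, _, _, ?_, ?_, ?_, rfl⟩ <;> intro e <;>
        have e' := congrArg Subtype.val e
      · exact S.zne e'.symm
      · exact (hx 0).2.2.1 e'.symm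
      · exact (hx 0).2.2.2 e'.symm
    have h3 := Finset.card_le_univ
      ({1, ⟨z, Or.inr (Or.inl rfl)⟩, ⟨x 0, Or.inr (Or.inr (Or.inl rfl))⟩} : Finset ↥W)
    rw [this, Fintype.card_eq_nat_card] at h3
    rw [pow_one] at hle
    omega
  -- a Sylow subgroup containing `Q`
  have hQp : IsPGroup 2 ↥Q := IsPGroup.of_card (n := 5) (by rw [S.hQc]; norm_num)
  obtain ⟨T, hQT⟩ := hQp.exists_le_sylow
  have hT : 128 ≤ Nat.card ↥(T : Subgroup G) := by
    have hd : 2 ^ 7 ∣ Nat.card G := dvd_trans (by rw [S.card_H]; norm_num)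
      (card_subgroup_dvd_card (centralizer ({z} : Set G)))
    have := T.pow_dvd_card_of_pow_dvd_card hd
    simpa using Nat.le_of_dvd Nat.card_pos this
  let F := GaloisField 2 4
  letI : Fintype F := Fintype.ofFinite F
  have hF : Fintype.card F = 16 := by
    rw [← Nat.card_eq_fintype_card, GaloisField.card 2 4 (by norm_num)]; norm_num
  obtain ⟨P⟩ : Nonempty (Sylow 2 (Cfsg.PSU 3 F 4)) := inferInstance
  rcases CfsgLib.InvChar.sylow_type_of_rank_two h2 h1
      (fun u => not_isolated_of_simple hnc) T hF P with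
    ⟨m, hm, ⟨e⟩⟩ | ⟨n, hn, hc, x, y, hxo, -, -⟩ | ⟨n, hn, hc, x, y, w, hxo, hxy, hdis, hwo, hwx⟩ |
      ⟨n, hn, ⟨e⟩⟩ | e
  · refine S.not_cyclic_index_two hQT (x := e.symm (DihedralGroup.r 1)) ?_
    have h := (zpowers (e.symm (DihedralGroup.r (1 : ZMod m)))).card_mul_index
    rw [Nat.card_zpowers, MulEquiv.orderOf_eq, DihedralGroup.orderOf_r_one,
      Nat.card_congr e.toEquiv, DihedralGroup.nat_card] at h
    nlinarith
  · refine S.not_cyclic_index_two hQT (x := x) ?_
    have h := (zpowers x).card_mul_index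
    rw [Nat.card_zpowers, hxo, hc, pow_succ] at h
    exact (Nat.eq_of_mul_eq_mul_left (by positivity) h).le
  · let A : Subgroup ↥(T : Subgroup G) := zpowers x ⊔ zpowers y
    have hyo : orderOf y = 2 ^ n := by
      rw [← hwx, orderOf_conj_eq, hxo]
    have hAc : ∀ a ∈ A, ∀ b ∈ A, a * b = b * a := by
      have hle : A ≤ centralizer (A : Set ↥(T : Subgroup G)) := by
        have hg : A = closure {x, y} := by
          simp only [A, zpowers_eq_closure, ← Subgroup.closure_union, Set.singleton_union]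
        rw [hg, closure_le]
        intro a ha
        rw [SetLike.mem_coe, centralizer_closure]
        intro b hb
        rcases ha with rfl | rfl <;> rcases hb with rfl | rfl <;>
          first | rfl | exact hxy | exact hxy.symm
      intro a ha b hb
      exact (mem_centralizer_iff.1 (hle ha) b hb).symm
    have hcard : 2 ^ n * 2 ^ n ≤ Nat.card ↥A := by
      have hinj : Function.Injective fun p : ↥(zpowers x) × ↥(zpowers y) =>
          (⟨(p.1 : ↥(T : Subgroup G)) * p.2,
            mul_mem (mem_sup_left p.1.2) (mem_sup_right p.2.2)⟩ : ↥A) :=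
        fun p q h => Subgroup.mul_injective_of_disjoint (disjoint_iff.2 hdis) (congrArg Subtype.val h)
      have := Nat.card_le_card_of_injective _ hinj
      rwa [Nat.card_prod, Nat.card_zpowers, Nat.card_zpowers, hxo, hyo] at this
    refine S.not_abelian_index_two (A.map (T : Subgroup G).subtype) ?_ ?_
    · rintro _ ⟨a, ha, rfl⟩ _ ⟨b, hb, rfl⟩
      rw [← map_mul, ← map_mul, hAc a ha b hb]
    · intro p hp q hq hpA hqA
      have hm := A.card_mul_index
      rw [hc] at hm
      have hidx : A.index = 2 := by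
        refine le_antisymm ?_ ?_
        · by_contra hlt
          push Not at hlt
          have : 2 ^ n * 2 ^ n * 3 ≤ 2 ^ (2 * n + 1) := hm ▸ Nat.mul_le_mul hcard hlt
          rw [pow_succ, two_mul, pow_add] at this
          have : 0 < 2 ^ n * 2 ^ n := by positivity
          omega
        · by_contra hlt
          have h1 : A.index = 1 := by have := A.index_ne_zero_of_finite; omega
          exact hpA ⟨⟨p, hQT hp⟩, by rw [index_eq_one.1 h1]; exact mem_top _, rfl⟩
      exact ⟨⟨p, hQT hp⟩ * ⟨q, hQT hq⟩, (mul_mem_iff_of_index_two hidx).2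
        (iff_of_false (fun h => hpA ⟨_, h, rfl⟩) (fun h => hqA ⟨_, h, rfl⟩)), rfl⟩
  · refine S.not_abelian_index_two (T : Subgroup G) ?_ fun p hp q hq _ _ =>
      mul_mem (hQT hp) (hQT hq)
    intro a ha b hb
    have : (⟨a, ha⟩ : ↥(T : Subgroup G)) * ⟨b, hb⟩ = ⟨b, hb⟩ * ⟨a, ha⟩ :=
      e.injective (by rw [map_mul, map_mul, mul_comm])
    exact congrArg Subtype.val this
  · obtain ⟨e⟩ := e
    obtain ⟨e'⟩ := CfsgLib.Invol.UU.sylow_equiv hF P
    rw [Nat.card_congr (e.trans e').toEquiv, CfsgLib.Invol.UU.card_eq] at hT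
    norm_num at hT

end Pre

end CfsgLib.InvChar.HJType
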