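import Cfsg.Agent.Lib.InvChar.HallJankoSetup
import Cfsg.Agent.Lib.InvChar.HallJankoFusion
import Cfsg.Agent.Lib.InvChar.HallJankoRecognition
import Cfsg.Prelude.Def_SporadicB

/-!
Janko's two groups: a normal extraspecial subgroup `E` of order 32 with quotient of type
alternating of degree five in the centraliser of an involution of a simple group contains its own
centraliser, and unless all involutions are conjugate the group is that of Hall and Janko.
-/

set_option autoImplicit false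

namespace CfsgLib.InvChar.J3Rec

open CfsgLib.Invol Subgroup CfsgLib.InvChar.HJType

universe u

local notation "A5" => alternatingGroup (Fin 5)

theorem a5_center : ∀ a : A5, (∀ b : A5, a * b = b * a) → a = 1 := by decide +kernel

/-- A subgroup of 2-power order of the alternating group of degree five is commutative. -/
theorem a5_two_comm {H : Subgroup A5} (hH : IsPGroup 2 H) {a b : A5} (ha : a ∈ H) (hb : b ∈ H) :
    a * b = b * a := by
  haveI : Fact (Nat.Prime 2) := ⟨Nat.prime_two⟩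
  obtain ⟨n, hn⟩ := hH.exists_card_eq
  have hd : 2 ^ n ∣ 60 := by
    have h := Subgroup.card_subgroup_dvd_card H
    rwa [hn, nat_card_alternatingGroup, Nat.card_fin] at h
  have hn3 : n < 3 := by
    by_contra hc
    have h8 : 2 ^ 3 ∣ 60 := (pow_dvd_pow 2 (by omega)).trans hd
    norm_num at h8
  have key : ∀ a b : H, a * b = b * a := by
    obtain rfl | rfl | rfl : n = 0 ∨ n = 1 ∨ n = 2 := by omega
    · haveI : Subsingleton H := (Nat.card_eq_one_iff_unique.1 (by rw [hn]; rfl)).1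
      exact fun a b => Subsingleton.elim _ _
    · haveI : IsCyclic H := isCyclic_of_prime_card (p := 2) (by rw [hn]; rfl)
      letI := IsCyclic.commGroup (α := H)
      exact fun a b => mul_comm a b
    · letI := IsPGroup.commGroupOfCardEqPrimeSq (p := 2) (G := H) hn
      exact fun a b => mul_comm a b
  exact congrArg Subtype.val (key ⟨a, ha⟩ ⟨b, hb⟩)

variable {G : Type u} [Group G] [Finite G]

/-- The data on the centraliser of the involution for a simple group. -/
theorem pre_of_type [IsSimpleGroup G] (t : G) (ht : orderOf t = 2)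
    (E : Subgroup (Subgroup.centralizer ({t} : Set G))) [E.Normal] (hE : Nat.card E = 32)
    (hX : Cfsg.IsExtraspecial 2 E)
    (e : (Subgroup.centralizer ({t} : Set G)) ⧸ E ≃* alternatingGroup (Fin 5)) :
    Pre t (E.map (centralizer ({t} : Set G)).subtype) := by
  classical
  set Q := E.map (centralizer ({t} : Set G)).subtype with hQdef
  let π : ↥(centralizer ({t} : Set G)) →* A5 := e.toMonoidHom.comp (QuotientGroup.mk' E)
  have hπ : Function.Surjective π := e.surjective.comp (QuotientGroup.mk'_surjective E)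
  have hker : ∀ c : ↥(centralizer ({t} : Set G)), π c = 1 ↔ (c : G) ∈ Q := fun c => by
    show e (QuotientGroup.mk' E c) = 1 ↔ _
    rw [map_eq_one_iff _ e.injective, QuotientGroup.mk'_apply, QuotientGroup.eq_one_iff]
    exact (mem_map_iff_mem (centralizer ({t} : Set G)).subtype_injective).symm
  have hQC : Q ≤ (centralizer ({t} : Set G)) := map_subtype_le _
  have hnorm : ∀ h ∈ (centralizer ({t} : Set G)), ∀ q ∈ Q, h * q * h⁻¹ ∈ Q := by
    rintro h hh _ ⟨q, hq, rfl⟩
    exact ⟨⟨h, hh⟩ * q * ⟨h, hh⟩⁻¹, Normal.conj_mem inferInstance q hq _, rfl⟩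
  have htC : t ∈ (centralizer ({t} : Set G)) := mem_centralizer_singleton_iff.2 rfl
  have htQ : t ∈ Q := (hker ⟨t, htC⟩).1 (a5_center _ fun b => by
    obtain ⟨c, rfl⟩ := hπ b
    rw [← map_mul, ← map_mul]
    exact congrArg π (Subtype.ext (mem_centralizer_singleton_iff.1 c.2).symm))
  have hes : Cfsg.IsExtraspecial 2 ↥Q :=
    extraspecial_of_equiv (E.equivMapOfInjective (centralizer ({t} : Set G)).subtype (centralizer ({t} : Set G)).subtype_injective) hX
  have hQc : Nat.card ↥Q = 32 := by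
    rw [← Nat.card_congr (E.equivMapOfInjective (centralizer ({t} : Set G)).subtype (centralizer ({t} : Set G)).subtype_injective).toEquiv, hE]
  have hquot : ∃ π' : ↥(centralizer ({t} : Set G)) →* A5, Function.Surjective π' ∧ π'.ker = Q.subgroupOf (centralizer ({t} : Set G)) := by
    refine ⟨π, hπ, ?_⟩
    ext c
    rw [MonoidHom.mem_ker, mem_subgroupOf]
    exact hker c
  by_cases hC : centralizer (Q : Set G) ≤ Q
  · exact ⟨ht, hQC, hnorm, htQ, hes, hQc, hC, hquot⟩
  exfalso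
  -- otherwise the centraliser of `Q` covers the quotient
  have hcq : ∀ q ∈ Q, q * t = t * q := fun q hq => mem_centralizer_singleton_iff.1 (hQC hq)
  have hzc : (⟨t, htQ⟩ : ↥Q) ∈ center ↥Q :=
    mem_center_iff.2 fun b => Subtype.ext (hcq b b.2)
  have hcen : ∀ q ∈ Q, (∀ p ∈ Q, p * q = q * p) → q = 1 ∨ q = t := by
    intro q hq h
    by_cases h1 : q = 1
    · exact Or.inl h1
    · exact Or.inr (congrArg Subtype.val (CfsgLib.Transfer.es_two_central_eq hes
        (mem_center_iff.2 fun p : ↥Q => Subtype.ext (h p p.2)) hzc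
        (fun e' => h1 (congrArg Subtype.val (e' : (⟨q, hq⟩ : ↥Q) = 1)))
        fun e' => invol_ne_one ht (congrArg Subtype.val e')))
  have hcomm : ∀ p ∈ Q, ∀ q ∈ Q, p * q = q * p ∨ p * q = q * p * t := by
    intro p hp q hq
    have hc : (⟨p, hp⟩ : ↥Q)⁻¹ * ⟨q, hq⟩⁻¹ * ⟨p, hp⟩ * ⟨q, hq⟩ ∈ center ↥Q := by
      rw [← hes.1.2.2]
      have h' := Subgroup.commutator_mem_commutator (H₁ := (⊤ : Subgroup ↥Q)) (H₂ := ⊤)
        (mem_top (⟨p, hp⟩ : ↥Q)⁻¹) (mem_top (⟨q, hq⟩ : ↥Q)⁻¹)
      rw [commutatorElement_def, inv_inv, inv_inv] at h'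
      exact h'
    rcases hcen (p⁻¹ * q⁻¹ * p * q)
      (mul_mem (mul_mem (mul_mem (inv_mem hp) (inv_mem hq)) hp) hq)
      (fun r hr => congrArg Subtype.val (mem_center_iff.1 hc ⟨r, hr⟩)) with h | h
    · exact Or.inl (by
        calc p * q = q * p * (p⁻¹ * q⁻¹ * p * q) := by group
          _ = q * p := by rw [h, mul_one])
    · exact Or.inr (by
        calc p * q = q * p * (p⁻¹ * q⁻¹ * p * q) := by group
          _ = q * p * t := by rw [h])
  set K := centralizer (Q : Set G) with hK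
  have hKC : K ≤ (centralizer ({t} : Set G)) := fun k hk =>
    mem_centralizer_singleton_iff.2 (mem_centralizer_iff.1 hk t htQ).symm
  have hKn : (K.subgroupOf (centralizer ({t} : Set G))).Normal := ⟨fun k hk c => by
    rw [mem_subgroupOf] at hk ⊢
    refine mem_centralizer_iff.2 fun q hq => ?_
    have h1 := mem_centralizer_iff.1 hk _ (hnorm (c : G)⁻¹ (inv_mem c.2) q hq)
    calc q * ((c : G) * k * (c : G)⁻¹) = c * ((c : G)⁻¹ * q * (c : G)⁻¹⁻¹ * k) * (c : G)⁻¹ := by group
      _ = c * (k * ((c : G)⁻¹ * q * (c : G)⁻¹⁻¹)) * (c : G)⁻¹ := by rw [h1]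
      _ = (c : G) * k * (c : G)⁻¹ * q := by group⟩
  have hsurj : ∀ c : ↥(centralizer ({t} : Set G)), ∃ k : ↥(centralizer ({t} : Set G)), (k : G) ∈ K ∧ π k = π c := by
    intro c
    have hn := hKn.map π hπ
    haveI : IsSimpleGroup A5 := alternatingGroup.isSimpleGroup_five
    have htop : (K.subgroupOf (centralizer ({t} : Set G))).map π = ⊤ := hn.eq_bot_or_eq_top.resolve_left fun h => hC fun k hk => by
      have h1 : π ⟨k, hKC hk⟩ ∈ (⊥ : Subgroup A5) := h ▸ ⟨_, mem_subgroupOf.2 hk, rfl⟩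
      exact (hker _).1 (mem_bot.1 h1)
    obtain ⟨k, hk, hkc⟩ := (htop ▸ mem_top (π c) : π c ∈ (K.subgroupOf (centralizer ({t} : Set G))).map π)
    exact ⟨k, mem_subgroupOf.1 hk, hkc⟩
  have hdec : ∀ c ∈ (centralizer ({t} : Set G)), ∃ q ∈ Q, ∃ k ∈ K, c = q * k := by
    intro c hc
    obtain ⟨k, hk, hkc⟩ := hsurj ⟨c, hc⟩
    refine ⟨c * (k : G)⁻¹, ?_, k, hk, by group⟩
    have : π (⟨c, hc⟩ * k⁻¹) = 1 := by rw [map_mul, map_inv, hkc, mul_inv_cancel]
    exact (hker _).1 this
  refine not_isolated_of_simple (z := t) ?_ ⟨ht, fun g hg => ?_⟩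
  · intro h
    have hc : Nat.card ↥(center ↥Q) = 32 := by
      have ht' : center ↥Q = ⊤ := eq_top_iff.2 fun q _ =>
        mem_center_iff.2 fun p => Subtype.ext (h.is_comm.comm (p : G) (q : G))
      rw [ht', card_top, hQc]
    rw [hes.2] at hc
    norm_num at hc
  by_contra hne
  set u := g * t * g⁻¹ with hu
  have huC : u ∈ (centralizer ({t} : Set G)) := mem_centralizer_singleton_iff.2 hg.eq.symm
  obtain ⟨q0, hq0, k0, hk0, huqk⟩ := hdec u huC
  have hcu : ∀ q ∈ Q, q * q0 = q0 * q → q * u = u * q := by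
    intro q hq h
    have h' := mem_centralizer_iff.1 hk0 q hq
    rw [huqk, ← mul_assoc, h, mul_assoc, h', mul_assoc]
  obtain ⟨e1, he1, e2, he2, hc1, hc2, hne12⟩ :
      ∃ e1 ∈ Q, ∃ e2 ∈ Q, e1 * q0 = q0 * e1 ∧ e2 * q0 = q0 * e2 ∧ e1 * e2 ≠ e2 * e1 := by
    by_contra hcon
    push Not at hcon
    obtain ⟨b, hb, hbs⟩ : ∃ b ∈ Q, ∀ c ∈ Q, c * q0 = q0 * c ∨ (b⁻¹ * c) * q0 = q0 * (b⁻¹ * c) := by
      by_cases hq0c : ∃ b ∈ Q, b * q0 ≠ q0 * b
      · obtain ⟨b, hb, hb'⟩ := hq0c
        refine ⟨b, hb, fun c hc => or_iff_not_imp_left.2 fun hc' => ?_⟩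
        have h1 := (hcomm b hb q0 hq0).resolve_left hb'
        have h2 := (hcomm c hc q0 hq0).resolve_left hc'
        have e3 : b⁻¹ * q0 = q0 * t * b⁻¹ := by
          rw [inv_mul_eq_iff_eq_mul, show b * (q0 * t * b⁻¹) = b * q0 * t * b⁻¹ by group, h1,
            mul_assoc (q0 * b), invol_mul_self ht]
          group
        calc b⁻¹ * c * q0 = b⁻¹ * (c * q0) := mul_assoc _ _ _
          _ = b⁻¹ * (q0 * (c * t)) := by rw [h2, mul_assoc]
          _ = (b⁻¹ * q0) * (c * t) := (mul_assoc _ _ _).symm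
          _ = q0 * t * (b⁻¹ * (c * t)) := by rw [e3, mul_assoc]
          _ = q0 * (t * (b⁻¹ * c)) * t := by group
          _ = q0 * ((b⁻¹ * c) * t) * t := by rw [hcq _ (mul_mem (inv_mem hb) hc)]
          _ = q0 * (b⁻¹ * c) * (t * t) := by group
          _ = q0 * (b⁻¹ * c) := by rw [invol_mul_self ht, mul_one]
      · push Not at hq0c
        exact ⟨1, one_mem _, fun c hc => Or.inl (hq0c c hc)⟩
    -- elements commuting with `q0` and `b` are central
    have hcent : ∀ k ∈ Q, k * q0 = q0 * k → k * b = b * k → k = 1 ∨ k = t := by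
      intro k hk hk0' hkb
      refine hcen k hk fun c hc => ?_
      rcases hbs c hc with h | h
      · exact hcon c hc k hk h hk0'
      · have h' := hcon _ (mul_mem (inv_mem hb) hc) k hk h hk0'
        calc c * k = b * (b⁻¹ * c * k) := by group
          _ = b * (k * (b⁻¹ * c)) := by rw [h']
          _ = (b * k) * (b⁻¹ * c) := by group
          _ = k * b * (b⁻¹ * c) := by rw [hkb]
          _ = k * c := by group
    haveI : Fintype ↥Q := Fintype.ofFinite _
    let φ : ↥Q → Bool × Bool :=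
      fun c => (decide ((c : G) * q0 = q0 * c), decide ((c : G) * b = b * c))
    have hfib : ∀ v : Bool × Bool, (Finset.univ.filter fun c => φ c = v).card ≤ 2 := by
      intro v
      rcases Finset.eq_empty_or_nonempty (Finset.univ.filter fun c => φ c = v) with h | ⟨c0, hc0⟩
      · rw [h]; simp
      refine (Finset.card_le_card (t := {c0, c0 * ⟨t, htQ⟩}) fun c hc => ?_).trans Finset.card_le_two
      have hφ : φ c = φ c0 := ((Finset.mem_filter.1 hc).2).trans (Finset.mem_filter.1 hc0).2.symm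
      simp only [φ, Prod.mk.injEq, decide_eq_decide] at hφ
      have key : ∀ x ∈ Q, ((c : G) * x = x * c ↔ (c0 : G) * x = x * c0) →
          ((c0 : G)⁻¹ * c) * x = x * ((c0 : G)⁻¹ * c) := by
        intro x hx hiff
        by_cases h : (c0 : G) * x = x * c0
        · rw [mul_assoc, hiff.2 h, ← mul_assoc, ← mul_assoc]
          congr 1
          rw [inv_mul_eq_iff_eq_mul, ← mul_assoc, h]
          group
        · have h1 := (hcomm _ c0.2 x hx).resolve_left h
          have h2 := (hcomm _ c.2 x hx).resolve_left fun e' => h (hiff.1 e')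
          rw [mul_assoc, h2, ← mul_assoc, ← mul_assoc]
          have h3 : (c0 : G)⁻¹ * x = x * t * (c0 : G)⁻¹ := by
            rw [inv_mul_eq_iff_eq_mul, show (c0 : G) * (x * t * (c0 : G)⁻¹) =
              (c0 : G) * x * t * (c0 : G)⁻¹ by group, h1, mul_assoc (x * (c0 : G)),
              invol_mul_self ht]
            group
          rw [h3]
          calc x * t * (c0 : G)⁻¹ * c * t = x * (t * ((c0 : G)⁻¹ * c)) * t := by group
            _ = x * (((c0 : G)⁻¹ * c) * t) * t := by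
              rw [hcq _ (mul_mem (inv_mem c0.2) c.2)]
            _ = x * ((c0 : G)⁻¹ * c) * (t * t) := by group
            _ = x * ((c0 : G)⁻¹ * c) := by rw [invol_mul_self ht, mul_one]
      rcases hcent _ (mul_mem (inv_mem c0.2) c.2) (key q0 hq0 hφ.1) (key b hb hφ.2) with h | h
      · exact Finset.mem_insert.2 (Or.inl (Subtype.ext (inv_mul_eq_one.1 h).symm))
      · exact Finset.mem_insert.2 (Or.inr (Finset.mem_singleton.2 (Subtype.ext
          (inv_mul_eq_iff_eq_mul.1 h))))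
    have hcard := Finset.card_le_mul_card_image (f := φ) Finset.univ 2 fun v _ => hfib v
    have h4 := Finset.card_le_univ (Finset.univ.image φ)
    rw [Finset.card_univ, ← Nat.card_eq_fintype_card, hQc] at hcard
    simp only [Fintype.card_prod, Fintype.card_bool] at h4
    omega
  -- conjugate back into the centraliser of `t`
  have hcu1 := hcu e1 he1 hc1
  have hcu2 := hcu e2 he2 hc2
  set X := (Q ⊓ centralizer ({u} : Set G)).map (MulAut.conj g⁻¹).toMonoidHom with hXd
  haveI : Fact (Nat.Prime 2) := ⟨Nat.prime_two⟩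
  have hX2 : IsPGroup 2 X :=
    ((IsPGroup.of_card (p := 2) (n := 5) (G := Q) (by rw [hQc]; rfl)).to_le inf_le_left).map _
  have hXC : X ≤ (centralizer ({t} : Set G)) := by
    rintro _ ⟨x, hx, rfl⟩
    have h := mem_centralizer_singleton_iff.1 (mem_inf.1 hx).2
    refine mem_centralizer_singleton_iff.2 ?_
    rw [MulEquiv.coe_toMonoidHom, MulAut.conj_apply, inv_inv]
    calc g⁻¹ * x * g * t = g⁻¹ * (x * u) * g := by rw [hu]; group
      _ = g⁻¹ * (u * x) * g := by rw [h]
      _ = t * (g⁻¹ * x * g) := by rw [hu]; group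
  have hm : ∀ x ∈ Q, x * u = u * x → g⁻¹ * x * g ∈ X := fun x hx hxu =>
    ⟨x, ⟨hx, mem_centralizer_singleton_iff.2 hxu⟩, by simp⟩
  have hx1 := hm e1 he1 hcu1
  have hx2 := hm e2 he2 hcu2
  obtain ⟨p1, hp1, k1, hk1, e1k⟩ := hdec _ (hXC hx1)
  obtain ⟨p2, hp2, k2, hk2, e2k⟩ := hdec _ (hXC hx2)
  have hab : π ⟨_, hXC hx1⟩ * π ⟨_, hXC hx2⟩ = π ⟨_, hXC hx2⟩ * π ⟨_, hXC hx1⟩ :=
    a5_two_comm ((hX2.comap_of_injective (centralizer ({t} : Set G)).subtype (centralizer ({t} : Set G)).subtype_injective).map π)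
      ⟨_, hx1, rfl⟩ ⟨_, hx2, rfl⟩
  have hπk : ∀ (x : G) (hx : x ∈ (centralizer ({t} : Set G))) (p : G) (hp : p ∈ Q) (k : G) (hk : k ∈ K), x = p * k →
      π ⟨x, hx⟩ = π ⟨k, hKC hk⟩ := by
    intro x hx p hp k hk hxe
    rw [show (⟨x, hx⟩ : ↥(centralizer ({t} : Set G))) = ⟨p, hQC hp⟩ * ⟨k, hKC hk⟩ from Subtype.ext hxe, map_mul,
      (hker _).2 hp, one_mul]
  rw [hπk _ _ p1 hp1 k1 hk1 e1k, hπk _ _ p2 hp2 k2 hk2 e2k] at hab
  have hk12 : (k2 * k1)⁻¹ * (k1 * k2) = 1 ∨ (k2 * k1)⁻¹ * (k1 * k2) = t := by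
    have hmem : (k2 * k1)⁻¹ * (k1 * k2) ∈ K :=
      mul_mem (inv_mem (mul_mem hk2 hk1)) (mul_mem hk1 hk2)
    have hQ' : (k2 * k1)⁻¹ * (k1 * k2) ∈ Q := by
      have h1 : π ((⟨k2, hKC hk2⟩ * ⟨k1, hKC hk1⟩)⁻¹ * (⟨k1, hKC hk1⟩ * ⟨k2, hKC hk2⟩)) = 1 := by
        rw [map_mul, map_inv, map_mul, map_mul, hab, inv_mul_cancel]
      exact (hker _).1 h1
    exact hcen _ hQ' fun p hp => mem_centralizer_iff.1 hmem p hp
  have hxx : (g⁻¹ * e1 * g) * (g⁻¹ * e2 * g) = (g⁻¹ * e2 * g) * (g⁻¹ * e1 * g) ∨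
      (g⁻¹ * e1 * g) * (g⁻¹ * e2 * g) = (g⁻¹ * e2 * g) * (g⁻¹ * e1 * g) * t := by
    rw [e1k, e2k]
    have c1 : k1 * p2 = p2 * k1 := (mem_centralizer_iff.1 hk1 p2 hp2).symm
    have c2 : k2 * p1 = p1 * k2 := (mem_centralizer_iff.1 hk2 p1 hp1).symm
    have ct : k2 * k1 * t = t * (k2 * k1) :=
      mem_centralizer_singleton_iff.1 (hKC (mul_mem hk2 hk1))
    have l : p1 * k1 * (p2 * k2) = p1 * p2 * (k1 * k2) := by
      calc p1 * k1 * (p2 * k2) = p1 * (k1 * p2) * k2 := by group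
        _ = p1 * (p2 * k1) * k2 := by rw [c1]
        _ = _ := by group
    have r : p2 * k2 * (p1 * k1) = p2 * p1 * (k2 * k1) := by
      calc p2 * k2 * (p1 * k1) = p2 * (k2 * p1) * k1 := by group
        _ = p2 * (p1 * k2) * k1 := by rw [c2]
        _ = _ := by group
    rw [l, r]
    rcases hcomm p1 hp1 p2 hp2 with h | h <;> rcases hk12 with h' | h' <;>
      rw [h, inv_mul_eq_iff_eq_mul.1 h']
    · exact Or.inl (by rw [mul_one])
    · exact Or.inr (by group)
    · refine Or.inr ?_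
      rw [mul_one, mul_assoc (p2 * p1) t, ← ct]
      group
    · refine Or.inl ?_
      calc p2 * p1 * t * (k2 * k1 * t) = p2 * p1 * (t * (k2 * k1)) * t := by group
        _ = p2 * p1 * (k2 * k1 * t) * t := by rw [ct]
        _ = p2 * p1 * (k2 * k1) * (t * t) := by group
        _ = _ := by rw [invol_mul_self ht, mul_one]
  have he12 : e1 * e2 = e2 * e1 * u := by
    rcases hxx with h | h
    · refine absurd ?_ hne12
      calc e1 * e2 = g * ((g⁻¹ * e1 * g) * (g⁻¹ * e2 * g)) * g⁻¹ := by group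
        _ = g * ((g⁻¹ * e2 * g) * (g⁻¹ * e1 * g)) * g⁻¹ := by rw [h]
        _ = e2 * e1 := by group
    · calc e1 * e2 = g * ((g⁻¹ * e1 * g) * (g⁻¹ * e2 * g)) * g⁻¹ := by group
        _ = g * ((g⁻¹ * e2 * g) * (g⁻¹ * e1 * g) * t) * g⁻¹ := by rw [h]
        _ = e2 * e1 * u := by rw [hu]; group
  exact hne (mul_left_cancel
    (he12.symm.trans ((hcomm e1 he1 e2 he2).resolve_left hne12)))

/-- The same from a 2-central involution. -/
theorem pre_of_two_central [IsSimpleGroup G] (t : G) (ht : Cfsg.IsTwoCentralInvolution t)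
    (E : Subgroup (Subgroup.centralizer ({t} : Set G))) [E.Normal] (hE : Nat.card E = 32)
    (hX : Cfsg.IsExtraspecial 2 E)
    (e : (Subgroup.centralizer ({t} : Set G)) ⧸ E ≃* alternatingGroup (Fin 5)) :
    Pre t (E.map (centralizer ({t} : Set G)).subtype) :=
  pre_of_type t ht.1 E hE hX e

variable {z : G} {Q : Subgroup G}

/-- In a simple group the involution is not weakly closed in `Q`. -/
theorem fus_of_pre [IsSimpleGroup G] (S : Pre z Q) :
    ∃ g : G, g * z * g⁻¹ ∈ Q ∧ g * z * g⁻¹ ≠ z := by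
  by_contra hno
  push Not at hno
  have hQz : ∀ q ∈ Q, IsConj z q → q = z := by
    intro q hq hc
    obtain ⟨g, rfl⟩ := isConj_iff.1 hc
    exact hno g hq
  obtain ⟨g₀, hg₀⟩ : ∃ g : G, Commute z (g * z * g⁻¹) ∧ g * z * g⁻¹ ≠ z := by
    by_contra h
    push Not at h
    exact not_isolated_of_simple S.not_comm (z := z) ⟨S.hz, h⟩
  set a := g₀ * z * g₀⁻¹ with ha
  have ha2 : orderOf a = 2 := by rw [ha, orderOf_conj_eq]; exact S.hz
  have hza : IsConj z a := isConj_iff.2 ⟨g₀, rfl⟩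
  have hA : Outer z Q a := ⟨mem_centralizer_singleton_iff.2 hg₀.1.eq.symm, invol_mul_self ha2,
    fun h => hg₀.2 (hQz a h hza)⟩
  obtain ⟨x, hx, hax, -, -⟩ := S.outer hA.1 hA.2.1 hA.2.2
  have hxz : NI z Q (x * z) := S.ni_mul_z hx
  obtain ⟨g, hg⟩ := isConj_iff.1 hza.symm
  have hin : ∀ y, NI z Q y → a * y = y * a → g * y * g⁻¹ ∈ Q := by
    intro y hy hay
    by_contra hout
    have hnot : ¬ IsConj z y := fun h => hy.2.2.2 (hQz y hy.1 h)
    have hy2 : orderOf (g * y * g⁻¹) = 2 := by rw [orderOf_conj_eq]; exact hy.order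
    have hmem : g * y * g⁻¹ ∈ centralizer ({z} : Set G) := mem_centralizer_singleton_iff.2 (by
      rw [← hg]
      calc g * y * g⁻¹ * (g * a * g⁻¹) = g * (y * a) * g⁻¹ := by group
        _ = g * (a * y) * g⁻¹ := by rw [hay]
        _ = g * a * g⁻¹ * (g * y * g⁻¹) := by group)
    obtain ⟨h, -, hh⟩ := (S.outer_class hA).2.2 _ ⟨hmem, invol_mul_self hy2, hout⟩
    exact hnot ((hza.trans (isConj_iff.2 ⟨h, hh⟩)).trans (isConj_iff.2 ⟨g, rfl⟩ : IsConj y _).symm)
  have haxz : a * (x * z) = x * z * a := by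
    rw [← mul_assoc, hax, mul_assoc, hg₀.1.eq.symm, ← mul_assoc]
  have hmem : g * z * g⁻¹ ∈ Q := by
    have h := mul_mem (hin x hx hax) (hin _ hxz haxz)
    rwa [show g * x * g⁻¹ * (g * (x * z) * g⁻¹) = g * (x * x * z) * g⁻¹ by group, hx.2.1,
      one_mul] at h
  have hzz := hno g hmem
  exact hg₀.2 (mul_left_cancel (mul_right_cancel (hg.trans hzz.symm)))

/-- With more than one class of involutions the group is that of Hall and Janko. -/
theorem iso_J2_of_not_one_class [IsSimpleGroup G] (S : Pre z Q)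
    (hcl : ¬ ∀ x y : G, orderOf x = 2 → orderOf y = 2 → IsConj x y) :
    Nat.card G = 604800 ∧ Cfsg.Spor.IsoJ2 G := by
  push Not at hcl
  obtain ⟨x, y, hx, hy, hxy⟩ := hcl
  let D : Data z Q := { toPre := S, hfus := fus_of_pre S, hcl := ⟨x, y, hx, hy, hxy⟩ }
  exact ⟨D.order_eq.1, D.iso_J2⟩

end CfsgLib.InvChar.J3Rec
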