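import Cfsg.Agent.Lib.InvChar.J3Elem

/-!
# The element exchanging `z` and `a`

With one class of involutions some element exchanges `z` and `a`, so it permutes `E`, respecting the
relation `Rel`; this leaves exactly one possibility for its images.
-/

set_option autoImplicit false
set_option maxRecDepth 100000

namespace CfsgLib.InvChar.J3Rec

open Subgroup Coset CfsgLib.InvChar.HJType CfsgLib.Invol

universe u

/-- Words of `C(z) ∩ N(E)` giving its action on `E`. -/
def nhW : List (List ℕ) := [[], [0, 1], [0, 2], [0, 3], [6, 7], [0, 2, 6, 7], [0, 3, 6, 7],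
  [0, 1, 6, 7], [7, 6], [0, 3, 7, 6], [0, 1, 7, 6], [0, 2, 7, 6]]

/-- The images for `nhW`. -/
def nhA : List (List ℕ) := [
  [0, 1, 2, 3, 4, 5, 6, 7, 8, 9, 10, 11, 12, 13, 14, 15],
  [0, 1, 2, 3, 5, 4, 7, 6, 11, 10, 9, 8, 14, 15, 12, 13],
  [0, 1, 2, 3, 6, 7, 4, 5, 9, 8, 11, 10, 15, 14, 13, 12],
  [0, 1, 2, 3, 7, 6, 5, 4, 10, 11, 8, 9, 13, 12, 15, 14],
  [0, 1, 2, 3, 8, 9, 10, 11, 12, 13, 14, 15, 4, 5, 6, 7],
  [0, 1, 2, 3, 9, 8, 11, 10, 15, 14, 13, 12, 6, 7, 4, 5],
  [0, 1, 2, 3, 10, 11, 8, 9, 13, 12, 15, 14, 7, 6, 5, 4],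
  [0, 1, 2, 3, 11, 10, 9, 8, 14, 15, 12, 13, 5, 4, 7, 6],
  [0, 1, 2, 3, 12, 13, 14, 15, 4, 5, 6, 7, 8, 9, 10, 11],
  [0, 1, 2, 3, 13, 12, 15, 14, 7, 6, 5, 4, 10, 11, 8, 9],
  [0, 1, 2, 3, 14, 15, 12, 13, 5, 4, 7, 6, 11, 10, 9, 8],
  [0, 1, 2, 3, 15, 14, 13, 12, 6, 7, 4, 5, 9, 8, 11, 10]]

/-- The images for `s 9`. -/
def wL : List ℕ := [0, 4, 12, 8, 1, 5, 13, 9, 3, 7, 15, 11, 2, 6, 14, 10]

theorem nh_ok : (List.range 12).all (fun t => (List.range 16).all fun i =>
    decide ((nhA.getD t []).getD i 0 < 16) &&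
      decide (hv (nhW.getD t [] ++ ew i ++ (nhW.getD t []).reverse) =
        hv (ew ((nhA.getD t []).getD i 0)))) = true := by
  decide +kernel

theorem nhW_lt : ∀ t < 12, ∀ x ∈ nhW.getD t [], x < 8 := by decide

/-- Membership in the line of `a` through `y`. -/
def inLine (y i : ℕ) : Bool := decide (i = 4) || decide (i = y) || decide (i = 4 ^^^ y)

theorem line_unique : (List.range 16).all (fun y =>
    decide (y < 5) || decide ((4 ^^^ y) < 4) || decide (y = 8) || decide (y = 12) ||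
      (List.range 12).any (fun t => (List.range 16).any fun i => (List.range 16).any fun j =>
        inLine y i && inLine y j && !decide (i = j) && inLine y ((nhA.getD t []).getD i 0) &&
          !inLine y ((nhA.getD t []).getD j 0))) = true := by
  decide +kernel

theorem bad_swap : cmp (cmp (cmp (nhA.getD 1 []) (lin 4 8 1 2)) (cmp (nhA.getD 1 []) (lin 4 8 1 2)))
    (cmp (nhA.getD 1 []) (lin 4 8 1 2)) ≠ idL ∧
    (cmp (cmp (cmp (nhA.getD 1 []) (lin 4 8 1 2)) (cmp (nhA.getD 1 []) (lin 4 8 1 2)))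
      (cmp (nhA.getD 1 []) (lin 4 8 1 2))).getD 1 0 = 1 ∧
    (cmp (cmp (cmp (nhA.getD 1 []) (lin 4 8 1 2)) (cmp (nhA.getD 1 []) (lin 4 8 1 2)))
      (cmp (nhA.getD 1 []) (lin 4 8 1 2))).getD 4 0 = 4 := by decide +kernel

variable {G : Type u} [Group G] {z : G} {Q : Subgroup G} {s : ℕ → G}

theorem act_nh (Φ : Frame z Q s) {t : ℕ} (ht : t < 12) :
    Act s (wprod s (nhW.getD t [])) (nhA.getD t []) :=
  act_word Φ _ _ (nhW_lt t ht) (List.all_eq_true.1 nh_ok t (List.mem_range.2 ht))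

/-- **The exchange of `z` and `a`.** -/
theorem exists_swap_za [Finite G] (Φ : Frame z Q s) (S : Pre z Q)
    (hone : ∀ x y : G, orderOf x = 2 → orderOf y = 2 → IsConj x y) : ∃ g, Act s g wL := by
  classical
  have hlt : ∀ i, i < 16 → el s i * el s 4 = el s 4 * el s i := fun i hi =>
    el_comm Φ hi (by norm_num)
  have h4o : Outer z Q (el s 4) := el_outer Φ S (by norm_num) le_rfl
  have ha2 := el_order Φ S (i := 4) (by norm_num) (by norm_num)
  -- some element exchanges `z` and `a`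
  obtain ⟨g, hgz, hga⟩ : ∃ g : G, g * el s 1 * g⁻¹ = el s 4 ∧ g * el s 4 * g⁻¹ = el s 1 := by
    obtain ⟨g₁, hg₁⟩ := isConj_iff.1 (hone z (el s 4) S.hz ha2)
    have hzo : orderOf (g₁⁻¹ * z * g₁) = 2 := by
      rw [show g₁⁻¹ * z * g₁ = g₁⁻¹ * z * g₁⁻¹⁻¹ by group, orderOf_conj_eq]; exact S.hz
    have hC : g₁⁻¹ * z * g₁ ∈ centralizer ({z} : Set G) := by
      rw [mem_centralizer_singleton_iff]
      have h := S.commZ (el_mem Φ (s := s) (i := 4) (by norm_num))
      calc g₁⁻¹ * z * g₁ * z = g₁⁻¹ * (z * (g₁ * z * g₁⁻¹)) * g₁ := by group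
        _ = g₁⁻¹ * ((g₁ * z * g₁⁻¹) * z) * g₁ := by rw [hg₁, ← h]
        _ = z * (g₁⁻¹ * z * g₁) := by group
    have hout : Outer z Q (g₁⁻¹ * z * g₁) := by
      refine ⟨hC, invol_mul_self hzo, fun hQ => ?_⟩
      have hne : g₁⁻¹ * z * g₁ ≠ z := fun e => by
        have e' : g₁ * z * g₁⁻¹ = z := by
          calc g₁ * z * g₁⁻¹ = g₁ * (g₁⁻¹ * z * g₁) * g₁⁻¹ := by rw [e]
            _ = z := by group
        rw [hg₁] at e'
        exact h4o.2.2 (e' ▸ S.hzQ)
      have hrel := ((rel_z_iff Φ S).2 ⟨hQ, invol_mul_self hzo, invol_ne_one hzo, hne⟩).conj g₁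
      rw [hg₁, show g₁ * (g₁⁻¹ * z * g₁) * g₁⁻¹ = z by group] at hrel
      exact h4o.2.2 ((rel_z_iff Φ S).1 hrel.symm).1
    obtain ⟨h, hh, he⟩ := (S.outer_class h4o).2.2 _ hout
    refine ⟨g₁ * h, ?_, ?_⟩
    · rw [el_one Φ]
      calc g₁ * h * z * (g₁ * h)⁻¹ = g₁ * (h * z * h⁻¹) * g₁⁻¹ := by group
        _ = el s 4 := by rw [S.conjZ hh, hg₁]
    · rw [el_one Φ]
      calc g₁ * h * el s 4 * (g₁ * h)⁻¹ = g₁ * (h * el s 4 * h⁻¹) * g₁⁻¹ := by group
        _ = z := by rw [he]; group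
  have himg : ∀ i < 16, ∃ j < 16, g * el s i * g⁻¹ = el s j := by
    intro i hi
    have h1 : ∀ k, k = 1 ∨ k = 4 → g * el s i * g⁻¹ * (g * el s k * g⁻¹) =
        g * el s k * g⁻¹ * (g * el s i * g⁻¹) := by
      intro k hk
      have e := el_comm Φ (s := s) hi (show k < 16 by omega)
      calc g * el s i * g⁻¹ * (g * el s k * g⁻¹) = g * (el s i * el s k) * g⁻¹ := by group
        _ = g * el s k * g⁻¹ * (g * el s i * g⁻¹) := by rw [e]; group
    have ha := h1 1 (Or.inl rfl)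
    have hz' := h1 4 (Or.inr rfl)
    rw [hgz] at ha
    rw [hga, el_one Φ] at hz'
    exact mem_E Φ S hz' ha
  obtain ⟨y, hy, hgy⟩ := himg 2 (by norm_num)
  obtain ⟨y', hy', hgy'⟩ := himg 8 (by norm_num)
  have hL := act_of_basis Φ (by norm_num : (4 : ℕ) < 16) hy (by norm_num : (1 : ℕ) < 16) hy'
    hgz hgy hga hgy'
  -- the image of `x₄` is related to `a`
  have hz2 : Rel (el s 1) (el s 2) := by rw [el_one Φ]; exact rel_x4 Φ S
  have hray : Rel (el s 4) (el s y) := by rw [← hgz, ← hgy]; exact hz2.conj g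
  have hni : ∀ i < 16, Rel z (el s i) → i = 2 ∨ i = 3 := by
    intro i hi h
    by_contra hc
    have h' := (rel_z_iff Φ S).1 h
    rcases (show i = 0 ∨ i = 1 ∨ 4 ≤ i by omega) with rfl | rfl | h4
    · exact h'.2.2.1 el_zero
    · exact h'.2.2.2 (el_one Φ)
    · exact (el_outer Φ S hi h4).2.2 h'.1
  have hzrel : ∀ u, u = 2 ∨ u = 3 → Rel (el s u) z := fun u hu =>
    ((rel_z_iff Φ S).2 (el_ni Φ S hu)).symm
  have trans : ∀ e u v, e < 16 → u < 16 → v < 16 → Rel (el s e) (el s u) → Rel (el s e) (el s v) →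
      v = u ∨ v = u ^^^ e := by
    intro e u v he hu hv h1 h2
    rcases rel_trans Φ S hone h1 h2 (el_comm Φ hu hv) with h | h
    · exact Or.inl (el_inj Φ S hv hu h)
    · rw [el_mul Φ hu he] at h
      exact Or.inr (el_inj Φ S hv (Nat.xor_lt_two_pow (n := 4) hu he) h)
  have hray' : Rel (el s 4) (el s (y ^^^ 4)) := by
    rw [← el_mul Φ hy (by norm_num)]; exact rel_mul Φ S hone hray
  have hout2 : ∀ u < 16, Rel (el s 4) (el s u) → 4 ≤ u := by
    intro u hu h
    by_contra h3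
    rcases (show u = 0 ∨ u = 1 ∨ u = 2 ∨ u = 3 by omega) with rfl | rfl | h23
    · exact invol_ne_one h.2.1 el_zero
    · rw [el_one Φ] at h
      exact h4o.2.2 ((rel_z_iff Φ S).1 h.symm).1
    · have h' : Rel (el s u) (el s 1) := by rw [el_one Φ]; exact hzrel u (by omega)
      rcases trans u 1 4 hu (by norm_num) (by norm_num) h' h.symm with e | e
      · exact absurd e (by norm_num)
      · rcases h23 with rfl | rfl <;> exact absurd e (by decide)
  have hy4 := hout2 y hy hray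
  have hy4' := hout2 _ (Nat.xor_lt_two_pow (n := 4) hy (by norm_num)) hray'
  have hyne : y ≠ 4 := fun e => hray.2.2.1 (by rw [e])
  -- lines are permuted
  have hrelL : ∀ i < 16, ∀ j < 16, inLine y i = true → inLine y j = true → i ≠ j →
      Rel (el s i) (el s j) := by
    have h3 : Rel (el s y) (el s (y ^^^ 4)) := by
      rw [Nat.xor_comm, ← el_mul Φ (by norm_num) hy]
      exact rel_mul Φ S hone hray.symm
    intro i hi j hj h1 h2 hij
    simp only [inLine, Bool.or_eq_true, decide_eq_true_eq] at h1 h2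
    rw [Nat.xor_comm] at h1 h2
    rcases h1 with (rfl | rfl) | rfl <;> rcases h2 with (rfl | rfl) | rfl
    all_goals first
      | exact absurd rfl hij
      | exact hray
      | exact hray.symm
      | exact hray'
      | exact hray'.symm
      | exact h3
      | exact h3.symm
  have hyline : y = 8 ∨ y = 12 := by
    by_contra hc
    push Not at hc
    have hlu := List.all_eq_true.1 line_unique y (List.mem_range.2 hy)
    rw [Nat.xor_comm] at hy4'
    simp only [Bool.or_eq_true, decide_eq_true_eq, List.any_eq_true, Bool.and_eq_true,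
      Bool.not_eq_true', decide_eq_false_iff_not, List.mem_range] at hlu
    obtain ⟨t, ht, i, hi, j, hj, ⟨⟨⟨hiL, hjL⟩, hij⟩, hgi⟩, hgj⟩ :=
      hlu.resolve_left (by
        rintro (((h | h) | h) | h)
        · clear * - h hy4 hyne; omega
        · clear * - h hy4'; omega
        · exact hc.1 h
        · exact hc.2 h)
    have hA := act_nh (s := s) Φ ht
    have hr := (hrelL i hi j hj hiL hjL hij).conj (wprod s (nhW.getD t []))
    rw [(hA i hi).2, (hA j hj).2] at hr
    set a := (nhA.getD t []).getD i 0 with hadef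
    set b := (nhA.getD t []).getD j 0 with hbdef
    have hya : y ^^^ 4 < 16 := Nat.xor_lt_two_pow (n := 4) hy (by norm_num)
    have hk : ∃ l < 16, inLine y l = true ∧ a ≠ l ∧ inLine y (l ^^^ a) = true := by
      simp only [inLine, Bool.or_eq_true, decide_eq_true_eq] at hgi ⊢
      rw [Nat.xor_comm] at hgi
      rcases hgi with (e | e) | e
      · exact ⟨y, hy, Or.inl (Or.inr rfl), fun h => hyne (h.symm.trans e), Or.inr (by rw [e, Nat.xor_comm])⟩
      · exact ⟨4, by norm_num, Or.inl (Or.inl rfl), fun h => hyne (e.symm.trans h), Or.inr (by rw [e])⟩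
      · exact ⟨4, by norm_num, Or.inl (Or.inl rfl), fun h => by
          rw [e] at h
          have h0 := congrArg (· ^^^ 4) h
          simp [Nat.xor_assoc] at h0
          clear * - h0 hy4; omega,
          Or.inl (Or.inr (by rw [e, Nat.xor_comm y, ← Nat.xor_assoc, Nat.xor_self, Nat.zero_xor]))⟩
    obtain ⟨l, hl, hlL, hal, hlaL⟩ := hk
    rcases trans a l b (hA i hi).1 hl (hA j hj).1 (hrelL a (hA i hi).1 l hl hgi hlL hal) hr with e | e
    · rw [e, hlL] at hgj; exact absurd hgj (by simp)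
    · rw [e, hlaL] at hgj; exact absurd hgj (by simp)
  -- the image of `b`
  have h8 : Rel (el s 4) (el s 8) := by
    refine hrelL 4 (by norm_num) 8 (by norm_num) ?_ ?_ (by norm_num) <;>
      rcases hyline with rfl | rfl <;> rfl
  have hy'23 : y' = 2 ∨ y' = 3 := by
    refine hni y' hy' ?_
    have := h8.conj g
    rwa [hga, hgy', el_one Φ] at this
  -- the square of `g` acts trivially
  have hsq : cmp (lin 4 y 1 y') (lin 4 y 1 y') = idL := by
    have h2 := hL.mul hL
    obtain ⟨j, hj, e⟩ : ∃ j < 16, g * g = el s j := by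
      refine mem_E Φ S ?_ ?_
      · refine mul_inv_eq_iff_eq_mul.1 ?_
        rw [← el_one Φ]
        calc g * g * el s 1 * (g * g)⁻¹ = g * (g * el s 1 * g⁻¹) * g⁻¹ := by group
          _ = el s 1 := by rw [hgz, hga]
      · refine mul_inv_eq_iff_eq_mul.1 ?_
        calc g * g * el s 4 * (g * g)⁻¹ = g * (g * el s 4 * g⁻¹) * g⁻¹ := by group
          _ = el s 4 := by rw [hga, hgz]
    rw [e] at h2
    refine List.ext_getElem (by simp [cmp, idL]) fun i hi _ => ?_
    have hi' : i < 16 := by simpa [cmp] using hi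
    obtain ⟨a1, a2⟩ := h2 i hi'
    rw [el_comm Φ hj hi', mul_inv_cancel_right] at a2
    have h := el_inj Φ S hi' a1 a2
    rw [List.getD_eq_getElem _ _ hi] at h
    rw [← h]
    simp [idL]
  have hT : ¬ (y = 8 ∧ y' = 2) := by
    rintro ⟨rfl, rfl⟩
    have hg1 : Act s (wprod s (nhW.getD 1 []) * g) (cmp (nhA.getD 1 []) (lin 4 8 1 2)) :=
      (act_nh Φ (by norm_num)).mul hL
    have h3 := (hg1.mul hg1).mul hg1
    obtain ⟨hne, h1, h4⟩ := bad_swap
    obtain ⟨-, e1⟩ := h3 1 (by norm_num)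
    obtain ⟨-, e4⟩ := h3 4 (by norm_num)
    rw [h1, el_one Φ] at e1
    rw [h4] at e4
    obtain ⟨j, hj, e⟩ := mem_E Φ S (mul_inv_eq_iff_eq_mul.1 e1) (mul_inv_eq_iff_eq_mul.1 e4)
    rw [e] at h3
    refine hne (List.ext_getElem (by simp [cmp, idL]) fun i hi _ => ?_)
    have hi' : i < 16 := by simpa [cmp] using hi
    obtain ⟨a1, a2⟩ := h3 i hi'
    rw [el_comm Φ hj hi', mul_inv_cancel_right] at a2
    have h := el_inj Φ S hi' a1 a2
    rw [List.getD_eq_getElem _ _ hi] at h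
    rw [← h]
    simp [idL]
  refine ⟨g, hL.congr ?_⟩
  rcases hyline with rfl | rfl <;> rcases hy'23 with rfl | rfl
  · exact absurd ⟨rfl, rfl⟩ hT
  · exact absurd hsq (by decide)
  · exact absurd hsq (by decide)
  · decide

end CfsgLib.InvChar.J3Rec
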