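import Cfsg.Agent.Lib.InvChar.J3XTImage

/-!
# Images of the triple cover of `A₆` of order 360

`XImage f` says that the four involutions `f 0, …, f 3` of a group of order 360 with trivial centre
satisfy the relators of `J3XT` and do not kill `z`.
-/

set_option autoImplicit false
set_option maxRecDepth 100000

namespace CfsgLib.InvChar.J3Rec

open Subgroup Coset

universe u

/-- Four letters satisfying the relators of `J3XT` in a group of order 360 with trivial centre. -/
structure XImage {X : Type u} [Group X] (f : ℕ → X) : Prop where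
  hs : ∀ x, f x * f x = 1
  hR : ∀ r ∈ J3XT.rels, wprod f r = 1
  hz : wprod f zX ≠ 1
  hcen : ∀ c : X, (∀ x, c * x = x * c) → c = 1
  hcard : Nat.card X = 360

theorem xfollow_follow (L : List ℕ) (hL : ∀ x ∈ L, x < 4) : ∀ {i : ℕ}, i < 1080 →
    J3XT.table.follow L.reverse (J3XT.table.follow L i) = i := by
  induction L with
  | nil => intro i _; rfl
  | cons x L ih =>
    intro i hi
    have hx : x < 4 := hL x List.mem_cons_self
    have e : ∀ M j, J3XT.table.follow (x :: M) j = J3XT.table.follow M (J3XT.table.app j x) :=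
      fun M j => force_eq _ _
    rw [e, List.reverse_cons, J3XT.table.follow_append,
      ih (fun y hy => hL y (List.mem_cons_of_mem x hy)) ((J3XT.covered.rows i hi x hx).1), e]
    have := List.all_eq_true.1 xapp_app i (List.mem_range.2 hi)
    exact of_decide_eq_true (List.all_eq_true.1 this x (List.mem_range.2 hx))

theorem xwd_lt {i : ℕ} (hi : i < 1080) : ∀ x ∈ J3XT.wd i, x < 4 := (J3XT.wd_ok i hi).2

theorem xv_wd {i : ℕ} (hi : i < 1080) : xv (J3XT.wd i) = i := (J3XT.wd_ok i hi).1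

theorem xv_lt {L : List ℕ} (hL : ∀ x ∈ L, x < 4) : xv L < 1080 := J3XT.covered.val_lt L hL

theorem xlt_append {L M : List ℕ} (hL : ∀ x ∈ L, x < 4) (hM : ∀ x ∈ M, x < 4) :
    ∀ x ∈ L ++ M, x < 4 := fun x hx => (List.mem_append.1 hx).elim (hL x) (hM x)

theorem xlt_reverse {L : List ℕ} (hL : ∀ x ∈ L, x < 4) : ∀ x ∈ L.reverse, x < 4 :=
  fun x hx => hL x (List.mem_reverse.1 hx)

theorem xreps_lt {i : ℕ} (hi : i ∈ xreps) : i < 1080 :=
  List.mem_range.1 (List.mem_of_mem_filter hi)

namespace XImage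

variable {X : Type u} [Group X] {f : ℕ → X} (I : XImage f)
include I

theorem eq_of_xv {L M : List ℕ} (hL : ∀ x ∈ L, x < 4) (hM : ∀ x ∈ M, x < 4) (h : xv L = xv M) :
    wprod f L = wprod f M :=
  J3XT.covered.eq_of_val f I.hs I.hR rfl hL hM h

theorem centre_cube {c : ℕ} (hc : c ∈ xZ) :
    c < 1080 ∧ wprod f (J3XT.wd c) ^ 3 = 1 ∧
      ∀ x < 4, wprod f (J3XT.wd c) * f x = f x * wprod f (J3XT.wd c) := by
  have h := List.all_eq_true.1 centre_ok c hc
  simp only [Bool.and_eq_true, decide_eq_true_eq, List.all_eq_true, List.mem_range] at h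
  obtain ⟨⟨h1, h2⟩, h3⟩ := h
  have hw := xwd_lt h1
  refine ⟨h1, ?_, fun x hx => ?_⟩
  · rw [pow_succ, pow_succ, pow_one, ← wprod_append, ← wprod_append]
    exact J3XT.covered.eq_one_of_val f I.hs I.hR rfl (xlt_append (xlt_append hw hw) hw) h2
  · have := I.eq_of_xv (xlt_append hw (by simpa using hx))
      (L := J3XT.wd c ++ [x]) (M := x :: J3XT.wd c) (List.forall_mem_cons.2 ⟨hx, hw⟩) (h3 x hx)
    rwa [wprod_append, wprod_cons, wprod_nil, mul_one, wprod_cons] at this

theorem wprod_cwX (L : List ℕ) (x : ℕ) (h : wprod f L = 1) :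
    wprod f (L ++ [x] ++ L.reverse ++ [x]) = 1 := by
  rw [wprod_append, wprod_append, wprod_append, wprod_reverse f I.hs, h, inv_one, wprod_cons,
    wprod_nil, one_mul, mul_one, mul_one, I.hs]

/-- Only central words die. -/
theorem mem_xZ {L : List ℕ} (hL : ∀ x ∈ L, x < 4) (h : wprod f L = 1) : xv L ∈ xZ := by
  have hi := xv_lt hL
  have h' : wprod f (J3XT.wd (xv L)) = 1 := by
    rw [I.eq_of_xv (xwd_lt hi) hL (xv_wd hi), h]
  have hd := List.all_eq_true.1 chain_ok (xv L) (List.mem_range.2 hi)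
  simp only [Bool.or_eq_true, decide_eq_true_eq] at hd
  refine hd.resolve_right fun hbad => ?_
  have step : ∀ i, i < 1080 → wprod f (J3XT.wd i) = 1 →
      chainStep i < 1080 ∧ wprod f (J3XT.wd (chainStep i)) = 1 := by
    intro i hi h
    unfold chainStep
    cases hb : decide (i ∈ xzc)
    · simp only [cond_false]
      have hx : chainData / 2 ^ (2 * i) % 4 < 4 := Nat.mod_lt _ (by norm_num)
      set x := chainData / 2 ^ (2 * i) % 4
      have hlt : ∀ y ∈ J3XT.wd i ++ [x] ++ (J3XT.wd i).reverse ++ [x], y < 4 :=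
        xlt_append (xlt_append (xlt_append (xwd_lt hi) (by simpa using hx)) (xlt_reverse (xwd_lt hi)))
          (by simpa using hx)
      refine ⟨xv_lt hlt, ?_⟩
      rw [I.eq_of_xv (xwd_lt (xv_lt hlt)) hlt (xv_wd (xv_lt hlt))]
      exact I.wprod_cwX _ _ h
    · simp only [cond_true]; exact ⟨hi, h⟩
  obtain ⟨a1, b1⟩ := step _ hi h'
  obtain ⟨a2, b2⟩ := step _ a1 b1
  obtain ⟨a3, b3⟩ := step _ a2 b2
  obtain ⟨a4, b4⟩ := step _ a3 b3
  obtain ⟨a5, b5⟩ := step _ a4 b4
  simp only [xzc, List.mem_map] at hbad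
  obtain ⟨c, hc, e⟩ := hbad
  obtain ⟨hc1, hc3, hcc⟩ := I.centre_cube hc
  have hlt : ∀ y ∈ zX ++ J3XT.wd c, y < 4 := xlt_append (by decide) (xwd_lt hc1)
  rw [← e, I.eq_of_xv (xwd_lt (xv_lt hlt)) hlt (xv_wd (xv_lt hlt)), wprod_append] at b5
  have hz2 : wprod f zX * wprod f zX = 1 := by
    rw [← wprod_append]
    exact J3XT.covered.eq_one_of_val f I.hs I.hR rfl (by decide) (by decide +kernel)
  refine I.hz ?_
  have hce : wprod f (J3XT.wd c) = wprod f zX := by
    rw [eq_inv_of_mul_eq_one_right b5, inv_eq_of_mul_eq_one_right hz2]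
  rw [hce, pow_succ, pow_two, hz2, one_mul] at hc3
  exact hc3

/-- The representatives exhaust the group. -/
theorem exists_rep [Finite X] (y : X) : ∃ i ∈ xreps, wprod f (J3XT.wd i) = y := by
  classical
  let g : ↥xreps.toFinset → X := fun i => wprod f (J3XT.wd i)
  have hg : Function.Injective g := by
    rintro ⟨i, hi⟩ ⟨j, hj⟩ e
    rw [List.mem_toFinset] at hi hj
    have key : ∀ a b, a ∈ xreps → b ∈ xreps → wprod f (J3XT.wd a) = wprod f (J3XT.wd b) →
        a ≤ b := by
      intro a b ha hb hab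
      have ha' := xreps_lt ha
      have hb' := xreps_lt hb
      have hlt := xlt_append (xlt_reverse (xwd_lt ha')) (xwd_lt hb')
      have hmem := I.mem_xZ hlt (by
        rw [wprod_append, wprod_reverse f I.hs, hab, inv_mul_cancel])
      have hmin := List.all_eq_true.1 (List.mem_filter.1 ha).2 _ hmem
      have he : J3XT.table.follow (J3XT.wd a).reverse (xv ((J3XT.wd a).reverse ++ J3XT.wd b)) = b := by
        have h1 : xv ((J3XT.wd a).reverse ++ J3XT.wd b) =
            J3XT.table.follow (J3XT.wd a) (xv (J3XT.wd b)) := by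
          rw [xv, Table.val_append, List.reverse_reverse]; rfl
        rw [h1, xv_wd hb', xfollow_follow _ (xwd_lt ha') hb']
      rw [he] at hmin
      exact Nat.le_of_ble_eq_true hmin
    exact Subtype.ext (le_antisymm (key i j hi hj e) (key j i hj hi e.symm))
  have hnd : xreps.Nodup := List.nodup_range.filter _
  have hb := hg.bijective_of_nat_card_le (by
    rw [I.hcard, Nat.card_eq_fintype_card, Fintype.card_coe, List.toFinset_card_of_nodup hnd,
      xreps_length])
  obtain ⟨⟨i, hi⟩, he⟩ := hb.2 y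
  exact ⟨i, List.mem_toFinset.1 hi, he⟩

theorem centre_dies [Finite X] {c : ℕ} (hc : c ∈ xZ) : wprod f (J3XT.wd c) = 1 := by
  obtain ⟨-, -, hcc⟩ := I.centre_cube hc
  refine I.hcen _ fun y => ?_
  obtain ⟨i, hi, rfl⟩ := I.exists_rep y
  have key : ∀ L : List ℕ, (∀ x ∈ L, x < 4) →
      wprod f (J3XT.wd c) * wprod f L = wprod f L * wprod f (J3XT.wd c) := by
    intro L
    induction L with
    | nil => intro _; simp [wprod]
    | cons x L ih =>
      intro h
      rw [wprod_cons, ← mul_assoc, hcc x (h x List.mem_cons_self), mul_assoc,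
        ih (fun y hy => h y (List.mem_cons_of_mem x hy)), mul_assoc]
  exact key _ (xwd_lt (xreps_lt hi))

theorem eq_one_iff [Finite X] {L : List ℕ} (hL : ∀ x ∈ L, x < 4) :
    wprod f L = 1 ↔ xz L = true := by
  simp only [xz, decide_eq_true_eq]
  refine ⟨I.mem_xZ hL, fun h => ?_⟩
  rw [← I.centre_dies h]
  exact I.eq_of_xv hL (xwd_lt (xv_lt hL)) (xv_wd (xv_lt hL)).symm

theorem eq_iff [Finite X] {L M : List ℕ} (hL : ∀ x ∈ L, x < 4) (hM : ∀ x ∈ M, x < 4) :
    wprod f L = wprod f M ↔ xeq L M = true := by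
  rw [xeq, ← I.eq_one_iff (xlt_append (xlt_reverse hL) hM), wprod_append, wprod_reverse f I.hs,
    inv_mul_eq_one]

end XImage

theorem tokX_lt : ∀ t < 6, ∀ x ∈ tokX.getD t [], x < 4 := by decide

theorem invX_lt : ∀ a < 45, ∀ x ∈ invX a, x < 4 := by decide +kernel

end CfsgLib.InvChar.J3Rec
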