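import Cfsg.Agent.Lib.InvChar.SporData.J3XT.Main
import Cfsg.Agent.Lib.InvChar.SporData.J3XT.Par
import Cfsg.Agent.Lib.InvChar.J3InvWords
import Cfsg.Agent.Lib.InvChar.J3Frame

/-!
# The table of the triple cover of `A₆` read in a group of order 360

In a group of order 360 with trivial centre every homomorphic image of the table `J3XT` that does not
kill `z` is everything, and two words agree there exactly when their quotient is central in the table.
-/

set_option autoImplicit false
set_option maxRecDepth 100000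

namespace CfsgLib.InvChar.J3Rec

open Subgroup Coset

universe u

/-- The value of a word in the table. -/
noncomputable def xv (L : List ℕ) : ℕ := J3XT.table.val L

/-- The centre of the table. -/
def xZ : List ℕ := [0, 1074, 1076]

/-- A word is central. -/
noncomputable def xz (L : List ℕ) : Bool := decide (xv L ∈ xZ)

/-- Two words agree modulo the centre. -/
noncomputable def xeq (L M : List ℕ) : Bool := xz (L.reverse ++ M)

/-- The word of `z`. -/
def zX : List ℕ := [1, 0, 1, 0]

/-- The values of `z` times central elements. -/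
noncomputable def xzc : List ℕ := xZ.map fun c => xv (zX ++ J3XT.wd c)

/-- A letter for each element leading by commutators to `z`. -/
def chainData : ℕ := 0x10150544044101500415400404550050451d1534004108101605544000100d1952dd31001555558558041080800030457511a0292a0ea5cf414115855475425500400300042017000545476a2b015890037cea1c7b450221e54dc5562f00f244d0011009010520aa0992a88dfcd543135517445416002591b40108440185a0a62710aaf0259a820aaa0f0348287aa170cec713037437c024c2030182aba15a470355bb08a09fc38521002b837832a1b00c528e4309fff1908120803825aaa0c5c04c07d9b02470c2875140d528b270252c07de724702030028fc30001598a965f164554005550e005120a150075800ad14051f8435550151a441a114009505480550502035414105001404104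

/-- One step of the chain. -/
noncomputable def chainStep (i : ℕ) : ℕ :=
  bif decide (i ∈ xzc) then i
  else xv (J3XT.wd i ++ [chainData / 2 ^ (2 * i) % 4] ++ (J3XT.wd i).reverse ++
    [chainData / 2 ^ (2 * i) % 4])

/-- Representatives of the classes modulo the centre. -/
noncomputable def xreps : List ℕ :=
  (List.range 1080).filter fun i => xZ.all fun c => Nat.ble i (J3XT.table.follow (J3XT.wd i).reverse c)

/-- The images of the tokens `n, n⁻¹, n', n'⁻¹, z, x₄`. -/
def tokX : List (List ℕ) := [[0, 2], [2, 0], [1, 3], [3, 1], [1, 0, 1, 0], [1]]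

/-- The words of the tokens `n, n⁻¹, n', n'⁻¹, z, x₄`. -/
def tokW : List (List ℕ) := [nW, niW, npW, npiW, [4, 0, 4, 0], [4]]

/-- The 45 involutions as token lists. -/
def invToks : List (List ℕ) := [
  [4],
  [0, 4, 1],
  [1, 4, 0],
  [2, 4, 3],
  [3, 4, 2],
  [2, 0, 4, 1, 3],
  [3, 0, 4, 1, 2],
  [0, 2, 4, 3, 1],
  [1, 2, 4, 3, 0],
  [2, 1, 4, 0, 3],
  [3, 1, 4, 0, 2],
  [0, 3, 4, 2, 1],
  [1, 3, 4, 2, 0],
  [0, 2, 0, 4, 1, 3, 1],
  [1, 2, 0, 4, 1, 3, 0],
  [0, 3, 0, 4, 1, 2, 1],
  [1, 3, 0, 4, 1, 2, 0],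
  [0, 2, 1, 4, 0, 3, 1],
  [1, 2, 1, 4, 0, 3, 0],
  [0, 3, 1, 4, 0, 2, 1],
  [1, 3, 1, 4, 0, 2, 0],
  [2, 0, 2, 4, 3, 1, 3],
  [3, 0, 2, 4, 3, 1, 2],
  [2, 1, 2, 4, 3, 0, 3],
  [3, 1, 2, 4, 3, 0, 2],
  [2, 0, 3, 4, 2, 1, 3],
  [3, 0, 3, 4, 2, 1, 2],
  [2, 1, 3, 4, 2, 0, 3],
  [3, 1, 3, 4, 2, 0, 2],
  [2, 0, 2, 0, 4, 1, 3, 1, 3],
  [3, 0, 2, 0, 4, 1, 3, 1, 2],
  [2, 1, 2, 0, 4, 1, 3, 0, 3],
  [3, 1, 2, 0, 4, 1, 3, 0, 2],
  [2, 0, 3, 0, 4, 1, 2, 1, 3],
  [3, 0, 3, 0, 4, 1, 2, 1, 2],
  [2, 1, 3, 0, 4, 1, 2, 0, 3],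
  [3, 1, 3, 0, 4, 1, 2, 0, 2],
  [0, 3, 0, 2, 4, 3, 1, 2, 1],
  [1, 3, 1, 2, 4, 3, 0, 2, 0],
  [2, 0, 2, 1, 4, 0, 3, 1, 3],
  [2, 1, 2, 1, 4, 0, 3, 0, 3],
  [3, 1, 2, 1, 4, 0, 3, 0, 2],
  [2, 0, 3, 1, 4, 0, 2, 1, 3],
  [3, 0, 3, 1, 4, 0, 2, 1, 2],
  [3, 1, 3, 1, 4, 0, 2, 0, 2]]

/-- The table word of an involution. -/
def invX (a : ℕ) : List ℕ := (invToks.getD a []).flatMap fun t => tokX.getD t []

/-- The table word of `n⁻¹`. -/
def niX : List ℕ := [2, 0]

theorem invWords_toks : (List.range 45).all (fun a =>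
    decide (red ((invToks.getD a []).flatMap fun t => tokW.getD t []) = red (invWords.getD a [])) &&
      (invToks.getD a []).all (fun t => decide (t < 6))) = true := by
  decide +kernel

theorem chain_ok : (List.range 1080).all (fun i => decide (i ∈ xZ) ||
    decide (chainStep (chainStep (chainStep (chainStep (chainStep i)))) ∈ xzc)) = true := by
  decide +kernel

theorem centre_ok : xZ.all (fun c => decide (c < 1080) &&
    decide (xv (J3XT.wd c ++ J3XT.wd c ++ J3XT.wd c) = 0) && (List.range 4).all fun x =>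
      decide (xv (J3XT.wd c ++ [x]) = xv (x :: J3XT.wd c))) = true := by
  decide +kernel

theorem xapp_app : (List.range 1080).all (fun i => (List.range 4).all fun x =>
    decide (J3XT.table.app (J3XT.table.app i x) x = i)) = true := by
  decide +kernel

theorem xreps_length : xreps.length = 360 := by decide +kernel

theorem invX_cover : xreps.all (fun i => !xz (J3XT.wd i ++ J3XT.wd i) || xz (J3XT.wd i) ||
    (List.range 45).any fun a => xeq (invX a) (J3XT.wd i)) = true := by
  decide +kernel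

theorem pairs_ok : (List.range 45).all (fun a =>
    !xz (invX a ++ niX ++ invX a ++ niX ++ invX a ++ niX) || (List.range 45).all fun c =>
      !(xz (invX c ++ invX a ++ invX c ++ invX a ++ invX c ++ invX a) &&
        xeq (invX c ++ niX ++ invX c) niX.reverse &&
        xz (invX c ++ invX a ++ niX ++ (invX c ++ invX a ++ niX) ++ (invX c ++ invX a ++ niX) ++
          (invX c ++ invX a ++ niX) ++ (invX c ++ invX a ++ niX))) ||
      invPairs.contains (a, c)) = true := by
  decide +kernel

theorem three_conj : xreps.all (fun i => !xz (J3XT.wd i ++ J3XT.wd i ++ J3XT.wd i) || xz (J3XT.wd i) ||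
    xreps.any fun h => xeq (J3XT.wd h ++ J3XT.wd i ++ (J3XT.wd h).reverse) (J3XT.wd 6) ||
      xeq (J3XT.wd h ++ J3XT.wd i ++ (J3XT.wd h).reverse) (J3XT.wd 10)) = true := by
  decide +kernel

/-- The square test of an option. -/
noncomputable def optOK (W p L q : List ℕ) : Bool := xz (W ++ p ++ L ++ q ++ (W ++ p ++ L ++ q))

/-- One of the six options holds. -/
noncomputable def someOpt (K R W L : List ℕ) : Bool :=
  optOK W R L [] || optOK W K.reverse L R || optOK W (K.reverse ++ R) L [] ||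
    optOK W (R ++ K.reverse) L [] || optOK W (K.reverse ++ R ++ K.reverse) L.reverse [] ||
    optOK W (K ++ R) L.reverse []

theorem options_ok : ([6, 10] : List ℕ).all (fun K => (List.range 45).all fun R =>
    !xz (invX R ++ J3XT.wd K ++ invX R ++ J3XT.wd K ++ invX R ++ J3XT.wd K) ||
    (List.range 45).all fun W =>
      !(xz (invX W ++ invX R ++ invX W ++ invX R ++ invX W ++ invX R) &&
        xz (invX W ++ J3XT.wd K ++ invX W ++ J3XT.wd K) &&
        xz (invX W ++ invX R ++ J3XT.wd K ++ (invX W ++ invX R ++ J3XT.wd K) ++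
          (invX W ++ invX R ++ J3XT.wd K) ++ (invX W ++ invX R ++ J3XT.wd K) ++
          (invX W ++ invX R ++ J3XT.wd K))) ||
      xreps.all fun L =>
        !xeq (J3XT.wd L ++ J3XT.wd K) (J3XT.wd K ++ J3XT.wd L) || xz (J3XT.wd L) ||
          xeq (J3XT.wd K) (J3XT.wd L) || xeq (J3XT.wd K ++ J3XT.wd K) (J3XT.wd L) ||
          someOpt (J3XT.wd K) (invX R) (invX W) (J3XT.wd L)) = true := by
  decide +kernel

end CfsgLib.InvChar.J3Rec
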