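import Cfsg.Agent.Lib.InvChar.PSLTwoFour
import Cfsg.Agent.Lib.ClassK.SmallSimple

/-!
Groups with abelian Sylow 2-subgroups of order 8 and one class of involutions: transfer facts,
two-part of the Schur multiplier, automorphisms centralizing a Sylow 2-subgroup.
-/

set_option autoImplicit false

namespace CfsgLib.InvChar.JR

open Subgroup

variable {G : Type*} [Group G] [Finite G]

/-- In a non-abelian simple group no nontrivial element of an abelian Sylow subgroup is centralized
by its normalizer. -/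
theorem exists_moves [IsSimpleGroup G] (hG : ¬ IsMulCommutative G) (P : Sylow 2 G)
    (hP : IsMulCommutative ↥(P : Subgroup G)) (a : G) (ha : a ∈ (P : Subgroup G)) (ha1 : a ≠ 1) :
    ∃ n ∈ normalizer ((P : Subgroup G) : Set G), n * a * n⁻¹ ≠ a := by
  haveI : Fact (Nat.Prime 2) := ⟨Nat.prime_two⟩
  by_contra hcon
  push Not at hcon
  open scoped IsMulCommutative in
  set τ : G →* ↥(P : Subgroup G) := MonoidHom.transfer (MonoidHom.id ↥(P : Subgroup G)) with hτ
  have key : ∀ (k : ℕ) (g₀ : G), g₀⁻¹ * a ^ k * g₀ ∈ (P : Subgroup G) →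
      g₀⁻¹ * a ^ k * g₀ = a ^ k := by
    intro k g₀ hk
    obtain ⟨n, hn, he⟩ := P.conj_eq_normalizer_conj_of_mem (a ^ k) g₀ (pow_mem ha k) hk
    rw [he]
    have h := hcon n⁻¹ (inv_mem hn)
    rw [inv_inv] at h
    have h' : MulAut.conj n⁻¹ (a ^ k) = a ^ k := by
      rw [map_pow, MulAut.conj_apply, inv_inv, h]
    simpa using h'
  have hne : τ a ≠ 1 := by
    rw [hτ, MonoidHom.transfer_eq_pow _ a key, MonoidHom.id_apply, ne_eq, Subtype.ext_iff,
      OneMemClass.coe_one]
    intro h
    obtain ⟨j, hj⟩ := P.isPGroup' ⟨a, ha⟩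
    have hj' : a ^ 2 ^ j = 1 := by simpa using congrArg Subtype.val hj
    exact ha1 (orderOf_eq_one_iff.1 (Nat.eq_one_of_dvd_coprimes
      ((Nat.coprime_two_left.2 (Nat.odd_iff.2 (Nat.two_dvd_ne_zero.1 P.not_dvd_index))).pow_left j)
      (orderOf_dvd_of_pow_eq_one hj') (orderOf_dvd_of_pow_eq_one h)))
  rcases (MonoidHom.normal_ker τ).eq_bot_or_eq_top with h | h
  · refine hG ⟨⟨fun u v => (MonoidHom.ker_eq_bot_iff τ).1 h ?_⟩⟩
    rw [map_mul, map_mul]
    exact Subtype.ext (congrArg Subtype.val (hP.is_comm.comm (τ u) (τ v)) :)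
  · exact hne (MonoidHom.mem_ker.1 (h ▸ mem_top a))

/-- The four elements of a four-group. -/
def InFour (x y z : G) : Prop := z = 1 ∨ z = x ∨ z = y ∨ z = x * y

/-- Facts about a group isomorphic to `PSL(2,q)`, `q` odd, with abelian Sylow 2-subgroups. -/
theorem psl_data {N : Type*} [Group N] [Finite N] {F : Type*} [Field F] [Fintype F]
    (hFo : Odd (Fintype.card F)) (hF3 : 3 < Fintype.card F)
    (ι : N ≃* Matrix.ProjectiveSpecialLinearGroup (Fin 2) F)
    (hab : ∀ P : Sylow 2 N, IsMulCommutative ↥(P : Subgroup N)) :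
    ∃ x y : N, x * x = 1 ∧ x ≠ 1 ∧ y * y = 1 ∧ y ≠ 1 ∧ x ≠ y ∧ x * y = y * x ∧
      (∀ (β : MulAut N) (k : ℕ), β ^ (2 ^ k) = 1 → β x = x → β y = y →
        ∃ v, InFour x y v ∧ β = MulAut.conj v) ∧
      ∃ n : N, InFour x y (n * x * n⁻¹) ∧ InFour x y (n * y * n⁻¹) ∧
        ∀ v, InFour x y v → n * v * n⁻¹ = v → v = 1 := by
  classical
  haveI : Fact (Nat.Prime 2) := ⟨Nat.prime_two⟩
  have h2 := PSLFour.two_ne_zero_of_odd hFo
  haveI := CfsgLib.ClassK.isSimpleGroup_psl_two (F := F) (by omega)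
  haveI : Nontrivial N := ι.toEquiv.nontrivial
  haveI : IsSimpleGroup N := IsSimpleGroup.isSimpleGroup_of_surjective
    ι.symm.toMonoidHom ι.symm.surjective
  have hq := CfsgLib.Classical.card_psl_two_mul (F := F)
  set q := Fintype.card F with hqdef
  have hg2 : Nat.gcd 2 (q - 1) = 2 :=
    Nat.gcd_eq_left (by obtain ⟨c, hc⟩ := hFo; omega)
  have hcN : 2 * Nat.card N = q * (q ^ 2 - 1) := by
    rw [Nat.card_congr ι.toEquiv, ← hq, hg2]
  have h8 : 8 ∣ q ^ 2 - 1 := by
    obtain ⟨c, hc⟩ := hFo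
    obtain ⟨d, hd⟩ := (Nat.even_mul_succ_self c).two_dvd
    refine ⟨d, Nat.sub_eq_of_eq_add ?_⟩
    rw [hc]; nlinarith
  have h4N : 4 ∣ Nat.card N := by
    have : 2 * 4 ∣ 2 * Nat.card N := by rw [hcN]; exact Dvd.dvd.mul_left h8 q
    exact Nat.dvd_of_mul_dvd_mul_left two_pos this
  have hnc : ¬ IsMulCommutative N := by
    intro h
    have hp : (Nat.card N).Prime := by
      letI : CommGroup N := { (inferInstance : Group N) with mul_comm := h.is_comm.comm }
      exact IsSimpleGroup.prime_card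
    rcases (Nat.dvd_prime hp).1 (dvd_trans (by norm_num : 2 ∣ 4) h4N) with h' | h'
    · omega
    · rw [← h'] at h4N; omega
  obtain ⟨P⟩ : Nonempty (Sylow 2 N) := inferInstance
  have hPc : ∀ a ∈ (P : Subgroup N), ∀ b ∈ (P : Subgroup N), a * b = b * a :=
    fun a ha b hb => congrArg Subtype.val ((hab P).is_comm.comm ⟨a, ha⟩ ⟨b, hb⟩)
  obtain ⟨x, hxP, hx1, hxx⟩ : ∃ x ∈ (P : Subgroup N), x ≠ 1 ∧ x * x = 1 := by
    have h2P : 2 ∣ Nat.card ↥(P : Subgroup N) :=
      P.dvd_card_of_dvd_card (dvd_trans (by norm_num : 2 ∣ 4) h4N)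
    obtain ⟨a, ha⟩ := exists_prime_orderOf_dvd_card' 2 h2P
    refine ⟨a.1, a.2, fun h => ?_, ?_⟩
    · rw [show a = 1 from Subtype.ext h, orderOf_one] at ha; omega
    · have := pow_orderOf_eq_one a
      rw [ha, pow_two] at this
      exact congrArg Subtype.val this
  obtain ⟨m, hm, hmx⟩ := exists_moves hnc P (hab P) x hxP hx1
  have hm' : ∀ a, a ∈ (P : Subgroup N) → m * a * m⁻¹ ∈ (P : Subgroup N) :=
    fun a ha => (mem_normalizer_iff.1 hm a).1 ha
  set y := m * x * m⁻¹ with hydef
  have hyP : y ∈ (P : Subgroup N) := hm' x hxP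
  have hyy : y * y = 1 := by
    rw [hydef]; simp only [mul_assoc, inv_mul_cancel_left]
    rw [← mul_assoc x x, hxx, one_mul, mul_inv_cancel]
  have hy1 : y ≠ 1 := fun h => hx1 (conj_eq_one_iff.1 h)
  have hxy : x ≠ y := fun h => hmx h.symm
  have hcxy := hPc x hxP y hyP
  have hι : ∀ {a b : N}, a ≠ b → ι a ≠ ι b := fun h e => h (ι.injective e)
  have hPfour : ∀ a ∈ (P : Subgroup N), InFour x y a := by
    intro a ha
    have := PSLFour.centralizer_four h2 (ι x) (ι y) (ι a)
      (by rw [← map_mul, hxx, map_one]) (by rw [← map_one ι]; exact hι hx1)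
      (by rw [← map_mul, hyy, map_one]) (by rw [← map_one ι]; exact hι hy1) (hι hxy)
      (by rw [← map_mul, hcxy, map_mul]) (by rw [← map_mul, hPc a ha x hxP, map_mul])
      (by rw [← map_mul, hPc a ha y hyP, map_mul])
    rw [← map_one ι, ← map_mul] at this
    exact this.imp (fun e => ι.injective e) (Or.imp (fun e => ι.injective e)
      (Or.imp (fun e => ι.injective e) (fun e => ι.injective e)))
  have hcardP : Nat.card ↥(P : Subgroup N) ≤ 4 := by
    have hs : ((P : Subgroup N) : Set N) ⊆ ↑({1, x, y, x * y} : Finset N) := by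
      intro a ha
      simpa [InFour] using hPfour a ha
    have := Set.ncard_le_ncard hs (Finset.finite_toSet _)
    rw [Set.ncard_coe_finset, ← Nat.card_coe_set_eq] at this
    exact this.trans Finset.card_le_four
  have hfodd : Odd (Nat.card (F ≃+* F)) := by
    obtain ⟨p, hp⟩ := CharP.exists F
    haveI := hp
    obtain ⟨f, hpp, hf⟩ := FiniteField.card F p
    haveI : Fact p.Prime := ⟨hpp⟩
    rw [(CfsgLib.KnownC.exists_zmod_mulEquiv_ringAut hf).1]
    by_contra heven
    rw [Nat.not_odd_iff_even] at heven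
    obtain ⟨r, hr⟩ := heven
    rw [hr, ← two_mul, mul_comm, pow_mul, ← hqdef] at hf
    have hodd : Odd (p ^ r) := by
      by_contra hc
      rw [Nat.not_odd_iff_even] at hc
      rw [hf] at hFo
      exact Nat.not_even_iff_odd.2 hFo (hc.pow_of_ne_zero two_ne_zero)
    have h16 : 16 ∣ q ^ 2 - 1 := by
      rw [hf, ← pow_mul]
      obtain ⟨c, hc⟩ := hodd
      obtain ⟨d, hd⟩ := (Nat.even_mul_succ_self c).two_dvd
      refine ⟨(2 * c ^ 2 + 2 * c + 1) * d, Nat.sub_eq_of_eq_add ?_⟩
      rw [hc]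
      have : c * (c + 1) = 2 * d := hd
      linear_combination (16 * c ^ 2 + 16 * c + 8) * this
    have h8N : 8 ∣ Nat.card N := by
      have : 2 * 8 ∣ 2 * Nat.card N := by rw [hcN]; exact Dvd.dvd.mul_left h16 q
      exact Nat.dvd_of_mul_dvd_mul_left two_pos this
    have h8P : 2 ^ 3 ∣ Nat.card ↥(P : Subgroup N) :=
      P.pow_dvd_card_of_pow_dvd_card (n := 3) h8N
    exact absurd (Nat.le_of_dvd Nat.card_pos h8P) (by omega)
  refine ⟨x, y, hxx, hx1, hyy, hy1, hxy, hcxy, ?_, m, hPfour _ (hm' x hxP), hPfour _ (hm' y hyP), ?_⟩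
  · intro β k hβ hbx hby
    let β' : MulAut (Matrix.ProjectiveSpecialLinearGroup (Fin 2) F) := MulAut.congr ι β
    have happ : ∀ a, β' (ι a) = ι (β a) := fun a => by simp [β', MulAut.congr]
    obtain ⟨v, hv, hβv⟩ := PSLFour.aut_fix_four h2 hfodd (ι x) (ι y)
      (by rw [← map_mul, hxx, map_one]) (by rw [← map_one ι]; exact hι hx1)
      (by rw [← map_mul, hyy, map_one]) (by rw [← map_one ι]; exact hι hy1) (hι hxy)
      (by rw [← map_mul, hcxy, map_mul]) β' k (by rw [← map_pow, hβ, map_one])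
      (by rw [happ, hbx]) (by rw [happ, hby])
    refine ⟨ι.symm v, ?_, MulEquiv.ext fun a => ι.injective ?_⟩
    · rcases hv with h | h | h | h
      · exact Or.inl (by rw [h, map_one])
      · exact Or.inr (Or.inl (by rw [h, MulEquiv.symm_apply_apply]))
      · exact Or.inr (Or.inr (Or.inl (by rw [h, MulEquiv.symm_apply_apply])))
      · exact Or.inr (Or.inr (Or.inr (by rw [h, map_mul, MulEquiv.symm_apply_apply,
          MulEquiv.symm_apply_apply])))
    · rw [← happ, hβv]
      simp
  · intro v hv hfix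
    by_contra hv1
    -- `m` fixes `v` and moves `x`, so `m ^ 2` centralizes the four-group
    set c := MulAut.conj m with hcdef
    have hcx : c x = y := rfl
    have hcv : c v = v := hfix
    have hcy : InFour x y (c y) := hPfour _ (hm' y hyP)
    have hcy1 : c y ≠ 1 := fun h => hy1 (c.injective (h.trans (map_one c).symm))
    have hcyy : c y ≠ y := fun h => hxy (c.injective (hcx.trans h.symm))
    have hcxy' : c (x * y) = y * c y := by rw [map_mul, hcx]
    have hvxy : v = x * y := by
      rcases hv with h | h | h | h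
      · exact absurd h hv1
      · exact absurd (by rw [← hcx, ← h, hcv]) hxy.symm
      · exact absurd (c.injective (by rw [hcx, ← h, hcv])) hxy.symm
      · exact h
    have hcyx : c y = x := by
      rcases hcy with h | h | h | h
      · exact absurd h hcy1
      · exact h
      · exact absurd h hcyy
      · exfalso
        have hcxy1 : c (x * y) = x := by
          rw [hcxy', h, hcxy, ← mul_assoc, hyy, one_mul]
        rw [← hvxy, hcv, hvxy] at hcxy1
        exact hy1 (mul_eq_left.1 hcxy1)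
    have hm2x : (m * m) * x = x * (m * m) := by
      have h : c (c x) = x := by rw [hcx, hcyx]
      simp only [hcdef, MulAut.conj_apply] at h
      have := congrArg (fun u => u * (m * m)) h
      simpa [mul_assoc] using this
    have hm2y : (m * m) * y = y * (m * m) := by
      have h : c (c y) = y := by rw [hcyx, hcx]
      simp only [hcdef, MulAut.conj_apply] at h
      have := congrArg (fun u => u * (m * m)) h
      simpa [mul_assoc] using this
    have hm2 := PSLFour.centralizer_four h2 (ι x) (ι y) (ι (m * m))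
      (by rw [← map_mul, hxx, map_one]) (by rw [← map_one ι]; exact hι hx1)
      (by rw [← map_mul, hyy, map_one]) (by rw [← map_one ι]; exact hι hy1) (hι hxy)
      (by rw [← map_mul, hcxy, map_mul]) (by rw [← map_mul, hm2x, map_mul])
      (by rw [← map_mul, hm2y, map_mul])
    have hm4 : m ^ 4 = 1 := by
      rw [← map_one ι, ← map_mul ι x y] at hm2
      have e : m ^ 4 = (m * m) * (m * m) := by rw [pow_succ, pow_succ, pow_two]; simp [mul_assoc]
      rw [e]
      rcases hm2 with h | h | h | h <;> rw [ι.injective h]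
      · exact one_mul 1
      · exact hxx
      · exact hyy
      · rw [mul_assoc, ← mul_assoc y x y, ← hcxy, mul_assoc x y y, hyy, mul_one, hxx]
    have hmP : m ∈ (P : Subgroup N) := by
      have hpg : IsPGroup 2 ↥(Subgroup.zpowers m) := by
        intro u
        obtain ⟨i, hi⟩ := u.2
        refine ⟨2, Subtype.ext ?_⟩
        simp only [SubmonoidClass.coe_pow, OneMemClass.coe_one]
        rw [← hi, ← zpow_natCast, ← zpow_mul, mul_comm, zpow_mul, zpow_natCast]
        norm_num [hm4]
      have hsup : IsPGroup 2 ↥(Subgroup.zpowers m ⊔ (P : Subgroup N)) :=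
        hpg.to_sup_of_normal_right' P.isPGroup' (zpowers_le.2 hm)
      rw [← P.3 hsup le_sup_right]
      exact (le_sup_left : Subgroup.zpowers m ≤ _) (mem_zpowers m)
    apply hmx
    rw [hydef, hPc m hmP x hxP, mul_inv_cancel_right]

omit [Finite G] in
/-- Squares of lifts of conjugate elements in a central extension by a group of order 2. -/
theorem lift_sq_eq {L : Type*} [Group L] (π : L →* G) (hπ : Function.Surjective π) (z : L)
    (hzc : ∀ l, l * z = z * l) (hz2 : z * z = 1) (hker : ∀ l, π l = 1 → l = 1 ∨ l = z)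
    {s u g : G} (hs : s * s = 1) (hu : u = g * s * g⁻¹) (a b : L) (ha : π a = s) (hb : π b = u) :
    b * b = a * a := by
  obtain ⟨c, rfl⟩ := hπ g
  have h1 : π ((c * a * c⁻¹)⁻¹ * b) = 1 := by
    rw [map_mul, map_inv, map_mul, map_mul, map_inv, ha, hb, ← hu, inv_mul_cancel]
  have hb' : b = c * a * c⁻¹ ∨ b = c * a * c⁻¹ * z := by
    rcases hker _ h1 with h | h
    · exact Or.inl (inv_mul_eq_one.1 h).symm
    · exact Or.inr (by rw [← h, mul_inv_cancel_left])
  have haa : a * a * c⁻¹ = c⁻¹ * (a * a) := by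
    rcases hker (a * a) (by rw [map_mul, ha, hs]) with h | h
    · rw [h, one_mul, mul_one]
    · rw [h, hzc]
  rcases hb' with h | h <;> rw [h]
  · calc c * a * c⁻¹ * (c * a * c⁻¹) = c * (a * a * c⁻¹) := by group
      _ = a * a := by rw [haa, mul_inv_cancel_left]
  · calc c * a * c⁻¹ * z * (c * a * c⁻¹ * z) = c * a * c⁻¹ * (z * (c * a * c⁻¹)) * z := by group
      _ = c * a * c⁻¹ * (c * a * c⁻¹) * (z * z) := by rw [← hzc]; group
      _ = a * a := by
        rw [hz2, mul_one]
        calc c * a * c⁻¹ * (c * a * c⁻¹) = c * (a * a * c⁻¹) := by group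
          _ = a * a := by rw [haa, mul_inv_cancel_left]

/-- No perfect central extension by a group of order 2 when the Sylow 2-subgroup is elementary
abelian with three independent generators and all its involutions are conjugate. -/
theorem cover_contra (S : Sylow 2 G) (hS : ∀ a ∈ (S : Subgroup G), a * a = 1)
    (hone : ∀ a ∈ (S : Subgroup G), a ≠ 1 → ∀ b ∈ (S : Subgroup G), b ≠ 1 → IsConj a b)
    (t x y : G) (htS : t ∈ (S : Subgroup G)) (hxS : x ∈ (S : Subgroup G))
    (hyS : y ∈ (S : Subgroup G)) (ht : t ≠ 1) (hx : x ≠ 1) (hy : y ≠ 1) (htx : t ≠ x) (hty : t ≠ y)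
    (hxy : x ≠ y) (htxy : t ≠ x * y)
    {L : Type*} [Group L] [Finite L] (hperf : commutator L = ⊤) (π : L →* G)
    (hπ : Function.Surjective π) (z : L) (hz1 : z ≠ 1) (hzc : ∀ l, l * z = z * l) (hz2 : z * z = 1)
    (hzker : π z = 1) (hker : ∀ l, π l = 1 → l = 1 ∨ l = z) : False := by
  haveI : Fact (Nat.Prime 2) := ⟨Nat.prime_two⟩
  have hinv : ∀ a ∈ (S : Subgroup G), a⁻¹ = a := fun a ha => inv_eq_of_mul_eq_one_right (hS a ha)
  have hne : ∀ a ∈ (S : Subgroup G), ∀ b ∈ (S : Subgroup G), a ≠ b → a * b ≠ 1 :=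
    fun a ha b hb h h' => h (by rw [← hinv a ha, inv_eq_of_mul_eq_one_right h'])
  obtain ⟨X, hX⟩ := hπ t
  rcases hker (X * X) (by rw [map_mul, hX, hS t htS]) with hε | hε
  · -- all squares trivial: the preimage of `S` is elementary abelian
    have hsq : ∀ a : L, π a ∈ (S : Subgroup G) → a * a = 1 := by
      intro a ha
      rcases eq_or_ne (π a) 1 with h | h
      · rcases hker a h with e | e <;> rw [e]
        · exact one_mul 1
        · exact hz2
      · obtain ⟨g, hg⟩ := isConj_iff.1 (hone t htS ht _ ha h)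
        rw [lift_sq_eq π hπ z hzc hz2 hker (hS t htS) hg.symm X a hX rfl, hε]
    set T : Subgroup L := (S : Subgroup G).comap π
    haveI hTc : IsMulCommutative ↥T := ⟨⟨fun a b => by
      have hi : ∀ c : ↥T, c⁻¹ = c := fun c =>
        inv_eq_of_mul_eq_one_right (Subtype.ext (hsq c.1 c.2))
      rw [← hi (a * b), _root_.mul_inv_rev, hi, hi]⟩⟩
    have hidx : ¬ 2 ∣ T.index := by
      rw [show T.index = (S : Subgroup G).index from index_comap_of_surjective _ hπ]
      exact S.not_dvd_index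
    open scoped IsMulCommutative in
    set τ : L →* ↥T := MonoidHom.transfer (MonoidHom.id ↥T) with hτ
    have key : ∀ (k : ℕ) (g₀ : L), g₀⁻¹ * z ^ k * g₀ ∈ T → g₀⁻¹ * z ^ k * g₀ = z ^ k := by
      intro k g₀ _
      have hk : Commute g₀ (z ^ k) := (show Commute g₀ z from hzc g₀).pow_right k
      rw [mul_assoc, ← hk.eq, inv_mul_cancel_left]
    have hτz : τ z ≠ 1 := by
      rw [hτ, MonoidHom.transfer_eq_pow _ z key, MonoidHom.id_apply, ne_eq, Subtype.ext_iff,
        OneMemClass.coe_one]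
      intro h
      exact hz1 (orderOf_eq_one_iff.1 (Nat.eq_one_of_dvd_coprimes
        (Nat.coprime_two_left.2 (Nat.odd_iff.2 (Nat.two_dvd_ne_zero.1 hidx)))
        (orderOf_dvd_of_pow_eq_one (by rw [pow_two, hz2])) (orderOf_dvd_of_pow_eq_one h)))
    refine hτz (MonoidHom.mem_ker.1 ?_)
    have hle : commutator L ≤ τ.ker := by
      open scoped IsMulCommutative in
      exact Abelianization.commutator_subset_ker τ
    exact hle (hperf ▸ mem_top z)
  · -- all squares equal to `z`: lifts of distinct involutions anticommute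
    have hsq : ∀ a : L, π a ∈ (S : Subgroup G) → π a ≠ 1 → a * a = z := by
      intro a ha h
      obtain ⟨g, hg⟩ := isConj_iff.1 (hone t htS ht _ ha h)
      rw [lift_sq_eq π hπ z hzc hz2 hker (hS t htS) hg.symm X a hX rfl, hε]
    have hanti : ∀ a b : L, π a ∈ (S : Subgroup G) → π b ∈ (S : Subgroup G) → π a ≠ 1 → π b ≠ 1 →
        π a ≠ π b → b * a = a * b * z := by
      intro a b ha hb ha1 hb1 hab
      have h3 := hsq (a * b) (by rw [map_mul]; exact mul_mem ha hb)
        (by rw [map_mul]; exact hne _ ha _ hb hab)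
      have h1 := hsq a ha ha1
      have h2 := hsq b hb hb1
      have e : b * a = a⁻¹ * (a * b * (a * b)) * b⁻¹ := by group
      have ia : a⁻¹ = a * z := inv_eq_of_mul_eq_one_right (by rw [← mul_assoc, h1, hz2])
      have ib : b⁻¹ = b * z := inv_eq_of_mul_eq_one_right (by rw [← mul_assoc, h2, hz2])
      calc b * a = a⁻¹ * (a * b * (a * b)) * b⁻¹ := e
        _ = a * z * z * (b * z) := by rw [h3, ia, ib]
        _ = a * b * z := by rw [mul_assoc a z z, hz2, mul_one, mul_assoc]
    obtain ⟨Y, hY⟩ := hπ x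
    obtain ⟨W, hW⟩ := hπ y
    have e1 := hanti X Y (hX ▸ htS) (hY ▸ hxS) (hX ▸ ht) (hY ▸ hx) (by rw [hX, hY]; exact htx)
    have e2 := hanti X W (hX ▸ htS) (hW ▸ hyS) (hX ▸ ht) (hW ▸ hy) (by rw [hX, hW]; exact hty)
    have hYW : π (Y * W) = x * y := by rw [map_mul, hY, hW]
    have e3 := hanti X (Y * W) (hX ▸ htS) (hYW ▸ mul_mem hxS hyS) (hX ▸ ht)
      (hYW ▸ hne x hxS y hyS hxy) (by rw [hX, hYW]; exact htxy)
    have e4 : Y * W * X = X * (Y * W) := by
      calc Y * W * X = Y * (W * X) := mul_assoc _ _ _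
        _ = Y * (X * W * z) := by rw [e2]
        _ = Y * X * W * z := by simp [mul_assoc]
        _ = X * Y * z * W * z := by rw [e1]
        _ = X * Y * W * (z * z) := by
            rw [mul_assoc (X * Y) z W, ← hzc W, ← mul_assoc, mul_assoc (X * Y * W) z z]
        _ = X * (Y * W) := by rw [hz2, mul_one, mul_assoc]
    rw [e4] at e3
    exact hz1 (mul_eq_left.1 e3.symm)

end CfsgLib.InvChar.JR
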