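import Cfsg.Agent.Lib.InvChar.JankoReeCover
import Cfsg.Prelude.Def_TwoFusion

/-!
The Sylow 2-subgroup and its fusion for a simple group with abelian Sylow 2-subgroups and an
involution `t` with `C(t) = ⟨t⟩ × E`, `PSL(2,q) ⊴ E`, `C_E(PSL(2,q)) = 1`.
-/

set_option autoImplicit false

namespace CfsgLib.InvChar.JR

open Subgroup

variable {G : Type*} [Group G] [Finite G]

/-- The Sylow 2-subgroup `{1, t} × {1, x, y, x * y}` and an element of order 3 of its normalizer. -/
structure SylowData (t : G) (S : Sylow 2 G) (NG : Subgroup G) (x y n : G) : Prop where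
  tS : t ∈ (S : Subgroup G)
  xN : x ∈ NG
  yN : y ∈ NG
  nN : n ∈ NG
  xS : x ∈ (S : Subgroup G)
  yS : y ∈ (S : Subgroup G)
  x1 : x ≠ 1
  y1 : y ≠ 1
  xy : x ≠ y
  four : ∀ s ∈ (S : Subgroup G), InFour x y s ∨ InFour x y (t * s)
  sq : ∀ s ∈ (S : Subgroup G), s * s = 1
  comm : ∀ a ∈ (S : Subgroup G), ∀ b ∈ (S : Subgroup G), a * b = b * a
  le_cent : ∀ s ∈ (S : Subgroup G), s * t = t * s
  nnorm : n ∈ normalizer ((S : Subgroup G) : Set G)
  ncent : n * t = t * n
  nfix : ∀ v, InFour x y v → n * v * n⁻¹ = v → v = 1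
  conjFour : ∀ v, InFour x y v → InFour x y (n * v * n⁻¹)

omit [Finite G] in
theorem inFour_mem {H : Subgroup G} {x y v : G} (hx : x ∈ H) (hy : y ∈ H) (hv : InFour x y v) :
    v ∈ H := by
  rcases hv with h | h | h | h <;> rw [h]
  exacts [one_mem H, hx, hy, mul_mem hx hy]

omit [Finite G] in
theorem mem_pm_of_sup (t : G) (ht : t * t = 1) (E C : Subgroup G)
    (hE : Cfsg.IsInternalDirectProduct (zpowers t) E C) (c : G) (hc : c ∈ C) : c ∈ E ∨ t * c ∈ E := by
  obtain ⟨-, -, hcm, -, hsup⟩ := hE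
  have hte : ∀ e ∈ E, t * e = e * t := fun e he => hcm t (mem_zpowers t) e he
  have hti : t⁻¹ = t := inv_eq_of_mul_eq_one_right ht
  have htc : ∀ a, (a ∈ E ∨ t * a ∈ E) → t * a = a * t := by
    rintro a (h | h)
    · exact hte a h
    · have := hte _ h
      rw [← mul_assoc, ht, one_mul] at this
      calc t * a = t * a * t * t := by rw [mul_assoc (t * a), ht, mul_one]
        _ = a * t := by rw [← this]
  let K : Subgroup G :=
    { carrier := {a | a ∈ E ∨ t * a ∈ E}
      one_mem' := Or.inl (one_mem E)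
      mul_mem' := by
        intro a b ha hb
        rcases ha with ha | ha <;> rcases hb with hb | hb
        · exact Or.inl (mul_mem ha hb)
        · refine Or.inr ?_
          rw [← mul_assoc, htc a (Or.inl ha), mul_assoc]
          exact mul_mem ha hb
        · refine Or.inr ?_
          rw [← mul_assoc]
          exact mul_mem ha hb
        · refine Or.inl ?_
          have := mul_mem ha hb
          rw [mul_assoc, ← mul_assoc a t b, ← htc a (Or.inr ha), mul_assoc t a b, ← mul_assoc t t,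
            ht, one_mul] at this
          exact this
      inv_mem' := by
        intro a ha
        rcases ha with h | h
        · exact Or.inl (inv_mem h)
        · refine Or.inr ?_
          have h' := inv_mem h
          rw [htc a (Or.inr h), _root_.mul_inv_rev, hti] at h'
          exact h' }
  have hle : C ≤ K := by
    rw [← hsup]
    refine sup_le (zpowers_le.2 (Or.inr ?_)) fun e he => Or.inl he
    rw [ht]; exact one_mem E
  exact hle hc

/-- Construction of the data. -/
theorem exists_sylowData (hab : ∀ S : Sylow 2 G, IsMulCommutative ↥(S : Subgroup G))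
    (t : G) (ht : orderOf t = 2) (E : Subgroup G)
    (hE : Cfsg.IsInternalDirectProduct (zpowers t) E (centralizer ({t} : Set G)))
    {F : Type*} [Field F] [Fintype F] (hFo : Odd (Fintype.card F)) (hF3 : 3 < Fintype.card F)
    (N : Subgroup ↥E) [N.Normal]
    (hN : Nonempty (↥N ≃* Matrix.ProjectiveSpecialLinearGroup (Fin 2) F))
    (hNc : centralizer (N : Set ↥E) = ⊥) :
    ∃ (S : Sylow 2 G) (x y n : G), SylowData t S (N.map E.subtype) x y n ∧
      ∀ (β : MulAut ↥N) (k : ℕ), β ^ (2 ^ k) = 1 →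
        (∀ u : ↥N, ((u : ↥E) : G) = x ∨ ((u : ↥E) : G) = y → β u = u) →
        ∃ v : ↥N, InFour x y ((v : ↥E) : G) ∧ β = MulAut.conj v := by
  classical
  haveI : Fact (Nat.Prime 2) := ⟨Nat.prime_two⟩
  obtain ⟨ι⟩ := hN
  have ht2 : t * t = 1 := by rw [← pow_two, ← ht, pow_orderOf_eq_one]
  let f : ↥N →* G := E.subtype.comp N.subtype
  have hf : Function.Injective f := E.subtype_injective.comp N.subtype_injective
  have habN : ∀ P : Sylow 2 ↥N, IsMulCommutative ↥(P : Subgroup ↥N) := by
    intro P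
    obtain ⟨S, hS⟩ := (P.isPGroup'.map f).exists_le_sylow
    refine ⟨⟨fun a b => Subtype.ext (hf ?_)⟩⟩
    show f ((a : ↥N) * b) = f ((b : ↥N) * a)
    rw [MonoidHom.map_mul, MonoidHom.map_mul]
    exact congrArg Subtype.val
      ((hab S).is_comm.comm ⟨f a, hS (mem_map_of_mem f a.2)⟩ ⟨f b, hS (mem_map_of_mem f b.2)⟩)
  obtain ⟨x, y, hxx, hx1, hyy, hy1, hxy, hcxy, haut, m, hmx, hmy, hmfix⟩ :=
    psl_data hFo hF3 ι habN
  have hfour : ∀ v, InFour x y v → InFour (f x) (f y) (f v) := by
    intro v hv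
    rcases hv with h | h | h | h <;> rw [h]
    · exact Or.inl (map_one f)
    · exact Or.inr (Or.inl rfl)
    · exact Or.inr (Or.inr (Or.inl rfl))
    · exact Or.inr (Or.inr (Or.inr (map_mul f x y)))
  have hfour' : ∀ g, InFour (f x) (f y) g → ∃ v, InFour x y v ∧ g = f v := by
    intro g hg
    rcases hg with h | h | h | h
    · exact ⟨1, Or.inl rfl, by rw [h, map_one]⟩
    · exact ⟨x, Or.inr (Or.inl rfl), h⟩
    · exact ⟨y, Or.inr (Or.inr (Or.inl rfl)), h⟩
    · exact ⟨x * y, Or.inr (Or.inr (Or.inr rfl)), by rw [h, map_mul]⟩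
  have hfE : ∀ u, f u ∈ E := fun u => (u : ↥E).2
  have htf : ∀ u, t * f u = f u * t := fun u => hE.2.2.1 t (mem_zpowers t) _ (hfE u)
  have hpg : ∀ a : G, a * a = 1 → IsPGroup 2 ↥(zpowers a) := by
    intro a ha u
    obtain ⟨i, hi⟩ := u.2
    refine ⟨1, Subtype.ext ?_⟩
    simp only [SubmonoidClass.coe_pow, OneMemClass.coe_one]
    rw [← hi, ← zpow_natCast, ← zpow_mul, mul_comm, zpow_mul, zpow_natCast]
    norm_num [pow_two, ha]
  have hnorm : ∀ a b : G, a * b = b * a → a ∈ normalizer ((zpowers b : Subgroup G) : Set G) := by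
    intro a b hab'
    rw [mem_normalizer_iff]
    intro g
    have hconj : ∀ i : ℤ, a * b ^ i * a⁻¹ = b ^ i := fun i => by
      rw [((show Commute a b from hab').zpow_right i).eq, mul_inv_cancel_right]
    constructor
    · rintro ⟨i, rfl⟩; exact ⟨i, (hconj i).symm⟩
    · rintro ⟨i, hi⟩
      exact ⟨i, mul_left_cancel (mul_right_cancel ((hconj i).trans hi))⟩
  have hX2 : f x * f x = 1 := by rw [← map_mul, hxx, map_one]
  have hY2 : f y * f y = 1 := by rw [← map_mul, hyy, map_one]
  have hVp : IsPGroup 2 ↥(zpowers (f y) ⊔ zpowers (f x)) :=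
    (hpg _ hY2).to_sup_of_normal_right' (hpg _ hX2)
      (zpowers_le.2 (hnorm _ _ (by rw [← map_mul, ← map_mul, hcxy])))
  have hWp : IsPGroup 2 ↥(zpowers t ⊔ (zpowers (f y) ⊔ zpowers (f x))) := by
    refine (hpg _ ht2).to_sup_of_normal_right' hVp (zpowers_le.2 ?_)
    rw [mem_normalizer_iff]
    intro g
    have hcen : zpowers (f y) ⊔ zpowers (f x) ≤ centralizer ({t} : Set G) := by
      refine sup_le (zpowers_le.2 ?_) (zpowers_le.2 ?_) <;>
        exact mem_centralizer_singleton_iff.2 (htf _).symm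
    constructor
    · intro hg
      rw [show t * g = g * t from (mem_centralizer_singleton_iff.1 (hcen hg)).symm,
        mul_inv_cancel_right]
      exact hg
    · intro hg
      have := mem_centralizer_singleton_iff.1 (hcen hg)
      have e : t * g * t⁻¹ = g := by
        calc t * g * t⁻¹ = t⁻¹ * (t * (t * g * t⁻¹)) := (inv_mul_cancel_left _ _).symm
          _ = t⁻¹ * (t * g * t⁻¹ * t) := by rw [this]
          _ = g := by group
      rwa [e] at hg
  obtain ⟨S, hWS⟩ := hWp.exists_le_sylow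
  have htS : t ∈ (S : Subgroup G) := hWS ((le_sup_left : zpowers t ≤ _) (mem_zpowers t))
  have hxS : f x ∈ (S : Subgroup G) :=
    hWS ((le_sup_right : zpowers (f y) ⊔ zpowers (f x) ≤ _)
      ((le_sup_right : zpowers (f x) ≤ _) (mem_zpowers _)))
  have hyS : f y ∈ (S : Subgroup G) :=
    hWS ((le_sup_right : zpowers (f y) ⊔ zpowers (f x) ≤ _)
      ((le_sup_left : zpowers (f y) ≤ _) (mem_zpowers _)))
  have hScomm : ∀ a ∈ (S : Subgroup G), ∀ b ∈ (S : Subgroup G), a * b = b * a := fun a ha b hb =>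
    congrArg Subtype.val ((hab S).is_comm.comm ⟨a, ha⟩ ⟨b, hb⟩)
  have hSC : ∀ s ∈ (S : Subgroup G), s * t = t * s := fun s hs => hScomm s hs t htS
  -- a 2-element of `E` centralizing the four-group lies in it
  have hE2 : ∀ e : ↥E, (e : G) ∈ (S : Subgroup G) → InFour (f x) (f y) (e : G) := by
    intro e he
    obtain ⟨k, hk⟩ := S.isPGroup' ⟨(e : G), he⟩
    have hk' : e ^ 2 ^ k = 1 := Subtype.ext (by simpa using congrArg Subtype.val hk)
    set β : MulAut ↥N := MulAut.conjNormal e with hβdef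
    have happ : ∀ u : ↥N, f (β u) = (e : G) * f u * (e : G)⁻¹ := fun u => by
      show ((β u : ↥E) : G) = _
      rw [hβdef, MulAut.conjNormal_apply]
      rfl
    have hfix : ∀ u : ↥N, f u ∈ (S : Subgroup G) → β u = u := fun u hu => by
      refine hf ?_
      rw [happ, hScomm _ he _ hu, mul_inv_cancel_right]
    obtain ⟨v, hv, hβv⟩ := haut β k (by rw [hβdef, ← map_pow, hk', map_one]) (hfix x hxS) (hfix y hyS)
    have hcen : (v : ↥E)⁻¹ * e ∈ centralizer (N : Set ↥E) := by
      rw [mem_centralizer_iff]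
      intro u hu
      have h := congrArg (fun γ : MulAut ↥N => ((γ ⟨u, hu⟩ : ↥N) : ↥E)) hβv
      simp only [hβdef, MulAut.conjNormal_apply, MulAut.conj_apply, Subgroup.coe_mul,
        InvMemClass.coe_inv] at h
      calc u * ((v : ↥E)⁻¹ * e) = (v : ↥E)⁻¹ * ((v : ↥E) * u * (v : ↥E)⁻¹) * e := by group
        _ = (v : ↥E)⁻¹ * (e * u * e⁻¹) * e := by rw [h]
        _ = (v : ↥E)⁻¹ * e * u := by group
    rw [hNc, mem_bot, inv_mul_eq_one] at hcen
    rw [← hcen]
    exact hfour v hv
  have hSfour : ∀ s ∈ (S : Subgroup G), InFour (f x) (f y) s ∨ InFour (f x) (f y) (t * s) := by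
    intro s hs
    rcases mem_pm_of_sup t ht2 E _ hE s (mem_centralizer_singleton_iff.2 (hSC s hs)) with h | h
    · exact Or.inl (hE2 ⟨s, h⟩ hs)
    · exact Or.inr (hE2 ⟨t * s, h⟩ (mul_mem htS hs))
  have hsqV : ∀ g, InFour (f x) (f y) g → g * g = 1 := by
    intro g hg
    rcases hg with h | h | h | h <;> rw [h]
    · exact one_mul 1
    · exact hX2
    · exact hY2
    · rw [mul_assoc, ← mul_assoc (f y) (f x), ← hScomm _ hxS _ hyS, mul_assoc (f x) (f y) (f y), hY2,
        mul_one, hX2]
  have hsq : ∀ s ∈ (S : Subgroup G), s * s = 1 := by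
    intro s hs
    rcases hSfour s hs with h | h
    · exact hsqV s h
    · have := hsqV _ h
      rwa [mul_assoc, ← mul_assoc s t s, hSC s hs, mul_assoc t s s, ← mul_assoc t t, ht2,
        one_mul] at this
  have hconjV : ∀ g, InFour (f x) (f y) g → InFour (f x) (f y) (f m * g * (f m)⁻¹) := by
    intro g hg
    obtain ⟨v, hv, rfl⟩ := hfour' g hg
    rw [← map_inv, ← map_mul, ← map_mul]
    refine hfour _ ?_
    rcases hv with h | h | h | h <;> rw [h]
    · exact Or.inl (by group)
    · exact hmx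
    · exact hmy
    · have e : m * (x * y) * m⁻¹ = m * x * m⁻¹ * (m * y * m⁻¹) := by group
      rw [e]
      have hyx : y * x = x * y := hcxy.symm
      rcases hmx with h1 | h1 | h1 | h1 <;> rcases hmy with h2 | h2 | h2 | h2 <;> rw [h1, h2] <;>
        simp [InFour, hxx, hyy, hyx, mul_assoc, ← mul_assoc x x, ← mul_assoc y y, ← mul_assoc y x]
  have hVS : ∀ g, InFour (f x) (f y) g → g ∈ (S : Subgroup G) := fun g hg => inFour_mem hxS hyS hg
  have hmS : ∀ s ∈ (S : Subgroup G), f m * s * (f m)⁻¹ ∈ (S : Subgroup G) := by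
    intro s hs
    rcases hSfour s hs with h | h
    · exact hVS _ (hconjV _ h)
    · have h' := hVS _ (hconjV _ h)
      have e : f m * (t * s) * (f m)⁻¹ = t * (f m * s * (f m)⁻¹) := by
        rw [← mul_assoc, ← htf m]; group
      rw [e] at h'
      exact (Subgroup.mul_mem_cancel_left _ htS).1 h'
  have hmn : f m ∈ normalizer ((S : Subgroup G) : Set G) := by
    rw [mem_normalizer_iff]
    intro g
    refine ⟨hmS g, fun hg => ?_⟩
    have heq : (S : Subgroup G).map (MulAut.conj (f m)).toMonoidHom = (S : Subgroup G) := by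
      refine Subgroup.eq_of_le_of_card_ge ?_ ?_
      · rintro _ ⟨s, hs, rfl⟩; exact hmS s hs
      · rw [card_map_of_injective (MulAut.conj (f m)).injective]
    rw [← heq] at hg
    obtain ⟨s, hs, he⟩ := hg
    rwa [← mul_left_cancel (mul_right_cancel (show f m * s * (f m)⁻¹ = f m * g * (f m)⁻¹ from he))]
  refine ⟨S, f x, f y, f m,
    ⟨htS, ⟨_, x.2, rfl⟩, ⟨_, y.2, rfl⟩, ⟨_, m.2, rfl⟩, hxS, hyS,
      fun h => hx1 (hf (h.trans (map_one f).symm)), fun h => hy1 (hf (h.trans (map_one f).symm)),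
      fun h => hxy (hf h), hSfour, hsq, hScomm, hSC, hmn, (htf m).symm, ?_, hconjV⟩, ?_⟩
  · intro g hg hfix
    obtain ⟨v, hv, rfl⟩ := hfour' g hg
    rw [← map_inv, ← map_mul, ← map_mul] at hfix
    rw [hmfix v hv (hf hfix), map_one]
  · intro β k hβ hfix
    obtain ⟨v, hv, hβv⟩ := haut β k hβ (hfix x (Or.inl rfl)) (hfix y (Or.inr rfl))
    exact ⟨v, hfour v hv, hβv⟩

/-- All involutions of the Sylow 2-subgroup are conjugate to `t`. -/
theorem isConj_of_mem [IsSimpleGroup G] (hG : ¬ IsMulCommutative G) {t : G} (ht1 : t ≠ 1)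
    {S : Sylow 2 G} {NG : Subgroup G} {x y n : G} (D : SylowData t S NG x y n)
    (htV : ¬ InFour x y t) (a : G) (ha : a ∈ (S : Subgroup G)) (ha1 : a ≠ 1) : IsConj t a := by
  classical
  haveI : Fact (Nat.Prime 2) := ⟨Nat.prime_two⟩
  set H := normalizer ((S : Subgroup G) : Set G) with hH
  letI : MulAction ↥H G := MulAction.compHom G (MulAut.conj.comp H.subtype)
  set O := MulAction.orbit ↥H t with hO
  have hOm : ∀ g, g ∈ O ↔ ∃ h ∈ H, h * t * h⁻¹ = g := fun g =>
    ⟨fun ⟨h, e⟩ => ⟨h.1, h.2, e⟩, fun ⟨h, hh, e⟩ => ⟨⟨h, hh⟩, e⟩⟩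
  have hodd : Odd O.ncard := by
    rw [hO, ← MulAction.index_stabilizer]
    have hle : (S : Subgroup G).subgroupOf H ≤ MulAction.stabilizer ↥H t := by
      intro h hh
      show (h : G) * t * (h : G)⁻¹ = t
      rw [D.le_cent (h : G) hh, mul_inv_cancel_right]
    have hd : ((S : Subgroup G).subgroupOf H).index ∣ (S : Subgroup G).index :=
      ⟨H.index, (relIndex_mul_index Subgroup.le_normalizer).symm⟩
    exact (Nat.odd_iff.2 (Nat.two_dvd_ne_zero.1 S.not_dvd_index)).of_dvd_nat
      ((index_dvd_of_le hle).trans hd)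
  have hOS : ∀ g ∈ O, g ∈ (S : Subgroup G) ∧ g ≠ 1 := by
    intro g hg
    obtain ⟨h, hh, rfl⟩ := (hOm g).1 hg
    exact ⟨(mem_normalizer_iff.1 hh t).1 D.tS, fun e => ht1 (conj_eq_one_iff.1 e)⟩
  have hclosed : ∀ g ∈ O, n * g * n⁻¹ ∈ O := by
    intro g hg
    obtain ⟨h, hh, rfl⟩ := (hOm g).1 hg
    exact (hOm _).2 ⟨n * h, mul_mem D.nnorm hh, by group⟩
  have htO : t ∈ O := MulAction.mem_orbit_self t
  have hxy1 : x * y ≠ 1 := fun h => D.xy (by
    rw [← inv_eq_of_mul_eq_one_right h, inv_eq_of_mul_eq_one_right (D.sq x D.xS)])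
  have hxyS : x * y ∈ (S : Subgroup G) := mul_mem D.xS D.yS
  -- a subset of the four-group closed under `n` containing an involution contains all three
  have hall : ∀ P : G → Prop, (∀ v, InFour x y v → v ≠ 1 → P v → P (n * v * n⁻¹)) →
      ∀ v, InFour x y v → v ≠ 1 → P v → P x ∧ P y ∧ P (x * y) := by
    intro P hP v hv hv1 hPv
    have hcyc : ∀ u, InFour x y u → u ≠ 1 → P u →
        P (n * u * n⁻¹) ∧ n * u * n⁻¹ ≠ u ∧ n * u * n⁻¹ ≠ 1 ∧ InFour x y (n * u * n⁻¹) :=
      fun u hu hu1 hPu => ⟨hP u hu hu1 hPu, fun e => hu1 (D.nfix u hu e),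
        fun e => hu1 (conj_eq_one_iff.1 e), D.conjFour u hu⟩
    obtain ⟨hP1, hne1, hw1, hwV⟩ := hcyc v hv hv1 hPv
    obtain ⟨hP2, hne2, hu1, huV⟩ := hcyc _ hwV hw1 hP1
    set w := n * v * n⁻¹ with hw
    set u := n * w * n⁻¹ with hu
    have hne3 : u ≠ v := by
      intro e
      -- then `n` fixes `v * w`
      have hvw : InFour x y (v * w) := by
        have hs := D.sq
        rcases hv with h | h | h | h <;> rcases hwV with h' | h' | h' | h' <;> rw [h, h'] <;>
          simp [InFour, hs x D.xS, hs y D.yS, mul_assoc, D.comm y D.yS x D.xS,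
            ← mul_assoc x x, ← mul_assoc y y, ← mul_assoc y x]
      have hfix : n * (v * w) * n⁻¹ = v * w := by
        have e1 : n * (v * w) * n⁻¹ = w * u := by rw [hw, hu, hw]; group
        rw [e1, e]
        exact D.comm w (inFour_mem D.xS D.yS hwV) v (inFour_mem D.xS D.yS hv)
      have := D.nfix _ hvw hfix
      exact hne1 (by
        rw [← inv_eq_of_mul_eq_one_right this,
          inv_eq_of_mul_eq_one_right (D.sq v (inFour_mem D.xS D.yS hv))])
    rcases hv with h | h | h | h <;> rcases hwV with h' | h' | h' | h' <;>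
      rcases huV with h'' | h'' | h'' | h'' <;>
      first
        | exact absurd h hv1
        | exact absurd h' hw1
        | exact absurd h'' hu1
        | exact absurd (h'.trans h.symm) hne1
        | exact absurd (h''.trans h'.symm) hne2
        | exact absurd (h''.trans h.symm) hne3
        | (refine ⟨?_, ?_, ?_⟩ <;> first | (rw [← h]; exact hPv) | (rw [← h']; exact hP1) |
            (rw [← h'']; exact hP2))
  have hA : (∃ v, InFour x y v ∧ v ∈ O) → x ∈ O ∧ y ∈ O ∧ x * y ∈ O := fun ⟨v, hv, hvO⟩ =>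
    hall (· ∈ O) (fun u _ _ hu => hclosed u hu) v hv (hOS v hvO).2 hvO
  have hB : (∃ v, InFour x y v ∧ v ≠ 1 ∧ t * v ∈ O) → t * x ∈ O ∧ t * y ∈ O ∧ t * (x * y) ∈ O :=
    fun ⟨v, hv, hv1, hvO⟩ => hall (fun u => t * u ∈ O) (fun u _ _ hu => by
      have e : t * (n * u * n⁻¹) = n * (t * u) * n⁻¹ := by
        rw [← mul_assoc, ← mul_assoc, ← D.ncent]; group
      rw [e]; exact hclosed _ hu) v hv hv1 hvO
  have hsplit : ∀ g ∈ O, g = t ∨ (InFour x y g ∧ g ≠ 1) ∨ (InFour x y (t * g) ∧ t * g ≠ 1) := by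
    intro g hg
    rcases D.four g (hOS g hg).1 with h | h
    · exact Or.inr (Or.inl ⟨h, (hOS g hg).2⟩)
    · rcases eq_or_ne (t * g) 1 with e | e
      · left
        rw [← inv_eq_of_mul_eq_one_right e, inv_eq_of_mul_eq_one_right (D.sq t D.tS)]
      · exact Or.inr (Or.inr ⟨h, e⟩)
  have hne_of : ∀ u v, InFour x y u → InFour x y v → t * u ≠ v := by
    intro u v hu hv e
    apply htV
    have : t = v * u := by
      rw [← e, mul_assoc, D.sq u (inFour_mem D.xS D.yS hu), mul_one]
    rw [this]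
    have hs := D.sq
    rcases hu with h | h | h | h <;> rcases hv with h' | h' | h' | h' <;> rw [h, h'] <;>
      simp [InFour, hs x D.xS, hs y D.yS, mul_assoc, D.comm y D.yS x D.xS,
        ← mul_assoc x x, ← mul_assoc y y, ← mul_assoc y x]
  have hxV : InFour x y x := Or.inr (Or.inl rfl)
  have hyV : InFour x y y := Or.inr (Or.inr (Or.inl rfl))
  have hxyV : InFour x y (x * y) := Or.inr (Or.inr (Or.inr rfl))
  have hx_ne : x ≠ x * y := fun h => D.y1 (mul_eq_left.1 h.symm)
  have hy_ne : y ≠ x * y := fun h => D.x1 (mul_eq_right.1 h.symm)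
  by_cases cA : ∃ v, InFour x y v ∧ v ∈ O
  · by_cases cB : ∃ v, InFour x y v ∧ v ≠ 1 ∧ t * v ∈ O
    · obtain ⟨a1, a2, a3⟩ := hA cA
      obtain ⟨b1, b2, b3⟩ := hB cB
      suffices hs : a ∈ O by
        obtain ⟨h, -, e⟩ := (hOm a).1 hs
        exact isConj_iff.2 ⟨h, e⟩
      rcases D.four a ha with h | h
      · rcases h with h | h | h | h
        · exact absurd h ha1
        all_goals (rw [h]; assumption)
      · have e : a = t * (t * a) := by rw [← mul_assoc, D.sq t D.tS, one_mul]
        rcases h with h | h | h | h <;> rw [e, h]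
        · rwa [mul_one]
        all_goals assumption
    · exfalso
      obtain ⟨a1, a2, a3⟩ := hA cA
      have hOeq : O = ↑({t, x, y, x * y} : Finset G) := by
        ext g
        simp only [Finset.coe_insert, Finset.coe_singleton, Set.mem_insert_iff,
          Set.mem_singleton_iff]
        constructor
        · intro hg
          rcases hsplit g hg with h | ⟨h, h1⟩ | ⟨h, h1⟩
          · exact Or.inl h
          · exact Or.inr (h.resolve_left h1)
          · exact absurd ⟨t * g, h, h1, by rwa [← mul_assoc, D.sq t D.tS, one_mul]⟩ cB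
        · rintro (h | h | h | h) <;> rw [h] <;> assumption
      have hc : ({t, x, y, x * y} : Finset G).card = 4 := by
        rw [Finset.card_insert_of_notMem, Finset.card_insert_of_notMem,
          Finset.card_insert_of_notMem, Finset.card_singleton]
        · simpa using hy_ne
        · simp [D.xy, hx_ne]
        · simp only [Finset.mem_insert, Finset.mem_singleton]
          rintro (h | h | h) <;> exact htV (by rw [h]; assumption)
      rw [hOeq, Set.ncard_coe_finset, hc] at hodd
      exact absurd hodd (by decide)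
  · by_cases cB : ∃ v, InFour x y v ∧ v ≠ 1 ∧ t * v ∈ O
    · exfalso
      obtain ⟨b1, b2, b3⟩ := hB cB
      have hOeq : O = ↑({t, t * x, t * y, t * (x * y)} : Finset G) := by
        ext g
        simp only [Finset.coe_insert, Finset.coe_singleton, Set.mem_insert_iff,
          Set.mem_singleton_iff]
        constructor
        · intro hg
          rcases hsplit g hg with h | ⟨h, h1⟩ | ⟨h, h1⟩
          · exact Or.inl h
          · exact absurd ⟨g, h, hg⟩ cA
          · have e : g = t * (t * g) := by rw [← mul_assoc, D.sq t D.tS, one_mul]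
            rcases h.resolve_left h1 with h | h | h <;> rw [h] at e
            · exact Or.inr (Or.inl e)
            · exact Or.inr (Or.inr (Or.inl e))
            · exact Or.inr (Or.inr (Or.inr e))
        · rintro (h | h | h | h) <;> rw [h] <;> assumption
      have hc : ({t, t * x, t * y, t * (x * y)} : Finset G).card = 4 := by
        rw [Finset.card_insert_of_notMem, Finset.card_insert_of_notMem,
          Finset.card_insert_of_notMem, Finset.card_singleton]
        · simpa using hy_ne
        · simp [D.xy, hx_ne]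
        · simp only [Finset.mem_insert, Finset.mem_singleton]
          rintro (h | h | h)
          · exact D.x1 (mul_eq_left.1 h.symm)
          · exact D.y1 (mul_eq_left.1 h.symm)
          · exact hxy1 (mul_eq_left.1 h.symm)
      rw [hOeq, Set.ncard_coe_finset, hc] at hodd
      exact absurd hodd (by decide)
    · exfalso
      obtain ⟨h, hh, hne⟩ := exists_moves hG S ⟨⟨fun u v => Subtype.ext (D.comm _ u.2 _ v.2)⟩⟩ t D.tS ht1
      have hg : h * t * h⁻¹ ∈ O := (hOm _).2 ⟨h, hh, rfl⟩
      rcases hsplit _ hg with e | ⟨e, e1⟩ | ⟨e, e1⟩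
      · exact hne e
      · exact cA ⟨_, e, hg⟩
      · exact cB ⟨_, e, e1, by rwa [← mul_assoc t t, D.sq t D.tS, one_mul]⟩

end CfsgLib.InvChar.JR
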