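import Cfsg.Agent.Lib.InvChar.O7InFi22Check
import Cfsg.Agent.Lib.InvChar.SporFi22Trans
import Cfsg.Agent.Lib.Trans3.Fi.ReflOmega

/-!
The presented Fischer group Fi22 contains a subgroup generated by transpositions isomorphic to O7(3).
-/

set_option autoImplicit false
set_option maxRecDepth 100000

namespace CfsgLib.InvChar.O7InFi22

open CfsgLib.InvChar.Coset CfsgLib.InvChar.SporFi22 CfsgLib.Geom CfsgLib.Geom.ReflThree
open QuadraticMap (polar)
open Cfsg.Spor (Fi22)

local instance : Fact (Nat.Prime 3) := ⟨Nat.prime_three⟩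

/-- the sum of seven squares -/
noncomputable def Q7 : QuadraticForm (ZMod 3) (Fin 7 → ZMod 3) :=
  QuadraticMap.weightedSumSquares (ZMod 3) fun _ : Fin 7 => (1 : ZMod 3)

theorem polar_Q7 (x y : Fin 7 → ZMod 3) : polar Q7 x y = 2 * ∑ k, x k * y k := by
  simp only [QuadraticMap.polar, Q7, QuadraticMap.weightedSumSquares_apply, smul_eq_mul, one_mul,
    Pi.add_apply, ← Finset.sum_sub_distrib, Finset.mul_sum]
  exact Finset.sum_congr rfl fun k _ => by ring

theorem nondeg_Q7 : (QuadraticMap.polarBilin Q7).Nondegenerate := by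
  have key : ∀ x : Fin 7 → ZMod 3, (∀ y, polar Q7 x y = 0) → x = 0 := by
    intro x hx
    funext k
    have h := hx (Pi.single k 1)
    rw [polar_Q7, Finset.sum_eq_single k (fun j _ hj => by simp [Pi.single_eq_of_ne hj]) (by simp)] at h
    simpa [two_ne] using h
  exact ⟨key, fun y hy => key y fun x => by rw [QuadraticMap.polar_comm]; exact hy x⟩

theorem disc_Q7 : Cfsg.polarGramDet (⇑Q7) = -1 := by
  have h : (Matrix.of fun i j : Fin 7 => polar (⇑Q7) (Pi.single i 1) (Pi.single j 1)) =
      Matrix.diagonal fun _ : Fin 7 => (2 : ZMod 3) := by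
    ext i j
    rw [Matrix.of_apply, polar_Q7, Finset.sum_eq_single i (fun k _ hk => by simp [Pi.single_eq_of_ne hk]) (by simp)]
    rcases eq_or_ne i j with rfl | hij
    · simp
    · simp [Matrix.diagonal_apply_ne _ hij, Pi.single_eq_of_ne hij]
  rw [Cfsg.polarGramDet, h, Matrix.det_diagonal]
  decide

/-- the vector of a code -/
def vec (c : ℕ) : Fin 7 → ZMod 3 := fun k => (dig c k : ZMod 3)

/-- the code of a vector -/
def enc (x : Fin 7 → ZMod 3) : ℕ :=
  (x 0).val + (x 1).val * 3 + (x 2).val * 9 + (x 3).val * 27 + (x 4).val * 81 + (x 5).val * 243 +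
    (x 6).val * 729

theorem enc_lt (x : Fin 7 → ZMod 3) : enc x < 2187 := by
  have h : ∀ k, (x k).val < 3 := fun k => ZMod.val_lt _
  have := h 0; have := h 1; have := h 2; have := h 3; have := h 4; have := h 5; have := h 6
  simp only [enc]
  omega

theorem vec_enc (x : Fin 7 → ZMod 3) : vec (enc x) = x := by
  have h : ∀ k, (x k).val < 3 := fun k => ZMod.val_lt _
  funext k
  have hd : dig (enc x) k = (x k).val := by
    have := h 0; have := h 1; have := h 2; have := h 3; have := h 4; have := h 5; have := h 6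
    fin_cases k <;> simp [dig, enc] <;> omega
  show ((dig (enc x) k : ℕ) : ZMod 3) = x k
  rw [hd, ZMod.natCast_zmod_val]

theorem enc_vec {c : ℕ} (hc : c < 2187) : enc (vec c) = c := by
  have h : ∀ k : Fin 7, (vec c k).val = dig c k := fun k => by
    rw [vec, ZMod.val_natCast]
    exact Nat.mod_eq_of_lt (Nat.mod_lt _ (by norm_num))
  simp only [enc, h, dig]
  simp
  omega

theorem vec_negc {c : ℕ} (hc : c < 2187) : vec (negc c) = -vec c := by
  funext k
  have h := (negc_ok c hc k k.2).2
  show ((dig (negc c) k : ℕ) : ZMod 3) = -((dig c k : ℕ) : ZMod 3)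
  rw [h, ZMod.natCast_mod, Nat.cast_sub (show dig c k ≤ 3 from (Nat.mod_lt _ (by norm_num : 3 > 0)).le),
    ZMod.natCast_self, zero_sub]

theorem sum_dot (a b : ℕ) : ∑ k, vec a k * vec b k = (dot7 a b : ZMod 3) := by
  simp only [Fin.sum_univ_succ, Fin.sum_univ_zero, add_zero, vec, dot7, Nat.cast_add, Nat.cast_mul]
  simp only [Fin.val_zero, Fin.val_succ]
  ring

theorem Q7_vec (c : ℕ) : Q7 (vec c) = (dot7 c c : ZMod 3) := by
  rw [← sum_dot]
  simp [Q7, QuadraticMap.weightedSumSquares_apply]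

/-- the vectors -/
noncomputable def V (i : ℕ) : Fin 7 → ZMod 3 := vec (vc i)

theorem Q7_V {i : ℕ} (hi : i < 351) : Q7 (V i) = 1 := by
  rw [V, Q7_vec, ← ZMod.natCast_mod, (vec_ok i hi).2.1, Nat.cast_one]

theorem V_inj {i j : ℕ} (hi : i < 351) (hj : j < 351) (h : V i = V j ∨ V i = -V j) : i = j := by
  obtain ⟨a1, -, a3, -⟩ := vec_ok i hi
  obtain ⟨b1, -, b3, b4, -⟩ := vec_ok j hj
  rcases h with h | h
  · have := congrArg enc h
    rw [V, V, enc_vec a1, enc_vec b1] at this
    rw [← a3, this, b3]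
  · rw [V, V, ← vec_negc b1] at h
    have := congrArg enc h
    rw [enc_vec a1, enc_vec (negc_ok _ b1 0 (by norm_num)).1] at this
    rw [← a3, this, b4]

theorem V_cover {x : Fin 7 → ZMod 3} (hx : Q7 x = 1) : ∃ i : Fin 351, x = V i ∨ x = -V i := by
  have hd : dot7 (enc x) (enc x) % 3 = 1 := by
    rw [← vec_enc x, Q7_vec] at hx
    have := congrArg ZMod.val hx
    rw [ZMod.val_natCast] at this
    rw [ZMod.val_one] at this
    exact this
  obtain ⟨h1, h2⟩ := cover_ok _ (enc_lt x) hd
  refine ⟨⟨_, h1⟩, ?_⟩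
  rcases h2 with h2 | h2
  · left
    show x = vec (vc (vidx (enc x)))
    rw [h2, vec_enc]
  · right
    show x = -vec (vc (vidx (enc x)))
    rw [← vec_negc (vec_ok _ h1).1, h2, vec_enc]

/-- the reflection group -/
noncomputable abbrev W : Subgroup (Og Q7) := Cfsg.reflectionSubgroup (⇑Q7) 1

theorem isRefl_neg {g : Og Q7} {v : Fin 7 → ZMod 3} (h : IsRefl Q7 g v) : IsRefl Q7 g (-v) := by
  refine Matrix.ext_iff_mulVec.2 fun x => ?_
  rw [reflectionMatrix_mulVec, QuadraticMap.map_neg, QuadraticMap.polar_neg_left]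
  exact (h.act_eq Q7 x).trans (by rw [mul_neg, neg_smul, smul_neg, neg_neg])

theorem exists_r (i : Fin 351) : ∃ r : W, IsRefl Q7 r.1 (V i) := by
  obtain ⟨g, hg⟩ := exists_refl Q7 (v := V i) (by rw [Q7_V i.2]; exact one_ne_zero)
  exact ⟨⟨g, Subgroup.subset_closure ⟨V i, Q7_V i.2, hg⟩⟩, hg⟩

/-- the reflections -/
noncomputable def r (i : Fin 351) : W := Classical.choose (exists_r i)

theorem r_spec (i : Fin 351) : IsRefl Q7 (r i).1 (V i) := Classical.choose_spec (exists_r i)

theorem exists_line (w : W) (i : Fin 351) : ∃ j : Fin 351, act Q7 w.1 (V i) = V j ∨ act Q7 w.1 (V i) = -V j :=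
  V_cover (by rw [map_act, Q7_V i.2])

/-- the image of a line -/
noncomputable def line (w : W) (i : Fin 351) : Fin 351 := Classical.choose (exists_line w i)

theorem line_spec (w : W) (i : Fin 351) :
    act Q7 w.1 (V i) = V (line w i) ∨ act Q7 w.1 (V i) = -V (line w i) :=
  Classical.choose_spec (exists_line w i)

theorem line_eq {w : W} {i j : Fin 351} (h : act Q7 w.1 (V i) = V j ∨ act Q7 w.1 (V i) = -V j) :
    line w i = j := by
  refine Fin.ext (V_inj (line w i).2 j.2 ?_)
  rcases line_spec w i with e | e <;> rcases h with h | h <;> rw [e] at h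
  · exact Or.inl h
  · exact Or.inr h
  · exact Or.inr (neg_eq_iff_eq_neg.1 h)
  · exact Or.inl (neg_injective h)

theorem act_neg (g : Og Q7) (x : Fin 7 → ZMod 3) : act Q7 g (-x) = -act Q7 g x := Matrix.mulVec_neg _ _

theorem line_one (i : Fin 351) : line 1 i = i := line_eq (Or.inl (by simp [act]))

theorem line_mul (a b : W) (i : Fin 351) : line (a * b) i = line a (line b i) := by
  refine line_eq ?_
  rw [Subgroup.coe_mul, act_mul]
  rcases line_spec b i with e | e <;> rw [e] <;> rcases line_spec a (line b i) with f | f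
  · exact Or.inl f
  · exact Or.inr f
  · exact Or.inr (by rw [act_neg, f])
  · exact Or.inl (by rw [act_neg, f, neg_neg])

/-- the action on the lines -/
noncomputable def psi : W →* Equiv.Perm (Fin 351) where
  toFun w :=
    { toFun := line w
      invFun := line w⁻¹
      left_inv := fun i => by rw [← line_mul, inv_mul_cancel, line_one]
      right_inv := fun i => by rw [← line_mul, mul_inv_cancel, line_one] }
  map_one' := Equiv.ext line_one
  map_mul' a b := Equiv.ext (line_mul a b)

theorem psi_apply (w : W) (i : Fin 351) : psi w i = line w i := rfl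

/-- a letter as a position -/
def pos (k : Fin 8) : Fin 351 := ⟨k, k.2.trans (by norm_num)⟩

theorem psi_r (k : Fin 8) (i : Fin 351) : (psi (r (pos k)) i : ℕ) = tab i k := by
  obtain ⟨h1, -, h3⟩ := act_ok i i.2 k k.2
  rw [psi_apply, show line (r (pos k)) i = ⟨_, h1⟩ from line_eq ?_]
  show act Q7 (r (pos k)).1 (V i) = V (tab i k) ∨ act Q7 (r (pos k)).1 (V i) = -V (tab i k)
  rw [(r_spec (pos k)).act_eq, Q7_V (pos k).2, inv_one, one_mul, polar_Q7]
  show vec (vc i) - (2 * ∑ l, vec (vc k) l * vec (vc i) l) • vec (vc k) = vec _ ∨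
    vec (vc i) - (2 * ∑ l, vec (vc k) l * vec (vc i) l) • vec (vc k) = -vec _
  rw [sum_dot]
  have hw : ∀ l : Fin 7, (vec (vc i) - (2 * (dot7 (vc k) (vc i) : ZMod 3)) • vec (vc k)) l =
      (((dig (vc i) l + dot7 (vc k) (vc i) * dig (vc k) l) % 3 : ℕ) : ZMod 3) := by
    intro l
    rw [ZMod.natCast_mod, Nat.cast_add, Nat.cast_mul, Pi.sub_apply, Pi.smul_apply, smul_eq_mul, vec, vec,
      show (2 : ZMod 3) = -1 from by decide]
    ring
  simp only [reflOK, Bool.or_eq_true, List.all_eq_true, List.mem_range, beq_iff_eq] at h3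
  rcases h3 with h | h
  · exact Or.inl (funext fun l => by rw [hw, ← h l l.2]; rfl)
  · refine Or.inr (funext fun l => ?_)
    rw [hw, ← h l l.2, ZMod.natCast_mod,
      Nat.cast_sub (show dig (vc (tab i k)) l ≤ 3 from (Nat.mod_lt _ (by norm_num : 3 > 0)).le),
      ZMod.natCast_self, zero_sub]
    rfl

theorem gen_W : Subgroup.closure (Set.range fun k => r (pos k)) = ⊤ := by
  set K := Subgroup.closure (Set.range fun k => r (pos k))
  have hK : ∀ n : ℕ, ∀ h : n < 351, r ⟨n, h⟩ ∈ K := by
    intro n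
    induction n using Nat.strong_induction_on with
    | _ n ih =>
      intro h
      rcases par_ok n h with h8 | ⟨hlt, htab⟩
      · exact Subgroup.subset_closure ⟨⟨n, h8⟩, rfl⟩
      · let j : Fin 351 := ⟨par n / 8, hlt.trans h⟩
        let k : Fin 8 := ⟨par n % 8, Nat.mod_lt _ (by norm_num)⟩
        have hkK : r (pos k) ∈ K := Subgroup.subset_closure ⟨k, rfl⟩
        have hline : line (r (pos k)) j = ⟨n, h⟩ := Fin.ext ((psi_r k j).trans htab)
        suffices e : r ⟨n, h⟩ = r (pos k) * r j * (r (pos k))⁻¹ by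
          rw [e]
          exact mul_mem (mul_mem hkK (ih _ hlt _)) (inv_mem hkK)
        refine Subtype.ext ((r_spec ⟨n, h⟩).eq Q7 ?_)
        have hc := (r_spec j).conj Q7 (r (pos k)).1
        rcases line_spec (r (pos k)) j with e | e <;> rw [e, hline] at hc
        · exact hc
        · simpa using isRefl_neg hc
  rw [eq_top_iff]
  rintro ⟨g, hg⟩ -
  suffices g ∈ K.map W.subtype by
    obtain ⟨w, hw, e⟩ := this
    rwa [show (⟨g, hg⟩ : W) = w from Subtype.ext e.symm]
  refine (Subgroup.closure_le _).2 ?_ hg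
  rintro d ⟨v, hv, hd⟩
  obtain ⟨i, e | e⟩ := V_cover hv
  · exact ⟨r i, hK i i.2, (r_spec i).eq Q7 (e ▸ hd)⟩
  · have h2 := isRefl_neg (g := d) (v := v) hd
    rw [e, neg_neg] at h2
    exact ⟨r i, hK i i.2, (r_spec i).eq Q7 h2⟩

theorem ker_psi : psi.ker = Subgroup.center W := by
  ext z
  rw [MonoidHom.mem_ker]
  constructor
  · intro h
    have hr : ∀ i, r i * z = z * r i := by
      intro i
      have hline : line z i = i := Equiv.congr_fun h i
      have hc := (r_spec i).conj Q7 z.1
      have e : z.1 * (r i).1 * (z.1)⁻¹ = (r i).1 := by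
        rcases line_spec z i with e | e <;> rw [e, hline] at hc
        · exact hc.eq Q7 (r_spec i)
        · exact (isRefl_neg hc).eq Q7 (by simpa using r_spec i)
      apply Subtype.ext
      conv_lhs => rw [Subgroup.coe_mul, ← e]
      simp [mul_assoc]
    have hle : Subgroup.closure (Set.range fun k => r (pos k)) ≤ Subgroup.centralizer {z} := by
      rw [Subgroup.closure_le]
      rintro _ ⟨k, rfl⟩
      exact Subgroup.mem_centralizer_singleton_iff.2 (hr _)
    rw [gen_W] at hle
    exact Subgroup.mem_center_iff.2 fun w => Subgroup.mem_centralizer_singleton_iff.1 (hle (Subgroup.mem_top w))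
  · intro hz
    refine Equiv.ext fun i => line_eq ?_
    have h1 := congrArg Subtype.val (Subgroup.mem_center_iff.1 hz (r i))
    simp only [Subgroup.coe_mul] at h1
    have h2 := (r_spec i).conj Q7 z.1
    rw [show z.1 * (r i).1 * (z.1)⁻¹ = (r i).1 by rw [← h1, mul_inv_cancel_right]] at h2
    obtain ⟨s, hs⟩ := (r_spec i).parallel Q7 h2 (by rw [map_act, Q7_V i.2]; exact one_ne_zero)
    rw [Equiv.Perm.one_apply]
    rcases ReflThree.z3 s with rfl | rfl | rfl
    · exfalso
      have h3 := map_act Q7 z.1 (V i)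
      rw [hs, zero_smul, QuadraticMap.map_zero, Q7_V i.2] at h3
      exact zero_ne_one h3
    · exact Or.inl (by rw [hs, one_smul])
    · exact Or.inr (by rw [hs, neg_one_smul])

/-! ### The subgroup of Fi22 -/

/-- the subgroup on the eight generators b to i -/
noncomputable def L : Subgroup Fi22 := Subgroup.closure (Set.range fun k : Fin 8 => (gen (k + 1) : Fi22))

theorem card_L : Nat.card L = 4585351680 := by
  have e : lettersClosure gen FiC.emb = L := by
    rw [lettersClosure, L]
    refine congrArg _ (Set.ext fun g => ?_)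
    have he : ∀ x < 8, FiC.emb.getD x 0 = x + 1 := by decide
    constructor
    · rintro ⟨x, hx, rfl⟩
      refine ⟨⟨x, hx⟩, ?_⟩
      show gen (x + 1) = subGen gen FiC.emb x
      rw [subGen, if_pos (show x < FiC.emb.length from hx), he x hx]
    · rintro ⟨k, rfl⟩
      refine ⟨k, k.2, ?_⟩
      show subGen gen FiC.emb k = gen (k + 1)
      rw [subGen, if_pos (show (k : ℕ) < FiC.emb.length from k.2), he k k.2]
  have h := (lettersClosure gen FiC.emb).card_mul_index
  rw [index_bcdefghi, card_eq.1, e] at h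
  omega

theorem rep_gen_apply {x : ℕ} (hx : x < 9) (p : Fin FiA.table.n) :
    (rep (gen x) p : ℕ) = FiA.table.app p x := by
  rw [rep_gen x hx]
  exact FiA.valid.toPerm_apply FiA.sq hx p

/-- a transposition point -/
noncomputable def P (i : Fin 351) : Fin FiA.table.n := ⟨pt i, (vec_ok i i.2).2.2.2.2.1⟩

theorem P_inj : Function.Injective P := fun i j h => by
  have e : pt i = pt j := congrArg Fin.val h
  exact Fin.ext (by rw [← (vec_ok i i.2).2.2.2.2.2, e, (vec_ok j j.2).2.2.2.2.2])

theorem rep_P (k : Fin 8) (i : Fin 351) : rep (gen (k + 1)) (P i) = P (psi (r (pos k)) i) := by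
  refine Fin.ext ((rep_gen_apply (x := (k : ℕ) + 1) (by omega) _).trans ?_)
  show FiA.table.app (pt i) ((k : ℕ) + 1) = pt (psi (r (pos k)) i)
  rw [psi_r, (act_ok i i.2 k k.2).2.1]

theorem exists_perm {g : Fi22} (hg : g ∈ L) :
    ∃ σ : Equiv.Perm (Fin 351), ∀ i, rep g (P i) = P (σ i) := by
  induction hg using Subgroup.closure_induction with
  | mem x hx => obtain ⟨k, rfl⟩ := hx; exact ⟨_, rep_P k⟩
  | one => exact ⟨1, fun i => by simp⟩
  | mul a b _ _ ha hb =>
    obtain ⟨σ, hσ⟩ := ha
    obtain ⟨τ, hτ⟩ := hb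
    exact ⟨σ * τ, fun i => by rw [map_mul, Equiv.Perm.mul_apply, hτ, hσ, Equiv.Perm.mul_apply]⟩
  | inv a _ ha =>
    obtain ⟨σ, hσ⟩ := ha
    refine ⟨σ⁻¹, fun i => ?_⟩
    have h := hσ (σ⁻¹ i)
    rw [Equiv.Perm.coe_inv, Equiv.apply_symm_apply] at h
    rw [map_inv, Equiv.Perm.coe_inv, Equiv.symm_apply_eq, Equiv.Perm.coe_inv, h]

/-- the action of L on its transpositions -/
noncomputable def phi : L →* Equiv.Perm (Fin 351) where
  toFun g := Classical.choose (exists_perm g.2)
  map_one' := Equiv.ext fun i => P_inj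
    (by rw [← Classical.choose_spec (exists_perm (one_mem L)) i, map_one]; rfl)
  map_mul' a b := Equiv.ext fun i => P_inj <| by
    rw [← Classical.choose_spec (exists_perm (a * b).2) i, Equiv.Perm.mul_apply,
      ← Classical.choose_spec (exists_perm a.2), ← Classical.choose_spec (exists_perm b.2),
      Subgroup.coe_mul, map_mul, Equiv.Perm.mul_apply]

theorem phi_spec (g : L) (i : Fin 351) : rep g.1 (P i) = P (phi g i) :=
  Classical.choose_spec (exists_perm g.2) i

theorem range_phi : phi.range = psi.range := by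
  let g : Fin 8 → L := fun k => ⟨gen (k + 1), Subgroup.subset_closure ⟨k, rfl⟩⟩
  have htop : Subgroup.closure (Set.range g) = ⊤ := by
    apply Subgroup.map_injective L.subtype_injective
    rw [MonoidHom.map_closure, ← Set.range_comp]
    simp only [← MonoidHom.range_eq_map, Subgroup.range_subtype]
    rfl
  have hg : ∀ k, phi (g k) = psi (r (pos k)) := fun k => Equiv.ext fun i =>
    P_inj ((phi_spec (g k) i).symm.trans (rep_P k i))
  rw [MonoidHom.range_eq_map, MonoidHom.range_eq_map, ← htop, ← gen_W, MonoidHom.map_closure,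
    MonoidHom.map_closure, ← Set.range_comp, ← Set.range_comp]
  exact congrArg (fun f => Subgroup.closure (Set.range f)) (funext hg)


theorem o2_lt : ∀ i < 3159, o2 i < 3510 := by decide +kernel

attribute [local irreducible] o2 o2par o2idx pt pidx tab Table.app

/-- the first point -/
noncomputable def zeroPt : Fin FiA.table.n := ⟨0, FiA.covered.hn⟩

/-- An element fixing the first point lies in H. -/
theorem mem_H_of_fix {g : Fi22} (h : rep g zeroPt = zeroPt) : g ∈ H := by
  obtain ⟨-, e, he0, he⟩ := index_H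
  have h1 := he g zeroPt
  rw [h, show e zeroPt = ((1 : Fi22) : Fi22 ⧸ H) from he0] at h1
  have h2 : ((g * 1 : Fi22) : Fi22 ⧸ H) = ((1 : Fi22) : Fi22 ⧸ H) := h1
  simpa using QuotientGroup.eq.1 h2

/-- a conjugating element -/
noncomputable def u (k : Fin 8) : Fi22 := (wprod gen (conjW.getD k []))⁻¹

theorem u_spec (k : Fin 8) :
    rep (u k) zeroPt = P (pos k) ∧ u k * gen 0 * (u k)⁻¹ = gen (k + 1) := by
  obtain ⟨h1, h2, h3⟩ := conj_ok k k.2
  refine ⟨Fin.ext ((rep_inv_wprod _ h1 _).trans h2), ?_⟩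
  set Lw := conjW.getD (k : ℕ) []
  have hW : ∀ y ∈ Lw.reverse ++ 0 :: Lw, y < 9 := by
    intro y hy
    simp only [List.mem_append, List.mem_reverse, List.mem_cons] at hy
    rcases hy with hy | rfl | hy
    · exact h1 y hy
    · norm_num
    · exact h1 y hy
  have e : (wprod gen (Lw.reverse ++ 0 :: Lw) : Fi22)⁻¹ = gen (k + 1) := by
    apply card_eq.2
    refine Equiv.ext fun p => Fin.ext ?_
    rw [rep_inv_wprod _ hW, h3 p p.2, rep_gen_apply (by omega)]
  have hrev : ∀ M : List ℕ, (wprod gen M.reverse : Fi22) = (wprod gen M)⁻¹ := by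
    intro M
    induction M with
    | nil => simp [wprod]
    | cons a M ih =>
      simp only [wprod, List.reverse_cons, List.map_append, List.prod_append, List.map_cons, List.map_nil,
        List.prod_cons, List.prod_nil, mul_one, mul_inv_rev] at ih ⊢
      rw [ih, inv_eq_of_mul_eq_one_right (gen_mul_self a)]
  have happ : (wprod gen (Lw.reverse ++ 0 :: Lw) : Fi22) = (wprod gen Lw)⁻¹ * (gen 0 * wprod gen Lw) := by
    rw [← hrev]
    simp [wprod]
  rw [← e, happ]
  simp only [u, Lw, mul_inv_rev, inv_inv, inv_eq_of_mul_eq_one_right (gen_mul_self 0), mul_assoc]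

theorem fix_gen {g : Fi22} (k : Fin 8) (h : rep g (P (pos k)) = P (pos k)) :
    g * gen (k + 1) = gen (k + 1) * g := by
  obtain ⟨h1, h2⟩ := u_spec k
  have hH : (u k)⁻¹ * g * u k ∈ H := mem_H_of_fix (by
    simp only [map_mul, map_inv, Equiv.Perm.mul_apply, h1, h]
    rw [← h1, Equiv.Perm.coe_inv, Equiv.symm_apply_apply])
  have hc := gen_zero_central _ hH
  rw [← h2]
  calc g * (u k * gen 0 * (u k)⁻¹) = u k * (((u k)⁻¹ * g * u k) * gen 0) * (u k)⁻¹ := by simp [mul_assoc]
    _ = u k * gen 0 * (u k)⁻¹ * g := by rw [hc]; simp [mul_assoc]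

theorem phi_injective : Function.Injective phi := by
  rw [← MonoidHom.ker_eq_bot_iff, eq_bot_iff]
  intro g hg
  rw [MonoidHom.mem_ker] at hg
  have hP : ∀ i, rep g.1 (P i) = P i := fun i => by rw [phi_spec, hg]; rfl
  have hcomm : ∀ (k : Fin 8) (p : Fin FiA.table.n),
      rep g.1 (rep (gen (k + 1)) p) = rep (gen (k + 1)) (rep g.1 p) := fun k p => by
    rw [← Equiv.Perm.mul_apply, ← Equiv.Perm.mul_apply, ← map_mul, ← map_mul, fix_gen k (hP _)]
  have h0 : rep g.1 zeroPt = zeroPt := by
    rcases fixed_ok (rep g.1 zeroPt) (rep g.1 zeroPt).2 with h | h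
    · exact Fin.ext h
    · refine absurd (List.all_eq_true.2 fun k hk => beq_iff_eq.2 ?_) h
      rw [List.mem_range] at hk
      have hz : rep (gen (k + 2)) zeroPt = zeroPt :=
        Fin.ext ((rep_gen_apply (by omega) _).trans (zero_fixed k hk))
      have h1 := hcomm ⟨k + 1, by omega⟩ zeroPt
      simp only [show k + 1 + 1 = k + 2 from rfl] at h1
      rw [hz] at h1
      rw [← rep_gen_apply (by omega : k + 2 < 9), ← h1]
  have ho : ∀ i, ∀ _ : i < 3159, ∀ hp : o2 i < 3510, rep g.1 ⟨o2 i, hp⟩ = ⟨o2 i, hp⟩ := by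
    intro i
    induction i using Nat.strong_induction_on with
    | _ i ih =>
      intro hi hp
      rcases o2_ok i hi with rfl | ⟨hlt, happ⟩
      · have e : (⟨o2 0, hp⟩ : Fin FiA.table.n) = zeroPt := Fin.ext o2_zero
        rw [e, h0]
      · let k : Fin 8 := ⟨o2par i % 8, Nat.mod_lt _ (by norm_num)⟩
        have hq : o2 (o2par i / 8) < 3510 := by
          exact o2_lt _ (hlt.trans hi)
        have e : (⟨o2 i, hp⟩ : Fin FiA.table.n) = rep (gen (k + 1)) ⟨o2 (o2par i / 8), hq⟩ :=
          Fin.ext (((rep_gen_apply (x := (k : ℕ) + 1) (by omega) _).trans happ).symm)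
        rw [e, hcomm, ih _ hlt (hlt.trans hi) hq]
  rw [Subgroup.mem_bot]
  refine Subtype.ext (card_eq.2 (Equiv.ext fun p => ?_))
  rw [Subgroup.coe_one, map_one, Equiv.Perm.one_apply]
  rcases orbits_ok p p.2 with ⟨h1, h2⟩ | ⟨h1, h2⟩
  · rw [show p = P ⟨_, h1⟩ from Fin.ext h2.symm, hP]
  · have hp : o2 (o2idx p) < 3510 := by rw [h2]; exact p.2
    rw [show p = ⟨o2 (o2idx p), hp⟩ from Fin.ext h2.symm, ho _ h1 hp]

/-- L is isomorphic to the simple orthogonal group of dimension seven over three elements. -/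
theorem nonempty_iso : Nonempty (L ≃* Cfsg.POmega (ZMod 3) (Cfsg.quadFormOdd 3 (ZMod 3))) :=
  CfsgLib.Trans3.Fi.ReflSeven.proj_refl_omega (c := 1) one_ne_zero
    ⟨Q7, nondeg_Q7, disc_Q7, ⟨(MonoidHom.ofInjective phi_injective).trans
      ((MulEquiv.subgroupCongr range_phi).trans ((QuotientGroup.quotientKerEquivRange psi).symm.trans
        (QuotientGroup.quotientMulEquivOfEq ker_psi)))⟩⟩

theorem gen_isConj (k : Fin 8) : (gen (k + 1) : Fi22) ∈ conjugatesOf (gen 0) :=
  isConj_iff.2 ⟨u k, (u_spec k).2⟩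

/-- L is generated by the transpositions it contains. -/
theorem isDSubgroup : Cfsg.IsDSubgroup (conjugatesOf (gen 0 : Fi22)) L := by
  refine le_antisymm ((Subgroup.closure_le _).2 fun d hd => hd.2) ?_
  conv_lhs => rw [L]
  refine Subgroup.closure_mono ?_
  rintro _ ⟨k, rfl⟩
  exact ⟨gen_isConj k, Subgroup.subset_closure ⟨k, rfl⟩⟩

/-- A Sylow 3-subgroup of L is one of Fi22. -/
theorem sylow_three (P : Sylow 3 L) :
    ∃ P' : Sylow 3 Fi22, (P : Subgroup L).map L.subtype = (P' : Subgroup Fi22) := by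
  have : Finite Fi22 := card_le.1
  have h3 : ∀ a b : ℕ, b ≠ 0 → ¬ 3 ∣ b → Nat.factorization (3 ^ a * b) 3 = a := by
    intro a b hb h
    rw [Nat.factorization_mul (pow_ne_zero _ three_ne_zero) hb, Finsupp.add_apply,
      Nat.Prime.factorization_pow Nat.prime_three, Finsupp.single_eq_same,
      Nat.factorization_eq_zero_of_not_dvd h, add_zero]
  have hP : Nat.card P = 3 ^ 9 := by
    rw [P.card_eq_multiplicity, card_L, show 4585351680 = 3 ^ 9 * 232960 by norm_num,
      h3 9 232960 (by norm_num) (by norm_num)]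
  refine ⟨Sylow.ofCard ((P : Subgroup L).map L.subtype) ?_, rfl⟩
  rw [Subgroup.card_map_of_injective L.subtype_injective, card_eq.1,
    show 64561751654400 = 3 ^ 9 * 3280076800 by norm_num, h3 9 3280076800 (by norm_num) (by norm_num)]
  exact hP

end CfsgLib.InvChar.O7InFi22
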