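import Cfsg.Agent.Lib.InvChar.O7InFi22Data
import Cfsg.Agent.Lib.InvChar.SporData.FiA.Data

/-!
Kernel checks of the certificate for O7(3) inside the presented Fischer group Fi22.
-/

set_option autoImplicit false
set_option maxRecDepth 100000

namespace CfsgLib.InvChar.O7InFi22

open CfsgLib.InvChar.Coset

/-- point of a transposition -/
noncomputable def pt (i : ℕ) : ℕ := field ptsT 128 20 i
/-- position of a point -/
noncomputable def pidx (p : ℕ) : ℕ := field pidxT 128 20 p
/-- code of a vector -/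
noncomputable def vc (i : ℕ) : ℕ := field vecT 128 20 i
/-- line of a code -/
noncomputable def vidx (c : ℕ) : ℕ := field vidxT 128 20 c
/-- action of a generator -/
noncomputable def tab (i k : ℕ) : ℕ := field tabT 128 20 (i * 8 + k)
/-- parent -/
noncomputable def par (i : ℕ) : ℕ := field parT 128 20 i
/-- a point of the other orbit -/
noncomputable def o2 (i : ℕ) : ℕ := field o2T 128 20 i
/-- position in the other orbit -/
noncomputable def o2idx (p : ℕ) : ℕ := field o2idxT 128 20 p
/-- parent in the other orbit -/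
noncomputable def o2par (i : ℕ) : ℕ := field o2parT 128 20 i

/-- digit to base three -/
def dig (c k : ℕ) : ℕ := c / 3 ^ k % 3
/-- scalar product of codes -/
def dot7 (a b : ℕ) : ℕ :=
  dig a 0 * dig b 0 + dig a 1 * dig b 1 + dig a 2 * dig b 2 + dig a 3 * dig b 3 + dig a 4 * dig b 4 +
    dig a 5 * dig b 5 + dig a 6 * dig b 6
/-- code of the negative -/
def negc (c : ℕ) : ℕ :=
  (3 - dig c 0) % 3 + (3 - dig c 1) % 3 * 3 + (3 - dig c 2) % 3 * 9 + (3 - dig c 3) % 3 * 27 +
    (3 - dig c 4) % 3 * 81 + (3 - dig c 5) % 3 * 243 + (3 - dig c 6) % 3 * 729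
/-- `w` is `v + (u,v) u` up to a sign -/
def reflOK (u v w : ℕ) : Bool :=
  ((List.range 7).all fun k => dig w k == (dig v k + dot7 u v * dig u k) % 3) ||
    ((List.range 7).all fun k => (3 - dig w k) % 3 == (dig v k + dot7 u v * dig u k) % 3)

theorem vec_ok : ∀ i < 351, vc i < 2187 ∧ dot7 (vc i) (vc i) % 3 = 1 ∧ vidx (vc i) = i ∧
    vidx (negc (vc i)) = i ∧ pt i < 3510 ∧ pidx (pt i) = i := by decide +kernel

theorem negc_ok : ∀ c < 2187, ∀ k < 7, negc c < 2187 ∧ dig (negc c) k = (3 - dig c k) % 3 := by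
  decide +kernel

theorem cover_ok : ∀ c < 2187, dot7 c c % 3 = 1 →
    vidx c < 351 ∧ (vc (vidx c) = c ∨ negc (vc (vidx c)) = c) := by decide +kernel

theorem act_ok : ∀ i < 351, ∀ k < 8, tab i k < 351 ∧
    FiA.table.app (pt i) (k + 1) = pt (tab i k) ∧ reflOK (vc k) (vc i) (vc (tab i k)) = true := by
  decide +kernel

theorem par_ok : ∀ i < 351, i < 8 ∨ (par i / 8 < i ∧ tab (par i / 8) (par i % 8) = i) := by
  decide +kernel

theorem o2_ok : ∀ i < 3159, i = 0 ∨ (o2par i / 8 < i ∧
    FiA.table.app (o2 (o2par i / 8)) (o2par i % 8 + 1) = o2 i) := by decide +kernel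

theorem o2_zero : o2 0 = 0 := by decide +kernel

theorem orbits_ok : ∀ p < 3510, (pidx p < 351 ∧ pt (pidx p) = p) ∨ (o2idx p < 3159 ∧ o2 (o2idx p) = p) := by
  decide +kernel

theorem fixed_ok : ∀ p < 3510, p = 0 ∨
    ¬ ((List.range 7).all fun k => FiA.table.app p (k + 2) == p) = true := by decide +kernel

theorem zero_fixed : ∀ k < 7, FiA.table.app 0 (k + 2) = 0 := by decide +kernel

theorem conj_ok : ∀ k < 8, (∀ x ∈ conjW.getD k [], x < 9) ∧
    FiA.table.follow (conjW.getD k []) 0 = pt k ∧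
    ∀ p < 3510, FiA.table.follow ((conjW.getD k []).reverse ++ 0 :: conjW.getD k []) p =
      FiA.table.app p (k + 1) := by decide +kernel

theorem zero_off : ∀ i < 351, pt i ≠ 0 := by decide +kernel

end CfsgLib.InvChar.O7InFi22
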