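import Cfsg.Prelude.Def_TwoFusion
import Mathlib.GroupTheory.SpecificGroups.Quaternion
import Mathlib.GroupTheory.NoncommCoprod
import Cfsg.Agent.Lib.Invol.BrauerSuzuki

/-!
# A Sylow 2-subgroup with a quaternion direct factor, the other factor having central involutions

An automorphism moves the involution `z` of the quaternion factor either to itself or into the other
factor, so the product of the orbit of `z` under the normaliser is an isolated involution.
-/

set_option autoImplicit false

namespace CfsgLib.InvChar.QuatFactor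

open scoped IsMulCommutative

variable {A B : Type*} [Group A] [Group B]

/-- An automorphism of `A × B` moves `(z, 1)` to itself or into `B`. -/
theorem image_invol [Finite A] [Finite B] (z : A) (hz : z ≠ 1) (hz2 : z * z = 1)
    (huniq : ∀ a : A, a * a = 1 → a = 1 ∨ a = z) (hpow : ∀ a : A, a ≠ 1 → z ∈ Subgroup.zpowers a)
    (hcen : ∀ a ∈ Subgroup.center A, a = 1 ∨ a = z) (h4 : 4 < Nat.card A) (φ : A × B ≃* A × B) :
    (φ (z, 1)).1 = 1 ∨ φ (z, 1) = (z, 1) := by
  have hsq : (φ (z, 1)).1 * (φ (z, 1)).1 = 1 := by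
    rw [← Prod.fst_mul, ← map_mul, Prod.mk_mul_mk, hz2, one_mul, Prod.mk_one_one, map_one, Prod.fst_one]
  rcases huniq _ hsq with h | h1
  · exact Or.inl h
  refine Or.inr (Prod.ext h1 ?_)
  by_contra h2
  let f : A →* B := (MonoidHom.snd A B).comp (φ.toMonoidHom.comp (MonoidHom.inl A B))
  let g : A →* A := (MonoidHom.fst A B).comp (φ.toMonoidHom.comp (MonoidHom.inl A B))
  let h : B →* B := (MonoidHom.snd A B).comp (φ.toMonoidHom.comp (MonoidHom.inr A B))
  let k : B →* A := (MonoidHom.fst A B).comp (φ.toMonoidHom.comp (MonoidHom.inr A B))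
  have inj : ∀ K : Subgroup A, z ∉ K → K = ⊥ := by
    intro K hK
    refine (Subgroup.eq_bot_iff_forall K).2 fun a ha => ?_
    by_contra hne
    exact hK (Subgroup.zpowers_le.2 ha (hpow a hne))
  have hf : Function.Injective f := (MonoidHom.ker_eq_bot_iff f).1 (inj _ fun hm => h2 (MonoidHom.mem_ker.1 hm))
  have hg : Function.Surjective g :=
    Finite.injective_iff_surjective.1 ((MonoidHom.ker_eq_bot_iff g).1 (inj _ fun hm =>
      hz (h1.symm.trans (MonoidHom.mem_ker.1 hm))))
  have comm : ∀ a b, φ (a, 1) * φ (1, b) = φ (1, b) * φ (a, 1) := fun a b => by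
    rw [← map_mul, ← map_mul]; simp
  have hker : Nat.card h.ker ≤ 2 := by
    have hmem : ∀ b ∈ h.ker, k b = 1 ∨ k b = z := by
      intro b _
      refine hcen _ (Subgroup.mem_center_iff.2 fun a => ?_)
      obtain ⟨a', rfl⟩ := hg a
      exact congrArg Prod.fst (comm a' b)
    have hinj : Function.Injective fun b : h.ker => (⟨k b, hmem b b.2⟩ : {a : A // a = 1 ∨ a = z}) := by
      intro b b' e
      refine Subtype.ext ?_
      have e1 : k (b : B) = k (b' : B) := congrArg Subtype.val e
      have e2 : φ ((1 : A), (b : B)) = φ (1, (b' : B)) :=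
        Prod.ext e1 ((MonoidHom.mem_ker.1 b.2).trans (MonoidHom.mem_ker.1 b'.2).symm)
      exact congrArg Prod.snd (φ.injective e2)
    refine (Nat.card_le_card_of_injective _ hinj).trans ?_
    classical
    haveI : Fintype A := Fintype.ofFinite A
    rw [Nat.card_eq_fintype_card, Fintype.card_subtype]
    exact (Finset.card_le_card (t := {1, z}) (by intro a; simp)).trans Finset.card_le_two
  have hcomm : ∀ a b, Commute (f a) (h.range.subtype b) := by
    rintro a ⟨_, b, rfl⟩
    exact congrArg Prod.snd (comm a b)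
  let m : A × h.range →* B := f.noncommCoprod h.range.subtype hcomm
  have hm : Nat.card m.ker ≤ 2 := by
    have hmem : ∀ p ∈ m.ker, p.1 = 1 ∨ p.1 = z := by
      intro p hp
      refine hcen _ (Subgroup.mem_center_iff.2 fun a => hf ?_)
      have e : f p.1 = (p.2 : B)⁻¹ := eq_inv_of_mul_eq_one_left hp
      rw [map_mul, map_mul, e]
      exact ((hcomm a p.2).inv_right).eq
    have hinj : Function.Injective fun p : m.ker => (⟨p.1.1, hmem p.1 p.2⟩ : {a : A // a = 1 ∨ a = z}) := by
      intro p p' e
      have e1 : p.1.1 = p'.1.1 := congrArg Subtype.val e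
      refine Subtype.ext (Prod.ext e1 (Subtype.ext ?_))
      have h3 : f p.1.1 * (p.1.2 : B) = f p'.1.1 * (p'.1.2 : B) :=
        (MonoidHom.mem_ker.1 p.2).trans (MonoidHom.mem_ker.1 p'.2).symm
      rw [e1] at h3
      exact mul_left_cancel h3
    refine (Nat.card_le_card_of_injective _ hinj).trans ?_
    classical
    haveI : Fintype A := Fintype.ofFinite A
    rw [Nat.card_eq_fintype_card, Fintype.card_subtype]
    exact (Finset.card_le_card (t := {1, z}) (by intro a; simp)).trans Finset.card_le_two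
  have c1 := h.ker.card_mul_index
  rw [Subgroup.index_ker] at c1
  have c2 := m.ker.card_mul_index
  rw [Subgroup.index_ker, Nat.card_prod] at c2
  have c3 : Nat.card m.range ≤ Nat.card B := Subgroup.card_le_card_group _
  have c4 : 0 < Nat.card h.range := Nat.card_pos
  have c5 : Nat.card B ≤ 2 * Nat.card h.range := by rw [← c1]; exact Nat.mul_le_mul_right _ hker
  have c6 : Nat.card A * Nat.card h.range ≤ 2 * Nat.card B := by
    rw [← c2]; exact Nat.mul_le_mul hm c3
  nlinarith

/-- An involution in the centre that every automorphism from a given subgroup fixes. -/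
theorem exists_fixed_invol [Finite A] [Finite B] (z : A) (hz : z ≠ 1) (hz2 : z * z = 1)
    (huniq : ∀ a : A, a * a = 1 → a = 1 ∨ a = z) (hpow : ∀ a : A, a ≠ 1 → z ∈ Subgroup.zpowers a)
    (hcen : ∀ a ∈ Subgroup.center A, a = 1 ∨ a = z) (h4 : 4 < Nat.card A)
    (Φ : Subgroup (MulAut (A × B))) :
    ∃ v : A × B, v.1 = z ∧ v * v = 1 ∧ v ∈ Subgroup.center (A × B) ∧ ∀ φ ∈ Φ, φ v = v := by
  classical
  have hzc : z ∈ Subgroup.center A := by
    refine Subgroup.mem_center_iff.2 fun a => ?_
    have : (a * z * a⁻¹) * (a * z * a⁻¹) = 1 := by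
      calc a * z * a⁻¹ * (a * z * a⁻¹) = a * (z * z) * a⁻¹ := by group
        _ = 1 := by rw [hz2, mul_one, mul_inv_cancel]
    rcases huniq _ this with h | h
    · exact absurd (by simpa using h) hz
    · calc a * z = a * z * a⁻¹ * a := by group
        _ = z * a := by rw [h]
  have hZc : ((z, 1) : A × B) ∈ Subgroup.center (A × B) := by
    refine Subgroup.mem_center_iff.2 fun p => ?_
    exact Prod.ext (Subgroup.mem_center_iff.1 hzc p.1) (by simp)
  haveI : Fintype Φ := Fintype.ofFinite Φ
  let Z : Subgroup.center (A × B) := ⟨(z, 1), hZc⟩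
  let O : Finset (Subgroup.center (A × B)) :=
    Finset.univ.image fun φ : Φ => Subgroup.centerCongr (φ : MulAut (A × B)) Z
  let π : Subgroup.center (A × B) →* Subgroup.center A :=
    { toFun := fun x => ⟨(x : A × B).1, Subgroup.mem_center_iff.2 fun a =>
        congrArg Prod.fst (Subgroup.mem_center_iff.1 x.2 (a, 1))⟩
      map_one' := rfl
      map_mul' := fun _ _ => rfl }
  have hZO : Z ∈ O := Finset.mem_image.2 ⟨1, Finset.mem_univ _, Subtype.ext rfl⟩
  have hsq : ∀ x ∈ O, x * x = 1 := by
    intro x hx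
    obtain ⟨φ, -, rfl⟩ := Finset.mem_image.1 hx
    rw [← map_mul, show Z * Z = 1 from Subtype.ext (Prod.ext hz2 (one_mul 1)), map_one]
  refine ⟨((∏ x ∈ O, x : Subgroup.center (A × B)) : A × B), ?_, ?_, SetLike.coe_mem _, fun φ hφ => ?_⟩
  · have h := map_prod π (fun x => x) O
    refine (congrArg Subtype.val (h.trans (Finset.prod_eq_single Z ?_ ?_))).trans rfl
    · intro x hx hne
      obtain ⟨φ, -, rfl⟩ := Finset.mem_image.1 hx
      rcases image_invol z hz hz2 huniq hpow hcen h4 (φ : MulAut (A × B)) with h' | h'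
      · exact Subtype.ext h'
      · exact absurd (Subtype.ext h') hne
    · exact fun h' => absurd hZO h'
  · rw [← Subgroup.coe_mul, ← Finset.prod_mul_distrib, Finset.prod_eq_one hsq, Subgroup.coe_one]
  · let ψ := Subgroup.centerCongr (φ : A × B ≃* A × B)
    have himg : O.image ψ = O := by
      refine Finset.eq_of_subset_of_card_le (fun x hx => ?_) (by rw [Finset.card_image_of_injective _ ψ.injective])
      obtain ⟨y, hy, rfl⟩ := Finset.mem_image.1 hx
      obtain ⟨τ, -, rfl⟩ := Finset.mem_image.1 hy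
      exact Finset.mem_image.2 ⟨⟨φ, hφ⟩ * τ, Finset.mem_univ _, Subtype.ext rfl⟩
    have h : ψ (∏ x ∈ O, x) = ∏ x ∈ O, x := by
      rw [map_prod, ← Finset.prod_image (f := fun x => x) ψ.injective.injOn, himg]
    exact congrArg Subtype.val h

theorem quaternion_facts {m : ℕ} (hm : 2 ≤ m) :
    (∀ x : QuaternionGroup m, x * x = 1 → x = 1 ∨ x = QuaternionGroup.a (m : ZMod (2 * m))) ∧
    (∀ x : QuaternionGroup m, x ∈ Subgroup.center (QuaternionGroup m) → x * x = 1) ∧
    QuaternionGroup.a (m : ZMod (2 * m)) ≠ (1 : QuaternionGroup m) ∧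
    QuaternionGroup.a (m : ZMod (2 * m)) * QuaternionGroup.a (m : ZMod (2 * m)) = (1 : QuaternionGroup m) := by
  haveI : NeZero m := ⟨by omega⟩
  have hmne : (m : ZMod (2 * m)) ≠ 0 := by
    intro h
    have := (ZMod.natCast_eq_zero_iff m (2 * m)).1 (by simpa using h) |> Nat.le_of_dvd (by omega)
    omega
  refine ⟨fun x hx => ?_, fun x hx => ?_, ?_, ?_⟩
  · rcases x with i | i
    · rw [QuaternionGroup.a_mul_a, QuaternionGroup.one_def] at hx
      have h2 : i + i = 0 := QuaternionGroup.a.inj hx
      have hd : 2 * m ∣ 2 * i.val := by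
        rw [← ZMod.natCast_eq_zero_iff]
        push_cast
        rw [ZMod.natCast_zmod_val]
        linear_combination h2
      obtain ⟨c, hc⟩ := Nat.dvd_of_mul_dvd_mul_left (by norm_num : 0 < 2) hd
      have hlt : i.val < 2 * m := ZMod.val_lt i
      have hc2 : c < 2 := by
        by_contra hcon
        have : m * 2 ≤ m * c := Nat.mul_le_mul_left m (by omega)
        omega
      interval_cases c
      · left
        rw [QuaternionGroup.one_def, ← ZMod.natCast_zmod_val i, hc, mul_zero, Nat.cast_zero]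
      · right
        rw [← ZMod.natCast_zmod_val i, hc, mul_one]
    · exfalso
      have h4 := QuaternionGroup.orderOf_xa (n := m) i
      have : orderOf (QuaternionGroup.xa i : QuaternionGroup m) ∣ 2 := orderOf_dvd_of_pow_eq_one (by rw [sq, hx])
      rw [h4] at this
      exact absurd this (by decide)
  · rcases x with i | i
    · have h := Subgroup.mem_center_iff.1 hx (QuaternionGroup.xa 0)
      rw [QuaternionGroup.xa_mul_a, QuaternionGroup.a_mul_xa] at h
      have h' : (0 : ZMod (2 * m)) + i = 0 - i := QuaternionGroup.xa.inj h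
      rw [QuaternionGroup.a_mul_a, QuaternionGroup.one_def]
      congr 1
      linear_combination h'
    · exfalso
      have h := Subgroup.mem_center_iff.1 hx (QuaternionGroup.a 1)
      rw [QuaternionGroup.a_mul_xa, QuaternionGroup.xa_mul_a] at h
      have h' : i - 1 = i + 1 := QuaternionGroup.xa.inj h
      have h2 : ((2 : ℕ) : ZMod (2 * m)) = 0 := by push_cast; linear_combination -h'
      have := (ZMod.natCast_eq_zero_iff 2 (2 * m)).1 h2 |> Nat.le_of_dvd (by norm_num)
      omega
  · intro h
    rw [QuaternionGroup.one_def] at h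
    exact hmne (QuaternionGroup.a.inj h)
  · rw [QuaternionGroup.a_mul_a, QuaternionGroup.one_def, ← Nat.cast_add, ← two_mul, ZMod.natCast_self]

/-- **No simple group.** -/
theorem not_simple {G : Type*} [Group G] [Finite G] (S : Sylow 2 G) (Q R : Subgroup G)
    (hQR : Cfsg.IsInternalDirectProduct Q R (S : Subgroup G))
    (n : ℕ) (hn : 1 ≤ n) (eQ : ↥Q ≃* QuaternionGroup (2 ^ n))
    (hR : ∀ r ∈ R, orderOf r = 2 → ∀ s ∈ R, r * s = s * r) (hsimple : IsSimpleGroup G) : False := by
  haveI : Fact (Nat.Prime 2) := ⟨Nat.prime_two⟩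
  obtain ⟨hQS, hRS, hcomm, hinf, hsup⟩ := hQR
  have hm : 2 ≤ 2 ^ n := le_trans (by norm_num) (Nat.pow_le_pow_right (by norm_num) hn)
  obtain ⟨qu, qc, qne, qsq⟩ := quaternion_facts hm
  haveI : NeZero (2 ^ n) := ⟨by positivity⟩
  let z : Q := eQ.symm (QuaternionGroup.a ((2 ^ n : ℕ) : ZMod (2 * 2 ^ n)))
  have huniq : ∀ a : Q, a * a = 1 → a = 1 ∨ a = z := fun a ha =>
    (qu (eQ a) (by rw [← map_mul, ha, map_one])).imp (fun h => eQ.injective (by rw [h, map_one]))
      fun h => eQ.injective (by rw [h]; exact (eQ.apply_symm_apply _).symm)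
  have hz : z ≠ 1 := fun h => qne (by
    have := congrArg eQ h
    rwa [eQ.apply_symm_apply, map_one] at this)
  have hz2 : z * z = 1 := by rw [← map_mul, qsq, map_one]
  have hQp : IsPGroup 2 Q := S.isPGroup'.to_le hQS
  have hpow : ∀ a : Q, a ≠ 1 → z ∈ Subgroup.zpowers a := by
    intro a ha
    obtain ⟨j, hj⟩ := (IsPGroup.iff_orderOf.1 hQp) a
    obtain ⟨i, rfl⟩ : ∃ i, j = i + 1 := Nat.exists_eq_add_one.2 (Nat.pos_of_ne_zero fun h => ha (by
      rw [h, pow_zero, orderOf_eq_one_iff] at hj; exact hj))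
    rcases huniq (a ^ 2 ^ i) (by rw [← pow_add, ← two_mul, ← pow_succ', ← hj, pow_orderOf_eq_one]) with h | h
    · exfalso
      have := orderOf_dvd_of_pow_eq_one h
      rw [hj] at this
      exact absurd (Nat.le_of_dvd (by positivity) this) (by rw [pow_succ]; have := Nat.two_pow_pos i; omega)
    · exact h ▸ Subgroup.pow_mem _ (Subgroup.mem_zpowers a) _
  have hcen : ∀ a ∈ Subgroup.center Q, a = 1 ∨ a = z := by
    intro a ha
    refine huniq a (eQ.injective ?_)
    rw [map_mul, map_one]
    refine qc _ (Subgroup.mem_center_iff.2 fun y => ?_)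
    obtain ⟨b, rfl⟩ := eQ.surjective y
    rw [← map_mul, ← map_mul, Subgroup.mem_center_iff.1 ha b]
  have h4 : 4 < Nat.card Q := by
    rw [Nat.card_congr eQ.toEquiv, Nat.card_eq_fintype_card, QuaternionGroup.card]; omega
  -- coordinates
  have hc : ∀ (a : Q) (b : R), Commute (Q.subtype a) (R.subtype b) := fun a b => hcomm a a.2 b b.2
  let F : Q × R →* G := Q.subtype.noncommCoprod R.subtype hc
  have hFinj : Function.Injective F := by
    refine (injective_iff_map_eq_one F).2 fun p hp => ?_
    have e : ((p.1 : G)) = ((p.2 : G))⁻¹ := eq_inv_of_mul_eq_one_left hp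
    have h1 : (p.1 : G) ∈ Q ⊓ R := Subgroup.mem_inf.2 ⟨p.1.2, e ▸ R.inv_mem p.2.2⟩
    rw [hinf, Subgroup.mem_bot] at h1
    rw [h1] at e
    exact Prod.ext (Subtype.ext h1) (Subtype.ext (inv_eq_one.1 e.symm))
  have hFrange : F.range = (S : Subgroup G) := by
    rw [MonoidHom.noncommCoprod_range, Subgroup.range_subtype, Subgroup.range_subtype, hsup]
  let E : Q × R ≃* (S : Subgroup G) := (MonoidHom.ofInjective hFinj).trans (MulEquiv.subgroupCongr hFrange)
  have hE : ∀ p : Q × R, ((E p : (S : Subgroup G)) : G) = (p.1 : G) * (p.2 : G) := fun p => rfl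
  -- the automorphisms coming from the normaliser
  let N := Subgroup.normalizer ((S : Subgroup G) : Set G)
  let ν : N →* MulAut (Q × R) :=
    (MulAut.congr E.symm).toMonoidHom.comp (S : Subgroup G).normalizerMonoidHom
  obtain ⟨v, hv1, hv2, hvc, hvfix⟩ := exists_fixed_invol z hz hz2 huniq hpow hcen h4 ν.range
  let w : G := ((E v : (S : Subgroup G)) : G)
  have hwS : w ∈ (S : Subgroup G) := (E v).2
  have hw2 : orderOf w = 2 := by
    refine orderOf_eq_prime (by rw [sq]; exact congrArg Subtype.val (show E v * E v = 1 by rw [← map_mul, hv2, map_one])) fun h => hz ?_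
    have : v = 1 := E.injective (Subtype.ext (by rw [map_one]; exact h))
    rw [← hv1, this]; rfl
  have hwN : ∀ g ∈ N, g * w * g⁻¹ = w := by
    intro g hg
    have h := hvfix (ν ⟨g, hg⟩) ⟨_, rfl⟩
    have h' := congrArg (fun p => ((E p : (S : Subgroup G)) : G)) h
    simp only [ν, MonoidHom.comp_apply, MulEquiv.coe_toMonoidHom, MulAut.congr_apply, MulEquiv.trans_apply,
      MulEquiv.symm_symm, MulEquiv.apply_symm_apply] at h'
    exact h'
  have hcentral : ∀ d ∈ (S : Subgroup G), d * d = 1 → ∀ s ∈ (S : Subgroup G), s * d = d * s := by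
    intro d hd hdd s hs
    obtain ⟨p, hp⟩ := E.surjective ⟨d, hd⟩
    obtain ⟨q, hq⟩ := E.surjective ⟨s, hs⟩
    have hp2 : p * p = 1 := E.injective (by rw [map_mul, hp, map_one]; exact Subtype.ext hdd)
    have hpc : p ∈ Subgroup.center (Q × R) := by
      refine Subgroup.mem_center_iff.2 fun t => Prod.ext ?_ (Subtype.ext ?_)
      · rcases huniq p.1 (congrArg Prod.fst hp2) with h | h
        · simp [h]
        · show t.1 * p.1 = p.1 * t.1
          rw [h]
          have : ((v.1, (1 : R)) : Q × R).1 = z := hv1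
          have hvz := congrArg Prod.fst (Subgroup.mem_center_iff.1 hvc (t.1, 1))
          simp only [Prod.fst_mul, hv1] at hvz
          exact hvz
      · have hr2 : (p.2 : G) * (p.2 : G) = 1 := congrArg Subtype.val (congrArg Prod.snd hp2)
        show (t.2 : G) * (p.2 : G) = (p.2 : G) * (t.2 : G)
        rcases eq_or_ne (p.2 : G) 1 with h | h
        · simp [h]
        · exact (hR _ p.2.2 (orderOf_eq_prime (by rw [sq]; exact hr2) h) _ t.2.2).symm
    have := congrArg (fun x => ((E x : (S : Subgroup G)) : G)) (Subgroup.mem_center_iff.1 hpc q)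
    simp only [map_mul, Subgroup.coe_mul, hp, hq] at this
    exact this
  have hiso : ∀ g : G, g * w * g⁻¹ ∈ (S : Subgroup G) → g * w * g⁻¹ = w := by
    intro g hg
    have hww : w * w = 1 := by rw [← sq, ← hw2]; exact pow_orderOf_eq_one w
    have hd := hcentral _ hg (by
      calc g * w * g⁻¹ * (g * w * g⁻¹) = g * (w * w) * g⁻¹ := by group
        _ = 1 := by rw [hww]; group)
    obtain ⟨k, hk, he⟩ := S.conj_eq_normalizer_conj_of_mem_centralizer w g⁻¹
      (Subgroup.mem_centralizer_iff.2 (hcentral w hwS hww))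
      (Subgroup.mem_centralizer_iff.2 fun s hs => by simpa using hd s hs)
    rw [inv_inv] at he
    rw [he]
    simpa using hwN k⁻¹ (inv_mem hk)
  have hz' := fun g => CfsgLib.Invol.zstar G (CfsgLib.Invol.isolated_of_sylow S hw2 hwS hiso) g
  haveI := hsimple
  rcases Subgroup.Normal.eq_bot_or_eq_top (CfsgLib.Solvable.pPrimeCore_normal 2 G) with hb | ht
  · have hwc : w ∈ Subgroup.center G := Subgroup.mem_center_iff.2 fun g => by
      have := hz' g
      rw [show Cfsg.oddCore G = ⊥ from hb, Subgroup.mem_bot] at this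
      rw [mul_inv_eq_one, mul_inv_eq_iff_eq_mul] at this
      exact this.symm
    rcases Subgroup.Normal.eq_bot_or_eq_top (inferInstance : (Subgroup.center G).Normal) with hb' | ht'
    · rw [hb', Subgroup.mem_bot] at hwc
      rw [hwc, orderOf_one] at hw2
      omega
    · have hab : ∀ a b : Q, a * b = b * a := fun a b => Subtype.ext
        (Subgroup.mem_center_iff.1 (ht' ▸ Subgroup.mem_top ((b : G))) (a : G))
      have := hab (eQ.symm (QuaternionGroup.a 1)) (eQ.symm (QuaternionGroup.xa 0))
      rw [← map_mul, ← map_mul, eQ.symm.injective.eq_iff, QuaternionGroup.a_mul_xa, QuaternionGroup.xa_mul_a] at this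
      have h' : (0 : ZMod (2 * 2 ^ n)) - 1 = 0 + 1 := QuaternionGroup.xa.inj this
      have h2 : ((2 : ℕ) : ZMod (2 * 2 ^ n)) = 0 := by push_cast; linear_combination -h'
      have := (ZMod.natCast_eq_zero_iff 2 (2 * 2 ^ n)).1 h2 |> Nat.le_of_dvd (by norm_num)
      omega
  · have hodd := CfsgLib.Invol.odd_card_oddCore G
    rw [show Cfsg.oddCore G = ⊤ from ht, Subgroup.card_top, Nat.odd_iff] at hodd
    have h2 : 2 ∣ Nat.card G := hw2 ▸ orderOf_dvd_natCard w
    omega

end CfsgLib.InvChar.QuatFactor
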