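import Cfsg.Prelude.Def_CaseTheorems
import Cfsg.Prelude.Def_Transfer
import Cfsg.Prelude.Def_TwoFusion
import Cfsg.Agent.Lib.StructC.UniqueInvol

/-!
# Central extensions of generalized quaternion groups
-/

set_option autoImplicit false
set_option linter.style.haveILetI false

namespace CfsgLib.InvChar.QuatExt

open Subgroup
open scoped commutatorElement

variable {S : Type*} [Group S] [Finite S]

/-- Generators modulo the kernel of a quaternion quotient. -/
theorem exists_gens (hS : IsPGroup 2 S) (N : Subgroup S) [N.Normal]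
    (hna : ¬ IsMulCommutative (S ⧸ N)) (hu : ∃! x : S ⧸ N, orderOf x = 2) :
    ∃ k : ℕ, 1 ≤ k ∧ ∃ a b : S, b * a * b⁻¹ * a ∈ N ∧ b * b * (a ^ 2 ^ k)⁻¹ ∈ N ∧
      a ^ (2 * 2 ^ k) ∈ N ∧ (∀ s : S, ∃ i : ℕ, ∃ n ∈ N, s = a ^ i * n ∨ s = b * a ^ i * n) ∧
      ¬ Commute a b := by
  haveI : Fact (Nat.Prime 2) := ⟨Nat.prime_two⟩
  obtain ⟨z, -, hz⟩ := hu
  have hu' : ∀ x y : S ⧸ N, orderOf x = 2 → orderOf y = 2 → Commute x y → y ∈ zpowers x :=
    fun x y hx hy _ => by rw [hz x hx, hz y hy]; exact mem_zpowers z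
  rcases CfsgLib.StructC.isCyclic_or_quaternion (hS.to_quotient N) hu' with hc | ⟨k, hk, ⟨e⟩⟩
  · haveI := hc
    exact absurd ⟨⟨fun x y => by
      obtain ⟨g, hg⟩ := IsCyclic.exists_generator (α := S ⧸ N)
      obtain ⟨i, rfl⟩ := hg x
      obtain ⟨j, rfl⟩ := hg y
      rw [← zpow_add, ← zpow_add, add_comm]⟩⟩ hna
  haveI : NeZero (2 ^ k) := ⟨by positivity⟩
  haveI : NeZero (2 * 2 ^ k) := ⟨by positivity⟩
  obtain ⟨a, ha⟩ := QuotientGroup.mk'_surjective N (e.symm (.a 1))
  obtain ⟨b, hb⟩ := QuotientGroup.mk'_surjective N (e.symm (.xa 0))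
  have hea : e (QuotientGroup.mk' N a) = .a 1 := by rw [ha, e.apply_symm_apply]
  have heb : e (QuotientGroup.mk' N b) = .xa 0 := by rw [hb, e.apply_symm_apply]
  have hap : ∀ i : ℕ, e (QuotientGroup.mk' N (a ^ i)) = .a (i : ZMod (2 * 2 ^ k)) := fun i => by
    rw [map_pow, map_pow, hea, QuaternionGroup.a_one_pow]
  have mem : ∀ x : S, e (QuotientGroup.mk' N x) = 1 → x ∈ N := fun x hx =>
    (QuotientGroup.eq_one_iff x).1 ((map_eq_one_iff e e.injective).1 hx)
  refine ⟨k, hk, a, b, mem _ ?_, mem _ ?_, mem _ ?_, fun s => ?_, fun h => ?_⟩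
  · simp only [map_mul, map_inv, hea, heb]
    rw [mul_inv_eq_iff_eq_mul.2 (show (QuaternionGroup.xa 0 : QuaternionGroup (2 ^ k)) * .a 1 = .a (-1) * .xa 0 by simp)]
    simp [QuaternionGroup.one_def, -QuaternionGroup.a_zero]
  · rw [map_mul, map_mul, map_inv, map_inv, map_mul, map_mul, heb, hap, mul_inv_eq_one]
    simp
  · rw [hap]
    simp [QuaternionGroup.one_def, -QuaternionGroup.a_zero]
  · obtain ⟨w, hw⟩ : ∃ w, e (QuotientGroup.mk' N s) = w := ⟨_, rfl⟩
    cases w with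
    | a i =>
      refine ⟨i.val, (a ^ i.val)⁻¹ * s, mem _ ?_, Or.inl (by group)⟩
      rw [map_mul, map_mul, map_inv, map_inv, hap, hw, ZMod.natCast_zmod_val, inv_mul_cancel]
    | xa i =>
      refine ⟨i.val, (b * a ^ i.val)⁻¹ * s, mem _ ?_, Or.inr (by group)⟩
      rw [map_mul, map_mul, map_inv, map_inv, map_mul, map_mul, hap, heb, hw, ZMod.natCast_zmod_val,
        QuaternionGroup.xa_mul_a, zero_add, inv_mul_cancel]
  · have hcomm := congrArg (fun x => e (QuotientGroup.mk' N x)) h.eq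
    simp only [map_mul, hea, heb, QuaternionGroup.a_mul_xa, QuaternionGroup.xa_mul_a] at hcomm
    have h1 := QuaternionGroup.xa.inj hcomm
    have h4 : 4 ≤ 2 * 2 ^ k := by
      have : 2 ≤ 2 ^ k := le_self_pow₀ (by norm_num) (by omega)
      omega
    haveI : Fact (1 < 2 * 2 ^ k) := ⟨by omega⟩
    have h2 : ((2 : ℕ) : ZMod (2 * 2 ^ k)) = 0 := by
      push_cast
      linear_combination -h1
    rw [ZMod.natCast_eq_zero_iff] at h2
    exact absurd (Nat.le_of_dvd (by norm_num) h2) (by omega)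

/-- A central extension of a quaternion group has cyclic nontrivial commutator subgroup. -/
theorem commutator_cyclic (hS : IsPGroup 2 S) (N : Subgroup S) [N.Normal] (hN : N ≤ center S)
    (hna : ¬ IsMulCommutative (S ⧸ N)) (hu : ∃! x : S ⧸ N, orderOf x = 2) :
    commutator S ≠ ⊥ ∧ IsCyclic ↥(commutator S) := by
  obtain ⟨k, hk, a, b, hba, hbb, ham, hgen, hab⟩ := exists_gens hS N hna hu
  set d := a * b * a⁻¹ * b⁻¹ with hd
  set c := b * a * b⁻¹ * a with hc
  have hcc : ∀ x : S, x * c = c * x := fun x => mem_center_iff.1 (hN hba) x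
  have hcd : d = a * a * c⁻¹ := by
    have e1 : a * b * a⁻¹ * b⁻¹ = a * (b * a⁻¹ * b⁻¹) := by group
    have e2 : b * a⁻¹ * b⁻¹ = (c * a⁻¹)⁻¹ := by rw [hc]; group
    have hca : a * c⁻¹ = c⁻¹ * a := (Commute.inv_right (show Commute a c from hcc a)).eq
    rw [hd, e1, e2, _root_.mul_inv_rev, inv_inv, ← mul_assoc]
  have hbd : b * d * b⁻¹ = d⁻¹ := by
    have hca : Commute a c := hcc a
    have hcb : Commute b c := hcc b
    have e : b * a * b⁻¹ = c * a⁻¹ := by rw [hc]; group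
    rw [hcd]
    calc b * (a * a * c⁻¹) * b⁻¹ = (b * a * b⁻¹) * (b * a * b⁻¹) * (b * c⁻¹ * b⁻¹) := by group
      _ = (c * a⁻¹) * (c * a⁻¹) * (b * c⁻¹ * b⁻¹) := by rw [e]
      _ = (c * a⁻¹) * (a⁻¹ * c) * c⁻¹ := by
          rw [show b * c⁻¹ * b⁻¹ = c⁻¹ by rw [hcb.inv_right.eq]; group,
            show c * a⁻¹ = a⁻¹ * c from hca.inv_left.eq.symm]
      _ = c * (a⁻¹ * a⁻¹) := by group
      _ = (a * a * c⁻¹)⁻¹ := by group
  have had : a * d * a⁻¹ = d := by
    rw [hcd]
    calc a * (a * a * c⁻¹) * a⁻¹ = a * a * (a * c⁻¹) * a⁻¹ := by group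
      _ = a * a * (c⁻¹ * a) * a⁻¹ := by rw [(Commute.inv_right (show Commute a c from hcc a)).eq]
      _ = a * a * c⁻¹ := by group
  -- the subgroup generated by `d` is normal
  have hna' : ∀ g : S, g ∈ normalizer (zpowers d : Set S) := by
    have key : ∀ g : S, (g * d * g⁻¹ = d ∨ g * d * g⁻¹ = d⁻¹) → g ∈ normalizer (zpowers d : Set S) :=
      fun g hg => by
        rw [mem_normalizer_iff_map_conj_eq, MonoidHom.map_zpowers]
        rcases hg with h | h
        · exact congrArg zpowers h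
        · exact (congrArg zpowers h).trans zpowers_inv
    intro g
    obtain ⟨i, n, hn, hg⟩ := hgen g
    have hnn : n ∈ normalizer (zpowers d : Set S) := key n (Or.inl (by
      rw [← mem_center_iff.1 (hN hn) d]; group))
    have han : a ∈ normalizer (zpowers d : Set S) := key a (Or.inl had)
    have hbn : b ∈ normalizer (zpowers d : Set S) := key b (Or.inr hbd)
    rcases hg with rfl | rfl
    · exact mul_mem (pow_mem han i) hnn
    · exact mul_mem (mul_mem hbn (pow_mem han i)) hnn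
  haveI : (zpowers d).Normal := normalizer_eq_top_iff.1 (eq_top_iff.2 fun g _ => hna' g)
  have hle : commutator S ≤ zpowers d := by
    set π := QuotientGroup.mk' (zpowers d)
    have hcn : ∀ n ∈ N, ∀ g : S, Commute (π n) (π g) := fun n hn g =>
      (show Commute n g from (mem_center_iff.1 (hN hn) g).symm).map π
    have hab' : Commute (π a) (π b) := by
      show π a * π b = π b * π a
      have h1 : π d = 1 := (QuotientGroup.eq_one_iff d).2 (mem_zpowers d)
      simp only [hd, map_mul, map_inv] at h1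
      calc π a * π b = π a * π b * (π a)⁻¹ * (π b)⁻¹ * (π b * π a) := by group
        _ = π b * π a := by rw [h1, one_mul]
    have toall : ∀ w : S, Commute (π w) (π a) → Commute (π w) (π b) → ∀ g : S, Commute (π w) (π g) := by
      intro w hwa hwb g
      obtain ⟨i, n, hn, rfl | rfl⟩ := hgen g
      · rw [map_mul, map_pow]; exact (hwa.pow_right i).mul_right (hcn n hn w).symm
      · rw [map_mul, map_mul, map_pow]; exact (hwb.mul_right (hwa.pow_right i)).mul_right (hcn n hn w).symm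
    have hall : ∀ g h : S, Commute (π g) (π h) := fun g => toall g
      (toall a (Commute.refl _) hab' g).symm (toall b hab'.symm (Commute.refl _) g).symm
    rw [commutator_eq_closure, closure_le]
    rintro _ ⟨g, h, rfl⟩
    rw [SetLike.mem_coe, ← QuotientGroup.eq_one_iff]
    show π ⁅g, h⁆ = 1
    rw [map_commutatorElement, commutatorElement_eq_one_iff_commute]
    exact hall g h
  refine ⟨fun h => hab ?_, Subgroup.isCyclic_of_le hle⟩
  rw [← commutatorElement_eq_one_iff_commute]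
  exact (Subgroup.eq_bot_iff_forall _).1 h _ (commutator_mem_commutator (mem_top a) (mem_top b))

theorem split (hS : IsPGroup 2 S) (n : ℕ) (hn : 2 ≤ n) (C : Fin n → Subgroup ↥(center S))
    (hCmax : ∀ i, IsCoatom (C i)) (hCint : ⨅ i, C i = ⊥)
    (hCq : ∀ i, ∃ (_ : ((C i).map (center S).subtype).Normal),
      ¬ IsMulCommutative (S ⧸ (C i).map (center S).subtype) ∧
      ∃! x : S ⧸ (C i).map (center S).subtype, orderOf x = 2) :
    ∃ E Q : Subgroup S, Cfsg.IsInternalDirectProduct E Q ⊤ ∧ Cfsg.IsElementaryAbelian 2 E ∧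
      ¬ IsMulCommutative ↥Q ∧ ∃! x : ↥Q, orderOf x = 2 := by
  haveI : Fact (Nat.Prime 2) := ⟨Nat.prime_two⟩
  have hidx : ∀ i, (C i).index = 2 := fun i =>
    CfsgLib.Invol.index_two_of_isCoatom (hS.to_subgroup _) (hCmax i)
  let N : Fin n → Subgroup S := fun i => (C i).map (center S).subtype
  have hNZ : ∀ i, N i ≤ center S := fun i => map_subtype_le _
  have sep : ∀ x : S, (∀ i, x ∈ N i) → x = 1 := fun x hx => by
    have hxZ : x ∈ center S := hNZ ⟨0, by omega⟩ (hx _)
    have h : (⟨x, hxZ⟩ : ↥(center S)) ∈ ⨅ i, C i := mem_iInf.2 fun i => by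
      obtain ⟨y, hy, e⟩ := hx i
      rwa [show (⟨x, hxZ⟩ : ↥(center S)) = y from Subtype.ext e.symm]
    rw [hCint, mem_bot] at h
    exact congrArg Subtype.val h
  have hN2 : ∀ i, ∀ x ∈ center S, x * x ∈ N i := fun i x hx =>
    ⟨⟨x, hx⟩ * ⟨x, hx⟩, Subgroup.mul_self_mem_of_index_two (hidx i) _, rfl⟩
  have hZ2 : ∀ x ∈ center S, x * x = 1 := fun x hx => sep _ fun i => hN2 i x hx
  -- elements whose square lies in the kernel of one quotient are central
  have inZ : ∀ i, ∀ x : S, x * x ∈ N i → x ∈ center S := fun i x hx => by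
    obtain ⟨hnor, -, z, -, hz⟩ := hCq i
    haveI : (N i).Normal := hnor
    by_cases hxN : x ∈ N i
    · exact hNZ i hxN
    obtain ⟨y, hy⟩ : ∃ y, y ∉ C i := by
      by_contra h; push Not at h; exact (hCmax i).1 (eq_top_iff.2 fun v _ => h v)
    have hyN : (y : S) ∉ N i := fun ⟨y', hy', e⟩ => hy (by rwa [← Subtype.ext (e : (y' : S) = y)])
    have ord : ∀ v : S, v * v ∈ N i → v ∉ N i → orderOf (QuotientGroup.mk' (N i) v) = 2 := fun v hv hvN => by
      refine orderOf_eq_prime ?_ fun e => hvN ((QuotientGroup.eq_one_iff v).1 e)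
      rw [pow_two, ← map_mul]
      exact (QuotientGroup.eq_one_iff _).2 hv
    have he : QuotientGroup.mk' (N i) x = QuotientGroup.mk' (N i) (y : S) :=
      (hz _ (ord x hx hxN)).trans (hz _ (ord y (hN2 i y y.2) hyN)).symm
    have hm : x⁻¹ * (y : S) ∈ N i := QuotientGroup.eq.1 he
    rw [show x = (y : S) * (x⁻¹ * (y : S))⁻¹ by group]
    exact mul_mem y.2 (inv_mem (hNZ i hm))
  have sq_eq : ∀ x y : S, x ∉ center S → y ∉ center S → x * x ∈ center S → y * y ∈ center S →
      x * x = y * y := fun x y hx hy hx2 hy2 => by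
    rw [← inv_mul_eq_one]
    refine sep _ fun i => ?_
    obtain ⟨hnor, -, z, -, hz⟩ := hCq i
    haveI : (N i).Normal := hnor
    have ord : ∀ v : S, v ∉ center S → v * v ∈ center S → orderOf (QuotientGroup.mk' (N i) (v * v)) = 2 :=
      fun v hv hv2 => by
        refine orderOf_eq_prime ?_ fun e => hv (inZ i v ((QuotientGroup.eq_one_iff _).1 e))
        rw [pow_two, ← map_mul]
        exact (QuotientGroup.eq_one_iff _).2 (hN2 i _ hv2)
    exact QuotientGroup.eq.1 ((hz _ (ord x hx hx2)).trans (hz _ (ord y hy hy2)).symm)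
  let i₀ : Fin n := ⟨0, by omega⟩
  obtain ⟨hnor, hna, hu⟩ := hCq i₀
  haveI : (N i₀).Normal := hnor
  obtain ⟨k, hk, a, b, hba, hbb, ham, hgen, hab⟩ := exists_gens hS (N i₀) hna hu
  have hbZ : b ∉ center S := fun h => hab ((mem_center_iff.1 h a))
  have haZ : a ∉ center S := fun h => hab ((mem_center_iff.1 h b).symm)
  have hbaZ : b * a ∉ center S := fun h => hab (by
    have e := mem_center_iff.1 h a
    show a * b = b * a
    exact mul_right_cancel (b := a) (by rw [mul_assoc]; exact e))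
  have hamZ : a ^ 2 ^ k ∈ center S := inZ i₀ _ (by rwa [← pow_add, ← two_mul])
  have hbZ2 : b * b ∈ center S := by
    have := mul_mem (hNZ _ hbb) hamZ
    rwa [inv_mul_cancel_right] at this
  set w := b * b with hw
  have hbaZ2 : b * a * (b * a) ∈ center S := by
    rw [show b * a * (b * a) = b * a * b⁻¹ * (b * b) * a by group]
    have hc := mem_center_iff.1 hbZ2 a
    rw [mul_assoc (b * a * b⁻¹), ← hc, ← mul_assoc]
    exact mul_mem (hNZ _ hba) hbZ2
  have hrel : b * a * b⁻¹ * a = 1 := by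
    have e := sq_eq _ _ hbaZ hbZ hbaZ2 hbZ2
    have e2 : b * a * (b * a) = (b * a * b⁻¹ * a) * w := by
      rw [hw, show b * a * (b * a) = b * a * b⁻¹ * (b * b) * a by group, mul_assoc (b * a * b⁻¹),
        ← mem_center_iff.1 hbZ2 a, ← mul_assoc]
    rw [e2] at e
    exact mul_eq_right.1 e
  have hw1 : w ∉ N i₀ := fun h => hbZ (inZ i₀ b h)
  obtain ⟨j, rfl⟩ : ∃ j, k = j + 1 := ⟨k - 1, by omega⟩
  have hsplit : a ^ 2 ^ (j + 1) = a ^ 2 ^ j * a ^ 2 ^ j := by rw [← pow_add, pow_succ, mul_two]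
  have haw : a ^ 2 ^ (j + 1) = w := by
    have hjZ : a ^ 2 ^ j ∉ center S := fun h => hw1 (by
      have hh : a ^ 2 ^ (j + 1) ∈ N i₀ := hsplit ▸ hN2 i₀ _ h
      have := mul_mem hbb hh
      rwa [inv_mul_cancel_right] at this)
    rw [hsplit]
    exact sq_eq _ _ hjZ hbZ (hsplit ▸ hamZ) hbZ2
  have hwne : w ≠ 1 := fun h => hw1 (h ▸ one_mem _)
  have hoa : orderOf a = 2 ^ (j + 2) := orderOf_eq_prime_pow (by rw [haw]; exact hwne) (by
    rw [pow_succ 2 (j + 1), pow_mul, haw, pow_two, hZ2 w hbZ2])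
  have hbconj : b * a * b⁻¹ = a⁻¹ := eq_inv_of_mul_eq_one_left hrel
  have hbpow : ∀ i : ℤ, b * a ^ i * b⁻¹ = a ^ (-i) := fun i => by
    rw [← conj_zpow, hbconj, inv_zpow, zpow_neg]
  have hbb' : b⁻¹ * a * b = a⁻¹ := by
    calc b⁻¹ * a * b = (b⁻¹ * (b * a * b⁻¹)⁻¹ * b) * ((b⁻¹ * a * b)⁻¹ * (b⁻¹ * a * b)) * 1 := by
          rw [hbconj, inv_inv]; group
      _ = a⁻¹ := by group
  set Q : Subgroup S := Subgroup.closure {a, b} with hQ
  have form : ∀ x ∈ Q, ∃ i : ℤ, x = a ^ i ∨ x = b * a ^ i := by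
    have hwi : b * b = a ^ ((2 ^ (j + 1) : ℕ) : ℤ) := by rw [zpow_natCast, haw]
    have hba' : ∀ i : ℤ, a ^ i * b = b * a ^ (-i) := fun i => by
      calc a ^ i * b = b * (b⁻¹ * a * b) ^ i := by
            rw [show b⁻¹ * a * b = b⁻¹ * a * b⁻¹⁻¹ by group, conj_zpow]; group
        _ = b * a ^ (-i) := by rw [hbb', inv_zpow, zpow_neg]
    intro x hx
    induction hx using Subgroup.closure_induction with
    | mem x hx =>
      rcases hx with rfl | rfl
      · exact ⟨1, Or.inl (by group)⟩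
      · exact ⟨0, Or.inr (by group)⟩
    | one => exact ⟨0, Or.inl (by group)⟩
    | mul x y _ _ ihx ihy =>
      obtain ⟨i, rfl | rfl⟩ := ihx <;> obtain ⟨l, rfl | rfl⟩ := ihy
      · exact ⟨i + l, Or.inl (zpow_add a i l).symm⟩
      · exact ⟨-i + l, Or.inr (by rw [← mul_assoc, hba', mul_assoc, ← zpow_add])⟩
      · exact ⟨i + l, Or.inr (by rw [mul_assoc, ← zpow_add])⟩
      · exact ⟨(2 ^ (j + 1) : ℕ) + (-i + l), Or.inl (by
          rw [mul_assoc b, ← mul_assoc (a ^ i), hba', zpow_add a _ (-i + l), ← hwi, zpow_add]; group)⟩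
    | inv x _ ih =>
      obtain ⟨i, rfl | rfl⟩ := ih
      · exact ⟨-i, Or.inl (zpow_neg a i).symm⟩
      · refine ⟨i + (2 ^ (j + 1) : ℕ), Or.inr ?_⟩
        have hwinv : w⁻¹ = w := inv_eq_of_mul_eq_one_right (hZ2 w hbZ2)
        rw [zpow_add, ← hwi, ← hw, ← mul_assoc b]
        calc (b * a ^ i)⁻¹ = a ^ (-i) * b * w⁻¹ := by rw [hw]; group
          _ = b * a ^ i * w := by rw [hba', neg_neg, hwinv]
  have hQZ : ∀ x ∈ Q, x ∈ center S → x = 1 ∨ x = w := fun x hx hxZ => by
    obtain ⟨i, rfl | rfl⟩ := form x hx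
    · have h2 : (a ^ i) ^ 2 = 1 := by rw [pow_two]; exact hZ2 _ hxZ
      rw [← zpow_natCast, ← zpow_mul, ← orderOf_dvd_iff_zpow_eq_one, hoa] at h2
      have hd : ((2 ^ (j + 1) : ℕ) : ℤ) ∣ i := by
        rw [pow_succ] at h2
        push_cast at h2 ⊢
        exact Int.dvd_of_mul_dvd_mul_right two_ne_zero h2
      obtain ⟨c, rfl⟩ := hd
      rw [zpow_mul, zpow_natCast, haw]
      rcases Int.even_or_odd c with ⟨d, rfl⟩ | ⟨d, rfl⟩
      · left; rw [← two_mul, zpow_mul, zpow_two, hZ2 w hbZ2, one_zpow]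
      · right; rw [zpow_add, zpow_mul, zpow_two, hZ2 w hbZ2, one_zpow, one_mul, zpow_one]
    · refine absurd (?_ : Commute a b) hab
      have e := mem_center_iff.1 hxZ a
      rw [← mul_assoc, mul_assoc b] at e
      rw [((Commute.refl a).zpow_left i).eq, ← mul_assoc] at e
      exact mul_right_cancel e
  have hwQ : w ∈ Q := mul_mem (subset_closure (Set.mem_insert_of_mem _ rfl))
    (subset_closure (Set.mem_insert_of_mem _ rfl))
  refine ⟨N i₀, Q, ⟨le_top, le_top, fun e he q _ => (mem_center_iff.1 (hNZ _ he) q).symm, ?_, ?_⟩,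
    ⟨⟨⟨fun x y => Subtype.ext (mem_center_iff.1 (hNZ _ y.2) x.1)⟩⟩, fun x hx => by
      rw [pow_two]; exact hZ2 x (hNZ _ hx)⟩, fun h => hab ?_, ?_⟩
  · rw [eq_bot_iff]
    rintro x ⟨hx, hxQ⟩
    rcases hQZ x hxQ (hNZ _ hx) with rfl | rfl
    · exact mem_bot.2 rfl
    · exact absurd hx hw1
  · rw [eq_top_iff]
    intro g _
    obtain ⟨i, z, hz, hg⟩ := hgen g
    have haQ : a ^ i ∈ Q := pow_mem (subset_closure (Set.mem_insert _ _)) i
    have hbQ : b ∈ Q := subset_closure (Set.mem_insert_of_mem _ rfl)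
    rcases hg with rfl | rfl
    · exact mul_mem (mem_sup_right haQ) (mem_sup_left hz)
    · exact mul_mem (mem_sup_right (mul_mem hbQ haQ)) (mem_sup_left hz)
  · exact congrArg Subtype.val (h.is_comm.comm ⟨a, subset_closure (Set.mem_insert _ _)⟩
      ⟨b, subset_closure (Set.mem_insert_of_mem _ rfl)⟩)
  · have how : orderOf (⟨w, hwQ⟩ : ↥Q) = 2 := by
      rw [Subgroup.orderOf_mk]; exact orderOf_eq_prime (by rw [pow_two, hZ2 w hbZ2]) hwne
    refine ⟨⟨w, hwQ⟩, how, fun y hy => Subtype.ext ?_⟩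
    change orderOf y = 2 at hy
    have hyy : (y : S) * y = 1 := by
      have h := pow_orderOf_eq_one y
      rw [hy] at h
      rw [← pow_two, ← Subgroup.coe_pow, h, OneMemClass.coe_one]
    rcases hQZ y y.2 (inZ i₀ y (by rw [hyy]; exact one_mem _)) with h | h
    · exact absurd hy (by rw [← Subgroup.orderOf_coe, h, orderOf_one]; norm_num)
    · exact h

end CfsgLib.InvChar.QuatExt
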