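import Mathlib
import Cfsg.Agent.Lib.Classical.SLTwoCent

/-!
# Two commuting copies of `SL(2, q)`, `q` odd, sharing their central involution
-/

set_option autoImplicit false

namespace CfsgLib.InvChar.SL2Prod

open Matrix CfsgLib.Classical
open scoped MatrixGroups

variable {F : Type*} [Field F]

theorem two_ne_zero_of_odd [Fintype F] (hF : Odd (Fintype.card F)) : (2 : F) ≠ 0 := by
  refine Ring.two_ne_zero fun h => ?_
  have h' : Fintype.card F % 2 = 0 := FiniteField.even_card_iff_char_two.1 h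
  rw [Nat.odd_iff] at hF
  omega

theorem eq_one_or_of_sq_one (h2 : (2 : F) ≠ 0) {g : SL(2, F)} (hg : g * g = 1) : g = 1 ∨ g.1 = -1 := by
  have hinv : g⁻¹ = g := inv_eq_of_mul_eq_one_right hg
  obtain ⟨i00, i01, i10, i11⟩ := slTwo_inv_apply g
  rw [hinv] at i00 i01 i10
  have hs : IsScalarSL g :=
    ⟨(mul_eq_zero.1 (show (2 : F) * g.1 0 1 = 0 by linear_combination i01)).resolve_left h2,
      (mul_eq_zero.1 (show (2 : F) * g.1 1 0 = 0 by linear_combination i10)).resolve_left h2, i00⟩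
  exact (isScalarSL_cases hs).imp (fun e => Subtype.ext e) id

theorem orderOf_two_eq (h2 : (2 : F) ≠ 0) {g : SL(2, F)} (hg : orderOf g = 2) : g.1 = -1 := by
  refine (eq_one_or_of_sq_one h2 ?_).resolve_left fun e => ?_
  · have h := pow_orderOf_eq_one g
    rwa [hg, pow_two] at h
  · simp [e] at hg

/-- The standard element with square `-1`. -/
def J : SL(2, F) := ⟨!![0, -1; 1, 0], by simp [Matrix.det_fin_two]⟩

theorem J_apply : (J : SL(2, F)).1 0 0 = 0 ∧ (J : SL(2, F)).1 0 1 = -1 ∧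
    (J : SL(2, F)).1 1 0 = 1 ∧ (J : SL(2, F)).1 1 1 = 0 := ⟨rfl, rfl, rfl, rfl⟩

theorem J_sq : ((J : SL(2, F)) * J).1 = -1 := by
  obtain ⟨j00, j01, j10, j11⟩ := J_apply (F := F)
  ext i j
  fin_cases i <;> fin_cases j <;> simp [slTwo_mul_apply, j00, j01, j10, j11]

/-- In `SL(2, q)`, `q` odd, all elements with square `-1` are conjugate. -/
theorem exists_conj_eq [Fintype F] (hF : Odd (Fintype.card F)) {x : SL(2, F)}
    (hx : (x * x).1 = -1) : ∃ g : SL(2, F), g * J * g⁻¹ = x := by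
  have h2 := two_ne_zero_of_odd hF
  have e : ∀ i k, (x * x).1 i k = (-1 : Matrix (Fin 2) (Fin 2) F) i k := fun i k => by rw [hx]
  have e00 := e 0 0
  have e01 := e 0 1
  have e10 := e 1 0
  simp [slTwo_mul_apply] at e00 e01 e10
  have hd := slTwo_det x
  set a := x.1 0 0 with ha
  set b := x.1 0 1 with hb
  set c := x.1 1 0 with hc
  set d := x.1 1 1 with hd'
  have htr : a + d = 0 := by
    by_contra hne
    have hb0 : b = 0 := (mul_eq_zero.1 (show (a + d) * b = 0 by linear_combination e01)).resolve_left hne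
    have hc0 : c = 0 := (mul_eq_zero.1 (show (a + d) * c = 0 by linear_combination e10)).resolve_left hne
    exact hne ((mul_eq_zero.1 (show a * (a + d) = 0 by
      linear_combination e00 + hd)).resolve_left fun ha0 => by
        rw [hb0, ha0] at hd; simp at hd)
  have hd0 : d = -a := by linear_combination htr
  obtain ⟨s, t, hst⟩ : ∃ s t : F, s * (c * s + d * t) - t * (a * s + b * t) = 1 := by
    by_cases hc0 : c = 0
    · have ha0 : a ≠ 0 := fun h => by rw [h, hc0] at e00; simp at e00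
      refine ⟨(-1 - b) / (2 * a), 1, ?_⟩
      rw [hc0, hd0]
      field_simp
      ring
    · obtain ⟨u, t, hut⟩ := @FiniteField.exists_root_sum_quadratic F _ _ _
        (Polynomial.X ^ 2) (Polynomial.X ^ 2 - Polynomial.C c) (Polynomial.degree_X_pow 2)
        (Polynomial.degree_X_pow_sub_C (by decide) _) (Nat.odd_iff.1 hF)
      simp only [Polynomial.eval_pow, Polynomial.eval_X, Polynomial.eval_sub, Polynomial.eval_C] at hut
      refine ⟨(u + a * t) / c, t, ?_⟩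
      rw [hd0] at hd ⊢
      field_simp
      linear_combination hut + t ^ 2 * hd
  obtain ⟨g, g00, g01, g10, g11⟩ : ∃ g : SL(2, F),
      g.1 0 0 = s ∧ g.1 0 1 = a * s + b * t ∧ g.1 1 0 = t ∧ g.1 1 1 = c * s + d * t :=
    ⟨⟨!![s, a * s + b * t; t, c * s + d * t], by
      rw [Matrix.det_fin_two]; simp; linear_combination hst⟩, rfl, rfl, rfl, rfl⟩
  obtain ⟨j00, j01, j10, j11⟩ := J_apply (F := F)
  refine ⟨g, ?_⟩
  rw [mul_inv_eq_iff_eq_mul]
  refine slTwo_ext ?_ ?_ ?_ ?_ <;> simp [slTwo_mul_apply, g00, g01, g10, g11, j00, j01, j10, j11, ← ha, ← hb, ← hc, ← hd']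
  · linear_combination -s * e00 - t * e01
  · have e11 : c * b + d * d = -1 := by rw [hd0]; linear_combination e00
    linear_combination -s * e10 - t * e11

theorem isConj_of_sq_eq_neg_one [Fintype F] (hF : Odd (Fintype.card F)) {x y : SL(2, F)}
    (hx : (x * x).1 = -1) (hy : (y * y).1 = -1) : ∃ g : SL(2, F), g * x * g⁻¹ = y := by
  obtain ⟨g, hg⟩ := exists_conj_eq hF hx
  obtain ⟨k, hk⟩ := exists_conj_eq hF hy
  exact ⟨k * g⁻¹, by rw [← hk, ← hg]; group⟩

/-- A conjugacy class all of whose members commute with a non-scalar element is scalar. -/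
theorem isScalarSL_of_conj_commute (h2 : (2 : F) ≠ 0) {x y : SL(2, F)} (hy : ¬ IsScalarSL y)
    (h : ∀ g : SL(2, F), Commute (g * x * g⁻¹) y) : IsScalarSL x := by
  have hcc : ∀ g : SL(2, F), Commute x (g * x * g⁻¹) := fun g => by
    have h1 := h 1
    simp only [one_mul, inv_one, mul_one] at h1
    exact commute_of_commute hy h1 (h g)
  obtain ⟨U, U00, U01, U10, U11⟩ : ∃ U : SL(2, F),
      U.1 0 0 = 1 ∧ U.1 0 1 = 1 ∧ U.1 1 0 = 0 ∧ U.1 1 1 = 1 :=
    ⟨⟨!![1, 1; 0, 1], by simp [Matrix.det_fin_two]⟩, rfl, rfl, rfl, rfl⟩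
  obtain ⟨V, V00, V01, V10, V11⟩ : ∃ V : SL(2, F),
      V.1 0 0 = 1 ∧ V.1 0 1 = 0 ∧ V.1 1 0 = 1 ∧ V.1 1 1 = 1 :=
    ⟨⟨!![1, 0; 1, 1], by simp [Matrix.det_fin_two]⟩, rfl, rfl, rfl, rfl⟩
  have eU := (hcc U).eq
  have eV := (hcc V).eq
  obtain ⟨u00, u01, u10, u11⟩ := slTwo_inv_apply U
  obtain ⟨v00, v01, v10, v11⟩ := slTwo_inv_apply V
  have a1 := congrArg (fun z : SL(2, F) => z.1 1 0) eU
  have a2 := congrArg (fun z : SL(2, F) => z.1 0 1) eV
  have a3 := congrArg (fun z : SL(2, F) => z.1 0 1) eU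
  simp [slTwo_mul_apply, u00, u01, u10, u11, v00, v01, v10, v11, U00, U01, U10, U11, V00, V01, V10, V11] at a1 a2 a3
  have hc0 : x.1 1 0 = 0 :=
    pow_eq_zero_iff two_ne_zero |>.1 ((mul_eq_zero.1
      (show (2 : F) * x.1 1 0 ^ 2 = 0 by linear_combination a1)).resolve_left h2)
  have hb0 : x.1 0 1 = 0 :=
    pow_eq_zero_iff two_ne_zero |>.1 ((mul_eq_zero.1
      (show (2 : F) * x.1 0 1 ^ 2 = 0 by linear_combination a2)).resolve_left h2)
  rw [hb0, hc0] at a3
  refine ⟨hb0, hc0, ?_⟩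
  refine sub_eq_zero.1 (pow_eq_zero_iff two_ne_zero |>.1 (show (x.1 0 0 - x.1 1 1) ^ 2 = 0 by linear_combination -a3))

/-- An element commuting with all squares is scalar. -/
theorem isScalarSL_of_commute_sq (h2 : (2 : F) ≠ 0) {x : SL(2, F)}
    (h : ∀ l : SL(2, F), Commute x (l * l)) : IsScalarSL x := by
  obtain ⟨U, U00, U01, U10, U11⟩ : ∃ U : SL(2, F),
      U.1 0 0 = 1 ∧ U.1 0 1 = (1 / 2 : F) ∧ U.1 1 0 = 0 ∧ U.1 1 1 = 1 :=
    ⟨⟨!![1, 1 / 2; 0, 1], by simp [Matrix.det_fin_two]⟩, rfl, rfl, rfl, rfl⟩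
  obtain ⟨V, V00, V01, V10, V11⟩ : ∃ V : SL(2, F),
      V.1 0 0 = 1 ∧ V.1 0 1 = 0 ∧ V.1 1 0 = (1 / 2 : F) ∧ V.1 1 1 = 1 :=
    ⟨⟨!![1, 0; 1 / 2, 1], by simp [Matrix.det_fin_two]⟩, rfl, rfl, rfl, rfl⟩
  have a1 := congrArg (fun z : SL(2, F) => z.1 0 0) (h U).eq
  have a2 := congrArg (fun z : SL(2, F) => z.1 0 1) (h U).eq
  have a3 := congrArg (fun z : SL(2, F) => z.1 0 0) (h V).eq
  simp [slTwo_mul_apply, U00, U01, U10, U11, V00, V01, V10, V11] at a1 a2 a3
  field_simp at a1 a2 a3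
  have h11 : ¬ (1 + 1 : F) = 2 * 0 := by rw [mul_zero, one_add_one_eq_two]; exact h2
  exact ⟨a3.resolve_right h11, a1.resolve_left h11,
    (mul_left_cancel₀ h2 (by linear_combination a2))⟩

end CfsgLib.InvChar.SL2Prod
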