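import Mathlib
import Cfsg.Agent.Lib.InvChar.SL2Prod
import Cfsg.Agent.Lib.Classical.SLTwoSylow

/-!
# Central products of two groups `SL(2, q)`, `q` odd
-/

set_option autoImplicit false

namespace CfsgLib.InvChar.SL2Prod

open Matrix CfsgLib.Classical
open scoped MatrixGroups

variable {G : Type*} [Group G] {F : Type*} [Field F]

theorem mem_zpowers_of_orderOf_two {j x : G} (hj : orderOf j = 2) (hx : x ∈ Subgroup.zpowers j) :
    x = 1 ∨ x = j := by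
  have hjf : IsOfFinOrder j := orderOf_pos_iff.1 (by omega)
  obtain ⟨k, rfl⟩ : ∃ k : ℕ, j ^ k = x := (IsOfFinOrder.mem_powers_iff_mem_zpowers hjf).2 hx
  have hj2 : j ^ 2 = 1 := hj ▸ pow_orderOf_eq_one j
  rcases Nat.even_or_odd k with ⟨m, rfl⟩ | ⟨m, rfl⟩
  · left; simp [← two_mul, pow_mul, hj2]
  · right; simp [pow_succ, pow_mul, hj2]

theorem exists_mul_of_mem_sup {L₁ L₂ : Subgroup G} (hc : ∀ x ∈ L₁, ∀ y ∈ L₂, x * y = y * x)
    {y : G} (hy : y ∈ L₁ ⊔ L₂) : ∃ u ∈ L₁, ∃ v ∈ L₂, y = u * v := by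
  have key := MonoidHom.noncommCoprod_range L₁.subtype L₂.subtype
    (fun m n => hc m.1 m.2 n.1 n.2)
  rw [Subgroup.range_subtype, Subgroup.range_subtype] at key
  rw [← key] at hy
  obtain ⟨⟨u, v⟩, rfl⟩ := hy
  exact ⟨u.1, u.2, v.1, v.2, rfl⟩

variable {L : Subgroup G} (e : L ≃* SL(2, F)) {j : G}

include e

theorem apply_invol (h2 : (2 : F) ≠ 0) (hj : orderOf j = 2) (hjL : j ∈ L) : (e ⟨j, hjL⟩).1 = -1 :=
  orderOf_two_eq h2 (by rw [MulEquiv.orderOf_eq, Subgroup.orderOf_mk, hj])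

theorem eq_one_or_of_scalar (h2 : (2 : F) ≠ 0) (hj : orderOf j = 2) (hjL : j ∈ L) {x : G} (hx : x ∈ L)
    (hs : IsScalarSL (e ⟨x, hx⟩)) : x = 1 ∨ x = j := by
  rcases isScalarSL_cases hs with h | h
  · left
    have h1 : e ⟨x, hx⟩ = 1 := Subtype.ext h
    rw [MulEquiv.map_eq_one_iff] at h1
    exact congrArg Subtype.val h1
  · right
    exact congrArg Subtype.val (e.injective (Subtype.ext (h.trans (apply_invol e h2 hj hjL).symm)))

theorem eq_one_or_of_sq (h2 : (2 : F) ≠ 0) (hj : orderOf j = 2) (hjL : j ∈ L) {x : G} (hx : x ∈ L)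
    (hsq : x * x = 1) : x = 1 ∨ x = j := by
  refine eq_one_or_of_scalar e h2 hj hjL hx ?_
  have h : e ⟨x, hx⟩ * e ⟨x, hx⟩ = 1 := by
    rw [← map_mul, MulEquiv.map_eq_one_iff]; exact Subtype.ext hsq
  rcases eq_one_or_of_sq_one h2 h with h1 | h1
  · exact isScalarSL_iff.2 (Or.inl (congrArg Subtype.val h1))
  · exact isScalarSL_iff.2 (Or.inr h1)

/-- An element of order four, with square `j`. -/
theorem exists_sq_eq (h2 : (2 : F) ≠ 0) (hj : orderOf j = 2) (hjL : j ∈ L) : ∃ u ∈ L, u * u = j :=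
  ⟨(e.symm J).1, (e.symm J).2, congrArg Subtype.val (e.injective (Subtype.ext (by
    rw [map_mul, e.apply_symm_apply, J_sq, apply_invol e h2 hj hjL]) :
      e (e.symm J * e.symm J) = e ⟨j, hjL⟩))⟩

theorem exists_conj_of_sq_eq [Fintype F] (hF : Odd (Fintype.card F)) (hj : orderOf j = 2) (hjL : j ∈ L)
    {x y : G} (hx : x ∈ L) (hy : y ∈ L) (hxj : x * x = j) (hyj : y * y = j) :
    ∃ g ∈ L, g * x * g⁻¹ = y := by
  have h2 := two_ne_zero_of_odd hF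
  have key : ∀ (z : G) (hz : z ∈ L), z * z = j → (e ⟨z, hz⟩ * e ⟨z, hz⟩).1 = -1 := fun z hz h => by
    rw [← map_mul, ← apply_invol e h2 hj hjL]
    congr 2
    exact Subtype.ext h
  obtain ⟨g, hg⟩ := isConj_of_sq_eq_neg_one hF (key x hx hxj) (key y hy hyj)
  refine ⟨(e.symm g).1, (e.symm g).2, congrArg Subtype.val (e.injective ?_ :
    e.symm g * ⟨x, hx⟩ * (e.symm g)⁻¹ = ⟨y, hy⟩)⟩
  rw [map_mul, map_mul, map_inv, e.apply_symm_apply, hg]

omit e in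
theorem exists_inter {F₁ : Type*} [Field F₁] (h2₁ : (2 : F₁) ≠ 0) {L₁ L₂ M : Subgroup G}
    (e₁ : L₁ ≃* SL(2, F₁))
    (hc : ∀ x ∈ L₁, ∀ y ∈ L₂, x * y = y * x) (hj : orderOf j = 2)
    (hj₁ : j ∈ L₁) (hj₂ : j ∈ L₂) (hM : M ≤ L₁ ⊔ L₂)
    (hn : ∀ l ∈ L₁ ⊔ L₂, ∀ m ∈ M, l * m * l⁻¹ ∈ M) (hML : ¬ M ≤ L₂) :
    ∃ a ∈ M, a ∈ L₁ ∧ a ≠ 1 ∧ a ≠ j := by
  obtain ⟨m₂, hm₂, hm₂'⟩ := SetLike.not_le_iff_exists.1 hML
  by_contra hno
  push Not at hno
  obtain ⟨u, hu, v, hv, rfl⟩ := exists_mul_of_mem_sup hc (hM hm₂)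
  apply hm₂'
  refine L₂.mul_mem ?_ hv
  have hs : IsScalarSL (e₁ ⟨u, hu⟩) := by
    refine isScalarSL_of_commute_sq h2₁ fun l => ?_
    have hl := (e₁.symm l).2
    set w : G := (e₁.symm l).1 with hw
    have hk : u * w * u⁻¹ * w⁻¹ ∈ L₁ :=
      L₁.mul_mem (L₁.mul_mem (L₁.mul_mem hu hl) (L₁.inv_mem hu)) (L₁.inv_mem hl)
    have hkM : u * w * u⁻¹ * w⁻¹ ∈ M := by
      have h := M.mul_mem hm₂ (hn w (Subgroup.mem_sup_left hl) (u * v)⁻¹ (M.inv_mem hm₂))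
      convert h using 1
      rw [_root_.mul_inv_rev]
      have e1 : v * w = w * v := (hc w hl v hv).symm
      calc u * w * u⁻¹ * w⁻¹ = u * w * (v * v⁻¹) * u⁻¹ * w⁻¹ := by group
        _ = u * (w * v) * v⁻¹ * u⁻¹ * w⁻¹ := by group
        _ = u * (v * w) * v⁻¹ * u⁻¹ * w⁻¹ := by rw [e1]
        _ = u * v * (w * (v⁻¹ * u⁻¹) * w⁻¹) := by group
    have hk' : u * w * u⁻¹ * w⁻¹ = 1 ∨ u * w * u⁻¹ * w⁻¹ = j := by
      by_contra hk'
      rw [not_or] at hk'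
      exact hk'.2 (hno _ hkM hk hk'.1)
    have hcj : u * w * u⁻¹ * w⁻¹ * (u * w * u⁻¹ * w⁻¹) = 1 := by
      rcases hk' with h | h <;> rw [h]
      · simp
      · rw [← pow_two, ← hj, pow_orderOf_eq_one]
    have hcen : u * w * u⁻¹ * w⁻¹ * w = w * (u * w * u⁻¹ * w⁻¹) := by
      rcases hk' with h | h <;> rw [h]
      · simp
      · exact (hc w hl j hj₂).symm
    have hsq : u * (w * w) = w * w * u := by
      set k := u * w * u⁻¹ * w⁻¹ with hkdef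
      have : u * (w * w) * u⁻¹ = w * w := by
        calc u * (w * w) * u⁻¹ = (k * w) * (k * w) := by rw [hkdef]; group
          _ = k * (w * k) * w := by group
          _ = k * (k * w) * w := by rw [hcen]
          _ = (k * k) * (w * w) := by group
          _ = w * w := by rw [hcj, one_mul]
      calc u * (w * w) = u * (w * w) * u⁻¹ * u := by group
        _ = w * w * u := by rw [this]
    have := congrArg e₁ (Subtype.ext hsq : (⟨u, hu⟩ : L₁) * (e₁.symm l * e₁.symm l) =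
      e₁.symm l * e₁.symm l * ⟨u, hu⟩)
    simpa [map_mul, Commute, SemiconjBy] using this
  rcases eq_one_or_of_scalar e₁ h2₁ hj hj₁ hu hs with h | h <;> rw [h]
  · exact L₂.one_mem
  · exact hj₂

omit e in
/-- A normal subgroup isomorphic to `SL(2, q)` of a central product lies in one of the factors. -/
theorem le_or_le {F₁ : Type*} [Field F₁] {F₂ : Type*} [Field F₂] (h2 : (2 : F) ≠ 0)
    (h2₁ : (2 : F₁) ≠ 0) (h2₂ : (2 : F₂) ≠ 0) {L₁ L₂ M : Subgroup G}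
    (e₁ : L₁ ≃* SL(2, F₁)) (e₂ : L₂ ≃* SL(2, F₂)) (eM : M ≃* SL(2, F))
    (hc : ∀ x ∈ L₁, ∀ y ∈ L₂, x * y = y * x) (hj : orderOf j = 2)
    (hj₁ : j ∈ L₁) (hj₂ : j ∈ L₂) (hM : M ≤ L₁ ⊔ L₂)
    (hn : ∀ l ∈ L₁ ⊔ L₂, ∀ m ∈ M, l * m * l⁻¹ ∈ M) : M ≤ L₁ ∨ M ≤ L₂ := by
  by_contra hne
  rw [not_or] at hne
  obtain ⟨a, haM, ha₁, ha1, haj⟩ := exists_inter h2₁ e₁ hc hj hj₁ hj₂ hM hn hne.2
  obtain ⟨b, hbM, hb₂, hb1, hbj⟩ := exists_inter h2₂ e₂ (fun x hx y hy => (hc y hy x hx).symm) hj hj₂ hj₁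
    (sup_comm L₁ L₂ ▸ hM) (sup_comm L₁ L₂ ▸ hn) hne.1
  have hbs : ¬ IsScalarSL (eM ⟨b, hbM⟩) := fun hs => by
    have hsq : b * b = 1 := by
      have h : eM ⟨b, hbM⟩ * eM ⟨b, hbM⟩ = 1 := by
        rcases isScalarSL_cases hs with h | h <;> exact Subtype.ext (by simp [h])
      rw [← map_mul, MulEquiv.map_eq_one_iff] at h
      exact congrArg Subtype.val h
    rcases eq_one_or_of_sq e₂ h2₂ hj hj₂ hb₂ hsq with h | h
    exacts [hb1 h, hbj h]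
  have has : IsScalarSL (eM ⟨a, haM⟩) := by
    refine isScalarSL_of_conj_commute h2 hbs fun g => ?_
    set m : G := (eM.symm g).1 with hmdef
    obtain ⟨u, hu, v, hv, huv⟩ := exists_mul_of_mem_sup hc (hM (eM.symm g).2)
    have hconj : m * a * m⁻¹ ∈ L₁ := by
      rw [hmdef, huv, _root_.mul_inv_rev]
      have e1 : v * a * v⁻¹ = a := by rw [← hc a ha₁ v hv]; group
      rw [show u * v * a * (v⁻¹ * u⁻¹) = u * (v * a * v⁻¹) * u⁻¹ by group, e1]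
      exact L₁.mul_mem (L₁.mul_mem hu ha₁) (L₁.inv_mem hu)
    have key : (eM.symm g * ⟨a, haM⟩ * (eM.symm g)⁻¹) * ⟨b, hbM⟩ =
        (⟨b, hbM⟩ : M) * (eM.symm g * ⟨a, haM⟩ * (eM.symm g)⁻¹) := Subtype.ext (hc _ hconj b hb₂)
    have := congrArg eM key
    simpa [map_mul, map_inv, Commute, SemiconjBy] using this
  have hsq : a * a = 1 := by
    have h : eM ⟨a, haM⟩ * eM ⟨a, haM⟩ = 1 := by
      rcases isScalarSL_cases has with h | h <;> exact Subtype.ext (by simp [h])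
    rw [← map_mul, MulEquiv.map_eq_one_iff] at h
    exact congrArg Subtype.val h
  rcases eq_one_or_of_sq e₁ h2₁ hj hj₁ ha₁ hsq with h | h
  exacts [ha1 h, haj h]

end CfsgLib.InvChar.SL2Prod
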