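import Mathlib
import Cfsg.Agent.Lib.InvChar.SL2Prod

/-!
# An element of order three of `SL(2, 5)` in a representation by `Sp(4, 3)`
-/

set_option autoImplicit false

namespace CfsgLib.InvChar.SL2FiveSp4

open Matrix Module
open scoped MatrixGroups

theorem inverter_five : ∀ a b c d : ZMod 5, a * d - b * c = 1 →
    a * (a * a + b * c) + b * (c * a + d * c) = 1 → c * (a * b + b * d) + d * (c * b + d * d) = 1 →
    ¬ (a = 1 ∧ b = 0 ∧ c = 0 ∧ d = 1) →
    ∃ p q r : ZMod 5, p * p + q * r = -1 ∧ p * a + q * c = d * p - b * r ∧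
      p * b + q * d = d * q + b * p ∧ r * a - p * c = -(c * p) + a * r ∧
      r * b - p * d = -(c * q) - a * p := by
  decide +kernel

variable {K : Type*} [Field K]

theorem two_ne_zero_five [Fintype K] (hK : Fintype.card K = 5) : (2 : K) ≠ 0 :=
  SL2Prod.two_ne_zero_of_odd (by rw [hK]; decide)

/-- Elements of order three of `SL(2, 5)` are inverted by elements of order four. -/
theorem exists_inverter [Fintype K] (hK : Fintype.card K = 5) (x : SL(2, K)) (hx : orderOf x = 3) :
    ∃ y : SL(2, K), (y * y).1 = -1 ∧ y * x = x⁻¹ * y := by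
  haveI : Fact (Nat.Prime 5) := ⟨by norm_num⟩
  obtain ⟨φ⟩ : Nonempty (ZMod 5 ≃+* K) :=
    ⟨FiniteField.ringEquivOfCardEq (by rw [ZMod.card, hK])⟩
  obtain ⟨a, ha⟩ := φ.surjective (x.1 0 0)
  obtain ⟨b, hb⟩ := φ.surjective (x.1 0 1)
  obtain ⟨c, hc⟩ := φ.surjective (x.1 1 0)
  obtain ⟨d, hd⟩ := φ.surjective (x.1 1 1)
  have h3 : x * (x * x) = 1 := by
    rw [← pow_two, ← pow_succ']
    exact orderOf_dvd_iff_pow_eq_one.1 (by rw [hx])
  have e00 := congrArg (fun z : SL(2, K) => z.1 0 0) h3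
  have e11 := congrArg (fun z : SL(2, K) => z.1 1 1) h3
  simp only [CfsgLib.Classical.slTwo_mul_apply, Matrix.SpecialLinearGroup.coe_one, Matrix.one_apply_eq,
    ← ha, ← hb, ← hc, ← hd, ← map_mul, ← map_add, map_eq_one_iff φ φ.injective] at e00 e11
  have hdet := CfsgLib.Classical.slTwo_det x
  simp only [← ha, ← hb, ← hc, ← hd, ← map_mul, ← map_sub, map_eq_one_iff φ φ.injective] at hdet
  have hne : ¬ (a = 1 ∧ b = 0 ∧ c = 0 ∧ d = 1) := by
    rintro ⟨rfl, rfl, rfl, rfl⟩
    have h1 : x = 1 := CfsgLib.Classical.slTwo_ext (by simp [← ha]) (by simp [← hb]) (by simp [← hc])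
      (by simp [← hd])
    simp [h1] at hx
  obtain ⟨p, q, r, h0, h1, h2, h3', h4⟩ := inverter_five a b c d hdet e00 e11 hne
  have h0' : φ p * φ p + φ q * φ r = -1 := by simpa using congrArg φ h0
  obtain ⟨y, y00, y01, y10, y11⟩ : ∃ y : SL(2, K),
      y.1 0 0 = φ p ∧ y.1 0 1 = φ q ∧ y.1 1 0 = φ r ∧ y.1 1 1 = -φ p :=
    ⟨⟨!![φ p, φ q; φ r, -φ p], by rw [Matrix.det_fin_two]; simp; linear_combination -h0'⟩, rfl, rfl, rfl, rfl⟩
  obtain ⟨i00, i01, i10, i11⟩ := CfsgLib.Classical.slTwo_inv_apply x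
  have k1 := congrArg φ h1
  have k2 := congrArg φ h2
  have k3 := congrArg φ h3'
  have k4 := congrArg φ h4
  simp only [map_mul, map_add, map_sub, map_neg] at k1 k2 k3 k4
  refine ⟨y, ?_, CfsgLib.Classical.slTwo_ext ?_ ?_ ?_ ?_⟩
  · ext i j
    fin_cases i <;> fin_cases j <;> simp [CfsgLib.Classical.slTwo_mul_apply, y00, y01, y10, y11] <;>
      first | linear_combination h0' | ring
  all_goals simp [CfsgLib.Classical.slTwo_mul_apply, y00, y01, y10, y11, i00, i01, i10, i11, ← ha, ← hb, ← hc, ← hd]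
  · linear_combination k1
  · linear_combination k2
  · linear_combination k3
  · linear_combination k4

variable {F : Type*} [Field F] {V : Type*} [AddCommGroup V] [Module F V] [Module.Finite F V]

theorem finrank_even_of_sq_neg_one [Fintype F] (hF : Fintype.card F = 3) (T : V →ₗ[F] V) (hT : T * T = -1) :
    Even (finrank F V) := by
  by_contra h
  have hd := congrArg LinearMap.det hT
  have h1 : LinearMap.det (-1 : V →ₗ[F] V) = (-1) ^ finrank F V := by
    have h' := LinearMap.det_smul (-1 : F) (LinearMap.id : V →ₗ[F] V)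
    simpa [Module.End.one_eq_id] using h'
  rw [map_mul, h1, (Nat.not_even_iff_odd.1 h).neg_one_pow] at hd
  have hsq : IsSquare (-1 : F) := ⟨_, hd.symm⟩
  rw [FiniteField.isSquare_neg_one_iff, hF] at hsq
  exact hsq rfl

/-- No element of order five in the linear group of dimension at most three over the field of three elements. -/
theorem eq_one_of_pow_five [Fintype F] (hF : Fintype.card F = 3) (hd : finrank F V ≤ 3)
    (u : (V →ₗ[F] V)ˣ) (hu : u ^ 5 = 1) : u = 1 := by
  let e : (V →ₗ[F] V)ˣ ≃* GL (Fin (finrank F V)) F :=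
    Units.mapEquiv (algEquivMatrix (Module.finBasis F V)).toMulEquiv
  have hc := Matrix.card_GL_field (finrank F V) (𝔽 := F)
  have h5 : orderOf (e u) ∣ 5 := orderOf_dvd_of_pow_eq_one (by rw [← map_pow, hu, map_one])
  rcases (Nat.dvd_prime (by norm_num)).1 h5 with h | h
  · exact e.injective (by rw [orderOf_eq_one_iff.1 h, map_one])
  · exfalso
    have hdvd := orderOf_dvd_natCard (e u)
    rw [h, hc, hF] at hdvd
    generalize finrank F V = n at hdvd hd
    interval_cases n <;> simp [Fin.prod_univ_succ] at hdvd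

variable {S : Type*} [Group S] (ρ : S →* (V →ₗ[F] V)) (W : Submodule F V)

/-- Restriction of a representation to an invariant subspace. -/
def res (hW : ∀ g, ∀ v ∈ W, ρ g v ∈ W) : S →* (W →ₗ[F] W) where
  toFun g := (ρ g).restrict (hW g)
  map_one' := by ext v; simp [LinearMap.restrict_apply]
  map_mul' g h := by ext v; simp [LinearMap.restrict_apply]

theorem fix_of_pow_five [Fintype F] (hF : Fintype.card F = 3) (hd : finrank F W ≤ 3)
    (hW : ∀ g, ∀ v ∈ W, ρ g v ∈ W) {f : S} (hf : f ^ 5 = 1) : ∀ v ∈ W, ρ f v = v := fun v hv => by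
  have h := eq_one_of_pow_five hF hd ((res ρ W hW).toHomUnits f) (by rw [← map_pow, hf, map_one])
  have h' := congrArg Units.val h
  simp only [MonoidHom.coe_toHomUnits, Units.val_one] at h'
  exact congrArg Subtype.val (LinearMap.congr_fun h' ⟨v, hv⟩)

/-- A central involution of a group with an element of order five acts as `-1` in dimension four. -/
theorem central_eq_neg_one [Fintype F] (hF : Fintype.card F = 3) (hV : finrank F V = 4)
    (hρ : Function.Injective ρ) {z : S} (hz : z * z = 1) (hz1 : z ≠ 1) (hc : ∀ g, g * z = z * g)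
    {f : S} (hf : f ^ 5 = 1) (hf1 : f ≠ 1) : ρ z = -1 := by
  have h2 : (2 : F) ≠ 0 := SL2Prod.two_ne_zero_of_odd (by rw [hF]; decide)
  have hzz : ∀ v, ρ z (ρ z v) = v := fun v => by
    rw [← Module.End.mul_apply, ← map_mul, hz, map_one, Module.End.one_apply]
  have hcomm : ∀ g v, ρ g (ρ z v) = ρ z (ρ g v) := fun g v => by
    rw [← Module.End.mul_apply, ← map_mul, hc, map_mul, Module.End.mul_apply]
  let P := LinearMap.ker (ρ z - 1)
  let M := LinearMap.ker (ρ z + 1)
  have hP : ∀ g, ∀ v ∈ P, ρ g v ∈ P := fun g v hv => by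
    simp only [P, LinearMap.mem_ker, LinearMap.sub_apply, Module.End.one_apply, sub_eq_zero] at hv ⊢
    rw [← hcomm, hv]
  have hM : ∀ g, ∀ v ∈ M, ρ g v ∈ M := fun g v hv => by
    simp only [M, LinearMap.mem_ker, LinearMap.add_apply, Module.End.one_apply, add_eq_zero_iff_eq_neg] at hv ⊢
    rw [← hcomm, hv, map_neg]
  have hsplit : ∀ v, ρ z v + v ∈ P ∧ ρ z v - v ∈ M := fun v => by
    constructor
    · simp only [P, LinearMap.mem_ker, LinearMap.sub_apply, Module.End.one_apply, map_add, hzz]; abel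
    · simp only [M, LinearMap.mem_ker, LinearMap.add_apply, Module.End.one_apply, map_sub, hzz]; abel
  by_contra hne
  have hMlt : finrank F M ≤ 3 := by
    have hlt : M < ⊤ := lt_top_iff_ne_top.2 fun h => hne (eq_neg_of_add_eq_zero_left (LinearMap.ker_eq_top.1 h))
    have := Submodule.finrank_lt hlt.ne
    omega
  have hPlt : finrank F P ≤ 3 := by
    have hlt : P < ⊤ := lt_top_iff_ne_top.2 fun h => hz1 (hρ (by
      rw [map_one]; exact sub_eq_zero.1 (LinearMap.ker_eq_top.1 h)))
    have := Submodule.finrank_lt hlt.ne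
    omega
  refine hf1 (hρ ?_)
  rw [map_one]
  refine LinearMap.ext fun v => ?_
  have a1 := fix_of_pow_five ρ P hF hPlt hP hf _ (hsplit v).1
  have a2 := fix_of_pow_five ρ M hF hMlt hM hf _ (hsplit v).2
  rw [map_add] at a1
  rw [map_sub] at a2
  have : (2 : F) • ρ f v = (2 : F) • v := by
    rw [two_smul, two_smul]
    calc ρ f v + ρ f v = (ρ f (ρ z v) + ρ f v) - (ρ f (ρ z v) - ρ f v) := by abel
      _ = (ρ z v + v) - (ρ z v - v) := by rw [a1, a2]
      _ = v + v := by abel
  rw [Module.End.one_apply]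
  exact smul_right_injective V h2 this

theorem exists_fixed_ne_zero [Fintype F] (hF : Fintype.card F = 3) (T : V →ₗ[F] V) (hT : T ^ 3 = 1)
    {u : V} (W : Submodule F V) (hW : ∀ v ∈ W, T v ∈ W) (hu : u ∈ W) (hu0 : u ≠ 0) :
    ∃ k ∈ W, k ≠ 0 ∧ T k = k := by
  have hW' : ∀ v ∈ W, (T - 1) v ∈ W := fun v hv => by
    rw [LinearMap.sub_apply, Module.End.one_apply]; exact W.sub_mem (hW v hv) hv
  have hchar : (3 : F) = 0 := by
    have h := FiniteField.cast_card_eq_zero F
    rw [hF] at h; exact_mod_cast h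
  have hN : ∀ v, (T - 1) ((T - 1) ((T - 1) v)) = 0 := fun v => by
    have h3 : T (T (T v)) = v := by
      rw [← Module.End.mul_apply, ← Module.End.mul_apply, show T * T * T = T ^ 3 by rw [pow_succ, pow_two],
        hT, Module.End.one_apply]
    simp only [LinearMap.sub_apply, Module.End.one_apply, map_sub, h3]
    have e : (3 : F) • (T v - T (T v)) = 0 := by rw [hchar, zero_smul]
    calc _ = (3 : F) • (T v - T (T v)) := by module
      _ = 0 := e
  have key : ∀ v, (T - 1) v = 0 → T v = v := fun v h => by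
    rwa [LinearMap.sub_apply, Module.End.one_apply, sub_eq_zero] at h
  by_cases h1 : (T - 1) u = 0
  · exact ⟨u, hu, hu0, key _ h1⟩
  by_cases h2 : (T - 1) ((T - 1) u) = 0
  · exact ⟨_, hW' _ hu, h1, key _ h2⟩
  exact ⟨_, hW' _ (hW' _ hu), h2, key _ (hN u)⟩

theorem fixed_space [Fintype K] [Fintype F] (hF : Fintype.card F = 3) (hK : Fintype.card K = 5)
    (φ : SL(2, K) →* ↥(Matrix.symplecticGroup (Fin 2) F)) (hφ : Function.Injective φ)
    (x : SL(2, K)) (hx : orderOf x = 3) :
    finrank F ↥(LinearMap.ker (Matrix.toLin' ((φ x : Matrix (Fin 2 ⊕ Fin 2) (Fin 2 ⊕ Fin 2) F)) - LinearMap.id)) = 2 ∧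
      ∀ v w : Fin 2 ⊕ Fin 2 → F, (φ x : Matrix (Fin 2 ⊕ Fin 2) (Fin 2 ⊕ Fin 2) F).mulVec v = v →
        (φ x : Matrix (Fin 2 ⊕ Fin 2) (Fin 2 ⊕ Fin 2) F).mulVec w = w →
          dotProduct v ((Matrix.J (Fin 2) F).mulVec w) = 0 := by
  classical
  let V := Fin 2 ⊕ Fin 2 → F
  let ρ : SL(2, K) →* (V →ₗ[F] V) :=
    (Matrix.toLinAlgEquiv' (R := F) (n := Fin 2 ⊕ Fin 2)).toMonoidHom.comp
      ((Matrix.symplecticGroup (Fin 2) F).subtype.comp φ)
  have hρv : ∀ g v, ρ g v = (φ g : Matrix (Fin 2 ⊕ Fin 2) (Fin 2 ⊕ Fin 2) F).mulVec v := fun g v => rfl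
  have hρ : Function.Injective ρ := fun a b h => hφ (Subtype.ext
    ((Matrix.toLinAlgEquiv' (R := F) (n := Fin 2 ⊕ Fin 2)).injective h))
  have hV : finrank F V = 4 := by simp [V]
  have h2 := two_ne_zero_five hK
  have hz : ((-1 : SL(2, K)) * -1) = 1 := Subtype.ext (by simp)
  have hz1 : (-1 : SL(2, K)) ≠ 1 := fun h => by
    have := congrArg (fun g : SL(2, K) => g.1 0 0) h
    simp at this
    exact h2 (by linear_combination -this)
  obtain ⟨f, hf, hf1⟩ : ∃ f : SL(2, K), f ^ 5 = 1 ∧ f ≠ 1 := by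
    haveI : Fact (Nat.Prime 5) := ⟨by norm_num⟩
    refine ⟨⟨!![1, 1; 0, 1], by simp [Matrix.det_fin_two]⟩, Subtype.ext ?_, fun h => ?_⟩
    · have h5 : (5 : K) = 0 := by
        have h := FiniteField.cast_card_eq_zero K
        rw [hK] at h; exact_mod_cast h
      show (!![1, 1; 0, 1] : Matrix (Fin 2) (Fin 2) K) ^ 5 = 1
      ext i j
      fin_cases i <;> fin_cases j <;> simp [pow_succ, Matrix.mul_apply, Fin.sum_univ_two]
      linear_combination h5
    · simpa using congrArg (fun g : SL(2, K) => g.1 0 1) h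
  have hneg : ρ (-1) = -1 := central_eq_neg_one ρ hF hV hρ hz hz1 (fun g => Subtype.ext (by simp)) hf hf1
  obtain ⟨y, hy2, hyx⟩ := exists_inverter hK x hx
  have hyy : y * y = -1 := Subtype.ext (by rw [hy2]; simp)
  set W := LinearMap.ker (ρ x - 1) with hWdef
  have hmem : ∀ v, v ∈ W ↔ ρ x v = v := fun v => by
    simp [W, LinearMap.sub_apply, sub_eq_zero]
  have hxi : ∀ v, ρ x v = v → ρ x⁻¹ v = v := fun v hv => by
    conv_lhs => rw [← hv]
    rw [← Module.End.mul_apply, ← map_mul, inv_mul_cancel, map_one, Module.End.one_apply]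
  have hyW : ∀ v ∈ W, ρ y v ∈ W := fun v hv => by
    rw [hmem] at hv ⊢
    have h : x * y = y * x⁻¹ := by
      calc x * y = x * (y * x) * x⁻¹ := by group
        _ = y * x⁻¹ := by rw [hyx]; group
    rw [← Module.End.mul_apply, ← map_mul, h, map_mul, Module.End.mul_apply, hxi v hv]
  have heven := finrank_even_of_sq_neg_one hF ((ρ y).restrict hyW) (by
    ext v
    show ρ y (ρ y v) _ = _
    rw [← Module.End.mul_apply, ← map_mul, hyy, hneg]
    rfl)
  have hT : ρ x ^ 3 = 1 := by rw [← map_pow, ← hx, pow_orderOf_eq_one, map_one]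
  have hlt : finrank F W < 4 := hV ▸ Submodule.finrank_lt fun h => by
    have h1 : x = 1 := hρ (by rw [map_one]; exact sub_eq_zero.1 (LinearMap.ker_eq_top.1 h))
    simp [h1] at hx
  have hpos : 0 < finrank F W := by
    obtain ⟨u, hu⟩ := exists_ne (0 : V)
    obtain ⟨k, -, hk0, hk⟩ := exists_fixed_ne_zero hF (ρ x) hT ⊤ (fun _ _ => trivial) (Submodule.mem_top (x := u)) hu
    haveI : Nontrivial W := ⟨⟨⟨k, (hmem k).2 hk⟩, 0, fun h => hk0 (congrArg Subtype.val h)⟩⟩
    exact finrank_pos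
  have hW2 : finrank F W = 2 := by
    obtain ⟨m, hm⟩ := heven
    omega
  refine ⟨hW2, fun v w hv hw => ?_⟩
  let B : V →ₗ[F] V →ₗ[F] F := Matrix.toLinearMap₂' F (Matrix.J (Fin 2) F)
  have hB : ∀ a b, B a b = dotProduct a ((Matrix.J (Fin 2) F).mulVec b) := fun a b =>
    Matrix.toLinearMap₂'_apply' _ _ _
  have hskew : ∀ a b, B a b = - B b a := fun a b => by
    rw [hB, hB, Matrix.dotProduct_mulVec, ← Matrix.mulVec_transpose, Matrix.J_transpose,
      Matrix.neg_mulVec, neg_dotProduct, dotProduct_comm]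
  have halt : ∀ a, B a a = 0 := fun a => by
    have h2F : (2 : F) ≠ 0 := SL2Prod.two_ne_zero_of_odd (by rw [hF]; decide)
    exact (mul_eq_zero.1 (show (2 : F) * B a a = 0 by linear_combination hskew a a)).resolve_left h2F
  have hinv : ∀ a b, B (ρ x a) (ρ x b) = B a b := fun a b => by
    have hA := SymplecticGroup.mem_iff'.1 (φ x).2
    rw [hB, hB, hρv, hρv, Matrix.mulVec_mulVec, Matrix.dotProduct_mulVec, ← Matrix.vecMul_transpose,
      Matrix.vecMul_vecMul, ← mul_assoc, hA, ← Matrix.dotProduct_mulVec]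
  rw [← hB]
  by_contra hne
  have hL : LinearMap.ker ((B.flip v).prod (B.flip w)) ≠ ⊥ := fun h => by
    have h' := LinearMap.finrank_le_finrank_of_injective (LinearMap.ker_eq_bot.1 h)
    rw [hV, Module.finrank_prod, Module.finrank_self] at h'
    omega
  obtain ⟨u, hu, hu0⟩ := Submodule.exists_mem_ne_zero_of_ne_bot hL
  obtain ⟨k, hk, hk0, hkx⟩ := exists_fixed_ne_zero hF (ρ x) hT (LinearMap.ker ((B.flip v).prod (B.flip w)))
    (fun a ha => by
      simp only [LinearMap.ker_prod, Submodule.mem_inf, LinearMap.mem_ker, LinearMap.flip_apply] at ha ⊢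
      constructor
      · rw [← ha.1]; conv_lhs => rw [← hv, ← hρv x v, hinv]
      · rw [← ha.2]; conv_lhs => rw [← hw, ← hρv x w, hinv]) hu hu0
  simp only [LinearMap.ker_prod, Submodule.mem_inf, LinearMap.mem_ker, LinearMap.flip_apply] at hk
  have hvW : v ∈ W := (hmem v).2 ((hρv x v).trans hv)
  have hwW : w ∈ W := (hmem w).2 ((hρv x w).trans hw)
  have hind : LinearIndependent F ![(⟨v, hvW⟩ : W), ⟨w, hwW⟩] := by
    rw [LinearIndependent.pair_iff]
    intro s t hst
    have hst' : s • v + t • w = 0 := congrArg Subtype.val hst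
    have a1 := congrArg (fun a => B a w) hst'
    have a2 := congrArg (fun a => B a v) hst'
    simp [halt] at a1 a2
    refine ⟨a1.resolve_right hne, a2.resolve_right fun h => hne (by rw [hskew, h, neg_zero])⟩
  have hspan := hind.span_eq_top_of_card_eq_finrank (by rw [hW2]; simp)
  have hkW : (⟨k, (hmem k).2 hkx⟩ : W) ∈ Submodule.span F (Set.range ![(⟨v, hvW⟩ : W), ⟨w, hwW⟩]) := by
    rw [hspan]; trivial
  rw [Matrix.range_cons, Matrix.range_cons, Matrix.range_empty, Set.union_empty, Set.singleton_union,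
    Submodule.mem_span_pair] at hkW
  obtain ⟨s, t, hst⟩ := hkW
  have hst' : s • v + t • w = k := congrArg Subtype.val hst
  obtain ⟨hk1, hk2⟩ := hk
  rw [← hst'] at hk1 hk2
  simp [halt] at hk1 hk2
  have hs : s = 0 := hk2.resolve_right hne
  have ht : t = 0 := hk1.resolve_right fun h => hne (by rw [hskew, h, neg_zero])
  exact hk0 (by rw [← hst', hs, ht, zero_smul, zero_smul, add_zero])

end CfsgLib.InvChar.SL2FiveSp4
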