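import Cfsg.Agent.Lib.InvChar.TripleAlt
import Cfsg.Agent.Lib.Classical.ExcIsoPermOdd
import Cfsg.Agent.Lib.Classical.SLOrder

/-!
# The multiplier of `SL(2,9)`

`SL(2,9)` is the double cover of `A₆`, so its multiplier is the part of order three.
-/

set_option autoImplicit false

namespace CfsgLib.InvChar.SchurSLNine

open Matrix Subgroup
open scoped commutatorElement

universe u

/-- For a central extension of a perfect group by a central extension, the composite is central. -/
theorem comp_stem {Γ X G : Type*} [Group Γ] [Group X] [Group G] {σ : Γ →* X} {π : X →* G}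
    (hσ : Cfsg.IsStemExtension σ) (hπ : Cfsg.IsStemExtension π) (hX : commutator X = ⊤) :
    Cfsg.IsStemExtension (π.comp σ) := by
  have hΓ : commutator Γ = ⊤ := by
    have hmap : (commutator Γ).map σ = ⊤ := by
      rw [_root_.commutator_def, Subgroup.map_commutator, map_top_of_surjective σ hσ.1,
        ← _root_.commutator_def, hX]
    refine top_le_iff.1 fun g _ => ?_
    obtain ⟨c, hc, hcg⟩ : σ g ∈ (commutator Γ).map σ := hmap ▸ mem_top _
    rw [show g = c * (c⁻¹ * g) from (mul_inv_cancel_left c g).symm]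
    exact mul_mem hc (hσ.2.2 (MonoidHom.mem_ker.2 (by rw [map_mul, map_inv, hcg, inv_mul_cancel])))
  refine ⟨hπ.1.comp hσ.1, fun k hk => ?_, by rw [hΓ]; exact le_top⟩
  have hk' : σ k ∈ center X := hπ.2.1 hk
  have hcent : ∀ g : Γ, ⁅g, k⁆ ∈ center Γ := fun g => hσ.2.1 (MonoidHom.mem_ker.2 (by
    rw [map_commutatorElement, commutatorElement_eq_one_iff_mul_comm]
    exact mem_center_iff.1 hk' (σ g)))
  let f : Γ →* center Γ := MonoidHom.mk' (fun g => ⟨⁅g, k⁆, hcent g⟩) fun a b => Subtype.ext (by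
    show ⁅a * b, k⁆ = ⁅a, k⁆ * ⁅b, k⁆
    rw [show ⁅a * b, k⁆ = a * ⁅b, k⁆ * a⁻¹ * ⁅a, k⁆ by simp only [commutatorElement_def]; group,
      mem_center_iff.1 (hcent b) a, mul_inv_cancel_right, mem_center_iff.1 (hcent a) ⁅b, k⁆])
  have hle : commutator Γ ≤ f.ker := by
    rw [_root_.commutator_def, Subgroup.commutator_le]
    intro a _ b _
    rw [MonoidHom.mem_ker, map_commutatorElement, commutatorElement_eq_one_iff_mul_comm]
    exact Subtype.ext (mem_center_iff.1 (f b).2 (f a))
  rw [mem_center_iff]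
  intro g
  exact commutatorElement_eq_one_iff_mul_comm.1 (congrArg Subtype.val (hle (hΓ ▸ mem_top g)))

variable {F : Type u} [Field F] [Fintype F]

local notation "SL₂" => Matrix.SpecialLinearGroup (Fin 2) F

theorem minus_one_commutator {i : F} (hi : i * i = -1) :
    ∃ x y : SL₂, ((⁅x, y⁆ : SL₂) : Matrix (Fin 2) (Fin 2) F) = -1 := by
  let x : SL₂ := ⟨!![0, 1; -1, 0], by simp [Matrix.det_fin_two]⟩
  let y : SL₂ := ⟨!![i, 0; 0, -i], by simp [Matrix.det_fin_two, hi]⟩
  refine ⟨x, y, ?_⟩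
  rw [commutatorElement_def, Matrix.SpecialLinearGroup.coe_mul, Matrix.SpecialLinearGroup.coe_mul,
    Matrix.SpecialLinearGroup.coe_mul, Matrix.SpecialLinearGroup.coe_inv, Matrix.SpecialLinearGroup.coe_inv]
  ext r c
  fin_cases r <;> fin_cases c <;> simp [x, y, Matrix.adjugate_fin_two, Matrix.mul_apply, hi]

/-- The projection of `SL(2,9)` onto `A₆`. -/
theorem exists_proj (hF : Fintype.card F = 9) :
    ∃ τ : SL₂ →* ↥(alternatingGroup (Fin 6)), Cfsg.IsStemExtension τ ∧ Nat.card τ.ker = 2 ∧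
      commutator SL₂ = ⊤ := by
  classical
  obtain ⟨e⟩ := CfsgLib.Classical.psl_two_nine_equiv hF
  let τ : SL₂ →* ↥(alternatingGroup (Fin 6)) := e.toMonoidHom.comp (QuotientGroup.mk' _)
  have hk : τ.ker = Subgroup.center SL₂ := by
    ext x
    rw [MonoidHom.mem_ker, ← QuotientGroup.eq_one_iff]
    exact e.map_eq_one_iff
  obtain ⟨i, hi⟩ : IsSquare (-1 : F) := by
    rw [FiniteField.isSquare_neg_one_iff, hF]; norm_num
  obtain ⟨x, y, hxy⟩ := minus_one_commutator hi.symm
  have hne : (-1 : F) ≠ 1 := by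
    haveI : CharP F 3 := by
      obtain ⟨p, hp⟩ := CharP.exists F
      obtain ⟨n, hn, hn'⟩ := FiniteField.card F p
      have : 3 ∣ p := Nat.prime_three.dvd_of_dvd_pow (m := p) (n := n) (by rw [← hn', hF]; norm_num)
      rwa [(Nat.prime_dvd_prime_iff_eq Nat.prime_three hn).1 this]
    exact Ring.neg_one_ne_one_of_char_ne_two (by rw [ringChar.eq F 3]; norm_num)
  have hcen : ∀ z ∈ Subgroup.center SL₂, z = 1 ∨ z = ⁅x, y⁆ := by
    intro z hz
    obtain ⟨r, hr, hzr⟩ := Matrix.SpecialLinearGroup.mem_center_iff.1 hz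
    rw [Fintype.card_fin, sq, mul_self_eq_one_iff] at hr
    rcases hr with rfl | rfl
    · left; refine Subtype.ext ?_; rw [← hzr]; simp
    · right; refine Subtype.ext ?_; rw [← hzr, hxy, map_neg, map_one]
  have hz : ⁅x, y⁆ ∈ Subgroup.center SL₂ :=
    Matrix.SpecialLinearGroup.mem_center_iff.2 ⟨-1, by simp, by rw [hxy, map_neg, map_one]⟩
  have hperf : commutator SL₂ = ⊤ := by
    have hmap : (commutator SL₂).map τ = ⊤ := by
      rw [_root_.commutator_def, Subgroup.map_commutator,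
        map_top_of_surjective τ (e.surjective.comp (QuotientGroup.mk'_surjective _)),
        ← _root_.commutator_def, commutator_alternatingGroup_eq_top (by simp)]
    refine top_le_iff.1 fun g _ => ?_
    obtain ⟨c, hc, hcg⟩ : τ g ∈ (commutator SL₂).map τ := hmap ▸ mem_top _
    rw [show g = c * (c⁻¹ * g) from (mul_inv_cancel_left c g).symm]
    refine mul_mem hc ?_
    rcases hcen (c⁻¹ * g) (hk ▸ MonoidHom.mem_ker.2 (by rw [map_mul, map_inv, hcg, inv_mul_cancel]))
      with h | h <;> rw [h]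
    · exact one_mem _
    · exact commutator_mem_commutator (mem_top _) (mem_top _)
  refine ⟨τ, ⟨e.surjective.comp (QuotientGroup.mk'_surjective _), hk.le, by rw [hperf]; exact le_top⟩, ?_, hperf⟩
  rw [hk]
  have hz1 : ⁅x, y⁆ ≠ 1 := fun h => hne (by
    have := congrFun (congrFun (congrArg Subtype.val h) 0) 0
    rw [hxy] at this
    simpa using this)
  refine Nat.card_eq_two_iff.2 ⟨1, ⟨⁅x, y⁆, hz⟩, fun h => hz1 (congrArg Subtype.val h).symm, ?_⟩
  refine Set.eq_univ_of_forall fun z => ?_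
  rcases hcen z z.2 with h | h
  · exact Or.inl (Subtype.ext h)
  · exact Or.inr (Subtype.ext h)

/-- **The multiplier of `SL(2,9)`.** -/
theorem multiplier (hF : Fintype.card F = 9) : Cfsg.HasCyclicSchurMultiplier SL₂ 3 := by
  classical
  obtain ⟨τ, hτ, hc, hperf⟩ := exists_proj hF
  obtain ⟨C, τ₂, h2, c2⟩ := TripleAlt.exists_triple 4 (Or.inl rfl)
  obtain ⟨P, -, π, -, hπ, -, hcπ⟩ := SchurTwoGen.exists_fibre hτ h2 (by rw [hc, c2]; decide)
  refine CfsgLib.Schur.hasCyclicSchurMultiplier_of_bound' hπ (hcπ.trans c2) fun Γ _ _ σ hσ => ?_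
  obtain ⟨hcyc, hdvd⟩ := TripleAlt.bound_six (comp_stem hσ hτ hperf)
  have hle : σ.ker ≤ (τ.comp σ).ker := fun z hz => by
    show τ (σ z) = 1
    rw [show σ z = 1 from hz, map_one]
  refine ⟨isCyclic_of_injective (Subgroup.inclusion hle) (Subgroup.inclusion_injective hle), ?_⟩
  have hidx : Nat.card σ.ker * 2 = Nat.card (τ.comp σ).ker := by
    have h1 := σ.ker.card_mul_index
    rw [Subgroup.index_ker, MonoidHom.range_eq_top.2 hσ.1, Subgroup.card_top] at h1
    have h2 := (τ.comp σ).ker.card_mul_index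
    rw [Subgroup.index_ker, MonoidHom.range_eq_top.2 (show Function.Surjective (τ.comp σ) from hτ.1.comp hσ.1), Subgroup.card_top] at h2
    have h3 := τ.ker.card_mul_index
    rw [Subgroup.index_ker, MonoidHom.range_eq_top.2 hτ.1, Subgroup.card_top, hc] at h3
    rw [← h3, ← h2, ← mul_assoc] at h1
    exact Nat.eq_of_mul_eq_mul_right Nat.card_pos h1
  rw [← hidx, show (6 : ℕ) = 3 * 2 from rfl] at hdvd
  exact Nat.dvd_of_mul_dvd_mul_right (by norm_num) hdvd

end CfsgLib.InvChar.SchurSLNine
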