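import Cfsg.Agent.Lib.KnownA.Stem
import Cfsg.Agent.Lib.Coprime.SchurAbelian

/-!
# Cyclic multiplier kernels: bounds from two-generator subgroups, and fibre products of covers
-/

set_option autoImplicit false

namespace CfsgLib.InvChar.SchurTwoGen

open Subgroup
open scoped commutatorElement

universe u v w

variable {G : Type u} [Group G] {Γ : Type v} [Group Γ] {σ : Γ →* G}

/-- The derived subgroup of the preimage of a subgroup inside `⟨a, b⟩`, with `b` inverting or
centralising `a`, is inside a cyclic subgroup. -/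
theorem commutator_comap_le (hσ : Cfsg.IsStemExtension σ) (S : Subgroup G) {a b : G}
    (hS : S ≤ Subgroup.closure {a, b}) (hrel : b * a * b⁻¹ = a⁻¹ ∨ b * a * b⁻¹ = a) :
    ∃ c : Γ, ⁅S.comap σ, S.comap σ⁆ ≤ Subgroup.zpowers c ∧ (b = 1 → c = 1) := by
  obtain ⟨A, hA⟩ := hσ.1 a
  obtain ⟨B, hB, hB1⟩ : ∃ B : Γ, σ B = b ∧ (b = 1 → B = 1) := by
    by_cases h : b = 1
    · exact ⟨1, by rw [map_one, h], fun _ => rfl⟩
    · obtain ⟨B, hB⟩ := hσ.1 b
      exact ⟨B, hB, fun e => absurd e h⟩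
  have hc : ∀ x : Γ, σ x = 1 → ∀ g : Γ, g * x = x * g := fun x hx =>
    mem_center_iff.1 (hσ.2.1 (MonoidHom.mem_ker.2 hx))
  have hle : S.comap σ ≤ Subgroup.closure ({A, B} ∪ (σ.ker : Set Γ)) := by
    intro x hx
    have hm : σ x ∈ (Subgroup.closure ({A, B} : Set Γ)).map σ := by
      rw [MonoidHom.map_closure, Set.image_pair, hA, hB]
      exact hS hx
    obtain ⟨y, hy, hyx⟩ := hm
    have h1 : y⁻¹ * x ∈ σ.ker := MonoidHom.mem_ker.2 (by rw [map_mul, map_inv, hyx, inv_mul_cancel])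
    rw [show x = y * (y⁻¹ * x) from (mul_inv_cancel_left y x).symm]
    exact mul_mem (Subgroup.closure_mono Set.subset_union_left hy) (Subgroup.subset_closure (Or.inr h1))
  have hkc : ∀ x ∈ σ.ker, ∀ g : Γ, ⁅x, g⁆ = 1 ∧ ⁅g, x⁆ = 1 := fun x hx g =>
    ⟨commutatorElement_eq_one_iff_mul_comm.2 (hc x hx g).symm,
      commutatorElement_eq_one_iff_mul_comm.2 (hc x hx g)⟩
  obtain ⟨hAc, hBc⟩ : (A * ⁅B, A⁆ * A⁻¹ = ⁅B, A⁆) ∧
      (B * ⁅B, A⁆ * B⁻¹ = ⁅B, A⁆ ∨ B * ⁅B, A⁆ * B⁻¹ = ⁅B, A⁆⁻¹) := by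
    rcases hrel with h | h
    · have hw : σ (B * A * B⁻¹ * A) = 1 := by
        simp only [map_mul, map_inv, hA, hB, h, inv_mul_cancel]
      set w := B * A * B⁻¹ * A with hwdef
      have e1 : B * A * B⁻¹ = w * A⁻¹ := by rw [hwdef, mul_inv_cancel_right]
      have ec : ⁅B, A⁆ = w * (A⁻¹ * A⁻¹) := by rw [commutatorElement_def, e1, mul_assoc]
      constructor
      · rw [ec, ← mul_assoc A, hc w hw A]; group
      · right
        have e2 : B * A⁻¹ * B⁻¹ = A * w⁻¹ := by
          rw [show B * A⁻¹ * B⁻¹ = (B * A * B⁻¹)⁻¹ by group, e1, mul_inv_rev, inv_inv]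
        calc B * ⁅B, A⁆ * B⁻¹ = w * (B * A⁻¹ * B⁻¹) * (B * A⁻¹ * B⁻¹) := by
              rw [ec, ← mul_assoc B, hc w hw B]; group
          _ = w * A * (w⁻¹ * A) * w⁻¹ := by rw [e2]; group
          _ = w * A * (A * w⁻¹) * w⁻¹ := by
              rw [hc w⁻¹ (by rw [map_inv, hw, inv_one]) A]
          _ = A * A * w⁻¹ := by
              rw [← hc w hw A]
              calc A * w * (A * w⁻¹) * w⁻¹ = A * (w * A) * w⁻¹ * w⁻¹ := by simp only [mul_assoc]
                _ = A * (A * w) * w⁻¹ * w⁻¹ := by rw [hc w hw A]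
                _ = _ := by simp [mul_assoc]
          _ = ⁅B, A⁆⁻¹ := by rw [ec]; simp only [mul_inv_rev, inv_inv, mul_assoc]
    · have hw : σ ⁅B, A⁆ = 1 := by
        simp only [commutatorElement_def, map_mul, map_inv, hA, hB, h, mul_inv_cancel]
      exact ⟨by rw [hc _ hw A, mul_inv_cancel_right], Or.inl (by rw [hc _ hw B, mul_inv_cancel_right])⟩
  refine ⟨⁅B, A⁆, (commutator_mono hle hle).trans
    (CfsgLib.KnownA.commutator_closure_le _ _ ?_ ?_), fun h => ?_⟩
  · intro s hs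
    refine CfsgLib.KnownA.mem_normalizer_zpowers ?_
    rcases hs with (hs | hs) | hs
    · rw [hs]; exact Or.inl hAc
    · rw [hs]; exact hBc
    · left; rw [← hc s hs ⁅B, A⁆, mul_inv_cancel_right]
  · intro s hs t ht
    rcases hs with (hs | hs) | hs
    · rw [hs]
      rcases ht with (ht | ht) | ht
      · rw [ht, commutatorElement_self]; exact one_mem _
      · rw [ht, show ⁅A, B⁆ = ⁅B, A⁆⁻¹ from (commutatorElement_inv _ _).symm]; exact inv_mem (mem_zpowers _)
      · rw [(hkc t ht A).2]; exact one_mem _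
    · rw [hs]
      rcases ht with (ht | ht) | ht
      · rw [ht]; exact mem_zpowers _
      · rw [ht, commutatorElement_self]; exact one_mem _
      · rw [(hkc t ht B).2]; exact one_mem _
    · rw [(hkc s hs t).1]; exact one_mem _
  · rw [hB1 h, commutatorElement_one_left]

/-- The kernel is killed by the index of each cyclic subgroup. -/
theorem pow_index_zpowers [Finite Γ] (hσ : Cfsg.IsStemExtension σ) (g : G) {z : Γ} (hz : z ∈ σ.ker) :
    z ^ (Subgroup.zpowers g).index = 1 := by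
  obtain ⟨c, hc, hc1⟩ := commutator_comap_le hσ (Subgroup.zpowers g) (a := g) (b := 1)
    (Subgroup.zpowers_le.2 (Subgroup.subset_closure (Or.inl rfl))) (Or.inr (by group))
  refine CfsgLib.KnownA.stem_pow_index_eq_one hσ _ (fun x _ hx => ?_) z hz
  simpa [hc1 rfl] using hc hx

/-- An element of the kernel of order dividing `m` lies in the derived subgroup of the preimage of a
subgroup of index coprime to `m`. -/
theorem mem_commutator_comap [Finite Γ] (hσ : Cfsg.IsStemExtension σ) (S : Subgroup G) {m : ℕ}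
    (hco : Nat.Coprime m S.index) {z : Γ} (hz : z ∈ σ.ker) (hzm : z ^ m = 1) :
    z ∈ ⁅S.comap σ, S.comap σ⁆ := by
  set D : Subgroup Γ := σ.ker ⊓ ⁅S.comap σ, S.comap σ⁆ with hD
  have hDn : D.Normal := ⟨fun x hx g => by
    rwa [mem_center_iff.1 (hσ.2.1 hx.1) g, mul_inv_cancel_right]⟩
  let τ := QuotientGroup.lift D σ inf_le_left
  have hτ : Cfsg.IsStemExtension τ := by
    refine ⟨fun g => ?_, fun x hx => ?_, fun x hx => ?_⟩
    · obtain ⟨y, hy⟩ := hσ.1 g; exact ⟨(y : Γ ⧸ D), hy⟩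
    · obtain ⟨y, rfl⟩ := QuotientGroup.mk'_surjective D x
      refine mem_center_iff.mpr fun g => ?_
      obtain ⟨y', rfl⟩ := QuotientGroup.mk'_surjective D g
      rw [← map_mul, ← map_mul, mem_center_iff.mp (hσ.2.1 hx) y']
    · obtain ⟨y, rfl⟩ := QuotientGroup.mk'_surjective D x
      have := Subgroup.mem_map_of_mem (QuotientGroup.mk' D) (hσ.2.2 hx)
      rw [_root_.commutator_def, Subgroup.map_commutator] at this
      exact Subgroup.commutator_mono le_top le_top this
  have h1 : (QuotientGroup.mk' D z) ^ S.index = 1 := by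
    refine CfsgLib.KnownA.stem_pow_index_eq_one hτ S (fun x hx hxc => ?_) _ (show σ z = 1 from hz)
    have hmap : S.comap τ = (S.comap σ).map (QuotientGroup.mk' D) := by
      ext y
      obtain ⟨y, rfl⟩ := QuotientGroup.mk'_surjective D y
      refine ⟨fun h => ⟨y, h, rfl⟩, ?_⟩
      rintro ⟨y', hy', e⟩
      show σ y ∈ S
      rwa [← show σ y' = σ y from congrArg τ e]
    rw [hmap, ← Subgroup.map_commutator] at hxc
    obtain ⟨y, hy, rfl⟩ := hxc
    exact (QuotientGroup.eq_one_iff y).2 ⟨hx, hy⟩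
  have h2 : (QuotientGroup.mk' D z) ^ m = 1 := by rw [← map_pow, hzm, map_one]
  have h3 := pow_gcd_eq_one.2 ⟨h2, h1⟩
  rw [hco.gcd_eq_one, pow_one, QuotientGroup.mk'_apply, QuotientGroup.eq_one_iff] at h3
  exact h3.2

/-- Two-generator subgroups of odd index and of index prime to three, and kernels of exponent six,
bound the kernel by a cyclic group of order six. -/
theorem ker_cyclic_six [Finite Γ] (hσ : Cfsg.IsStemExtension σ) (h6 : ∀ z ∈ σ.ker, z ^ 6 = 1)
    (h : ∀ p, p = 2 ∨ p = 3 → ∃ (S : Subgroup G) (a b : G), S ≤ Subgroup.closure {a, b} ∧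
      (b * a * b⁻¹ = a⁻¹ ∨ b * a * b⁻¹ = a) ∧ Nat.Coprime p S.index) :
    IsCyclic σ.ker ∧ Nat.card σ.ker ∣ 6 := by
  let _ : CommGroup σ.ker :=
    { (inferInstance : Group σ.ker) with
      mul_comm := fun a b => Subtype.ext (mem_center_iff.mp (hσ.2.1 b.2) a) }
  let T : ℕ → Subgroup σ.ker := fun p => (powMonoidHom p : σ.ker →* σ.ker).ker
  have hT : ∀ p, p = 2 ∨ p = 3 → Nat.card (T p) ∣ p := by
    intro p hp
    obtain ⟨S, a, b, hS, hrel, hco⟩ := h p hp
    obtain ⟨c, hc, -⟩ := commutator_comap_le hσ S hS hrel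
    have hmem : ∀ x : T p, ((x : σ.ker) : Γ) ^ p = 1 := fun x => congrArg Subtype.val x.2
    let f : T p →* Subgroup.zpowers c :=
      (σ.ker.subtype.comp (T p).subtype).codRestrict _ fun x =>
        hc (mem_commutator_comap hσ S hco x.1.2 (hmem x))
    have hf : Function.Injective f := fun x y e =>
      Subtype.ext (Subtype.ext (congrArg Subtype.val e :))
    have := isCyclic_of_injective f hf
    rw [← IsCyclic.exponent_eq_card]
    exact Monoid.exponent_dvd_of_forall_pow_eq_one fun x => Subtype.ext (Subtype.ext (hmem x))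
  let f : σ.ker →* T 2 × T 3 :=
    ((powMonoidHom 3).codRestrict (T 2) fun x => by
        show (x ^ 3) ^ 2 = 1
        rw [← pow_mul]; exact Subtype.ext (h6 x x.2)).prod
      ((powMonoidHom 2).codRestrict (T 3) fun x => by
        show (x ^ 2) ^ 3 = 1
        rw [← pow_mul]; exact Subtype.ext (h6 x x.2))
  have hf : Function.Injective f := by
    rw [← MonoidHom.ker_eq_bot_iff, eq_bot_iff]
    intro x hx
    have h3 : x ^ 3 = 1 := congrArg Subtype.val (congrArg Prod.fst hx)
    have h2 : x ^ 2 = 1 := congrArg Subtype.val (congrArg Prod.snd hx)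
    rw [Subgroup.mem_bot, ← pow_one x]
    exact pow_gcd_eq_one.2 ⟨h3, h2⟩
  have hdvd : Nat.card σ.ker ∣ 6 := by
    refine (Subgroup.card_dvd_of_injective f hf).trans ?_
    rw [Nat.card_prod]
    exact Nat.mul_dvd_mul (hT 2 (Or.inl rfl)) (hT 3 (Or.inr rfl))
  refine ⟨CfsgLib.Schur.isCyclic_of_card_ker_pow_le fun p hp => ?_, hdvd⟩
  by_cases hp' : p = 2 ∨ p = 3
  · exact Nat.le_of_dvd hp.pos (hT p hp')
  · have hb : (powMonoidHom p : σ.ker →* σ.ker).ker = ⊥ := by
      rw [eq_bot_iff]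
      intro x hx
      have h1 : x ^ p = 1 := hx
      have hp6 : Nat.Coprime p 6 := by
        refine (hp.coprime_iff_not_dvd).2 fun hd => hp' ?_
        rcases (Nat.Prime.dvd_mul hp).1 (show p ∣ 2 * 3 from hd) with h | h
        · exact Or.inl ((Nat.prime_dvd_prime_iff_eq hp Nat.prime_two).1 h)
        · exact Or.inr ((Nat.prime_dvd_prime_iff_eq hp Nat.prime_three).1 h)
      rw [Subgroup.mem_bot, ← pow_one x, ← hp6.gcd_eq_one]
      exact pow_gcd_eq_one.2 ⟨h1, Subtype.ext (h6 x x.2)⟩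
    rw [hb, Subgroup.card_bot]
    exact hp.one_le

/-- Two covers of a perfect group with coprime kernels give one with the product kernel, and the
projection to the first cover is a stem extension too. -/
theorem exists_fibre {X : Type v} {Y : Type w} [Group X] [Group Y] [Finite X] [Finite Y]
    {τ₁ : X →* G} {τ₂ : Y →* G} (h₁ : Cfsg.IsStemExtension τ₁)
    (h₂ : Cfsg.IsStemExtension τ₂) (hco : Nat.Coprime (Nat.card τ₁.ker) (Nat.card τ₂.ker)) :
    ∃ (P : Subgroup (X × Y)) (σ : P →* G) (π : P →* X), Cfsg.IsStemExtension σ ∧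
      Cfsg.IsStemExtension π ∧ Nat.card σ.ker = Nat.card τ₁.ker * Nat.card τ₂.ker ∧
      Nat.card π.ker = Nat.card τ₂.ker := by
  let P : Subgroup (X × Y) :=
    (τ₁.comp (MonoidHom.fst X Y)).eqLocus (τ₂.comp (MonoidHom.snd X Y))
  let π : P →* X := (MonoidHom.fst X Y).comp P.subtype
  let π' : P →* Y := (MonoidHom.snd X Y).comp P.subtype
  let σ : P →* G := τ₁.comp π
  have hmem : ∀ x y, τ₁ x = τ₂ y → (x, y) ∈ P := fun x y h => h
  have hπ : Function.Surjective π := fun x => by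
    obtain ⟨y, hy⟩ := h₂.1 (τ₁ x); exact ⟨⟨(x, y), hmem x y hy.symm⟩, rfl⟩
  have hπ' : Function.Surjective π' := fun y => by
    obtain ⟨x, hx⟩ := h₁.1 (τ₂ y); exact ⟨⟨(x, y), hmem x y hx⟩, rfl⟩
  have hagree : ∀ p : P, τ₁ (π p) = τ₂ (π' p) := fun p => p.2
  have hker2 : ∀ p : P, σ p = 1 → τ₂ (π' p) = 1 := fun p hp => (hagree p).symm.trans hp
  have hcent : σ.ker ≤ center P := fun p hp => mem_center_iff.2 fun q => Subtype.ext (Prod.ext
    (mem_center_iff.1 (h₁.2.1 (show π p ∈ τ₁.ker from hp)) (π q))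
    (mem_center_iff.1 (h₂.2.1 (show π' p ∈ τ₂.ker from hker2 p hp)) (π' q)))
  have hper : (commutator P).map π = commutator X := by
    rw [_root_.commutator_def, Subgroup.map_commutator, map_top_of_surjective π hπ, ← _root_.commutator_def]
  have hper' : (commutator P).map π' = commutator Y := by
    rw [_root_.commutator_def, Subgroup.map_commutator, map_top_of_surjective π' hπ', ← _root_.commutator_def]
  have hK : ∀ p : P, σ p = 1 → π p = 1 → p ∈ commutator P := by
    intro p hp hp1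
    have : π' p ∈ (commutator P).map π' := by
      rw [hper']; exact h₂.2.2 (hker2 p hp)
    obtain ⟨q, hq, hqp⟩ := this
    have hq1 : π q ∈ τ₁.ker := by
      show τ₁ (π q) = 1
      rw [hagree, hqp]; exact hker2 p hp
    obtain ⟨r, hr⟩ : ∃ r : ℕ, Nat.card τ₁.ker * r ≡ 1 [MOD Nat.card τ₂.ker] := by
      rcases (show 1 ≤ Nat.card τ₂.ker from Nat.card_pos).eq_or_lt with h | h
      · exact ⟨1, by rw [← h]; exact Nat.modEq_one⟩
      · obtain ⟨r, hr⟩ := Nat.exists_mul_mod_eq_one_of_coprime hco h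
        exact ⟨r, by rw [Nat.ModEq, hr.2, Nat.mod_eq_of_lt h]⟩
    have e : q ^ (Nat.card τ₁.ker * r) = p := by
      refine Subtype.ext (Prod.ext ?_ ?_)
      · show π (q ^ (Nat.card τ₁.ker * r)) = π p
        rw [hp1, map_pow, pow_mul]
        have := pow_card_eq_one' (x := (⟨π q, hq1⟩ : τ₁.ker))
        rw [show π q ^ Nat.card τ₁.ker = 1 from congrArg Subtype.val this, one_pow]
      · show π' (q ^ (Nat.card τ₁.ker * r)) = π' p
        rw [map_pow, hqp]
        have := pow_card_eq_one' (x := (⟨π' p, hker2 p hp⟩ : τ₂.ker))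
        have h1 : π' p ^ Nat.card τ₂.ker = 1 := congrArg Subtype.val this
        conv_rhs => rw [← pow_one (π' p)]
        exact pow_eq_pow_of_modEq hr h1
    exact e ▸ pow_mem hq _
  have hstem : σ.ker ≤ commutator P := fun p hp => by
    have : π p ∈ (commutator P).map π := by rw [hper]; exact h₁.2.2 hp
    obtain ⟨q, hq, hqp⟩ := this
    have hq' : σ q = 1 := by show τ₁ (π q) = 1; rw [hqp]; exact hp
    rw [show p = q * (q⁻¹ * p) by group]
    exact mul_mem hq (hK _ (by rw [map_mul, map_inv, hq', inv_one, one_mul]; exact hp)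
      (by rw [map_mul, map_inv, hqp, inv_mul_cancel]))
  have hle : π.ker ≤ σ.ker := fun p hp => by
    show τ₁ (π p) = 1
    rw [show π p = 1 from hp, map_one]
  refine ⟨P, σ, π, ⟨h₁.1.comp hπ, hcent, hstem⟩, ⟨hπ, hle.trans hcent, hle.trans hstem⟩, ?_, ?_⟩
  · rw [← Nat.card_prod]
    exact Nat.card_congr
      { toFun := fun p => (⟨π p.1, p.2⟩, ⟨π' p.1, hker2 p.1 p.2⟩)
        invFun := fun z => ⟨⟨(z.1.1, z.2.1), hmem _ _ (z.1.2.trans z.2.2.symm)⟩, z.1.2⟩
        left_inv := fun p => rfl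
        right_inv := fun z => rfl }
  · exact Nat.card_congr
      { toFun := fun p => ⟨π' p.1, hker2 p.1 (hle p.2)⟩
        invFun := fun z => ⟨⟨(1, z.1), hmem _ _ (by rw [map_one]; exact z.2.symm)⟩, rfl⟩
        left_inv := fun p => Subtype.ext (Subtype.ext (Prod.ext p.2.symm rfl))
        right_inv := fun z => rfl }

end CfsgLib.InvChar.SchurTwoGen
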