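import Cfsg.Prelude.Def_Transfer
import Cfsg.Prelude.Def_CaseTheorems
import Cfsg.Agent.Lib.Comp.Local
import Cfsg.Agent.Lib.Solvable.FixedPointFree
import Cfsg.Agent.Lib.Solvable.HallHigman
import Cfsg.Agent.Lib.Solvable.Fitting
import Cfsg.Agent.Lib.Coprime.Action

/-!
# Solvable groups whose involution centralisers have normal 2-complements
-/

set_option autoImplicit false
set_option linter.style.haveILetI false

namespace CfsgLib.InvChar.SolvComplement

open Subgroup
open scoped commutatorElement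

universe u

variable {H : Type u} [Group H] [Finite H]

theorem eq_of_coset_fixed {Q : Subgroup H} (hQ : IsPGroup 2 Q) {v x : H} (hx : Odd (orderOf x))
    (hxQ : x ∈ normalizer (Q : Set H)) (hvx : v⁻¹ * x * v * x⁻¹ ∈ Q) (hv : v ∈ normalizer (Q : Set H))
    (hT : IsPGroup 2 ↥(zpowers v ⊔ Q)) : ∃ n ∈ Q, Commute (v * n) x := by
  have hA : zpowers x ≤ normalizer ((zpowers v ⊔ Q : Subgroup H) : Set H) := by
    rw [zpowers_le, mem_normalizer_iff]
    intro w
    have hconj : ∀ y : H, y ∈ normalizer (Q : Set H) → y * v * y⁻¹ ∈ zpowers v ⊔ Q →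
        (zpowers v ⊔ Q).map (MulAut.conj y).toMonoidHom ≤ zpowers v ⊔ Q := fun y hy h => by
      rw [Subgroup.map_sup, MonoidHom.map_zpowers]
      refine sup_le (zpowers_le.2 (by simpa using h)) ?_
      rintro _ ⟨q, hq, rfl⟩
      exact mem_sup_right (by simpa using (mem_normalizer_iff.1 hy q).1 hq)
    have h1 : x * v * x⁻¹ ∈ zpowers v ⊔ Q := by
      rw [show x * v * x⁻¹ = v * (v⁻¹ * x * v * x⁻¹) by group]
      exact mul_mem (mem_sup_left (mem_zpowers v)) (mem_sup_right hvx)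
    have h2 : x⁻¹ * v * x ∈ zpowers v ⊔ Q := by
      have hq : x⁻¹ * (v⁻¹ * x * v * x⁻¹)⁻¹ * x⁻¹⁻¹ ∈ Q :=
        (mem_normalizer_iff.1 (inv_mem hxQ) _).1 (inv_mem hvx)
      rw [show x⁻¹ * v * x = v * (x⁻¹ * (v⁻¹ * x * v * x⁻¹)⁻¹ * x⁻¹⁻¹)⁻¹⁻¹ by group]
      exact mul_mem (mem_sup_left (mem_zpowers v)) (mem_sup_right (inv_mem (inv_mem hq)))
    constructor
    · intro hw
      exact hconj x hxQ h1 ⟨w, hw, by simp⟩
    · intro hw
      exact hconj x⁻¹ (inv_mem hxQ) (by simpa using h2) ⟨_, hw, by simp; group⟩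
  have hN : zpowers x ≤ normalizer (Q : Set H) := zpowers_le.2 hxQ
  haveI : Fact (Nat.Prime 2) := ⟨Nat.prime_two⟩
  obtain ⟨k, hk⟩ := hT.exists_card_eq
  have hco : (Nat.card (zpowers x)).Coprime (Nat.card ↥(zpowers v ⊔ Q)) := by
    rw [Nat.card_zpowers, hk]; exact hx.coprime_two_right.pow_right _
  refine (CfsgLib.Coprime.exists_mem_centralizer_of_coset hA hN le_sup_right hco
    (Or.inl (Group.isSolvable_of_comm fun a b => mul_comm' a b)) (mem_sup_left (mem_zpowers v)) ?_).imp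
      fun n hn => ⟨hn.1, (mem_centralizer_iff.1 hn.2 x (mem_zpowers x)).symm⟩
  intro a ha
  let M : Subgroup H :=
    { carrier := {y | y ∈ normalizer (Q : Set H) ∧ v⁻¹ * y * v * y⁻¹ ∈ Q}
      one_mem' := ⟨one_mem _, by simp⟩
      mul_mem' := fun {a b} ha hb => ⟨mul_mem ha.1 hb.1, by
        have h1 := mul_mem ha.2 ((mem_normalizer_iff.1 ha.1 _).1 hb.2)
        convert h1 using 1; group⟩
      inv_mem' := fun {a} ha => ⟨inv_mem ha.1, by
        have h1 := inv_mem ((mem_normalizer_iff.1 (inv_mem ha.1) _).1 ha.2)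
        convert h1 using 1; group⟩ }
  exact ((zpowers_le.2 (show x ∈ M from ⟨hxQ, hvx⟩) : zpowers x ≤ M) ha).2

theorem main (hsol : Group.IsSolvable H) (hO : Cfsg.oddCore H = ⊥)
    (hI : ∀ t : H, orderOf t = 2 → Cfsg.HasNormalPComplement 2 ↥(centralizer ({t} : Set H)))
    (X : Subgroup H) (hXodd : Odd (Nat.card X)) (hXidx : ∃ k : ℕ, X.index = 2 ^ k) :
    (∀ x ∈ X, x ≠ 1 → ∀ y ∈ Cfsg.pCore 2 H, y ≠ 1 → x * y ≠ y * x) ∧
      (∀ (p : ℕ) [Fact p.Prime] (P : Sylow p ↥X), IsCyclic ↥(P : Subgroup ↥X)) ∧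
      (X ⊔ Cfsg.pCore 2 H).Normal ∧
      ∀ hN : (X ⊔ Cfsg.pCore 2 H).Normal, IsCyclic (H ⧸ (X ⊔ Cfsg.pCore 2 H)) ∧
        IsPGroup 2 (H ⧸ (X ⊔ Cfsg.pCore 2 H)) := by
  classical
  haveI : Fact (Nat.Prime 2) := ⟨Nat.prime_two⟩
  haveI := hsol
  set Q := Cfsg.pCore 2 H with hQdef
  haveI hQn : Q.Normal := CfsgLib.Solvable.pCore_normal 2 H
  have hQp : IsPGroup 2 Q := CfsgLib.Solvable.pCore_isPGroup 2
  have hCQ : centralizer (Q : Set H) ≤ Q := by
    have h := CfsgLib.Solvable.centralizer_fittingSubgroup_le (G := H)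
    rwa [CfsgLib.Comp.fittingSubgroup_eq_pCore_of_core (p := 2) hO] at h
  have oddX : ∀ x ∈ X, Odd (orderOf x) := fun x hx => by
    have h : orderOf x ∣ Nat.card X := (Subgroup.orderOf_mk x hx ▸ orderOf_dvd_natCard (⟨x, hx⟩ : X))
    exact hXodd.of_dvd_nat h
  have two_pow : ∀ z : H, Odd (orderOf z) → z ∈ Q → z = 1 := fun z hz hzQ => by
    obtain ⟨j, hj⟩ := hQp ⟨z, hzQ⟩
    have hj' : z ^ 2 ^ j = 1 := congrArg Subtype.val hj
    rw [← orderOf_eq_one_iff]
    exact Nat.eq_one_of_dvd_coprimes (hz.coprime_two_right.pow_right j) dvd_rfl (orderOf_dvd_of_pow_eq_one hj')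
  -- odd elements centralising an involution centralise its centraliser in the 2-core
  have cent : ∀ t : H, orderOf t = 2 → ∀ x : H, Odd (orderOf x) → Commute x t →
      ∀ y ∈ Q, Commute y t → Commute x y := fun t ht x hx hxt y hy hyt => by
    obtain ⟨P, N, hNn, hNP⟩ := hI t ht
    haveI := hNn
    have hidx : N.index = Nat.card (P : Subgroup ↥(centralizer ({t} : Set H))) := hNP.symm.index_eq_card
    set xc : ↥(centralizer ({t} : Set H)) := ⟨x, mem_centralizer_singleton_iff.2 hxt⟩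
    set yc : ↥(centralizer ({t} : Set H)) := ⟨y, mem_centralizer_singleton_iff.2 hyt⟩
    have hxN : xc ∈ N := by
      rw [← QuotientGroup.eq_one_iff, ← orderOf_eq_one_iff]
      obtain ⟨k, hk⟩ := P.isPGroup'.exists_card_eq
      refine Nat.eq_one_of_dvd_coprimes (hx.coprime_two_right.pow_right k) ?_ ?_
      · rw [show orderOf x = orderOf xc from (Subgroup.orderOf_mk x _).symm]
        exact orderOf_map_dvd (QuotientGroup.mk' N) xc
      · rw [← hk, ← hidx, Subgroup.index_eq_card]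
        exact orderOf_dvd_natCard _
    have hc : xc * yc * xc⁻¹ * yc⁻¹ ∈ N := by
      rw [show xc * yc * xc⁻¹ * yc⁻¹ = xc * (yc * xc⁻¹ * yc⁻¹) by group]
      exact mul_mem hxN (hNn.conj_mem _ (inv_mem hxN) _)
    have hcQ : x * y * x⁻¹ * y⁻¹ ∈ Q := mul_mem (hQn.conj_mem y hy x) (inv_mem hy)
    have hoddN : Odd (orderOf (xc * yc * xc⁻¹ * yc⁻¹)) := by
      refine Odd.of_dvd_nat ?_ ((Subgroup.orderOf_mk _ hc) ▸ orderOf_dvd_natCard (⟨_, hc⟩ : N))
      rw [Nat.odd_iff, ← Nat.two_dvd_ne_zero]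
      intro h2
      obtain ⟨⟨n, hn⟩, hno⟩ := exists_prime_orderOf_dvd_card' (G := ↥N) 2 h2
      rw [Subgroup.orderOf_mk] at hno
      obtain ⟨P', hP'⟩ := (IsPGroup.of_card (p := 2) (n := 1) (by rw [Nat.card_zpowers, hno, pow_one]) :
        IsPGroup 2 (zpowers n)).exists_le_sylow
      obtain ⟨g, hg⟩ := MulAction.exists_smul_eq ↥(centralizer ({t} : Set H)) P' P
      have hgn : g * n * g⁻¹ ∈ (P : Subgroup ↥(centralizer ({t} : Set H))) := by
        rw [← hg]
        exact Subgroup.smul_mem_pointwise_smul n (MulAut.conj g) _ (hP' (mem_zpowers n))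
      have h1 : g * n * g⁻¹ ∈ N ⊓ (P : Subgroup ↥(centralizer ({t} : Set H))) :=
        ⟨hNn.conj_mem n hn g, hgn⟩
      rw [disjoint_iff.1 hNP.disjoint, Subgroup.mem_bot, conj_eq_one_iff] at h1
      rw [h1, orderOf_one] at hno
      omega
    rw [← Subgroup.orderOf_coe] at hoddN
    have h1 := two_pow _ hoddN hcQ
    show x * y = y * x
    calc x * y = x * y * x⁻¹ * y⁻¹ * (y * x) := by group
      _ = y * x := by
        have : x * y * x⁻¹ * y⁻¹ = 1 := h1
        rw [this, one_mul]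
  -- fixed point freeness
  have fpf : ∀ x : H, Odd (orderOf x) → x ≠ 1 → ∀ y ∈ Q, y ≠ 1 → ¬ Commute x y := fun x hx hx1 y hy hy1 hxy => by
    obtain ⟨k, hk⟩ := (IsPGroup.iff_orderOf.1 hQp) ⟨y, hy⟩
    rw [Subgroup.orderOf_mk] at hk
    obtain ⟨m, rfl⟩ : ∃ m, k = m + 1 := ⟨k - 1, by
      have : k ≠ 0 := fun h => hy1 (orderOf_eq_one_iff.1 (by rw [hk, h, pow_zero]))
      omega⟩
    set t := y ^ 2 ^ m with htdef
    have ht : orderOf t = 2 := by
      rw [htdef, orderOf_pow_of_dvd (by positivity) (hk ▸ pow_dvd_pow 2 (by omega)), hk, pow_succ,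
        Nat.mul_div_cancel_left _ (by positivity)]
    have htQ : t ∈ Q := pow_mem hy _
    have hxt : Commute x t := hxy.pow_right _
    have hxn : zpowers x ≤ normalizer (Q : Set H) := by rw [Subgroup.normalizer_eq_top]; exact le_top
    have h := CfsgLib.Comp.le_centralizer_of_centralizes_fixed (p := 2) (R := Q) (P := zpowers t)
      (Q := zpowers x) hQp
      (hQp.to_le (zpowers_le.2 htQ))
      (by rw [Nat.card_zpowers]; exact hx.coprime_two_right) (by rw [Subgroup.normalizer_eq_top]; exact le_top) hxn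
      (zpowers_le.2 (mem_centralizer_iff.2 fun w hw => by
        obtain ⟨i, rfl⟩ := hw
        exact (hxt.zpow_right i).eq.symm))
      (zpowers_le.2 (mem_centralizer_iff.2 fun w hw => (cent t ht x hx hxt w hw.1
        (mem_centralizer_iff.1 hw.2 t (mem_zpowers t)).symm).eq.symm))
    exact hx1 (two_pow x hx (hCQ (h (mem_zpowers x))))
  have part1 : ∀ x ∈ X, x ≠ 1 → ∀ y ∈ Q, y ≠ 1 → x * y ≠ y * x :=
    fun x hx hx1 y hy hy1 => fpf x (oddX x hx) hx1 y hy hy1
  have cyc : ∀ (p : ℕ) [Fact p.Prime] (P : Sylow p ↥X), IsCyclic ↥(P : Subgroup ↥X) := by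
    intro p hp P
    by_cases hQ1 : Q = ⊥
    · have hX1 : X = ⊥ := by
        rw [Subgroup.eq_bot_iff_forall]
        intro x hx
        exact (Subgroup.eq_bot_iff_forall _).1 hQ1 x (hCQ (mem_centralizer_iff.2 fun q hq => by
          rw [(Subgroup.eq_bot_iff_forall _).1 hQ1 q hq]; simp))
      haveI : Subsingleton X := by rw [hX1]; infer_instance
      exact inferInstance
    · haveI : Nontrivial Q := (Subgroup.nontrivial_iff_ne_bot Q).2 hQ1
      haveI := hQp.center_nontrivial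
      letI : CommGroup (center ↥Q) :=
        { (inferInstance : Group (center ↥Q)) with mul_comm := fun a b => mul_comm' a b }
      let φ : X →* MulAut (center ↥Q) :=
        (MonoidHom.mk' (fun α : MulAut ↥Q =>
          (α.subgroupMap (center ↥Q)).trans (MulEquiv.subgroupCongr
            (characteristic_iff_map_eq.1 inferInstance α))) fun a b => rfl).comp
          ((MulAut.conjNormal : H →* MulAut ↥Q).comp X.subtype)
      have hφ : ∀ (x : X) (v : center ↥Q), (((φ x v : center ↥Q) : ↥Q) : H) = x * ((v : ↥Q) : H) * (x : H)⁻¹ :=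
        fun x v => MulAut.conjNormal_apply _ _
      have hfpf : ∀ x : X, x ≠ 1 → ∀ v : center ↥Q, φ x v = v → v = 1 := fun x hx v hv => by
        by_contra hv1
        refine part1 x x.2 (fun h => hx (Subtype.ext h)) ((v : ↥Q) : H) (v : ↥Q).2
          (fun h => hv1 (Subtype.ext (Subtype.ext h))) ?_
        have h := congrArg (fun w : center ↥Q => ((w : ↥Q) : H)) hv
        simp only [hφ] at h
        calc (x : H) * ((v : ↥Q) : H) = x * ((v : ↥Q) : H) * (x : H)⁻¹ * x := by group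
          _ = ((v : ↥Q) : H) * x := by rw [h]
      rcases CfsgLib.Solvable.isCyclic_or_quaternion_of_fpf φ hfpf P with h | ⟨hp2, -⟩
      · exact h
      · subst hp2
        haveI : Subsingleton (P : Subgroup ↥X) := by
          obtain ⟨k, hk⟩ := P.isPGroup'.exists_card_eq
          have h1 : Nat.card (P : Subgroup ↥X) = 1 := Nat.eq_one_of_dvd_coprimes
            (hXodd.coprime_two_right.pow_right k) (Subgroup.card_subgroup_dvd_card _) hk.dvd
          exact (Nat.card_eq_one_iff_unique.1 h1).1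
        exact inferInstance
  -- the quotient by the 2-core
  set π := QuotientGroup.mk' Q with hπ
  set Xb := X.map π with hXb
  have hXbodd : Odd (Nat.card Xb) := hXodd.of_dvd_nat (Subgroup.card_map_dvd X π)
  obtain ⟨k, hk⟩ := hXidx
  have hXbi : ∃ j : ℕ, Xb.index = 2 ^ j := by
    obtain ⟨j, -, hj⟩ := (Nat.dvd_prime_pow Nat.prime_two).1 (hk ▸ Subgroup.index_map_dvd X (QuotientGroup.mk'_surjective Q))
    exact ⟨j, hj⟩
  haveI hsolb : Group.IsSolvable (H ⧸ Q) := Group.isSolvable_of_surjective (QuotientGroup.mk'_surjective Q)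
  set F := Cfsg.fittingSubgroup (H ⧸ Q) with hF
  haveI hFn : F.Normal := CfsgLib.Solvable.fittingSubgroup_normal (H ⧸ Q)
  haveI hFnil : Group.IsNilpotent F := CfsgLib.Solvable.fittingSubgroup_isNilpotent
  have hFodd : Odd (Nat.card F) := by
    rw [Nat.odd_iff, ← Nat.two_dvd_ne_zero]
    intro h2
    obtain ⟨P⟩ := (inferInstance : Nonempty (Sylow 2 ↥F))
    haveI hPn : (P : Subgroup ↥F).Normal := P.normal_of_normalizerCondition Group.normalizerCondition_of_isNilpotent
    haveI := P.characteristic_of_normal hPn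
    haveI hn := CfsgLib.Solvable.map_subtype_normal (N := F) (P : Subgroup ↥F)
    have hle := CfsgLib.Solvable.le_pCore hn (P.isPGroup'.map F.subtype)
    rw [CfsgLib.Solvable.pCore_quotient_eq_bot 2, le_bot_iff, Subgroup.map_eq_bot_iff_of_injective _ F.subtype_injective] at hle
    have hb : ¬ 2 ∣ (P : Subgroup ↥F).index := P.not_dvd_index
    rw [hle, Subgroup.index_bot] at hb
    exact hb h2
  have hFX : F ≤ Xb := by
    intro f hf
    obtain ⟨j, hj⟩ := hXbi
    have hodd : Odd (Nat.card ↥(Xb ⊔ F)) := by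
      have h := Subgroup.card_mul_index (F.subgroupOf (Xb ⊔ F))
      rw [Nat.card_congr (Subgroup.subgroupOfEquivOfLe (le_sup_right : F ≤ Xb ⊔ F)).toEquiv] at h
      rw [← h]
      refine hFodd.mul (hXbodd.of_dvd_nat ?_)
      show F.relIndex (Xb ⊔ F) ∣ Nat.card Xb
      rw [Subgroup.relIndex_sup_right]
      exact Subgroup.index_dvd_card _
    have h1 := Subgroup.card_mul_index Xb
    have h2 := Subgroup.card_mul_index (Xb ⊔ F)
    have hd : Nat.card Xb ∣ Nat.card ↥(Xb ⊔ F) := Subgroup.card_dvd_of_le le_sup_left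
    have hd2 : Nat.card ↥(Xb ⊔ F) ∣ Nat.card Xb := by
      refine (hodd.coprime_two_right.pow_right j).dvd_of_dvd_mul_right ?_
      rw [← hj, h1]
      exact Dvd.intro _ h2
    have := Subgroup.eq_of_le_of_card_ge (le_sup_left : Xb ≤ Xb ⊔ F) (Nat.le_of_dvd Nat.card_pos hd2)
    rw [this]
    exact mem_sup_right hf
  have hXinj : Function.Injective (π.subgroupMap X) := by
    rw [← MonoidHom.ker_eq_bot_iff, Subgroup.eq_bot_iff_forall]
    intro x hx
    exact Subtype.ext (two_pow _ (oddX x x.2) ((QuotientGroup.eq_one_iff (x : H)).1 (congrArg Subtype.val hx)))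
  have hFz : IsZGroup F := by
    haveI : IsZGroup X := ⟨fun p hp P => by haveI := Fact.mk hp; exact cyc p P⟩
    let e : X ≃* Xb := MulEquiv.ofBijective (π.subgroupMap X) ⟨hXinj, MonoidHom.subgroupMap_surjective π X⟩
    exact IsZGroup.of_injective (f := (e.symm.toMonoidHom.comp (Subgroup.inclusion hFX)))
      (e.symm.injective.comp (Subgroup.inclusion_injective hFX))
  haveI := hFz
  have hFcyc : IsCyclic F := inferInstance
  have hCF : centralizer (F : Set (H ⧸ Q)) ≤ F := CfsgLib.Solvable.centralizer_fittingSubgroup_le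
  have hcomm : commutator (H ⧸ Q) ≤ Xb := by
    refine le_trans ?_ (hCF.trans hFX)
    let ρ : H ⧸ Q →* MulAut F := MulAut.conjNormal
    have hab : ∀ a b : MulAut F, a * b = b * a := fun a b => by
      obtain ⟨g, hg⟩ := hFcyc.exists_zpow_surjective
      refine MulEquiv.ext fun v => ?_
      obtain ⟨i, rfl⟩ := hg v
      obtain ⟨m, hm⟩ := hg (a g)
      obtain ⟨n, hn⟩ := hg (b g)
      show a (b (g ^ i)) = b (a (g ^ i))
      simp only at hm hn
      have hab' : a (b g) = b (a g) := by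
        rw [← hn, ← hm, map_zpow, map_zpow, ← hm, ← hn, ← zpow_mul, ← zpow_mul, mul_comm]
      rw [map_zpow b, map_zpow a, map_zpow a, map_zpow b, hab']
    rw [commutator_eq_closure, closure_le]
    rintro _ ⟨a, b, rfl⟩
    refine mem_centralizer_iff.2 fun f hf => ?_
    have h : ρ ⁅a, b⁆ = 1 := by
      rw [map_commutatorElement, commutatorElement_eq_one_iff_mul_comm]; exact hab _ _
    have h' := congrArg (fun σ : MulAut F => ((σ ⟨f, hf⟩ : F) : H ⧸ Q)) h
    simp only [ρ, MulAut.conjNormal_apply, MulAut.one_apply] at h'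
    calc f * ⁅a, b⁆ = ⁅a, b⁆ * f * ⁅a, b⁆⁻¹ * ⁅a, b⁆ := by rw [h']
      _ = ⁅a, b⁆ * f := by group
  haveI hXbn : Xb.Normal := ⟨fun x hx g => by
    have h := mul_mem (hcomm (commutator_mem_commutator (mem_top g) (mem_top x))) hx
    simpa [commutatorElement_def] using h⟩
  have hsup : X ⊔ Q = Xb.comap π := by rw [hXb, Subgroup.comap_map_eq, QuotientGroup.ker_mk']
  have hnormal : (X ⊔ Q).Normal := hsup ▸ hXbn.comap π
  refine ⟨part1, cyc, hnormal, fun hN => ?_⟩
  haveI := hN
  have h2g : IsPGroup 2 (H ⧸ (X ⊔ Q)) := by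
    obtain ⟨j, -, hj⟩ := (Nat.dvd_prime_pow Nat.prime_two).1
      (hk ▸ Subgroup.index_dvd_of_le (le_sup_left : X ≤ X ⊔ Q))
    exact IsPGroup.of_card (n := j) (by rw [← Subgroup.index_eq_card, hj])
  refine ⟨?_, h2g⟩
  obtain ⟨P⟩ := (inferInstance : Nonempty (Sylow 2 (H ⧸ Q)))
  obtain ⟨j, hj⟩ := hXbi
  have hPX : (P : Subgroup (H ⧸ Q)) ⊓ Xb = ⊥ := by
    apply Subgroup.eq_bot_of_card_eq
    obtain ⟨i, hi⟩ := P.isPGroup'.exists_card_eq
    exact Nat.eq_one_of_dvd_coprimes (hXbodd.coprime_two_right.pow_right i)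
      (Subgroup.card_dvd_of_le inf_le_right) (hi ▸ Subgroup.card_dvd_of_le inf_le_left)
  have hPabel : ∀ a b : (P : Subgroup (H ⧸ Q)), a * b = b * a := fun a b => by
    rw [← commutatorElement_eq_one_iff_mul_comm]
    refine Subtype.ext ((Subgroup.eq_bot_iff_forall _).1 hPX _ ⟨SetLike.coe_mem _, ?_⟩)
    have h := hcomm (commutator_mem_commutator (mem_top (a : H ⧸ Q)) (mem_top (b : H ⧸ Q)))
    simpa [commutatorElement_def] using h
  have hPcyc : IsCyclic (P : Subgroup (H ⧸ Q)) := by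
    by_cases hF1 : F = ⊥
    · haveI : Subsingleton (P : Subgroup (H ⧸ Q)) := by
        refine ⟨fun a b => ?_⟩
        have h : ∀ c : H ⧸ Q, c = 1 := fun c => (Subgroup.eq_bot_iff_forall _).1 hF1 c (hCF (by
          rw [hF1]; exact mem_centralizer_iff.2 fun w hw => by rw [Subgroup.mem_bot.1 hw]; simp))
        exact Subtype.ext ((h _).trans (h _).symm)
      exact inferInstance
    haveI : Nontrivial F := (Subgroup.nontrivial_iff_ne_bot F).2 hF1
    letI : CommGroup F := { (inferInstance : Group F) with mul_comm := CfsgLib.Solvable.comm_of_isCyclic }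
    let φ : (P : Subgroup (H ⧸ Q)) →* MulAut F := (MulAut.conjNormal (H := F)).comp (P : Subgroup (H ⧸ Q)).subtype
    have hfp : ∀ v : (P : Subgroup (H ⧸ Q)), v ≠ 1 → ∀ f : F, φ v f = f → f = 1 := fun v hv f hf => by
      by_contra hf1
      obtain ⟨x, hx, hxf⟩ := hFX f.2
      obtain ⟨w, hw⟩ := QuotientGroup.mk'_surjective Q (v : H ⧸ Q)
      have hx1 : x ≠ 1 := fun h => hf1 (Subtype.ext (by rw [← hxf, h, map_one]; rfl))
      have hcv : Commute (f : H ⧸ Q) (v : H ⧸ Q) := by
        have h := congrArg Subtype.val hf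
        simp only [φ, MonoidHom.comp_apply, Subgroup.coe_subtype, MulAut.conjNormal_apply] at h
        show (f : H ⧸ Q) * v = v * f
        calc (f : H ⧸ Q) * v = v * f * (v : H ⧸ Q)⁻¹ * v := by rw [h]
          _ = v * f := by group
      have hwx : w⁻¹ * x * w * x⁻¹ ∈ Q := by
        rw [← QuotientGroup.eq_one_iff]
        show π (w⁻¹ * x * w * x⁻¹) = 1
        simp only [map_mul, map_inv, hxf]
        have hcv' : (f : H ⧸ Q) * π w = π w * f := hw ▸ hcv.eq
        rw [mul_assoc _ (f : H ⧸ Q), hcv']; group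
      have hT : IsPGroup 2 ↥(zpowers w ⊔ Q) := by
        have hle : zpowers w ⊔ Q ≤ (P : Subgroup (H ⧸ Q)).comap π :=
          sup_le (zpowers_le.2 (show π w ∈ (P : Subgroup (H ⧸ Q)) by rw [hw]; exact v.2)) fun q hq => by
            show π q ∈ (P : Subgroup (H ⧸ Q))
            rw [show π q = 1 from (QuotientGroup.eq_one_iff q).2 hq]
            exact one_mem _
        refine (IsPGroup.comap_of_ker_isPGroup P.isPGroup' π ?_).to_le hle
        rw [QuotientGroup.ker_mk']; exact hQp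
      obtain ⟨n, hn, hcn⟩ := eq_of_coset_fixed hQp (oddX x hx)
        (by rw [Subgroup.normalizer_eq_top]; exact mem_top _) hwx
        (by rw [Subgroup.normalizer_eq_top]; exact mem_top _) hT
      have hwn : w * n ∈ zpowers w ⊔ Q := mul_mem (mem_sup_left (mem_zpowers w)) (mem_sup_right hn)
      have hwn1 : w * n ≠ 1 := fun h => hv (Subtype.ext (by
        rw [← hw, OneMemClass.coe_one]
        exact (QuotientGroup.eq_one_iff w).2 (by rw [eq_inv_of_mul_eq_one_left h]; exact inv_mem hn)))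
      obtain ⟨i, hi⟩ := (IsPGroup.iff_orderOf.1 hT) ⟨w * n, hwn⟩
      rw [Subgroup.orderOf_mk] at hi
      obtain ⟨m, rfl⟩ : ∃ m, i = m + 1 := ⟨i - 1, by
        have : i ≠ 0 := fun h => hwn1 (orderOf_eq_one_iff.1 (by rw [hi, h, pow_zero]))
        omega⟩
      set t := (w * n) ^ 2 ^ m with htdef
      have ht : orderOf t = 2 := by
        rw [htdef, orderOf_pow_of_dvd (by positivity) (hi ▸ pow_dvd_pow 2 (by omega)), hi, pow_succ,
          Nat.mul_div_cancel_left _ (by positivity)]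
      have hxt : Commute x t := hcn.symm.pow_right _
      have ht1 : t ≠ 1 := fun h => by rw [h, orderOf_one] at ht; omega
      by_cases htQ : t ∈ Q
      · exact fpf x (oddX x hx) hx1 t htQ ht1 hxt
      have hQ1 : 2 ∣ Nat.card Q := by
        obtain ⟨a, ha⟩ := hQp.exists_card_eq
        rcases Nat.eq_zero_or_pos a with rfl | ha'
        · exfalso
          have hQb : Q = ⊥ := Subgroup.eq_bot_of_card_eq _ (by rw [ha, pow_zero])
          exact hx1 ((Subgroup.eq_bot_iff_forall _).1 hQb x (hCQ (mem_centralizer_iff.2 fun q hq => by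
            rw [(Subgroup.eq_bot_iff_forall _).1 hQb q hq]; simp)))
        · exact ha ▸ dvd_pow_self 2 ha'.ne'
      letI : MulAction (zpowers t) Q :=
        MulAction.compHom Q ((MulAut.conjNormal : H →* MulAut ↥Q).comp (zpowers t).subtype)
      have hfix1 : (1 : Q) ∈ MulAction.fixedPoints (zpowers t) Q := fun s =>
        map_one (MulAut.conjNormal (H := Q) (s : H))
      obtain ⟨y, hy, hy1⟩ := (IsPGroup.of_card (n := 1) (by rw [Nat.card_zpowers, ht, pow_one]) :
        IsPGroup 2 (zpowers t)).exists_fixed_point_of_prime_dvd_card_of_fixed_point Q hQ1 hfix1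
      have hty : Commute (y : H) t := by
        have h := congrArg Subtype.val (hy ⟨t, mem_zpowers t⟩)
        change ((MulAut.conjNormal t y : Q) : H) = (y : H) at h
        rw [MulAut.conjNormal_apply] at h
        show (y : H) * t = t * y
        calc (y : H) * t = t * y * t⁻¹ * t := by rw [h]
          _ = t * y := by group
      exact fpf x (oddX x hx) hx1 y y.2 (fun h => hy1 (Subtype.ext h.symm))
        (cent t ht x (oddX x hx) hxt y y.2 hty)
    haveI : IsMulCommutative (⊤ : Subgroup (P : Subgroup (H ⧸ Q))) :=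
      ⟨⟨fun a b => Subtype.ext (hPabel a b)⟩⟩
    have h := CfsgLib.Solvable.isCyclic_of_fpf φ hfp (⊤ : Subgroup (P : Subgroup (H ⧸ Q)))
    exact Subgroup.topEquiv.isCyclic.1 h
  haveI := hPcyc
  let ψ : (P : Subgroup (H ⧸ Q)) →* H ⧸ (X ⊔ Q) :=
    (QuotientGroup.map Q (X ⊔ Q) (MonoidHom.id H) (fun q hq => mem_sup_right hq)).comp (P : Subgroup (H ⧸ Q)).subtype
  refine isCyclic_of_surjective ψ fun y => ?_
  induction y using QuotientGroup.induction_on with
  | _ g =>
    have htop : (⊤ : Subgroup (H ⧸ Q)) ≤ (P : Subgroup (H ⧸ Q)) ⊔ Xb := by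
      refine le_of_eq (Subgroup.eq_top_of_card_eq _ ?_).symm
      refine Nat.dvd_antisymm (Subgroup.card_subgroup_dvd_card _) ?_
      obtain ⟨i, hi⟩ := P.isPGroup'.exists_card_eq
      rw [← Subgroup.card_mul_index Xb, hj, mul_comm]
      refine Nat.Coprime.mul_dvd_of_dvd_of_dvd (hXbodd.coprime_two_right.pow_right j).symm ?_
        (Subgroup.card_dvd_of_le le_sup_right)
      refine dvd_trans ?_ (Subgroup.card_dvd_of_le (le_sup_left : (P : Subgroup (H ⧸ Q)) ≤ _))
      refine P.pow_dvd_card_of_pow_dvd_card ?_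
      exact hj ▸ Subgroup.index_dvd_card Xb
    have hg := htop (mem_top (g : H ⧸ Q))
    rw [← SetLike.mem_coe, Subgroup.coe_mul_of_left_le_normalizer_right _ _ (by rw [Subgroup.normalizer_eq_top]; exact le_top)] at hg
    obtain ⟨p, hp, xb, ⟨x, hx, rfl⟩, hgx⟩ := hg
    obtain ⟨w, rfl⟩ := QuotientGroup.mk'_surjective Q p
    refine ⟨⟨_, hp⟩, ?_⟩
    show ((w : H) : H ⧸ (X ⊔ Q)) = (g : H ⧸ (X ⊔ Q))
    refine QuotientGroup.eq.2 ?_
    have h : (w⁻¹ * g)⁻¹ * x ∈ Q := QuotientGroup.eq.1 (by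
      show π (w⁻¹ * g) = π x
      rw [map_mul, map_inv, show π g = π w * π x from hgx.symm]; group)
    rw [show w⁻¹ * g = x * ((w⁻¹ * g)⁻¹ * x)⁻¹ by group]
    exact mul_mem (mem_sup_left hx) (mem_sup_right (inv_mem h))

end CfsgLib.InvChar.SolvComplement
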