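import Cfsg.Prelude.Def_CaseTheorems
import Cfsg.Agent.Lib.InvChar.GLTwoThreeRecog
import Cfsg.Agent.Lib.StructC.UniqueInvol
import Cfsg.Agent.Lib.Comp.Local
import Cfsg.Agent.Lib.Solvable.HallHigman

/-!
# Solvable groups with Sylow 2-intersections of rank at most one
-/

set_option autoImplicit false
set_option linter.style.haveILetI false

namespace CfsgLib.InvChar.RankOneMeet

open Subgroup OctaRecog

universe u

variable {G : Type u} [Group G] [Finite G]

theorem prankLE_quotient {N : Subgroup G} [N.Normal] (hN : Odd (Nat.card N))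
    (hI : ∀ S T : Sylow 2 G, S ≠ T → Cfsg.PRankLE 2 1 ↥((S : Subgroup G) ⊓ (T : Subgroup G)))
    (S T : Sylow 2 (G ⧸ N)) (hST : S ≠ T) :
    Cfsg.PRankLE 2 1 ↥((S : Subgroup (G ⧸ N)) ⊓ (T : Subgroup (G ⧸ N))) := by
  haveI : Fact (Nat.Prime 2) := ⟨Nat.prime_two⟩
  set π := QuotientGroup.mk' N with hπ
  have hsurj := QuotientGroup.mk'_surjective N
  set D := ((S : Subgroup (G ⧸ N)) ⊓ (T : Subgroup (G ⧸ N))).comap π with hD
  obtain ⟨P⟩ := (inferInstance : Nonempty (Sylow 2 ↥D))
  set P' := (P : Subgroup ↥D).map D.subtype with hP'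
  have hP'p : IsPGroup 2 P' := P.isPGroup'.map _
  have hNidx : ∀ L : Subgroup (G ⧸ N), IsPGroup 2 L → ∀ R : Sylow 2 ↥(L.comap π),
      ((R : Subgroup ↥(L.comap π)).map (L.comap π).subtype).map π = L := fun L hL R => by
    refine Subgroup.eq_of_le_of_card_ge ?_ ?_
    · rw [Subgroup.map_le_iff_le_comap]; exact Subgroup.map_subtype_le _
    · set f : ↥(L.comap π) →* L := π.subgroupComap L
      have hf : Function.Surjective f := fun l => by
        obtain ⟨g, hg⟩ := hsurj l
        exact ⟨⟨g, by rw [mem_comap, hg]; exact l.2⟩, Subtype.ext hg⟩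
      have htop := (R.mapSurjective hf).is_maximal' (hL.of_equiv Subgroup.topEquiv.symm) le_top
      have e : ((R : Subgroup ↥(L.comap π)).map f).map L.subtype = L := by
        rw [show (R : Subgroup ↥(L.comap π)).map f = ⊤ from htop.symm, ← MonoidHom.range_eq_map, Subgroup.range_subtype]
      rw [Subgroup.map_map] at e ⊢
      exact le_of_eq (by
        conv_lhs => rw [← e]
        rfl)
  have hDimage : P'.map π = (S : Subgroup (G ⧸ N)) ⊓ (T : Subgroup (G ⧸ N)) :=
    hNidx _ (S.isPGroup'.to_le inf_le_left) P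
  have lift : ∀ U : Sylow 2 (G ⧸ N), (S : Subgroup (G ⧸ N)) ⊓ T ≤ U →
      ∃ U' : Sylow 2 G, P' ≤ (U' : Subgroup G) ∧ (U' : Subgroup G).map π = U := fun U hU => by
    have hle : P' ≤ (U : Subgroup (G ⧸ N)).comap π :=
      (Subgroup.map_subtype_le _).trans (Subgroup.comap_mono hU)
    obtain ⟨R, hR⟩ := (hP'p.comap_of_injective ((U : Subgroup (G ⧸ N)).comap π).subtype
      (Subgroup.subtype_injective _) : IsPGroup 2 (P'.subgroupOf ((U : Subgroup (G ⧸ N)).comap π))).exists_le_sylow
    set R' := (R : Subgroup ↥((U : Subgroup (G ⧸ N)).comap π)).map ((U : Subgroup (G ⧸ N)).comap π).subtype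
    have hR' : R'.map π = U := hNidx _ U.isPGroup' R
    obtain ⟨U', hU'⟩ := (R.isPGroup'.map ((U : Subgroup (G ⧸ N)).comap π).subtype).exists_le_sylow
    refine ⟨U', fun x hx => hU' ⟨⟨x, hle hx⟩, hR (Subgroup.mem_subgroupOf.2 hx), rfl⟩, ?_⟩
    exact U.is_maximal' (U'.isPGroup'.map π) (hR' ▸ Subgroup.map_mono hU')
  obtain ⟨S', hS', hSS⟩ := lift S inf_le_left
  obtain ⟨T', hT', hTT⟩ := lift T inf_le_right
  have hne : S' ≠ T' := fun h => hST (Sylow.ext (by rw [← hSS, ← hTT, h]))
  have hle : P' ≤ (S' : Subgroup G) ⊓ (T' : Subgroup G) := le_inf hS' hT'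
  have hr := hI S' T' hne
  intro A hA hA2
  -- pull the elementary subgroup back to `P'`
  have hinj : ∀ x ∈ P', π x = 1 → x = 1 := fun x hx h => by
    obtain ⟨k, hk⟩ := (IsPGroup.iff_orderOf.1 hP'p) ⟨x, hx⟩
    rw [Subgroup.orderOf_mk] at hk
    rw [← orderOf_eq_one_iff]
    refine Nat.eq_one_of_dvd_coprimes (hN.coprime_two_right.pow_right k) ?_ hk.dvd
    exact (Subgroup.orderOf_mk x ((QuotientGroup.eq_one_iff x).1 h)) ▸ orderOf_dvd_natCard _
  let g : P' →* ↥((S : Subgroup (G ⧸ N)) ⊓ (T : Subgroup (G ⧸ N))) :=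
    (π.comp P'.subtype).codRestrict _ fun x => hDimage ▸ ⟨x, x.2, rfl⟩
  have hg : Function.Bijective g := by
    refine ⟨(injective_iff_map_eq_one g).2 fun x hx => Subtype.ext (hinj x x.2 (congrArg Subtype.val hx)), fun y => ?_⟩
    obtain ⟨x, hx, e⟩ := (hDimage.symm ▸ y.2 : (y : G ⧸ N) ∈ P'.map π)
    exact ⟨⟨x, hx⟩, Subtype.ext e⟩
  let e := MulEquiv.ofBijective g hg
  let j : ↥((S : Subgroup (G ⧸ N)) ⊓ (T : Subgroup (G ⧸ N))) →* ↥((S' : Subgroup G) ⊓ (T' : Subgroup G)) :=
    (Subgroup.inclusion hle).comp e.symm.toMonoidHom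
  have hj : Function.Injective j := (Subgroup.inclusion_injective hle).comp e.symm.injective
  have h := hr (A.map j) ⟨⟨fun a b => by
      obtain ⟨a, a', ha', rfl⟩ := a
      obtain ⟨b, b', hb', rfl⟩ := b
      have h' := congrArg Subtype.val (hA.is_comm.comm ⟨a', ha'⟩ ⟨b', hb'⟩)
      refine Subtype.ext ?_
      show j a' * j b' = j b' * j a'
      rw [← map_mul, ← map_mul]
      exact congrArg j h'⟩⟩ (by
    rintro _ ⟨a, ha, rfl⟩
    rw [← map_pow, hA2 a ha, map_one])
  rwa [Subgroup.card_map_of_injective hj] at h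

theorem aut_quaternion_pow_two {k : ℕ} (hk : 2 ≤ k) {σ : MulAut (QuaternionGroup (2 ^ k))} {m : ℕ}
    (hm : Odd m) (hσ : σ ^ m = 1) : σ = 1 := by
  have h4 : 4 ≤ 2 ^ k := le_trans (by norm_num) (Nat.pow_le_pow_right (by norm_num) hk : 2 ^ 2 ≤ 2 ^ k)
  haveI : NeZero (2 ^ k) := ⟨by omega⟩
  haveI : NeZero (2 * 2 ^ k) := ⟨by omega⟩
  obtain ⟨j, hj⟩ : ∃ j : ZMod (2 * 2 ^ k), σ (QuaternionGroup.a 1) = QuaternionGroup.a j := by
    cases hc : σ (QuaternionGroup.a 1) with
    | a j => exact ⟨j, rfl⟩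
    | xa j =>
      have h := orderOf_injective σ.toMonoidHom σ.injective (QuaternionGroup.a 1)
      rw [MulEquiv.coe_toMonoidHom, hc, QuaternionGroup.orderOf_xa, QuaternionGroup.orderOf_a_one] at h
      omega
  have hja : ∀ i : ZMod (2 * 2 ^ k), σ (QuaternionGroup.a i) = QuaternionGroup.a (j * i) := fun i => by
    have ha : ∀ (x : ZMod (2 * 2 ^ k)) (n : ℕ),
        (QuaternionGroup.a x : QuaternionGroup (2 ^ k)) ^ n = QuaternionGroup.a ((n : ZMod (2 * 2 ^ k)) * x) := fun x n => by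
      induction n with
      | zero => simp [QuaternionGroup.one_def, -QuaternionGroup.a_zero]
      | succ n ih => rw [pow_succ, ih, QuaternionGroup.a_mul_a, Nat.cast_succ, add_mul, one_mul]
    rw [← ZMod.natCast_zmod_val i, ← QuaternionGroup.a_one_pow, map_pow, hj, ha, mul_comm]
  have hpow : ∀ (n : ℕ) (i : ZMod (2 * 2 ^ k)), (σ ^ n) (QuaternionGroup.a i) = QuaternionGroup.a (j ^ n * i) := by
    intro n
    induction n with
    | zero => simp
    | succ n ih =>
      intro i
      rw [pow_succ', MulAut.mul_apply, ih, hja, pow_succ', mul_assoc]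
  have hjm : j ^ m = 1 := by
    have h := hpow m 1
    rw [hσ, MulAut.one_apply, mul_one] at h
    exact (QuaternionGroup.a.inj h).symm
  have hj1 : j = 1 := by
    obtain ⟨u, hu⟩ : IsUnit j := IsUnit.of_pow_eq_one hjm hm.pos.ne'
    have hu1 : u ^ m = 1 := Units.ext (by rw [Units.val_pow_eq_pow_val, hu, hjm, Units.val_one])
    have hcard : Nat.card (ZMod (2 * 2 ^ k))ˣ = 2 ^ k := by
      rw [Nat.card_eq_fintype_card, ZMod.card_units_eq_totient, ← pow_succ', Nat.totient_prime_pow_succ Nat.prime_two]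
      norm_num
    have h1 : orderOf u = 1 := Nat.eq_one_of_dvd_coprimes (hm.coprime_two_right.pow_right k)
      (orderOf_dvd_of_pow_eq_one hu1) ((_root_.orderOf_dvd_natCard u).trans hcard.dvd)
    rw [← hu, orderOf_eq_one_iff.1 h1, Units.val_one]
  obtain ⟨i, hi⟩ : ∃ i : ZMod (2 * 2 ^ k), σ (QuaternionGroup.xa 0) = QuaternionGroup.xa i := by
    cases hc : σ (QuaternionGroup.xa 0) with
    | a i =>
      have : σ (QuaternionGroup.xa 0) = σ (QuaternionGroup.a i) := by rw [hc, hja, hj1, one_mul]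
      exact absurd (σ.injective this) (by simp)
    | xa i => exact ⟨i, rfl⟩
  have hx : ∀ l : ZMod (2 * 2 ^ k), σ (QuaternionGroup.xa l) = QuaternionGroup.xa (i + l) := fun l => by
    rw [show (QuaternionGroup.xa l : QuaternionGroup (2 ^ k)) = QuaternionGroup.xa 0 * QuaternionGroup.a l by
      rw [QuaternionGroup.xa_mul_a, zero_add], map_mul, hi, hja, hj1, one_mul, QuaternionGroup.xa_mul_a]
  have hxp : ∀ (n : ℕ) (l : ZMod (2 * 2 ^ k)), (σ ^ n) (QuaternionGroup.xa l) = QuaternionGroup.xa (n • i + l) := by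
    intro n
    induction n with
    | zero => simp
    | succ n ih =>
      intro l
      rw [pow_succ', MulAut.mul_apply, ih, hx, succ_nsmul', add_assoc]
  have hi0 : i = 0 := by
    have h := hxp m 0
    rw [hσ, MulAut.one_apply, add_zero] at h
    have hmi : m • i = 0 := (QuaternionGroup.xa.inj h).symm
    have hc : addOrderOf i ∣ 2 ^ (k + 1) := by
      have h := addOrderOf_dvd_card (x := i)
      have e : Fintype.card (ZMod (2 * 2 ^ k)) = 2 ^ (k + 1) := by rw [ZMod.card, pow_succ']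
      exact h.trans e.dvd
    rw [← AddMonoid.addOrderOf_eq_one_iff]
    exact Nat.eq_one_of_dvd_coprimes (hm.coprime_two_right.pow_right (k + 1))
      (addOrderOf_dvd_of_nsmul_eq_zero hmi) hc
  refine MulEquiv.ext fun x => ?_
  cases x with
  | a l => rw [hja, hj1, one_mul]; rfl
  | xa l => rw [hx, hi0, zero_add]; rfl

theorem isPGroup_of_mulAut {Q : Subgroup G} [Q.Normal] (hQ : IsPGroup 2 Q)
    (hC : centralizer (Q : Set G) ≤ Q) (hA : ∀ σ : MulAut Q, ∀ m : ℕ, Odd m → σ ^ m = 1 → σ = 1) :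
    IsPGroup 2 G := by
  haveI : Fact (Nat.Prime 2) := ⟨Nat.prime_two⟩
  intro g
  obtain ⟨k, m, hm, hkm⟩ := Nat.exists_eq_pow_mul_and_not_dvd (orderOf_pos g).ne' 2 (by norm_num)
  have hmodd : Odd m := Nat.odd_iff.2 (by omega)
  refine ⟨k, ?_⟩
  set h := g ^ 2 ^ k with hh
  have hhm : h ^ m = 1 := by rw [hh, ← pow_mul, ← hkm, pow_orderOf_eq_one]
  have h1 : MulAut.conjNormal (H := Q) h = 1 := hA _ m hmodd (by rw [← map_pow, hhm, map_one])
  have hc : h ∈ centralizer (Q : Set G) := mem_centralizer_iff.2 fun x hx => by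
    have h2 := congrArg Subtype.val (MulEquiv.congr_fun h1 ⟨x, hx⟩)
    rw [MulAut.conjNormal_apply, MulAut.one_apply] at h2
    calc x * h = h * x * h⁻¹ * h := by rw [h2]
      _ = h * x := by group
  obtain ⟨j, hj⟩ := hQ ⟨h, hC hc⟩
  have hj' : h ^ 2 ^ j = 1 := congrArg Subtype.val hj
  rw [← orderOf_eq_one_iff]
  exact Nat.eq_one_of_dvd_coprimes (hmodd.coprime_two_right.pow_right j)
    (orderOf_dvd_of_pow_eq_one hhm) (orderOf_dvd_of_pow_eq_one hj')

theorem main (hs : Group.IsSolvable G) (hO : Cfsg.oddCore G = ⊥)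
    (hI : ∀ S T : Sylow 2 G, S ≠ T → Cfsg.PRankLE 2 1 ↥((S : Subgroup G) ⊓ (T : Subgroup G))) :
    (∃ P : Sylow 2 G, (P : Subgroup G).Normal) ∨
    Nonempty (G ≃* GL (Fin 2) (ZMod 3)) ∨
    (Nat.card G = 48 ∧ Nat.card ↥(Subgroup.center G) = 2 ∧
      Nonempty (G ⧸ Subgroup.center G ≃* Equiv.Perm (Fin 4)) ∧
      ∀ P : Sylow 2 G, Nonempty (↥(P : Subgroup G) ≃* QuaternionGroup 4)) := by
  classical
  haveI : Fact (Nat.Prime 2) := ⟨Nat.prime_two⟩
  haveI := hs
  set Q := Cfsg.pCore 2 G with hQdef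
  haveI hQn : Q.Normal := CfsgLib.Solvable.pCore_normal 2 G
  have hQp : IsPGroup 2 Q := CfsgLib.Solvable.pCore_isPGroup 2
  have hCQ : centralizer (Q : Set G) ≤ Q := by
    have h := CfsgLib.Solvable.centralizer_fittingSubgroup_le (G := G)
    rwa [CfsgLib.Comp.fittingSubgroup_eq_pCore_of_core (p := 2) hO] at h
  by_cases hnorm : ∃ P : Sylow 2 G, (P : Subgroup G).Normal
  · exact Or.inl hnorm
  right
  have htwo : ¬ IsPGroup 2 G := fun h => hnorm (by
    obtain ⟨P⟩ := (inferInstance : Nonempty (Sylow 2 G))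
    refine ⟨P, ?_⟩
    rw [← P.is_maximal' (h.of_equiv Subgroup.topEquiv.symm) le_top]
    infer_instance)
  obtain ⟨S⟩ := (inferInstance : Nonempty (Sylow 2 G))
  obtain ⟨T, hST⟩ : ∃ T : Sylow 2 G, S ≠ T := by
    by_contra h
    push Not at h
    refine hnorm ⟨S, ?_⟩
    haveI : Subsingleton (Sylow 2 G) := ⟨fun a b => (h a).symm.trans (h b)⟩
    exact Sylow.normal_of_subsingleton S
  have hQle : Q ≤ (S : Subgroup G) ⊓ (T : Subgroup G) :=
    le_inf (CfsgLib.Solvable.pCore_le_sylow S) (CfsgLib.Solvable.pCore_le_sylow T)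
  have hu : ∀ a b : Q, orderOf a = 2 → orderOf b = 2 → Commute a b → b ∈ Subgroup.zpowers a := by
    intro a b ha hb hab
    by_contra hne
    let a' : ↥((S : Subgroup G) ⊓ (T : Subgroup G)) := Subgroup.inclusion hQle a
    let b' : ↥((S : Subgroup G) ⊓ (T : Subgroup G)) := Subgroup.inclusion hQle b
    have hab' : Commute a' b' := hab.map (Subgroup.inclusion hQle)
    have hcomm : IsMulCommutative (Subgroup.closure ({a', b'} : Set _)) := by
      refine Subgroup.isMulCommutative_closure fun x hx y hy => ?_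
      rcases hx with rfl | rfl <;> rcases hy with rfl | rfl
      exacts [rfl, hab'.eq, hab'.eq.symm, rfl]
    have ha2 : a' ^ 2 = 1 := by have h := pow_orderOf_eq_one a; rw [ha] at h; rw [← map_pow, h, map_one]
    have hb2 : b' ^ 2 = 1 := by have h := pow_orderOf_eq_one b; rw [hb] at h; rw [← map_pow, h, map_one]
    have hexp : ∀ x ∈ Subgroup.closure ({a', b'} : Set _), x ^ 2 = 1 := fun x hx => by
      induction hx using Subgroup.closure_induction with
      | mem x hx => rcases hx with rfl | rfl <;> assumption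
      | one => exact one_pow _
      | mul x y hx hy ihx ihy =>
        have hxy : Commute x y := congrArg Subtype.val (hcomm.is_comm.comm ⟨x, hx⟩ ⟨y, hy⟩)
        rw [hxy.mul_pow, ihx, ihy, one_mul]
      | inv x _ ih => rw [inv_pow, ih, inv_one]
    have h := hI S T hST _ hcomm hexp
    have hlt : Nat.card (Subgroup.zpowers a') < Nat.card (Subgroup.closure ({a', b'} : Set _)) := by
      refine Set.ncard_lt_ncard ⟨fun x hx => ?_, fun hsub => hne ?_⟩
      · exact (Subgroup.zpowers_le.2 (Subgroup.subset_closure (Set.mem_insert _ _))) hx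
      · obtain ⟨i, hi⟩ := hsub (Subgroup.subset_closure (Set.mem_insert_of_mem _ rfl))
        exact ⟨i, Subgroup.inclusion_injective hQle (by rw [map_zpow]; exact hi)⟩
    rw [Nat.card_zpowers, orderOf_injective _ (Subgroup.inclusion_injective hQle), ha] at hlt
    omega
  rcases CfsgLib.StructC.isCyclic_or_quaternion hQp hu with hcyc | ⟨k, hk, ⟨e⟩⟩
  · refine absurd (isPGroup_of_mulAut hQp hCQ fun σ m hm hσ => ?_) htwo
    haveI := hcyc
    obtain ⟨n, hn⟩ := hQp.exists_card_eq
    haveI : Finite (MulAut Q) := Finite.of_injective (fun σ => (σ : Q → Q)) DFunLike.coe_injective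
    have h : orderOf σ ∣ 2 ^ (n - 1) := by
      have h := orderOf_dvd_natCard σ
      rw [IsCyclic.card_mulAut, hn] at h
      rcases n with - | n
      · simpa using h
      · rw [Nat.totient_prime_pow_succ Nat.prime_two] at h
        simpa using h
    rw [← orderOf_eq_one_iff]
    exact Nat.eq_one_of_dvd_coprimes (hm.coprime_two_right.pow_right (n - 1)) (orderOf_dvd_of_pow_eq_one hσ) h
  rcases eq_or_lt_of_le hk with rfl | hk2
  swap
  · refine absurd (isPGroup_of_mulAut hQp hCQ fun σ m hm hσ => ?_) htwo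
    have h := aut_quaternion_pow_two hk2 (σ := MulAut.congr e σ) hm (by rw [← map_pow, hσ, map_one])
    exact (MulAut.congr e).injective (h.trans (map_one _).symm)
  -- `Q` is quaternion of order eight
  let c : G →* MulAut Q8 := (MulAut.congr e).toMonoidHom.comp MulAut.conjNormal
  have hQcard : Nat.card Q = 8 := by
    rw [Nat.card_congr e.toEquiv, Nat.card_eq_fintype_card]; rfl
  have hkerc : c.ker = centralizer (Q : Set G) := by
    have h1 : c.ker = (MulAut.conjNormal (H := Q)).ker := by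
      ext g
      rw [MonoidHom.mem_ker, MonoidHom.mem_ker]
      exact map_eq_one_iff (MulAut.congr e) (MulEquiv.injective _)
    rw [h1]
    ext g
    rw [MonoidHom.mem_ker, mem_centralizer_iff]
    constructor
    · intro h x hx
      have h2 := congrArg Subtype.val (MulEquiv.congr_fun h ⟨x, hx⟩)
      rw [MulAut.conjNormal_apply, MulAut.one_apply] at h2
      calc x * g = g * x * g⁻¹ * g := by rw [h2]
        _ = g * x := by group
    · intro h
      refine MulEquiv.ext fun x => Subtype.ext ?_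
      rw [MulAut.conjNormal_apply, MulAut.one_apply, ← h x.1 x.2, mul_inv_cancel_right]
  have hker2 : Nat.card c.ker = 2 := by
    have h2 : Nat.card (Subgroup.center Q8) = 2 := by
      rw [Nat.card_eq_fintype_card]; decide +kernel
    refine Eq.trans ?_ ((Nat.card_congr (Subgroup.centerCongr e).toEquiv).trans h2)
    rw [hkerc]
    refine Nat.card_congr ⟨fun g => ⟨⟨g.1, hCQ g.2⟩, mem_center_iff.2 fun x => Subtype.ext
      (mem_centralizer_iff.1 g.2 x.1 x.2)⟩, fun z => ⟨(z.1 : G), mem_centralizer_iff.2 fun x hx =>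
      congrArg Subtype.val (mem_center_iff.1 z.2 ⟨x, hx⟩)⟩, fun _ => rfl, fun _ => rfl⟩
  have hG : Nat.card G = 48 := by
    haveI : Finite (MulAut Q8) := Finite.of_injective (fun σ => (σ : Q8 → Q8)) DFunLike.coe_injective
    have h := c.ker.card_mul_index
    rw [Subgroup.index_ker, hker2] at h
    have hd : Nat.card c.range ∣ 24 := card_aut ▸ c.range.card_subgroup_dvd_card
    have h8 : 8 ∣ Nat.card G := hQcard ▸ Q.card_subgroup_dvd_card
    have hdiv : Nat.card c.range ∈ Nat.divisors 24 := Nat.mem_divisors.2 ⟨hd, by norm_num⟩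
    have hlist : Nat.divisors 24 = {1, 2, 3, 4, 6, 8, 12, 24} := by decide +kernel
    rw [hlist] at hdiv
    simp only [Finset.mem_insert, Finset.mem_singleton] at hdiv
    rcases hdiv with h' | h' | h' | h' | h' | h' | h' | h' <;> rw [h'] at h <;> try omega
    · exact absurd (IsPGroup.of_card (n := 3) (by rw [← h]; norm_num)) htwo
    · exact absurd (IsPGroup.of_card (n := 4) (by rw [← h]; norm_num)) htwo
    · exfalso
      refine hnorm ⟨S, ?_⟩
      have hS : Nat.card (S : Subgroup G) = 8 := by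
        rw [S.card_eq_multiplicity, ← h]
        norm_num [Nat.factorization_def _ Nat.prime_two]
        rw [show (24 : ℕ) = 2 ^ 3 * 3 by norm_num, padicValNat.mul (by norm_num) (by norm_num),
          padicValNat.prime_pow, padicValNat.eq_zero_of_not_dvd (by norm_num)]
        norm_num
      rw [← Subgroup.eq_of_le_of_card_ge (CfsgLib.Solvable.pCore_le_sylow S) (by rw [hS, hQcard])]
      exact hQn
  by_cases hinv : ∃ t : G, t * t = 1 ∧ t ∉ Q
  · obtain ⟨t, ht, htQ⟩ := hinv
    exact Or.inl (equiv_gl hG Q e hCQ ht htQ)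
  push Not at hinv
  obtain ⟨c', hsurj, -, hk', -, -, hkc⟩ := exists_action hG Q e hCQ
  refine Or.inr ⟨hG, hkc ▸ hk', ?_, fun P => ?_⟩
  · obtain ⟨m⟩ := mulAut_equiv_perm
    exact ⟨((QuotientGroup.quotientMulEquivOfEq hkc.symm).trans
      (QuotientGroup.quotientKerEquivOfSurjective c' hsurj)).trans m⟩
  have hP16 : Nat.card (P : Subgroup G) = 16 := by
    rw [P.card_eq_multiplicity, hG]
    norm_num [Nat.factorization_def _ Nat.prime_two]
    rw [show (48 : ℕ) = 2 ^ 4 * 3 by norm_num, padicValNat.mul (by norm_num) (by norm_num),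
      padicValNat.prime_pow, padicValNat.eq_zero_of_not_dvd (by norm_num)]
    norm_num
  have hQP : Q ≤ (P : Subgroup G) := CfsgLib.Solvable.pCore_le_sylow P
  rcases CfsgLib.StructC.isCyclic_or_quaternion P.isPGroup' (fun a b ha hb hab => by
    have aQ : ∀ x : (P : Subgroup G), orderOf x = 2 → (x : G) ∈ Q := fun x hx =>
      hinv x (by have h := pow_orderOf_eq_one x; rw [hx] at h; rw [← pow_two, ← Subgroup.coe_pow, h, OneMemClass.coe_one])
    obtain ⟨i, hi⟩ := hu ⟨a, aQ a ha⟩ ⟨b, aQ b hb⟩ (by rw [Subgroup.orderOf_mk, Subgroup.orderOf_coe, ha])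
      (by rw [Subgroup.orderOf_mk, Subgroup.orderOf_coe, hb])
      (Subtype.ext (show (a : G) * b = b * a from congrArg Subtype.val hab.eq))
    have hi' := congrArg Subtype.val hi
    exact ⟨i, Subtype.ext (by simpa using hi')⟩) with hc | ⟨l, -, ⟨eP⟩⟩
  · exfalso
    haveI := hc
    have hq : IsCyclic Q := isCyclic_of_injective (Subgroup.inclusion hQP) (Subgroup.inclusion_injective hQP)
    haveI : IsCyclic Q8 := e.isCyclic.1 hq
    have hab : ∀ x y : Q8, x * y = y * x := fun x y => by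
      obtain ⟨g, hg⟩ := IsCyclic.exists_generator (α := Q8)
      obtain ⟨i, rfl⟩ := hg x
      obtain ⟨j, rfl⟩ := hg y
      rw [← zpow_add, ← zpow_add, add_comm]
    exact absurd (hab A B) (by decide +kernel)
  · have h := Nat.card_congr eP.toEquiv
    haveI : NeZero (2 ^ l) := ⟨by positivity⟩
    rw [hP16, Nat.card_eq_fintype_card, QuaternionGroup.card] at h
    have hl : 2 ^ l = 4 := by omega
    exact ⟨hl ▸ eP⟩

end CfsgLib.InvChar.RankOneMeet
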