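import Cfsg.Agent.Lib.KnownA.CosetInv

/-!
# Goal certificates with inverse letters
-/

set_option autoImplicit false

namespace CfsgLib.InvChar.SporHN

open CfsgLib.InvChar.Coset
open CfsgLib.KnownA

/-- Check a walk from node `0` back to node `0` spelling the word `w`. -/
noncomputable def chkGoal (D : CosetInv.Cert) (t n s : ℕ) (w : List ℕ) : Bool :=
  D.walk t n s 0 [] fun _ c L => Nat.beq c 0 && leq L.reverse w

/-- A checked goal: the word lies in the subgroup. -/
theorem mem_of_goal {G : Type*} [Group G] {D : CosetInv.Cert} {s : ℕ → G} {H : Subgroup G}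
    (hg : CosetInv.Good D s) {t n st : ℕ} {w : List ℕ} (hold : ∀ r < t, CosetInv.Holds D s H r)
    (h : chkGoal D t n st w = true) : wprod s w ∈ H := by
  obtain ⟨_, c, L, hc, hi⟩ := CosetInv.walk_sound hg hold _ _ _ _ _ h
  rw [Bool.and_eq_true] at hc
  rw [← eq_of_leq _ _ hc.2]
  have := hi 1 (by simp [wprod, CosetInv.nodeRep])
  rwa [Nat.eq_of_beq_eq_true hc.1, CosetInv.nodeRep, one_mul, inv_one, mul_one] at this

end CfsgLib.InvChar.SporHN
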