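import Cfsg.Agent.Lib.InvChar.SporHNTrace
import Cfsg.Agent.Lib.InvChar.SporData.HN.Events

/-!
# ⟨x, y, z⟩ in the presented group and the certified words
-/

set_option autoImplicit false
set_option maxRecDepth 100000

namespace CfsgLib.InvChar.SporHN

open CfsgLib.InvChar.Coset
open CfsgLib.KnownA
open Cfsg.Spor

/-- The subgroup generated by x, y, z. -/
noncomputable def hnSub : Subgroup HN := Subgroup.closure (gen '' {0, 2, 4})

theorem gen_mem_hnSub {x : ℕ} (hx : x < 5) : gen x ∈ hnSub := by
  have m : ∀ y ∈ ({0, 2, 4} : Set ℕ), gen y ∈ hnSub := fun y hy => Subgroup.subset_closure ⟨y, hy, rfl⟩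
  interval_cases x
  · exact m 0 (by simp)
  · rw [show gen 1 = (gen 0)⁻¹ from gen_ivT 0]; exact Subgroup.inv_mem _ (m 0 (by simp))
  · exact m 2 (by simp)
  · rw [show gen 3 = (gen 2)⁻¹ from gen_ivT 2]; exact Subgroup.inv_mem _ (m 2 (by simp))
  · exact m 4 (by simp)

theorem hLetters_gen : HLetters gen where
  inv x _ := gen_ivT x
  rel r hr := gen_rel r (List.mem_of_mem_take hr)

/-- The map from the group of permutations. -/
noncomputable def psi : HP →* HN := (exists_psi hLetters_gen).choose

theorem psi_hs {x : ℕ} (hx : x < 5) : psi (hs x) = gen x := (exists_psi hLetters_gen).choose_spec x hx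

theorem psi_word {L : List ℕ} (hL : ∀ x ∈ L, x < 5) : psi (wprod hs L) = wprod gen L :=
  psi_wprod (fun _ hx => psi_hs hx) hL

theorem wprod_gen_winv (L : List ℕ) : wprod gen (winv L) = (wprod gen L)⁻¹ := by
  induction L with
  | nil => simp [winv, wprod]
  | cons a L ih =>
    have e : winv (a :: L) = winv L ++ [ivT a] := by simp [winv]
    rw [e, wprod_append, ih]
    simp [wprod, gen_ivT a]

/-- Put a letter in front of a reduced word. -/
def redCons (a : ℕ) : List ℕ → List ℕ
  | [] => [a]
  | b :: L => bif Nat.beq (ivT a) b then L else a :: b :: L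

/-- Free reduction. -/
def redW (L : List ℕ) : List ℕ := L.foldr redCons []

theorem wprod_redCons (a : ℕ) (L : List ℕ) : wprod gen (redCons a L) = gen a * wprod gen L := by
  cases L with
  | nil => simp [redCons, wprod]
  | cons b L =>
    rw [redCons]
    cases h : Nat.beq (ivT a) b with
    | false => rfl
    | true =>
      rw [cond_true, show wprod gen (b :: L) = gen b * wprod gen L from rfl, ← Nat.eq_of_beq_eq_true h,
        gen_ivT, mul_inv_cancel_left]

theorem wprod_redW (L : List ℕ) : wprod gen (redW L) = wprod gen L := by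
  induction L with
  | nil => rfl
  | cons a L ih =>
    show wprod gen (redCons a (redW L)) = gen a * wprod gen L
    rw [wprod_redCons, ih]

/-- The relators of a certificate hold. -/
noncomputable def chkR (R : List (List ℕ)) : Bool :=
  R.all fun r => rels.contains r || [[0, 1], [1, 0], [2, 3], [3, 2], [5, 6], [6, 5]].contains r ||
    ((r.all fun x => Nat.blt x 5) && Nat.beq (step4 small r img0) img0)

theorem chkR_sound {R : List (List ℕ)} (h : chkR R = true) : ∀ r ∈ R, wprod gen r = 1 := by
  intro r hr
  have h' := List.all_eq_true.1 h r hr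
  simp only [Bool.or_eq_true, Bool.and_eq_true, List.contains_iff_mem] at h'
  rcases h' with (h' | h') | h'
  · exact gen_rel r h'
  · simp only [List.mem_cons, List.not_mem_nil, or_false] at h'
    rcases h' with rfl | rfl | rfl | rfl | rfl | rfl <;> simp [wprod, gen]
  · have hlt : ∀ x ∈ r, x < 5 := fun x hx => by simpa [Nat.blt] using List.all_eq_true.1 h'.1 x hx
    rw [← psi_word hlt, wprod_hs_eq_one hlt (Nat.eq_of_beq_eq_true h'.2), map_one]

/-- The subgroup words of a certificate. -/
def chkS (S : List (List ℕ)) : Bool := S.all fun r => [[0], [2], [4]].contains r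

theorem chkS_sound {S : List (List ℕ)} (h : chkS S = true) : ∀ r ∈ S, wprod gen r ∈ hnSub := by
  intro r hr
  have h' := List.all_eq_true.1 h r hr
  simp only [List.contains_iff_mem, List.mem_cons, List.not_mem_nil, or_false] at h'
  rcases h' with rfl | rfl | rfl <;> simpa [wprod] using gen_mem_hnSub (by omega)

theorem good_gen {D : CosetInv.Cert} (h : (List.range 16).all (fun x => Nat.beq (D.iv x) (ivT x)) = true) :
    CosetInv.Good D gen where
  eps := rfl
  inv x := by
    rcases lt_or_ge x 16 with hx | hx
    · rw [Nat.eq_of_beq_eq_true (List.all_eq_true.1 h x (List.mem_range.2 hx)), gen_ivT]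
    · have hb : Nat.blt x 16 = false := by
        cases hh : Nat.blt x 16
        · rfl
        · exact absurd (Nat.le_of_ble_eq_true hh) (by omega)
      have hx1 : gen x = 1 := by
        match x, hx with
        | n + 7, _ => rfl
      simp [CosetInv.Cert.iv, hb, hx1]

/-- The word of the base of orbit `j`. -/
def bwW (j : ℕ) : List ℕ := baseW.getD j []

/-- The word to certify for root `k`. -/
def edgeWord (k : ℕ) : List ℕ := bwW (eI k) ++ eH k ++ [5] ++ winv (bwW (eJ k) ++ eT k)

/-- The word to certify for a stabiliser word. -/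
def stabWord (q : ℕ × List ℕ) : List ℕ := bwW q.1 ++ q.2 ++ winv (bwW q.1)

theorem mem_of_triv (k : ℕ) (h : redW (edgeWord k) = []) : wprod gen (edgeWord k) ∈ hnSub := by
  rw [← wprod_redW, h]
  exact one_mem _

theorem mem_of_cert (k : ℕ) (D : CosetInv.Cert) (goal : List ℕ) (hg : redW (edgeWord k) = goal)
    (hi : (List.range 16).all (fun x => Nat.beq (D.iv x) (ivT x)) = true) (hR : chkR D.rels = true)
    (hS : chkS D.subs = true)
    (hmem : CosetInv.Good D gen → (∀ r ∈ D.rels, wprod gen r = 1) → (∀ r ∈ D.subs, wprod gen r ∈ hnSub) →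
      wprod gen goal ∈ hnSub) : wprod gen (edgeWord k) ∈ hnSub := by
  rw [← wprod_redW, hg]
  exact hmem (good_gen hi) (chkR_sound hR) (chkS_sound hS)

theorem stab_of_cert (q : ℕ × List ℕ) (D : CosetInv.Cert) (goal : List ℕ) (hg : redW (stabWord q) = goal)
    (hi : (List.range 16).all (fun x => Nat.beq (D.iv x) (ivT x)) = true) (hR : chkR D.rels = true)
    (hS : chkS D.subs = true)
    (hmem : CosetInv.Good D gen → (∀ r ∈ D.rels, wprod gen r = 1) → (∀ r ∈ D.subs, wprod gen r ∈ hnSub) →
      wprod gen goal ∈ hnSub) : wprod gen (stabWord q) ∈ hnSub := by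
  rw [← wprod_redW, hg]
  exact hmem (good_gen hi) (chkR_sound hR) (chkS_sound hS)

end CfsgLib.InvChar.SporHN
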