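import Cfsg.Agent.Lib.KnownA.CosetInv
import Cfsg.Agent.Lib.InvChar.CosetGroup
import Cfsg.Prelude.Def_Spor_HN
import Mathlib.Tactic

/-!
# The presented Harada-Norton group as input to the certified computations

Letters: 0 = x, 1 = x⁻¹, 2 = y, 3 = y⁻¹, 4 = z, 5 = t, 6 = t⁻¹.
-/

set_option autoImplicit false
set_option maxRecDepth 100000

namespace CfsgLib.InvChar.SporHN

open CfsgLib.InvChar.Coset
open Cfsg.Spor

/-- The inverse letter. -/
def ivT : ℕ → ℕ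
  | 0 => 1 | 1 => 0 | 2 => 3 | 3 => 2 | 5 => 6 | 6 => 5 | n => n

/-- The number of a generator. -/
def idx : HN.Gen → ℕ
  | .x => 0 | .y => 2 | .z => 4 | .t => 5

/-- The fourteen relators. -/
def rels : List (List ℕ) := [[2, 2, 2, 2, 2, 2], [0, 0, 2, 0, 0, 3], [1, 3, 0, 2, 1, 3, 0, 2, 1, 3, 0, 2], [1, 2, 2, 0, 2, 2, 2, 1, 2, 2, 0, 2, 2, 2, 1, 2, 2, 0, 2, 2, 2], [0, 2, 0, 2, 0, 2, 0, 2, 0, 2, 0, 2, 0, 2, 0, 2], [0, 2, 0, 2, 2, 2, 0, 2, 0, 2, 2, 2, 0, 2, 0, 2, 2, 2, 0, 2, 0, 2, 2, 2], [4, 4], [4, 0, 4, 0], [4, 2, 1, 3, 3, 1, 3, 1, 3, 4, 2, 0, 2, 0, 2, 2, 0, 3, 1, 1], [4, 3, 1, 3, 1, 3, 3, 3, 4, 2, 2, 2, 0, 2, 0, 2, 0, 3, 1, 3, 1, 3, 3, 3, 4, 2, 2, 2, 0, 2, 0, 2, 0, 3, 1, 3, 1, 3, 3, 3, 4, 2, 2, 2, 0, 2, 0, 2, 0], [5, 5, 5, 5, 5], [1, 5, 0, 5, 5], [6, 3, 5, 2], [4, 5, 4, 5, 4, 5]]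

/-- The letters of a free group element. -/
def lettersI (w : FreeGroup HN.Gen) : List ℕ :=
  w.toWord.map fun p => if p.2 then idx p.1 else ivT (idx p.1)

theorem rels_eq : HN.extra.map lettersI = rels := by decide +kernel

theorem lift_eq_lettersI {K : Type*} [Group K] (f : ℕ → K)
    (hf : ∀ a, f (ivT (idx a)) = (f (idx a))⁻¹) (w : FreeGroup HN.Gen) :
    FreeGroup.lift (fun a => f (idx a)) w = wprod f (lettersI w) := by
  conv_lhs => rw [← FreeGroup.mk_toWord (x := w)]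
  rw [FreeGroup.lift_mk]
  simp only [wprod, lettersI, List.map_map]
  refine congrArg List.prod (List.map_congr_left fun p _ => ?_)
  obtain ⟨a, b⟩ := p
  cases b <;> simp [hf]

/-- The generators by number. -/
noncomputable def gen : ℕ → HN
  | 0 => PresentedGroup.of HN.Gen.x
  | 1 => (PresentedGroup.of HN.Gen.x)⁻¹
  | 2 => PresentedGroup.of HN.Gen.y
  | 3 => (PresentedGroup.of HN.Gen.y)⁻¹
  | 4 => PresentedGroup.of HN.Gen.z
  | 5 => PresentedGroup.of HN.Gen.t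
  | 6 => (PresentedGroup.of HN.Gen.t)⁻¹
  | _ => 1

theorem gen_idx (a : HN.Gen) : gen (idx a) = PresentedGroup.of a := by
  cases a <;> rfl

theorem relator_one {w : FreeGroup HN.Gen} (hw : w ∈ HN.extra) :
    PresentedGroup.mk (coxRelators HN.edges ∪ {r | r ∈ HN.extra}) w = 1 :=
  PresentedGroup.one_of_mem (Or.inr hw)

theorem z_sq : (PresentedGroup.of HN.Gen.z : HN) * PresentedGroup.of HN.Gen.z = 1 := by
  have h := relator_one (w := HN.z ^ 2) (by simp [HN.extra])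
  rw [map_pow, pow_two] at h
  exact h

theorem gen_ivT (x : ℕ) : gen (ivT x) = (gen x)⁻¹ := by
  match x with
  | 0 | 1 | 2 | 3 | 5 | 6 => simp [gen, ivT]
  | 4 => exact eq_inv_of_mul_eq_one_left z_sq
  | n + 7 => simp [gen, ivT]

theorem mk_eq (w : FreeGroup HN.Gen) :
    PresentedGroup.mk (coxRelators HN.edges ∪ {r | r ∈ HN.extra}) w = wprod gen (lettersI w) := by
  rw [← lift_eq_lettersI gen (fun a => gen_ivT (idx a))]
  refine DFunLike.congr_fun (?_ : PresentedGroup.mk _ = _) w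
  ext a
  rw [FreeGroup.lift_apply_of, gen_idx]
  rfl

theorem gen_rel : ∀ r ∈ rels, wprod gen r = 1 := by
  intro r hr
  rw [← rels_eq, List.mem_map] at hr
  obtain ⟨w, hw, rfl⟩ := hr
  rw [← mk_eq]
  exact relator_one hw

theorem closure_gen : Subgroup.closure (gen '' {0, 2, 4, 5}) = ⊤ := by
  refine top_le_iff.1 ?_
  rw [← PresentedGroup.closure_range_of, Subgroup.closure_le]
  rintro _ ⟨a, rfl⟩
  refine Subgroup.subset_closure ⟨idx a, ?_, gen_idx a⟩
  cases a <;> simp [idx]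

/-- A map respecting inverse letters and killing the relators gives a homomorphism. -/
theorem exists_hom {K : Type*} [Group K] (f : ℕ → K) (hf : ∀ x < 7, f (ivT x) = (f x)⁻¹)
    (hfR : ∀ r ∈ rels, wprod f r = 1) :
    ∃ φ : HN →* K, ∀ x < 7, φ (gen x) = f x := by
  have hidx : ∀ a, idx a < 7 := fun a => by cases a <;> decide
  have hrel : ∀ r ∈ coxRelators HN.edges ∪ {r | r ∈ HN.extra},
      FreeGroup.lift (fun a => f (idx a)) r = 1 := by
    rintro r (⟨a, ha, -⟩ | hr)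
    · simp [coxNodes, HN.edges] at ha
    · rw [lift_eq_lettersI f fun a => hf _ (hidx a)]
      exact hfR _ (rels_eq ▸ List.mem_map_of_mem hr)
  refine ⟨PresentedGroup.toGroup hrel, fun x hx => ?_⟩
  have key : ∀ a : HN.Gen, (PresentedGroup.toGroup hrel) (gen (idx a)) = f (idx a) := fun a => by
    rw [gen_idx, PresentedGroup.toGroup.of]
  have e : ∀ a : HN.Gen, (PresentedGroup.toGroup hrel) (gen (ivT (idx a))) = f (ivT (idx a)) := fun a => by
    rw [gen_ivT, map_inv, key, hf _ (hidx a)]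
  interval_cases x
  exacts [key .x, e .x, key .y, e .y, key .z, key .t, e .t]

end CfsgLib.InvChar.SporHN
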