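import Cfsg.Agent.Lib.InvChar.SporData.HN.RelChk.A0
import Cfsg.Agent.Lib.InvChar.SporData.HN.RelChk.B0
import Cfsg.Agent.Lib.InvChar.SporData.HN.RelChk.C0
import Cfsg.Agent.Lib.InvChar.SporData.HN.RelChk.C1
import Cfsg.Agent.Lib.InvChar.SporData.HN.RelChk.C2
import Cfsg.Agent.Lib.InvChar.SporData.HN.RelChk.C3
import Cfsg.Agent.Lib.InvChar.SporData.HN.RelChk.C4
import Cfsg.Agent.Lib.InvChar.SporData.HN.RelChk.C5
import Cfsg.Agent.Lib.InvChar.SporData.HN.RelChk.C6
import Cfsg.Agent.Lib.InvChar.SporData.HN.RelChk.C7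
import Cfsg.Agent.Lib.InvChar.SporData.HN.RelChk.C8
import Cfsg.Agent.Lib.InvChar.SporData.HN.RelChk.C9

/-!
# The fourteen relators hold on the 1539000 points
-/

set_option autoImplicit false
set_option maxRecDepth 100000

namespace CfsgLib.InvChar.SporHN

open CfsgLib.InvChar.Coset
open CfsgLib.KnownA

theorem K1_conj {h : HP} (hgen : ∀ L ∈ gensI 1, (wprod hs L) ∈ (Ki 1).comap (MulAut.conj h).toMonoidHom)
    {c : HP} (hc : c ∈ Ki 1) : h * c * h⁻¹ ∈ Ki 1 := by
  have : Ki 1 ≤ (Ki 1).comap (MulAut.conj h).toMonoidHom := by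
    rw [Ki, Subgroup.closure_le]
    rintro _ ⟨L, hL, rfl⟩
    exact hgen L hL
  have h2 := this hc
  rw [Subgroup.mem_comap] at h2
  exact h2

theorem x_normalises {c : HP} (hc : c ∈ Ki 1) : hs 0 * c * (hs 0)⁻¹ ∈ Ki 1 := by
  refine K1_conj (fun L hL => ?_) hc
  have h : ∀ L ∈ gensI 1, (∀ x ∈ winv ([0] ++ L ++ [1]), x < 5) ∧ small.follow (winv ([0] ++ L ++ [1])) 0 = 0 ∧
      ∀ x ∈ [0] ++ L ++ [1], x < 5 := by decide +kernel
  obtain ⟨h1, h2, h3⟩ := h L hL
  rw [Subgroup.mem_comap]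
  show hs 0 * wprod hs L * (hs 0)⁻¹ ∈ Ki 1
  refine mem_K1_iff.2 (Fin.ext ?_)
  have e : hs 0 * wprod hs L * (hs 0)⁻¹ = (wprod hs (winv ([0] ++ L ++ [1])))⁻¹ := by
    rw [wprod_winv hLetters_hs h3, inv_inv, wprod_append, wprod_append,
      ← show hs 1 = (hs 0)⁻¹ from hLetters_hs.inv 0 (by omega)]
    simp [wprod]
  rw [e]
  show (((wprod hs (winv ([0] ++ L ++ [1])))⁻¹ : HP).1 p0).val = 0
  rw [hs_follow h1]
  exact h2

/-- The elements fixing the first point and commuting with z. -/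
def CZ (e : HP) : Prop := e ∈ Ki 1 ∧ e * hs 4 = hs 4 * e

theorem czNext_ok : ∀ a < 50, ∀ g < 2,
    let w := winv (czReps.getD (czNext.getD (2 * a + g) 0) []) ++ (gensI 1).getD g [] ++ czReps.getD a []
    czNext.getD (2 * a + g) 0 < 50 ∧ (∀ x ∈ w, x < 5) ∧ small.follow w 0 = 0 ∧
      step4 small (w ++ [4]) img0 = step4 small ([4] ++ w) img0 := by
  decide +kernel

theorem czReps_ok : czReps.length = 50 ∧ czReps.getD 0 [0] = [] ∧
    ∀ a < 50, (∀ x ∈ czReps.getD a [], x < 5) ∧ small.follow (czReps.getD a []) 0 = 0 := by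
  decide +kernel

/-- Every element fixing the first point is a representative followed by one commuting with z. -/
theorem cz_cover {c : HP} (hc : c ∈ Ki 1) :
    ∃ a < 50, ∃ e, CZ e ∧ c = e * (wprod hs (czReps.getD a []))⁻¹ := by
  suffices h : ∀ d ∈ Ki 1, ∃ a < 50, ∃ e, CZ e ∧ d = wprod hs (czReps.getD a []) * e by
    obtain ⟨a, ha, e, he, hd⟩ := h c⁻¹ (Subgroup.inv_mem _ hc)
    refine ⟨a, ha, e⁻¹, ⟨Subgroup.inv_mem _ he.1, ?_⟩, by rw [← mul_inv_rev, ← hd, inv_inv]⟩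
    have := he.2
    calc e⁻¹ * hs 4 = e⁻¹ * (hs 4 * e) * e⁻¹ := by group
      _ = e⁻¹ * (e * hs 4) * e⁻¹ := by rw [this]
      _ = hs 4 * e⁻¹ := by group
  intro d hd
  have hd' : d ∈ Submonoid.closure (wprod hs '' {L | L ∈ gensI 1}) := by
    rw [← Subgroup.closure_toSubmonoid_of_finite]
    exact hd
  induction hd' using Submonoid.closure_induction_left with
  | one =>
    refine ⟨0, by omega, 1, ⟨one_mem _, by simp⟩, ?_⟩
    have : czReps.getD 0 [] = [] := by decide +kernel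
    rw [this]; simp [wprod]
  | mul_left g hg y hy ih =>
    obtain ⟨L, hL, rfl⟩ := hg
    obtain ⟨n, hn, rfl⟩ := List.mem_iff_getElem.1 hL
    have hy' : y ∈ Ki 1 := by
      rw [← Subgroup.mem_toSubmonoid, Ki, Subgroup.closure_toSubmonoid_of_finite]
      exact hy
    obtain ⟨a, ha, e, he, rfl⟩ := ih hy'
    have hn2 : n < 2 := lt_of_lt_of_le hn (show (gensI 1).length ≤ 2 by decide +kernel)
    obtain ⟨hb, hw, hfix, hcomm⟩ := czNext_ok a ha n hn2
    set b := czNext.getD (2 * a + n) 0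
    set w := winv (czReps.getD b []) ++ (gensI 1).getD n [] ++ czReps.getD a [] with hwdef
    refine ⟨b, hb, wprod hs w * e, ⟨mul_mem (mem_K1_iff.2 ?_) he.1, ?_⟩, ?_⟩
    · have h1 : ((wprod hs w)⁻¹ : HP).1 p0 = p0 := Fin.ext (by rw [hs_follow hw]; exact hfix)
      have := congrArg (wprod hs w : HP).1 h1
      rw [Subgroup.coe_inv] at this
      exact ((Equiv.apply_symm_apply _ _).symm.trans this).symm
    · have hc4 : wprod hs w * hs 4 = hs 4 * wprod hs w := by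
        have e1 : wprod hs (w ++ [4]) = wprod hs ([4] ++ w) := img_injective <| by
          rw [img_wprod (app_lt hw (by simp)), img_wprod (app_lt (by simp) hw), hcomm]
        simpa [wprod_append, wprod] using e1
      calc wprod hs w * e * hs 4 = wprod hs w * hs 4 * e := by rw [mul_assoc, he.2, ← mul_assoc]
        _ = hs 4 * (wprod hs w * e) := by rw [hc4, mul_assoc]
    · rw [hwdef, wprod_append, wprod_append, wprod_winv hLetters_hs (czReps_ok.2.2 b hb).1,
        List.getD_eq_getElem _ _ hn]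
      group

theorem fw5_comm {c : HP} (hc : c ∈ Ki 1) (p : Pt) : semX.tau (c • p) = c • semX.tau p := semX.comm c hc p

theorem fw_t5 (p : Pt) : semX.fw [5, 5, 5, 5, 5] p = p := by
  obtain ⟨c, hc, k, hk, rfl⟩ := root_cover p
  obtain ⟨-, h⟩ := chkRelRows_sound (L := [5, 5, 5, 5, 5]) (by decide) [[]] relA0 chk_A0 [] (by simp)
  have h := h k hk
  simp only [List.append_nil, Sem.fw, Sem.act, show ¬ (5 : ℕ) < 5 by omega, if_false, if_true] at h ⊢
  simp only [fw5_comm hc, h]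

theorem semX_back : semX.Back := fun p => fw_t5 p

theorem semX_fwd (p : Pt) : semX.tau (semX.taui p) = p := fw_t5 p

theorem fw_xt (p : Pt) : semX.fw [1, 5, 0, 5, 5] p = p := by
  obtain ⟨c, hc, k, hk, rfl⟩ := root_cover p
  obtain ⟨-, h⟩ := chkRelRows_sound (L := [1, 5, 0, 5, 5]) (by decide) [[]] relB0 chk_B0 [] (by simp)
  have h := h k hk
  rw [List.append_nil] at h
  generalize semX.pt (eI k) (eH k) = r at h ⊢
  simp only [Sem.fw, Sem.act, show (1 : ℕ) < 5 by omega, show (0 : ℕ) < 5 by omega,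
    show ¬ (5 : ℕ) < 5 by omega, if_false, if_true] at h ⊢
  have h1 : (hs 1)⁻¹ = hs 0 := by rw [show hs 1 = (hs 0)⁻¹ from hLetters_hs.inv 0 (by omega), inv_inv]
  rw [h1] at h ⊢
  have hc' := x_normalises hc
  have e1 : hs 0 • c • r = (hs 0 * c * (hs 0)⁻¹) • hs 0 • r := by
    simp only [smul_smul]; congr 1; group
  rw [e1, fw5_comm hc']
  have e2 : (hs 0)⁻¹ • (hs 0 * c * (hs 0)⁻¹) • semX.tau (hs 0 • r) = c • (hs 0)⁻¹ • semX.tau (hs 0 • r) := by
    simp only [smul_smul]; congr 1; group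
  rw [e2, fw5_comm hc, fw5_comm hc, h]

theorem chk_C_all : ∀ a < 50, chkC (czReps.getD a []) = true ∧ ∀ k < 101,
    semX.fw [4, 5, 4, 5, 4, 5] (semX.pt (eI k) (eH k ++ czReps.getD a [])) =
      semX.pt (eI k) (eH k ++ czReps.getD a []) := by
  intro a ha
  have hmem : ∀ n, n < 10 → ∀ d < 5, czReps.getD (5 * n + d) [] ∈ (czReps.drop (5 * n)).take 5 := by
    decide +kernel
  have key := hmem (a / 5) (by omega) (a % 5) (Nat.mod_lt _ (by omega))
  rw [Nat.div_add_mod] at key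
  obtain ⟨n, hn, hn'⟩ : ∃ n < 10, a / 5 = n := ⟨_, by omega, rfl⟩
  rw [hn'] at key
  interval_cases n
  exacts [chkRelRows_sound (by decide) _ _ chk_C0 _ key, chkRelRows_sound (by decide) _ _ chk_C1 _ key,
    chkRelRows_sound (by decide) _ _ chk_C2 _ key, chkRelRows_sound (by decide) _ _ chk_C3 _ key,
    chkRelRows_sound (by decide) _ _ chk_C4 _ key, chkRelRows_sound (by decide) _ _ chk_C5 _ key,
    chkRelRows_sound (by decide) _ _ chk_C6 _ key, chkRelRows_sound (by decide) _ _ chk_C7 _ key,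
    chkRelRows_sound (by decide) _ _ chk_C8 _ key, chkRelRows_sound (by decide) _ _ chk_C9 _ key]

theorem fw_zt (p : Pt) : semX.fw [4, 5, 4, 5, 4, 5] p = p := by
  obtain ⟨c, hc, k, hk, rfl⟩ := root_cover p
  obtain ⟨a, ha, e, ⟨he, hez⟩, rfl⟩ := cz_cover hc
  have h := (chk_C_all a ha).2 k hk
  rw [semX.pt_append] at h
  rw [mul_smul]
  generalize (wprod hs (czReps.getD a []))⁻¹ • semX.pt (eI k) (eH k) = r at h ⊢
  simp only [Sem.fw, Sem.act, show (4 : ℕ) < 5 by omega, show ¬ (5 : ℕ) < 5 by omega, if_false, if_true] at h ⊢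
  have hz : ∀ q : Pt, (hs 4)⁻¹ • e • q = e • (hs 4)⁻¹ • q := fun q => by
    simp only [smul_smul]
    congr 1
    calc (hs 4)⁻¹ * e = (hs 4)⁻¹ * (e * hs 4) * (hs 4)⁻¹ := by group
      _ = (hs 4)⁻¹ * (hs 4 * e) * (hs 4)⁻¹ := by rw [hez]
      _ = e * (hs 4)⁻¹ := by group
  simp only [hz, fw5_comm he, h]

theorem fw_ty (p : Pt) : semX.fw [6, 3, 5, 2] p = p := by
  simp only [Sem.fw, Sem.act, show (2 : ℕ) < 5 by omega, show (3 : ℕ) < 5 by omega,
    show ¬ (6 : ℕ) < 5 by omega, show ¬ (6 : ℕ) = 5 by omega, show ¬ (5 : ℕ) < 5 by omega, if_false, if_true]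
  have h3 : (hs 3)⁻¹ = hs 2 := by rw [show hs 3 = (hs 2)⁻¹ from hLetters_hs.inv 2 (by omega), inv_inv]
  have hy : hs 2 ∈ Ki 1 := by
    have := expand_mem 1 [0]
    rwa [show expand 1 [0] = [2] by decide +kernel, show wprod hs [2] = hs 2 by simp [wprod]] at this
  rw [h3, fw5_comm hy, semX_fwd, inv_smul_smul]

/-- The permutation of t. -/
noncomputable def tPerm : Equiv.Perm Pt := ⟨semX.tau, semX.taui, semX_back, semX_fwd⟩

/-- The permutations of the letters. -/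
noncomputable def fX (x : ℕ) : Equiv.Perm Pt :=
  if x < 5 then MulAction.toPermHom HP Pt (hs x) else if x = 5 then tPerm⁻¹ else tPerm

theorem fX_inv : ∀ x < 7, fX (ivT x) = (fX x)⁻¹ := by
  intro x hx
  interval_cases x
  · simp only [fX, ivT, show (1:ℕ) < 5 by omega, show (0:ℕ) < 5 by omega, if_true]
    rw [← map_inv, ← hLetters_hs.inv 0 (by omega)]; rfl
  · simp only [fX, ivT, show (1:ℕ) < 5 by omega, show (0:ℕ) < 5 by omega, if_true]
    rw [← map_inv, ← hLetters_hs.inv 1 (by omega)]; rfl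
  · simp only [fX, ivT, show (3:ℕ) < 5 by omega, show (2:ℕ) < 5 by omega, if_true]
    rw [← map_inv, ← hLetters_hs.inv 2 (by omega)]; rfl
  · simp only [fX, ivT, show (3:ℕ) < 5 by omega, show (2:ℕ) < 5 by omega, if_true]
    rw [← map_inv, ← hLetters_hs.inv 3 (by omega)]; rfl
  · simp only [fX, ivT, show (4:ℕ) < 5 by omega, if_true]
    rw [← map_inv, ← hLetters_hs.inv 4 (by omega)]; rfl
  · simp [fX, ivT]
  · simp [fX, ivT]

theorem fX_fw : ∀ (L : List ℕ), (∀ a ∈ L, a < 7) → ∀ p : Pt, semX.fw L p = (wprod fX L)⁻¹ p := by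
  intro L
  induction L with
  | nil => intro _ p; rfl
  | cons a L ih =>
    intro hL p
    obtain ⟨ha, hL⟩ := List.forall_mem_cons.1 hL
    show semX.fw L (semX.act a p) = (fX a * wprod fX L)⁻¹ p
    rw [ih hL, mul_inv_rev, Equiv.Perm.mul_apply]
    congr 1
    interval_cases a <;> rfl

theorem fX_rel : ∀ r ∈ rels, wprod fX r = 1 := by
  intro r hr
  have hlt : ∀ r ∈ rels, ∀ a ∈ r, a < 7 := by decide
  rw [← inv_eq_one]
  refine Equiv.ext fun p => ?_
  rw [← fX_fw r (hlt r hr), Equiv.Perm.one_apply]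
  have hsplit : ∀ r ∈ rels, r ∈ hRels ∨ r = [5, 5, 5, 5, 5] ∨ r = [1, 5, 0, 5, 5] ∨ r = [6, 3, 5, 2] ∨
      r = [4, 5, 4, 5, 4, 5] := by decide
  rcases hsplit r hr with h | rfl | rfl | rfl | rfl
  · have h5 : ∀ r ∈ hRels, ∀ a ∈ r, a < 5 := by decide
    rw [semX.fw_small (h5 r h), hLetters_hs.rel r h, inv_one, one_smul]
  · exact fw_t5 p
  · exact fw_xt p
  · exact fw_ty p
  · exact fw_zt p

end CfsgLib.InvChar.SporHN
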