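import Cfsg.Agent.Lib.InvChar.SporHN
import Cfsg.Agent.Lib.InvChar.SporData.HN.CB.Main
import Cfsg.Agent.Lib.InvChar.SporData.HN.T12600.Main
import Cfsg.Agent.Lib.InvChar.SporData.HN.T352.Main
import Cfsg.Agent.Lib.InvChar.SporData.HN.X4.Main
import Cfsg.Agent.Lib.InvChar.SporData.HN.PB1.Main
import Cfsg.Agent.Lib.InvChar.SporData.HN.PB2.Main
import Cfsg.Agent.Lib.InvChar.SporData.HN.PB3.Main
import Cfsg.Agent.Lib.InvChar.SporData.HN.BoundData
import Mathlib.Tactic

/-!
# The order of a group satisfying the ten relators of HN that do not involve t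

The relators on x and y alone present a triple cover of what is wanted; conjugating an element of
⟨x, v⟩ three times through the last relator shows that the central element of order 3 is trivial.
-/

set_option autoImplicit false
set_option maxRecDepth 100000

namespace CfsgLib.InvChar.SporHN

open CfsgLib.InvChar.Coset
open CfsgLib.KnownA

/-- The ten relators without t. -/
def hRels : List (List ℕ) := rels.take 10

/-- Letters satisfying the ten relators. -/
structure HLetters {K : Type*} [Group K] (s : ℕ → K) : Prop where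
  inv : ∀ x < 5, s (ivT x) = (s x)⁻¹
  rel : ∀ r ∈ hRels, wprod s r = 1

/-- Only the first `g` letters. -/
def sr {K : Type*} [Group K] (g : ℕ) (s : ℕ → K) (x : ℕ) : K := if x < g then s x else 1

theorem wprod_sr {K : Type*} [Group K] {g : ℕ} (s : ℕ → K) {L : List ℕ} (h : ∀ x ∈ L, x < g) :
    wprod (sr g s) L = wprod s L :=
  congrArg List.prod (List.map_congr_left fun x hx => by simp [sr, h x hx])

variable {K : Type*} [Group K] {s : ℕ → K}

theorem wprod_cons' (a : ℕ) (L : List ℕ) : wprod s (a :: L) = s a * wprod s L := rfl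

theorem wprod_inv_word (h : ∀ x < 5, s (ivT x) = (s x)⁻¹) :
    ∀ (L : List ℕ), (∀ x ∈ L, x < 5) → wprod s (L.map ivT).reverse = (wprod s L)⁻¹ := by
  intro L
  induction L with
  | nil => intro _; simp [wprod]
  | cons a L ih =>
    intro hL
    obtain ⟨ha, hL⟩ := List.forall_mem_cons.1 hL
    rw [List.map_cons, List.reverse_cons, wprod_append, ih hL]
    simp [wprod, h a ha]

theorem good_sr {D : CosetInv.Cert} {g : ℕ} (hg : g ≤ 5) (h : ∀ x < 5, s (ivT x) = (s x)⁻¹)
    (hiv : ∀ x < 16, D.iv x = if x < g then ivT x else x) (hlt : ∀ x < g, ivT x < g) :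
    CosetInv.Good D (sr g s) where
  eps := by simp [sr, show ¬ 15 < g by omega]
  inv x := by
    rcases Nat.lt_or_ge x 16 with hx | hx
    · rw [hiv x hx]
      by_cases hxg : x < g
      · simp [sr, hxg, hlt x hxg, h x (by omega)]
      · simp [sr, hxg]
    · have hb : Nat.blt x 16 = false := by
        rw [Bool.eq_false_iff]; simp [Nat.blt]; omega
      simp [CosetInv.Cert.iv, hb, sr, show ¬ x < g by omega]

/-- One enumeration step: the generated group is at most `n` times the subgroup. -/
theorem step_card_le {D : CosetInv.Cert} {T : Table} {live fin : Tr} (hC : CosetInv.Covered D T live fin)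
    {u : ℕ → K} (hg : CosetInv.Good D u) (hR : ∀ r ∈ D.rels, wprod u r = 1) (L : Subgroup K)
    (hL : L ≤ Subgroup.closure (u '' Set.Iio T.g)) (hS : ∀ r ∈ D.subs, wprod u r ∈ L) (hfin : Finite L) (hOut : ∀ x, T.g ≤ x → u x = 1) :
    Finite ↥(Subgroup.closure (u '' Set.Iio T.g)) ∧
      Nat.card ↥(Subgroup.closure (u '' Set.Iio T.g)) ≤ T.n * Nat.card L := by
  classical
  let B := Subgroup.closure (u '' Set.Iio T.g)
  let u' : ℕ → B := fun x => if h : u x ∈ B then ⟨u x, h⟩ else 1
  have hmem : ∀ x < T.g, u x ∈ B := fun x hx => Subgroup.subset_closure ⟨x, hx, rfl⟩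
  have hval : ∀ x, u x ∈ B → (u' x : K) = u x := fun x hx => by simp [u', hx]
  have hg' : CosetInv.Good D u' := by
    refine ⟨?_, fun x => ?_⟩
    · exact Subtype.ext (by rw [hval _ (by rw [hg.eps]; exact one_mem _), hg.eps]; rfl)
    · by_cases hx : u x ∈ B
      · exact Subtype.ext (by
          rw [hval _ (by rw [hg.inv]; exact inv_mem hx), Subgroup.coe_inv, hval _ hx, hg.inv])
      · have : u (D.iv x) ∉ B := by rw [hg.inv, inv_mem_iff]; exact hx
        simp [u', hx, this]
  have hw : ∀ L : List ℕ, (∀ x ∈ L, u x ∈ B) → ((wprod u' L : B) : K) = wprod u L := fun L => by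
    induction L with
    | nil => intro _; rfl
    | cons a L ih =>
      intro h
      obtain ⟨ha, h⟩ := List.forall_mem_cons.1 h
      show ((u' a * wprod u' L : B) : K) = u a * wprod u L
      rw [Subgroup.coe_mul, hval a ha, ih h]
  have hgen : Subgroup.closure (u' '' Set.Iio T.g) = ⊤ := by
    refine Subgroup.map_injective B.subtype_injective ?_
    rw [MonoidHom.map_closure, ← MonoidHom.range_eq_map, Subgroup.range_subtype, ← Set.image_comp]
    exact congrArg Subgroup.closure (Set.image_congr fun x hx => hval x (hmem x hx))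
  have key : ∀ x, u x ∈ B := fun x => by
    by_cases hx : x < T.g
    · exact hmem x hx
    · rw [hOut x (not_lt.1 hx)]; exact one_mem _
  have hidx := hC.index_le (s := u') (H := L.subgroupOf B) hg'
    (fun r hr => Subtype.ext (by rw [hw r (fun x _ => key x), Subgroup.coe_one]; exact hR r hr))
    (fun r hr => by rw [Subgroup.mem_subgroupOf, hw r (fun x _ => key x)]; exact hS r hr) hgen
  have hcard : Nat.card (L.subgroupOf B) = Nat.card L :=
    Nat.card_congr (Subgroup.subgroupOfEquivOfLe hL).toEquiv
  have hpos : 0 < Nat.card L := Nat.card_pos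
  have hmul := (L.subgroupOf B).card_mul_index
  refine ⟨Nat.finite_of_card_ne_zero ?_, ?_⟩
  · show Nat.card B ≠ 0
    rw [← hmul, hcard]
    exact mul_ne_zero hpos.ne' hidx.1
  · show Nat.card B ≤ T.n * Nat.card L
    rw [← hmul, hcard, mul_comm T.n]
    exact Nat.mul_le_mul_left _ hidx.2

/-- The relators used by the certificates, in the letters of x, y and z. -/
def allRels : List (List ℕ) := hRels ++ [[0, 0, 0, 0], [0, 1], [1, 0], [2, 3], [3, 2]]

theorem pair_rel (h : ∀ x < 5, s (ivT x) = (s x)⁻¹) {r : List ℕ}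
    (hr : r ∈ [[0, 1], [1, 0], [2, 3], [3, 2]]) : wprod s r = 1 := by
  have h0 := h 0 (by omega); have h1 := h 1 (by omega); have h2 := h 2 (by omega); have h3 := h 3 (by omega)
  simp only [List.mem_cons, List.not_mem_nil, or_false, ivT] at hr h0 h1 h2 h3
  rcases hr with rfl | rfl | rfl | rfl <;> simp [wprod, h0, h2]

theorem rels_pair_or {r : List ℕ} (hr : r ∈ allRels) :
    r ∈ hRels ∨ r = [0, 0, 0, 0] ∨ r ∈ [[0, 1], [1, 0], [2, 3], [3, 2]] := by
  simp only [allRels, List.mem_append, List.mem_cons] at hr ⊢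
  exact hr

theorem x_four (h : HLetters s) : wprod s [0, 0, 0, 0] = 1 := by
  have hsub : ∀ r ∈ X4.rels, r ∈ hRels ++ [[0, 1], [1, 0], [2, 3], [3, 2]] ∧ ∀ x ∈ r, x < 5 := by
    decide +kernel
  have hm := X4.mem (sr 5 s) ⊥ (good_sr le_rfl h.inv (by decide +kernel) (by decide))
    (fun r hr => by
      rw [wprod_sr s (hsub r hr).2]
      exact (List.mem_append.1 (hsub r hr).1).elim (h.rel r) (pair_rel h.inv))
    (fun r hr => absurd hr (by simp [X4.subs]))
  rw [Subgroup.mem_bot, wprod_sr s (by decide)] at hm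
  exact hm

theorem allRels_one (h : HLetters s) : ∀ r ∈ allRels, wprod s r = 1 := fun r hr => by
  rcases rels_pair_or hr with hr | rfl | hr
  exacts [h.rel r hr, x_four h, pair_rel h.inv hr]

/-- Two generators satisfying the relators of the table of 12600 points. -/
theorem two_gen_card_le {u : ℕ → K} (hg : CosetInv.Good T12600.cert u)
    (hR : ∀ r ∈ T12600.rels, wprod u r = 1) (hOut : ∀ x, 4 ≤ x → u x = 1) :
    Finite ↥(Subgroup.closure (u '' Set.Iio 4)) ∧ Nat.card ↥(Subgroup.closure (u '' Set.Iio 4)) ≤ 1512000 := by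
  let p : ℕ → K := fun x =>
    match x with
    | 0 => u 2 | 1 => u 3 | 2 => wprod u [0, 2, 2, 2, 1] | _ => 1
  have hu1 : u 1 = (u 0)⁻¹ := by rw [← hg.inv 0]; congr 1
  have hu3 : u 3 = (u 2)⁻¹ := by rw [← hg.inv 2]; congr 1
  have hgoal : ∀ (g : List ℕ), wprod u g ∈ (⊥ : Subgroup K) → wprod u g = 1 := fun g => Subgroup.mem_bot.1
  have hb2 : p 2 * p 2 = 1 := by
    have h6 := hR [2, 2, 2, 2, 2, 2] (by decide +kernel)
    simp only [wprod, List.map_cons, List.map_nil, List.prod_cons, List.prod_nil, mul_one] at h6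
    show wprod u [0, 2, 2, 2, 1] * wprod u [0, 2, 2, 2, 1] = 1
    simp only [wprod, List.map_cons, List.map_nil, List.prod_cons, List.prod_nil, hu1, mul_one]
    calc _ = u 0 * (u 2 * (u 2 * (u 2 * (u 2 * (u 2 * u 2))))) * (u 0)⁻¹ := by group
      _ = 1 := by rw [h6]; group
  have hp : CosetInv.Good CB.cert p := by
    refine ⟨rfl, fun x => ?_⟩
    rcases lt_or_ge x 3 with hx | hx
    · interval_cases x
      · show p 1 = (p 0)⁻¹
        exact hu3
      · show p 0 = (p 1)⁻¹
        show u 2 = (u 3)⁻¹
        rw [hu3, inv_inv]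
      · show p 2 = (p 2)⁻¹
        exact eq_inv_of_mul_eq_one_left hb2
    · have hiv : CB.cert.iv x = x := by
        rcases lt_or_ge x 16 with h16 | h16
        · have : ∀ x < 16, 3 ≤ x → CB.cert.iv x = x := by decide +kernel
          exact this x h16 hx
        · have : Nat.blt x 16 = false := by rw [Bool.eq_false_iff]; simp [Nat.blt]; omega
          simp [CosetInv.Cert.iv, this]
      have h1 : p x = 1 := by
        match x, hx with
        | n + 3, _ => rfl
      rw [hiv, h1, inv_one]
  have hsub : T12600.subs = [[2], [0, 2, 2, 2, 1]] := rfl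
  have hu : ∀ x, u x ∈ Subgroup.closure (u '' Set.Iio 4) := fun x => by
    rcases lt_or_ge x 4 with hx | hx
    · exact Subgroup.subset_closure ⟨x, hx, rfl⟩
    · rw [hOut x hx]; exact one_mem _
  have hpA : ∀ x, p x ∈ Subgroup.closure (u '' Set.Iio 4) := fun x => by
    match x with
    | 0 => exact hu 2
    | 1 => exact hu 3
    | 2 =>
      show wprod u _ ∈ _
      simp only [wprod, List.map_cons, List.map_nil, List.prod_cons, List.prod_nil, mul_one]
      exact mul_mem (hu 0) (mul_mem (hu 2) (mul_mem (hu 2) (mul_mem (hu 2) (hu 1))))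
    | n + 3 => exact one_mem _
  have hpR : ∀ r ∈ CB.rels, wprod p r = 1 := by
    have g1 := hgoal _ (PB1.mem u ⊥ ⟨hg.eps, hg.inv⟩ hR (fun r hr => absurd hr (by simp [PB1.subs])))
    have g2 := hgoal _ (PB2.mem u ⊥ ⟨hg.eps, hg.inv⟩ hR (fun r hr => absurd hr (by simp [PB2.subs])))
    have g3 := hgoal _ (PB3.mem u ⊥ ⟨hg.eps, hg.inv⟩ hR (fun r hr => absurd hr (by simp [PB3.subs])))
    have h6 := hR [2, 2, 2, 2, 2, 2] (by decide +kernel)
    simp only [PB1.goal, PB2.goal, PB3.goal, wprod, List.map_cons, List.map_nil, List.prod_cons,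
      List.prod_nil, mul_one] at g1 g2 g3 h6
    intro r hr
    simp only [CB.rels, List.mem_cons, List.not_mem_nil, or_false] at hr
    rcases hr with rfl | rfl | rfl | rfl | rfl | rfl | rfl <;>
      simp only [wprod, List.map_cons, List.map_nil, List.prod_cons, List.prod_nil, mul_one]
    · exact h6
    · exact hb2
    · simpa only [p, wprod, List.map_cons, List.map_nil, List.prod_cons, List.prod_nil, mul_one, mul_assoc] using g1
    · simpa only [p, wprod, List.map_cons, List.map_nil, List.prod_cons, List.prod_nil, mul_one, mul_assoc] using g2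
    · simpa only [p, wprod, List.map_cons, List.map_nil, List.prod_cons, List.prod_nil, mul_one, mul_assoc] using g3
    · show u 2 * u 3 = 1
      rw [hu3, mul_inv_cancel]
    · show u 3 * u 2 = 1
      rw [hu3, inv_mul_cancel]
  obtain ⟨hfp, hcp⟩ := step_card_le CB.covered hp hpR (⊥ : Subgroup K) bot_le
    (fun r hr => absurd hr (by simp [show CB.cert.subs = [] from rfl])) inferInstance
    (fun x hx => by
      have hx : 3 ≤ x := hx
      match x, hx with
      | n + 3, _ => rfl)
  obtain ⟨hfu, hcu⟩ := step_card_le (D := T12600.cert) T12600.covered hg hR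
    (Subgroup.closure (p '' Set.Iio CB.table.g))
    (by rw [Subgroup.closure_le]; rintro _ ⟨x, -, rfl⟩; exact hpA x)
    (fun r hr => by
      replace hr : r ∈ T12600.subs := hr
      simp only [hsub, List.mem_cons, List.not_mem_nil, or_false] at hr
      rcases hr with rfl | rfl
      · exact Subgroup.subset_closure ⟨0, by show (0 : ℕ) < 3; omega, by simp [p, wprod]⟩
      · exact Subgroup.subset_closure ⟨2, by show (2 : ℕ) < 3; omega, rfl⟩)
    hfp hOut
  refine ⟨hfu, hcu.trans ?_⟩
  refine (Nat.mul_le_mul_left _ hcp).trans ?_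
  rw [Subgroup.card_bot]
  decide +kernel

/-- The permutations of the table of 12600 points. -/
noncomputable def pPerm : ℕ → Equiv.Perm (Fin T12600.table.n) := CosetInv.permOf T12600.valid T12600.pairs

theorem pPerm_out {x : ℕ} (hx : 4 ≤ x) : pPerm x = 1 := by
  rw [pPerm, CosetInv.permOf, dif_neg]
  show ¬ x < 4
  omega

theorem pPerm_follow {L : List ℕ} (hL : ∀ x ∈ L, x < 4) (i : Fin T12600.table.n) :
    ((wprod pPerm L)⁻¹ i : Fin T12600.table.n).val = T12600.table.follow L i :=
  (CosetInv.follow_eq T12600.valid T12600.pairs L hL i).symm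

theorem pPerm_rel : ∀ r ∈ T12600.rels, wprod pPerm r = 1 := fun r hr => by
  have h : ∀ r ∈ T12600.rels, r ∈ T12600.validW ∧ ∀ x ∈ r, x < 4 := by decide +kernel
  exact CosetInv.wprod_permOf_eq_one T12600.valid T12600.pairs (h r hr).1 (h r hr).2

theorem pPerm_good : CosetInv.Good T12600.cert pPerm where
  eps := pPerm_out (by omega)
  inv x := by
    rcases lt_or_ge x 4 with hx | hx
    · exact CosetInv.permOf_inv T12600.valid T12600.pairs hx
    · have hiv : T12600.cert.iv x = x := by
        rcases lt_or_ge x 16 with h16 | h16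
        · have : ∀ x < 16, 5 ≤ x → T12600.cert.iv x = x := by decide +kernel
          rcases eq_or_lt_of_le hx with rfl | h5
          · decide +kernel
          · exact this x h16 h5
        · have : Nat.blt x 16 = false := by rw [Bool.eq_false_iff]; simp [Nat.blt]; omega
          simp [CosetInv.Cert.iv, this]
      rw [hiv, pPerm_out hx, inv_one]

/-- The group of the permutations. -/
noncomputable def pGrp : Subgroup (Equiv.Perm (Fin T12600.table.n)) :=
  Subgroup.closure (pPerm '' Set.Iio 4)

theorem wprod_mem_pGrp (L : List ℕ) : wprod pPerm L ∈ pGrp := by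
  induction L with
  | nil => exact one_mem _
  | cons a L ih =>
    refine mul_mem ?_ ih
    rcases lt_or_ge a 4 with ha | ha
    · exact Subgroup.subset_closure ⟨a, ha, rfl⟩
    · rw [pPerm_out ha]; exact one_mem _

/-- The base points. -/
noncomputable def pt0 : Fin T12600.table.n := ⟨0, by decide +kernel⟩
/-- The second base point. -/
noncomputable def pt1 : Fin T12600.table.n := ⟨2202, by decide +kernel⟩

theorem stab_le_card : 12600 * Nat.card ↥(pGrp ⊓ MulAction.stabilizer (Equiv.Perm (Fin T12600.table.n)) pt0) ≤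
    Nat.card pGrp := by
  refine Table.card_ge_step (T := T12600.table) rfl ?_ (S := [[0], [1], [2], [3]]) ?_ (by omega)
    (pts := T12600.orbPts) (pos := T12600.orbPos) (par := T12600.orbPar) ?_ pt0 T12600.orb_root.symm le_rfl
  · intro x hx
    refine ⟨(pPerm x)⁻¹, inv_mem (Subgroup.subset_closure ⟨x, hx, rfl⟩), fun i => ?_⟩
    exact (CosetInv.permOf_symm_apply T12600.valid T12600.pairs hx i).symm
  · show ∀ L ∈ [[0], [1], [2], [3]], ∀ x ∈ L, x < 4
    decide
  · exact T12600.orb_ok

theorem stabWords_ok : stabWords.length = 120 ∧ (∀ L ∈ stabWords, ∀ x ∈ L, x < 4) ∧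
    (∀ L ∈ stabWords, T12600.table.follow L 0 = 0) ∧
    (stabWords.map fun L => T12600.table.follow L 2202).Nodup ∧ stabWords.getD 0 [0] = [] := by
  decide +kernel

/-- An element of the stabiliser for each word. -/
noncomputable def stabElt (k : Fin 120) :
    ↥(pGrp ⊓ MulAction.stabilizer (Equiv.Perm (Fin T12600.table.n)) pt0) :=
  ⟨(wprod pPerm (stabWords[k.val]'(stabWords_ok.1.symm ▸ k.2)))⁻¹, Subgroup.inv_mem pGrp (wprod_mem_pGrp _), by
    show (wprod pPerm _)⁻¹ • pt0 = pt0
    refine Fin.ext ?_
    rw [Equiv.Perm.smul_def, pPerm_follow (stabWords_ok.2.1 _ (List.getElem_mem _))]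
    exact stabWords_ok.2.2.1 _ (List.getElem_mem _)⟩

theorem stabElt_pt1 (k : Fin 120) : ((stabElt k).1 pt1).val =
    (stabWords.map fun L => T12600.table.follow L 2202)[k.val]'(by simp [stabWords_ok.1]) := by
  rw [List.getElem_map]
  exact pPerm_follow (stabWords_ok.2.1 _ (List.getElem_mem _)) pt1

theorem stabElt_inj : Function.Injective stabElt := fun a b e => by
  have h : ((stabElt a).1 pt1).val = ((stabElt b).1 pt1).val := by rw [e]
  rw [stabElt_pt1, stabElt_pt1] at h
  exact Fin.ext (stabWords_ok.2.2.2.1.getElem_inj_iff.1 h)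

theorem pGrp_card : Nat.card pGrp = 1512000 := by
  refine le_antisymm (two_gen_card_le pPerm_good pPerm_rel fun x hx => pPerm_out hx).2 ?_
  refine le_trans ?_ stab_le_card
  have := Nat.card_le_card_of_injective _ stabElt_inj
  rw [Nat.card_fin] at this
  omega

/-- An element fixing the two base points is trivial. -/
theorem pGrp_eq_one {p : Equiv.Perm (Fin T12600.table.n)} (hp : p ∈ pGrp) (h0 : p pt0 = pt0)
    (h1 : p pt1 = pt1) : p = 1 := by
  have hc : Nat.card ↥(pGrp ⊓ MulAction.stabilizer (Equiv.Perm (Fin T12600.table.n)) pt0) ≤ 120 := by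
    have := stab_le_card
    rw [pGrp_card] at this
    omega
  have hbij : Function.Bijective stabElt :=
    stabElt_inj.bijective_of_nat_card_le (hc.trans (le_of_eq (Nat.card_fin 120).symm))
  obtain ⟨k, hk⟩ := hbij.2 ⟨p, hp, h0⟩
  have hk1 : (stabElt k).1 = p := congrArg Subtype.val hk
  have e := stabElt_pt1 k
  rw [hk1, h1] at e
  have hlen : 0 < stabWords.length := by rw [stabWords_ok.1]; omega
  have hnil : stabWords[0] = [] := by
    rw [← List.getD_eq_getElem _ [0] hlen]; exact stabWords_ok.2.2.2.2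
  have hk0 : k.val = 0 := by
    have hL : k.val < (stabWords.map fun L => T12600.table.follow L 2202).length := by
      simp [stabWords_ok.1]
    have h0L : 0 < (stabWords.map fun L => T12600.table.follow L 2202).length := by
      simp [stabWords_ok.1]
    refine (stabWords_ok.2.2.2.1.getElem_inj_iff (hi := hL) (hj := h0L)).1 ?_
    rw [← e, List.getElem_map, hnil]
    rfl
  rw [← hk1]
  show (wprod pPerm stabWords[k.val])⁻¹ = 1
  simp only [hk0, hnil]
  simp [wprod]

theorem pPerm_eq_one {L : List ℕ} (hL : ∀ x ∈ L, x < 4)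
    (h : T12600.table.follow L 0 = 0 ∧ T12600.table.follow L 2202 = 2202) : wprod pPerm L = 1 := by
  rw [← inv_eq_one]
  exact pGrp_eq_one (inv_mem (wprod_mem_pGrp L)) (Fin.ext (by rw [pPerm_follow hL]; exact h.1))
    (Fin.ext (by rw [pPerm_follow hL]; exact h.2))

/-- Letters of the group and of the permutations side by side. -/
noncomputable def pairLetters (s : ℕ → K) (x : ℕ) : K × Equiv.Perm (Fin T12600.table.n) :=
  (sr 4 s x, pPerm x)

theorem wprod_pairLetters (s : ℕ → K) (L : List ℕ) :
    wprod (pairLetters s) L = (wprod (sr 4 s) L, wprod pPerm L) := by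
  induction L with
  | nil => rfl
  | cons a L ih =>
    show pairLetters s a * wprod (pairLetters s) L = _
    rw [ih]; rfl

/-- The product group. -/
noncomputable def dGrp (s : ℕ → K) : Subgroup (K × Equiv.Perm (Fin T12600.table.n)) :=
  Subgroup.closure (pairLetters s '' Set.Iio 4)

theorem wprod_mem_dGrp {L : List ℕ} (hL : ∀ x ∈ L, x < 4) : wprod (pairLetters s) L ∈ dGrp s := by
  induction L with
  | nil => exact one_mem _
  | cons a L ih =>
    obtain ⟨ha, hL⟩ := List.forall_mem_cons.1 hL
    exact mul_mem (Subgroup.subset_closure ⟨a, ha, rfl⟩) (ih hL)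

theorem dGrp_card_le (h : HLetters s) : Finite (dGrp s) ∧ Nat.card (dGrp s) ≤ 1512000 := by
  have hg := good_sr (D := T12600.cert) (g := 4) (by omega) h.inv (by decide +kernel) (by decide)
  refine two_gen_card_le ⟨Prod.ext hg.eps pPerm_good.eps, fun x => Prod.ext (hg.inv x) (pPerm_good.inv x)⟩ ?_
    fun x hx => Prod.ext (by simp [pairLetters, sr, show ¬ x < 4 by omega]) (pPerm_out hx)
  intro r hr
  have hsub : ∀ r ∈ T12600.rels, r ∈ allRels ∧ ∀ x ∈ r, x < 4 := by decide +kernel
  rw [wprod_pairLetters, pPerm_rel r hr, wprod_sr s (hsub r hr).2, allRels_one h r (hsub r hr).1]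
  rfl

/-- The projection to the permutations is injective. -/
theorem dGrp_snd_inj (h : HLetters s) {d : K × Equiv.Perm (Fin T12600.table.n)} (hd : d ∈ dGrp s)
    (h2 : d.2 = 1) : d = 1 := by
  obtain ⟨hfin, hcard⟩ := dGrp_card_le h
  let q : dGrp s →* Equiv.Perm (Fin T12600.table.n) := (MonoidHom.snd K _).comp (dGrp s).subtype
  have hr : q.range = pGrp := by
    rw [MonoidHom.range_comp, Subgroup.range_subtype, dGrp, MonoidHom.map_closure, ← Set.image_comp]
    rfl
  have hm := q.ker.card_mul_index
  rw [Subgroup.index_ker, hr, pGrp_card] at hm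
  have hk : Nat.card q.ker ≤ 1 := by
    by_contra hne
    have : 2 * 1512000 ≤ Nat.card q.ker * 1512000 := Nat.mul_le_mul_right _ (by omega)
    rw [hm] at this
    omega
  have := (Finite.card_le_one_iff_subsingleton.1 hk).elim (⟨⟨d, hd⟩, h2⟩ : q.ker) ⟨1, one_mem _⟩
  simpa [Subtype.ext_iff] using this

/-- A word acting trivially on the points is trivial in the group. -/
theorem word_eq_one (h : HLetters s) {L : List ℕ} (hL : ∀ x ∈ L, x < 4)
    (hf : T12600.table.follow L 0 = 0 ∧ T12600.table.follow L 2202 = 2202) : wprod s L = 1 := by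
  have e := dGrp_snd_inj h (wprod_mem_dGrp (s := s) hL) (by rw [wprod_pairLetters]; exact pPerm_eq_one hL hf)
  rw [wprod_pairLetters] at e
  have := congrArg Prod.fst e
  rwa [wprod_sr s hL] at this

/-- Words in the two elements x and v, as words in the letters. -/
def cl (E : List (List ℕ)) (q : List ℕ) : List ℕ := (q.map fun a => E.getD a []).flatten

/-- x and v. -/
def E0 : List (List ℕ) := [[0], [2, 0, 2, 0, 2, 2, 0, 3]]
/-- Their conjugates under z. -/
def E1 : List (List ℕ) := [[1], [2, 0, 2, 0, 2, 2, 0, 3, 0, 0]]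
/-- The conjugating word. -/
def cw : List ℕ := [2, 2, 2, 0, 2, 0, 2]
/-- The inverse of a word. -/
def winv (L : List ℕ) : List ℕ := (L.map ivT).reverse
/-- The first word of the chain. -/
def chain0 : List ℕ := cl E0 chainA
/-- The next word. -/
def chainNext (q : List ℕ) : List ℕ := [1] ++ winv cw ++ cl E1 q ++ cw ++ [0]
/-- The claim of a step. -/
def chainId (cur q : List ℕ) : List ℕ := cw ++ cur ++ winv cw ++ winv (cl E0 q)
/-- The element of order three. -/
def chainD : List ℕ := cl E1 chainF ++ winv chain0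

/-- The words that must act trivially. -/
def chainIds : List (List ℕ) :=
  [chainId chain0 chainQ0, chainId (chainNext chainQ0) chainQ1, chainId (chainNext chainQ1) chainQ2,
    chainNext chainQ2 ++ winv (cl E0 chainF), chainD ++ chainD ++ chainD]

theorem chainIds_ok : ∀ L ∈ chainIds, (∀ x ∈ L, x < 4) ∧
    T12600.table.follow L 0 = 0 ∧ T12600.table.follow L 2202 = 2202 := by decide +kernel

theorem chainD_moves : T12600.table.follow chainD 0 ≠ 0 ∨ T12600.table.follow chainD 2202 ≠ 2202 := by
  decide +kernel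

theorem cl_conj (h : HLetters s) : ∀ q : List ℕ, (∀ a ∈ q, a < 2) →
    s 4 * wprod s (cl E0 q) * s 4 = wprod s (cl E1 q) := by
  have hz : (s 4)⁻¹ = s 4 := (h.inv 4 (by omega)).symm
  intro q
  induction q with
  | nil => intro _; show s 4 * 1 * s 4 = 1; rw [mul_one]; nth_rewrite 1 [← hz]; exact inv_mul_cancel _
  | cons a q ih =>
    intro hq
    obtain ⟨ha, hq⟩ := List.forall_mem_cons.1 hq
    have hcons : ∀ E : List (List ℕ), cl E (a :: q) = E.getD a [] ++ cl E q := fun E => rfl
    rw [hcons, hcons, wprod_append, wprod_append, ← ih hq]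
    have base : s 4 * wprod s (E0.getD a []) * s 4 = wprod s (E1.getD a []) := by
      interval_cases a
      · have e := h.rel [4, 0, 4, 0] (by decide +kernel)
        simp only [wprod, List.map_cons, List.map_nil, List.prod_cons, List.prod_nil, mul_one] at e
        show s 4 * wprod s [0] * s 4 = wprod s [1]
        simp only [wprod, List.map_cons, List.map_nil, List.prod_cons, List.prod_nil, mul_one]
        rw [show s 1 = (s 0)⁻¹ from h.inv 0 (by omega)]
        exact eq_inv_of_mul_eq_one_left (by simpa [mul_assoc] using e)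
      · have e := h.rel ([4] ++ winv [2, 0, 2, 0, 2, 2, 0, 3] ++ [4] ++ [2, 0, 2, 0, 2, 2, 0, 3] ++ [1, 1])
          (by decide +kernel)
        have e4 := x_four h
        show s 4 * wprod s [2, 0, 2, 0, 2, 2, 0, 3] * s 4 = wprod s ([2, 0, 2, 0, 2, 2, 0, 3] ++ [0, 0])
        simp only [wprod_append, winv, wprod_inv_word h.inv [2, 0, 2, 0, 2, 2, 0, 3] (by decide)] at e ⊢
        generalize wprod s [2, 0, 2, 0, 2, 2, 0, 3] = V at e ⊢
        simp only [wprod, List.map_cons, List.map_nil, List.prod_cons, List.prod_nil, mul_one] at e e4 ⊢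
        rw [show s 1 = (s 0)⁻¹ from h.inv 0 (by omega)] at e
        generalize s 4 = Z at e hz ⊢
        generalize s 0 = X at e e4 ⊢
        have e' : Z * V⁻¹ * Z = X * X * V⁻¹ := by
          calc Z * V⁻¹ * Z = Z * V⁻¹ * Z * V * (X⁻¹ * X⁻¹) * (X * X * V⁻¹) := by group
            _ = X * X * V⁻¹ := by rw [e, one_mul]
        have e'' := congrArg (·⁻¹) e'
        simp only [mul_inv_rev, inv_inv, hz] at e''
        have hx2 : X⁻¹ * X⁻¹ = X * X := by
          calc X⁻¹ * X⁻¹ = X⁻¹ * X⁻¹ * (X * (X * (X * X))) := by rw [e4, mul_one]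
            _ = X * X := by simp only [mul_assoc]; group
        rw [mul_assoc, e'', hx2]
    calc s 4 * (wprod s (E0.getD a []) * wprod s (cl E0 q)) * s 4
        = s 4 * wprod s (E0.getD a []) * ((s 4)⁻¹⁻¹ * (s 4)⁻¹) * wprod s (cl E0 q) * s 4 := by group
      _ = _ := by rw [inv_inv, hz, ← base]; simp only [mul_assoc]

theorem chain_d (h : HLetters s) : wprod s chainD = 1 := by
  have hz : (s 4)⁻¹ = s 4 := (h.inv 4 (by omega)).symm
  have hzz : s 4 * s 4 = 1 := by nth_rewrite 1 [← hz]; exact inv_mul_cancel _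
  have hw : ∀ L : List ℕ, (∀ x ∈ L, x < 5) → wprod s (winv L) = (wprod s L)⁻¹ := wprod_inv_word h.inv
  have hid : ∀ L ∈ chainIds, wprod s L = 1 := fun L hL =>
    word_eq_one h (chainIds_ok L hL).1 (chainIds_ok L hL).2
  let M := (wprod s cw)⁻¹ * s 4 * wprod s cw * s 0
  have hM : s 4 * (M * M * M) = 1 := by
    have e := h.rel ([4] ++ (winv cw ++ [4] ++ cw ++ [0]) ++ (winv cw ++ [4] ++ cw ++ [0]) ++
      (winv cw ++ [4] ++ cw ++ [0])) (by decide +kernel)
    simp only [wprod_append, hw cw (by decide)] at e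
    simp only [wprod, List.map_cons, List.map_nil, List.prod_cons, List.prod_nil, mul_one] at e
    simpa [M, wprod, mul_assoc] using e
  have step : ∀ cur q : List ℕ, chainId cur q ∈ chainIds → (∀ a ∈ q, a < 2) → (∀ x ∈ cl E0 q, x < 5) →
      wprod s (chainNext q) = M⁻¹ * wprod s cur * M := by
    intro cur q hm hq hlt
    have e := hid _ hm
    simp only [chainId, wprod_append, hw cw (by decide), hw _ hlt] at e
    have e2 := mul_inv_eq_one.1 e
    simp only [chainNext, wprod_append, hw cw (by decide), ← cl_conj h q hq, ← e2]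
    simp only [wprod, List.map_cons, List.map_nil, List.prod_cons, List.prod_nil, mul_one, M,
      mul_inv_rev, inv_inv, show s 1 = (s 0)⁻¹ from h.inv 0 (by omega)]
    generalize (List.map s cw).prod = W
    generalize (List.map s cur).prod = C
    simp only [hz, mul_assoc]
  have e1 := step chain0 chainQ0 (by simp [chainIds]) (by decide) (by decide +kernel)
  have e2 := step (chainNext chainQ0) chainQ1 (by simp [chainIds]) (by decide) (by decide +kernel)
  have e3 := step (chainNext chainQ1) chainQ2 (by simp [chainIds]) (by decide) (by decide +kernel)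
  have e4 := hid (chainNext chainQ2 ++ winv (cl E0 chainF)) (by simp [chainIds])
  rw [wprod_append, hw _ (by decide +kernel), mul_inv_eq_one, e3, e2, e1] at e4
  have hM3 : M * M * M = s 4 := by rw [← hz]; exact eq_inv_of_mul_eq_one_right hM
  have e5 : wprod s (cl E1 chainF) = wprod s chain0 := by
    rw [← cl_conj h chainF (by decide), ← e4]
    calc s 4 * (M⁻¹ * (M⁻¹ * (M⁻¹ * wprod s chain0 * M) * M) * M) * s 4
        = s 4 * ((M * M * M)⁻¹ * wprod s chain0 * (M * M * M)) * s 4 := by group
      _ = (s 4 * s 4) * wprod s chain0 * (s 4 * s 4) := by rw [hM3, hz]; simp only [mul_assoc]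
      _ = _ := by rw [hzz, one_mul, mul_one]
  rw [chainD, wprod_append, hw _ (by decide +kernel), e5, mul_inv_cancel]

theorem card_xy_le (h : HLetters s) : Finite ↥(Subgroup.closure (sr 4 s '' Set.Iio 4)) ∧
    Nat.card ↥(Subgroup.closure (sr 4 s '' Set.Iio 4)) ≤ 504000 := by
  obtain ⟨hfin, hcard⟩ := dGrp_card_le h
  have hlt : ∀ x ∈ chainD, x < 4 := by decide +kernel
  let q : dGrp s →* K := (MonoidHom.fst K _).comp (dGrp s).subtype
  have hr : q.range = Subgroup.closure (sr 4 s '' Set.Iio 4) := by
    rw [MonoidHom.range_comp, Subgroup.range_subtype, dGrp, MonoidHom.map_closure, ← Set.image_comp]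
    rfl
  let d : dGrp s := ⟨wprod (pairLetters s) chainD, wprod_mem_dGrp hlt⟩
  have hd1 : d ∈ q.ker := by
    show (wprod (pairLetters s) chainD).1 = 1
    rw [wprod_pairLetters, wprod_sr s hlt]; exact chain_d h
  have hdne : d ≠ 1 := fun e => by
    have e2 : wprod pPerm chainD = 1 := by
      have := congrArg (fun z : dGrp s => z.1.2) e
      simpa [d, wprod_pairLetters] using this
    rcases chainD_moves with hm | hm
    · exact hm (by rw [show (0 : ℕ) = pt0.val from rfl, ← pPerm_follow hlt, e2]; simp)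
    · exact hm (by rw [show (2202 : ℕ) = pt1.val from rfl, ← pPerm_follow hlt, e2]; simp)
  have hd3 : d ^ 3 = 1 := by
    have hmem : chainD ++ chainD ++ chainD ∈ chainIds := by simp [chainIds]
    obtain ⟨hl, hf⟩ := chainIds_ok _ hmem
    refine Subtype.ext (dGrp_snd_inj h (d ^ 3).2 ?_)
    have e := pPerm_eq_one hl hf
    rw [wprod_append, wprod_append] at e
    simpa [d, pow_succ, wprod_pairLetters, mul_assoc] using e
  have h3 : 3 ∣ Nat.card q.ker := by
    have : Fact (Nat.Prime 3) := ⟨Nat.prime_three⟩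
    have ho : orderOf (⟨d, hd1⟩ : q.ker) = 3 :=
      orderOf_eq_prime (Subtype.ext hd3) fun e => hdne (congrArg Subtype.val e)
    exact ho ▸ orderOf_dvd_natCard _
  have hpos : 0 < Nat.card q.ker := Nat.card_pos
  have hm := q.ker.card_mul_index
  rw [Subgroup.index_ker, hr] at hm
  refine ⟨?_, ?_⟩
  · refine Nat.finite_of_card_ne_zero fun e => ?_
    rw [e, mul_zero] at hm
    exact Nat.card_pos.ne hm
  · have := Nat.mul_le_mul_right (Nat.card ↥(Subgroup.closure (sr 4 s '' Set.Iio 4))) (Nat.le_of_dvd hpos h3)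
    rw [hm] at this
    omega

/-- **The bound**: a group satisfying the ten relators has order at most 177408000. -/
theorem card_H_le (h : HLetters s) : Finite ↥(Subgroup.closure (s '' {0, 2, 4})) ∧
    Nat.card ↥(Subgroup.closure (s '' {0, 2, 4})) ≤ 177408000 := by
  obtain ⟨hfA, hA⟩ := card_xy_le h
  have hsub : ∀ r ∈ T352.rels, r ∈ allRels ∧ ∀ x ∈ r, x < 5 := by decide +kernel
  have heq : Subgroup.closure (sr 5 s '' Set.Iio 5) = Subgroup.closure (s '' {0, 2, 4}) := by
    apply le_antisymm
    · rw [Subgroup.closure_le]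
      rintro _ ⟨x, hx, rfl⟩
      have hx : x < 5 := hx
      have m : ∀ y ∈ ({0, 2, 4} : Set ℕ), s y ∈ Subgroup.closure (s '' {0, 2, 4}) :=
        fun y hy => Subgroup.subset_closure ⟨y, hy, rfl⟩
      rw [SetLike.mem_coe, sr, if_pos hx]
      interval_cases x
      · exact m 0 (by simp)
      · rw [show s 1 = (s 0)⁻¹ from h.inv 0 (by omega)]; exact inv_mem (m 0 (by simp))
      · exact m 2 (by simp)
      · rw [show s 3 = (s 2)⁻¹ from h.inv 2 (by omega)]; exact inv_mem (m 2 (by simp))
      · exact m 4 (by simp)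
    · rw [Subgroup.closure_le]
      rintro _ ⟨x, hx, rfl⟩
      simp only [Set.mem_insert_iff, Set.mem_singleton_iff] at hx
      refine Subgroup.subset_closure ⟨x, show x < 5 by omega, ?_⟩
      simp [sr, show x < 5 by omega]
  have hle : Subgroup.closure (sr 4 s '' Set.Iio 4) ≤ Subgroup.closure (sr 5 s '' Set.Iio 5) := by
    refine Subgroup.closure_mono ?_
    rintro _ ⟨x, hx, rfl⟩
    have hx : x < 4 := hx
    exact ⟨x, show x < 5 by omega, by simp [sr, hx, show x < 5 by omega]⟩
  obtain ⟨hf, hc⟩ := step_card_le T352.covered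
    (good_sr (D := T352.cert) (g := 5) le_rfl h.inv (by decide +kernel) (by decide))
    (fun r hr => by rw [wprod_sr s (hsub r hr).2, allRels_one h r (hsub r hr).1]) _ hle
    (fun r hr => by
      replace hr : r ∈ T352.subs := hr
      simp only [T352.subs, List.mem_cons, List.not_mem_nil, or_false] at hr
      rcases hr with rfl | rfl
      · exact Subgroup.subset_closure ⟨0, by show (0 : ℕ) < 4; omega, by simp [wprod, sr]⟩
      · exact Subgroup.subset_closure ⟨2, by show (2 : ℕ) < 4; omega, by simp [wprod, sr]⟩)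
    hfA (fun x hx => by
      have hx : 5 ≤ x := hx
      simp [sr, show ¬ x < 5 by omega])
  rw [← heq]
  refine ⟨hf, hc.trans ?_⟩
  show 352 * _ ≤ _
  omega

end CfsgLib.InvChar.SporHN
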