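import Cfsg.Agent.Lib.InvChar.SporHNListing
import Cfsg.Agent.Lib.InvChar.SporHNBound
import Cfsg.Agent.Lib.InvChar.SporData.HN.Small
import Cfsg.Agent.Lib.InvChar.SporData.HN.ModelData
import Cfsg.Agent.Lib.InvChar.SporData.HN.Orbits
import Cfsg.Agent.Lib.InvChar.SporData.HN.KLists

/-!
# ⟨x, y, z⟩ as a group of permutations of 1408 points
-/

set_option autoImplicit false
set_option maxRecDepth 100000

namespace CfsgLib.InvChar.SporHN

open CfsgLib.InvChar.Coset
open CfsgLib.KnownA

theorem small_valid : small.Valid smallW where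
  range := fun i hi => (small.chkPoints_get smallW 1408 0 small_chk i (Nat.zero_le _)
    (lt_of_lt_of_le hi (Nat.le_add_left _ _))).1
  points := fun i hi => (small.chkPoints_get smallW 1408 0 small_chk i (Nat.zero_le _)
    (lt_of_lt_of_le hi (Nat.le_add_left _ _))).2

theorem small_pairs : CosetInv.Pairs small smallW ivT := ⟨by decide +kernel, by decide +kernel, by decide +kernel⟩

/-- The permutation of a letter. -/
noncomputable def sPerm : ℕ → Equiv.Perm (Fin small.n) := CosetInv.permOf small_valid small_pairs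

theorem sPerm_follow {L : List ℕ} (hL : ∀ x ∈ L, x < 5) (i : Fin small.n) :
    ((wprod sPerm L)⁻¹ i : Fin small.n).val = small.follow L i :=
  (CosetInv.follow_eq small_valid small_pairs L hL i).symm

theorem sPerm_out {x : ℕ} (hx : 5 ≤ x) : sPerm x = 1 := by
  rw [sPerm, CosetInv.permOf, dif_neg]
  show ¬ x < 5
  omega

theorem hLetters_sPerm : HLetters sPerm where
  inv x hx := CosetInv.permOf_inv small_valid small_pairs hx
  rel r hr := by
    have h : ∀ r ∈ hRels, r ∈ smallW ∧ ∀ x ∈ r, x < 5 := by decide +kernel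
    exact CosetInv.wprod_permOf_eq_one small_valid small_pairs (h r hr).1 (h r hr).2

/-- The group of permutations. -/
noncomputable def HP : Subgroup (Equiv.Perm (Fin small.n)) := Subgroup.closure (sPerm '' {0, 2, 4})

theorem sPerm_mem (x : ℕ) : sPerm x ∈ HP := by
  have m : ∀ y ∈ ({0, 2, 4} : Set ℕ), sPerm y ∈ HP := fun y hy => Subgroup.subset_closure ⟨y, hy, rfl⟩
  rcases lt_or_ge x 5 with hx | hx
  · interval_cases x
    · exact m 0 (by simp)
    · rw [show sPerm 1 = (sPerm 0)⁻¹ from hLetters_sPerm.inv 0 (by omega)]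
      exact Subgroup.inv_mem _ (m 0 (by simp))
    · exact m 2 (by simp)
    · rw [show sPerm 3 = (sPerm 2)⁻¹ from hLetters_sPerm.inv 2 (by omega)]
      exact Subgroup.inv_mem _ (m 2 (by simp))
    · exact m 4 (by simp)
  · rw [sPerm_out hx]; exact one_mem _

/-- The letters in the group of permutations. -/
noncomputable def hs (x : ℕ) : HP := ⟨sPerm x, sPerm_mem x⟩

theorem coe_wprod_hs (L : List ℕ) : ((wprod hs L : HP) : Equiv.Perm (Fin small.n)) = wprod sPerm L := by
  induction L with
  | nil => rfl
  | cons a L ih =>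
    show ((hs a * wprod hs L : HP) : Equiv.Perm (Fin small.n)) = sPerm a * wprod sPerm L
    rw [Subgroup.coe_mul, ih]; rfl

theorem hLetters_hs : HLetters hs where
  inv x hx := Subtype.ext (hLetters_sPerm.inv x hx)
  rel r hr := Subtype.ext (by rw [coe_wprod_hs]; exact hLetters_sPerm.rel r hr)

theorem hs_follow {L : List ℕ} (hL : ∀ x ∈ L, x < 5) (i : Fin small.n) :
    (((wprod hs L)⁻¹ : HP).1 i).val = small.follow L i := by
  rw [Subgroup.coe_inv, coe_wprod_hs]
  exact sPerm_follow hL i

theorem hs_closure : Subgroup.closure (hs '' {0, 2, 4}) = ⊤ := by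
  refine Subgroup.map_injective HP.subtype_injective ?_
  rw [MonoidHom.map_closure, ← MonoidHom.range_eq_map, Subgroup.range_subtype, ← Set.image_comp]
  rfl

theorem HP_card_le : Nat.card HP ≤ 177408000 := (card_H_le hLetters_sPerm).2

/-- A base point. -/
noncomputable def bp (p : ℕ) (hp : p < 1408 := by decide) : Fin small.n := ⟨p, hp⟩

/-- The packed images of the four base points. -/
noncomputable def img (g : HP) : ℕ :=
  pack4 ((g⁻¹ : HP).1 (bp 0)).val ((g⁻¹ : HP).1 (bp 904)).val ((g⁻¹ : HP).1 (bp 829)).val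
    ((g⁻¹ : HP).1 (bp 621)).val

/-- The packed base. -/
noncomputable def img0 : ℕ := pack4 0 904 829 621

theorem img_one : img 1 = img0 := by simp [img, img0, bp]

theorem img_mul {L : List ℕ} (hL : ∀ x ∈ L, x < 5) (g : HP) : img (g * wprod hs L) = step4 small L (img g) := by
  have e : ∀ i : Fin small.n, (((g * wprod hs L)⁻¹ : HP).1 i).val = small.follow L ((g⁻¹ : HP).1 i).val := fun i => by
    rw [mul_inv_rev, Subgroup.coe_mul, Equiv.Perm.mul_apply]
    exact hs_follow hL _
  have lt : ∀ i : Fin small.n, ((g⁻¹ : HP).1 i).val < 2048 := fun i =>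
    lt_trans ((g⁻¹ : HP).1 i).2 (show small.n < 2048 by decide +kernel)
  rw [img, img, step4_pack4 _ _ (lt _) (lt _) (lt _), e, e, e, e]

theorem img_wprod {L : List ℕ} (hL : ∀ x ∈ L, x < 5) : img (wprod hs L) = step4 small L img0 := by
  rw [← img_one, ← img_mul hL, one_mul]

/-- The generators of the stabiliser of the base of orbit `i`. -/
def gensI (i : ℕ) : List (List ℕ) := gensL.getD i []
/-- The generators of orbit `i` as letters. -/
noncomputable def derT (i : ℕ) : Table := derTabs.getD i small
/-- The listing of orbit `i`. -/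
noncomputable def kList (i : ℕ) : Listing := kLists.getD i kList1
/-- A word in the generators of orbit `i` as a word in the letters. -/
def expand (i : ℕ) (U : List ℕ) : List ℕ := (U.map fun e => (gensI i).getD e []).flatten
/-- The stabiliser of the base of orbit `i`. -/
noncomputable def Ki (i : ℕ) : Subgroup HP := Subgroup.closure (wprod hs '' {L | L ∈ gensI i})

/-- The tests on the derived letters. -/
noncomputable def chkDer (i : ℕ) : Bool :=
  small.chkDerived (derT i) (gensI i) 1408 0 && Nat.beq (derT i).g (gensI i).length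

theorem chkDer_all : ∀ i < 9, chkDer i = true := by decide +kernel

theorem gensI_lt : ∀ i < 9, ∀ L ∈ gensI i, ∀ x ∈ L, x < 5 := by decide +kernel

theorem expand_lt (i : ℕ) (hi : i < 9) (U : List ℕ) : ∀ x ∈ expand i U, x < 5 := by
  intro x hx
  simp only [expand, List.mem_flatten, List.mem_map] at hx
  obtain ⟨L, ⟨e, -, rfl⟩, hxL⟩ := hx
  rcases lt_or_ge e (gensI i).length with he | he
  · rw [List.getD_eq_getElem _ _ he] at hxL
    exact gensI_lt i hi _ (List.getElem_mem he) x hxL
  · rw [List.getD_eq_default _ _ he] at hxL; simp at hxL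

theorem expand_mem (i : ℕ) (U : List ℕ) : wprod hs (expand i U) ∈ Ki i := by
  induction U with
  | nil => exact one_mem _
  | cons e U ih =>
    show wprod hs ((gensI i).getD e [] ++ expand i U) ∈ _
    rw [wprod_append]
    refine mul_mem ?_ ih
    rcases lt_or_ge e (gensI i).length with he | he
    · rw [List.getD_eq_getElem _ _ he]
      exact Subgroup.subset_closure ⟨_, List.getElem_mem he, rfl⟩
    · rw [List.getD_eq_default _ _ he]; exact one_mem _

theorem derT_follow {i : ℕ} (hi : i < 9) : ∀ (U : List ℕ), (∀ e ∈ U, e < (gensI i).length) →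
    ∀ p : Fin small.n, (derT i).follow U p = small.follow (expand i U) p := by
  intro U
  induction U with
  | nil => intro _ p; rfl
  | cons e U ih =>
    intro hU p
    obtain ⟨he, hU⟩ := List.forall_mem_cons.1 hU
    have h := chkDer_all i hi
    rw [chkDer, Bool.and_eq_true] at h
    have h1 := small.chkDerived_get (derT i) (gensI i) 1408 0 h.1 p (Nat.zero_le _)
      (lt_of_lt_of_le p.2 (show small.n ≤ 0 + 1408 by decide +kernel)) e he
    show force ((derT i).app p e) ((derT i).follow U) = small.follow ((gensI i).getD e [] ++ expand i U) p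
    rw [force_eq, small.follow_append, List.getD_eq_getElem _ _ he, h1]
    have hb : ∀ x ∈ (gensI i)[e], x < 5 := gensI_lt i hi _ (List.getElem_mem he)
    rw [← hs_follow hb p]
    exact ih hU _

theorem img_mul_der {i : ℕ} (hi : i < 9) {U : List ℕ} (hU : ∀ e ∈ U, e < (gensI i).length) (g : HP) :
    img (g * wprod hs (expand i U)) = step4 (derT i) U (img g) := by
  rw [img_mul (expand_lt i hi U)]
  have lt : ∀ q : Fin small.n, ((g⁻¹ : HP).1 q).val < 2048 := fun q =>
    lt_trans ((g⁻¹ : HP).1 q).2 (show small.n < 2048 by decide +kernel)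
  simp only [img, step4_pack4 _ _ (lt _) (lt _) (lt _), derT_follow hi U hU]

/-- The letters of the listings of orbit `i`. -/
noncomputable def ks (i : ℕ) (e : ℕ) : HP := wprod hs ((gensI i).getD e [])

theorem wprod_ks (i : ℕ) (U : List ℕ) : wprod (ks i) U = wprod hs (expand i U) := by
  induction U with
  | nil => rfl
  | cons e U ih =>
    show ks i e * wprod (ks i) U = wprod hs ((gensI i).getD e [] ++ expand i U)
    rw [wprod_append, ih]; rfl

theorem ks_step {i : ℕ} (hi : i < 9) {U : List ℕ} (hU : ∀ e ∈ U, e < (gensI i).length) (g : HP) :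
    img (g * wprod (ks i) U) = step4 (derT i) U (img g) := by
  rw [wprod_ks, img_mul_der hi hU]

end CfsgLib.InvChar.SporHN
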