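import Cfsg.Agent.Lib.InvChar.SporHNAction
import Cfsg.Agent.Lib.InvChar.SporData.HN.Certified
import Cfsg.Agent.Lib.InvChar.SporData.HN.BaseTrace

/-!
# The index of ⟨x, y, z⟩ in the presented group
-/

set_option autoImplicit false
set_option maxRecDepth 100000

namespace CfsgLib.InvChar.SporHN

open CfsgLib.InvChar.Coset
open CfsgLib.KnownA
open Cfsg.Spor

/-- The action of the group of permutations on the cosets. -/
noncomputable instance hpCosets : MulAction HP (HN ⧸ hnSub) := MulAction.compHom _ psi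

theorem hp_smul (g : HP) (p : HN ⧸ hnSub) : g • p = psi g • p := rfl

theorem gen5_comm {c : HP} (hc : c ∈ Ki 1) : gen 5 * psi c = psi c * gen 5 := by
  have h : Ki 1 ≤ (Subgroup.centralizer {gen 5}).comap psi := by
    rw [Ki, Subgroup.closure_le, show gensI 1 = [[2], [1, 2, 0]] from rfl]
    have r1 := gen_rel [6, 3, 5, 2] (by decide)
    have r2 := gen_rel [1, 5, 0, 5, 5] (by decide)
    have r3 := gen_rel [5, 5, 5, 5, 5] (by decide)
    simp only [wprod, List.map_cons, List.map_nil, List.prod_cons, List.prod_nil, mul_one] at r1 r2 r3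
    rw [show gen 6 = (gen 5)⁻¹ from gen_ivT 5, show gen 3 = (gen 2)⁻¹ from gen_ivT 2] at r1
    rw [show gen 1 = (gen 0)⁻¹ from gen_ivT 0] at r2
    have hy : gen 2 * gen 5 = gen 5 * gen 2 := by
      calc gen 2 * gen 5 = gen 2 * gen 5 * ((gen 5)⁻¹ * ((gen 2)⁻¹ * (gen 5 * gen 2))) := by
            rw [r1, mul_one]
        _ = gen 5 * gen 2 := by group
    have hyc : Commute (gen 2) (gen 5) := hy
    have ht : gen 5 = (gen 0)⁻¹ * (gen 5 * gen 5) * gen 0 := by
      have e : (gen 0)⁻¹ * gen 5 * gen 0 = (gen 5 * gen 5)⁻¹ := eq_inv_of_mul_eq_one_left (by simpa [mul_assoc] using r2)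
      calc gen 5 = gen 5 * (gen 5 * (gen 5 * (gen 5 * (gen 5 * gen 5))))⁻¹ := by rw [r3]; simp
        _ = (gen 5 * gen 5)⁻¹ * (gen 5 * gen 5)⁻¹ := by group
        _ = ((gen 0)⁻¹ * gen 5 * gen 0) * ((gen 0)⁻¹ * gen 5 * gen 0) := by rw [e]
        _ = _ := by group
    rintro _ ⟨L, hL, rfl⟩
    simp only [Set.mem_setOf_eq, List.mem_cons, List.not_mem_nil, or_false] at hL
    rw [SetLike.mem_coe, Subgroup.mem_comap, Subgroup.mem_centralizer_singleton_iff]
    rcases hL with rfl | rfl <;>
      rw [psi_word (by decide)] <;>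
      simp only [wprod, List.map_cons, List.map_nil, List.prod_cons, List.prod_nil, mul_one]
    · exact hy
    · rw [show gen 1 = (gen 0)⁻¹ from gen_ivT 0]
      have h2 : Commute (gen 2) (gen 5 * gen 5) := hyc.mul_right hyc
      conv_lhs => rw [ht]
      conv_rhs => rw [ht]
      calc (gen 0)⁻¹ * (gen 2 * gen 0) * ((gen 0)⁻¹ * (gen 5 * gen 5) * gen 0)
          = (gen 0)⁻¹ * (gen 2 * (gen 5 * gen 5)) * gen 0 := by group
        _ = (gen 0)⁻¹ * ((gen 5 * gen 5) * gen 2) * gen 0 := by rw [h2.eq]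
        _ = _ := by group
  have := h hc
  rw [Subgroup.mem_comap, Subgroup.mem_centralizer_singleton_iff] at this
  exact this.symm

/-- The base coset. -/
noncomputable def baseG : HN ⧸ hnSub := QuotientGroup.mk 1

/-- The semantics on the cosets. -/
noncomputable def semG : Sem (HN ⧸ hnSub) where
  tau p := (gen 5)⁻¹ • p
  taui p := gen 5 • p
  b j := (wprod gen (bwW j))⁻¹ • baseG
  comm c hc p := by
    rw [hp_smul, hp_smul, ← mul_smul, ← mul_smul]
    congr 1
    have h := gen5_comm hc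
    calc (gen 5)⁻¹ * psi c = (gen 5)⁻¹ * (psi c * gen 5) * (gen 5)⁻¹ := by group
      _ = psi c * (gen 5)⁻¹ := by rw [← h]; group

theorem semG_pt {j : ℕ} {v : List ℕ} (hv : ∀ x ∈ v, x < 5) :
    semG.pt j v = (wprod gen (bwW j ++ v))⁻¹ • baseG := by
  show (wprod hs v)⁻¹ • (wprod gen (bwW j))⁻¹ • baseG = _
  rw [hp_smul, map_inv, psi_word hv, ← mul_smul, wprod_append, mul_inv_rev]

theorem smul_base_eq {a b : HN} (h : a * b⁻¹ ∈ hnSub) : a⁻¹ • baseG = b⁻¹ • baseG := by
  show ((a⁻¹ * 1 : HN) : HN ⧸ hnSub) = ((b⁻¹ * 1 : HN) : HN ⧸ hnSub)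
  rw [QuotientGroup.eq, mul_one, mul_one, inv_inv]
  exact h

theorem semG_fw : ∀ (L : List ℕ), (∀ a ∈ L, a < 7) → ∀ p : HN ⧸ hnSub, semG.fw L p = (wprod gen L)⁻¹ • p := by
  intro L
  induction L with
  | nil => intro _ p; show p = (1 : HN)⁻¹ • p; rw [inv_one, one_smul]
  | cons a L ih =>
    intro hL p
    obtain ⟨ha, hL⟩ := List.forall_mem_cons.1 hL
    show semG.fw L (semG.act a p) = (gen a * wprod gen L)⁻¹ • p
    rw [ih hL, mul_inv_rev, mul_smul]
    congr 1
    rcases lt_or_ge a 5 with h5 | h5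
    · rw [Sem.act, if_pos h5, hp_smul, map_inv, psi_hs h5]
    · interval_cases a
      · rfl
      · show gen 5 • p = (gen 6)⁻¹ • p
        rw [show gen 6 = (gen 5)⁻¹ from gen_ivT 5, inv_inv]

theorem semG_back : semG.Back := fun p => smul_inv_smul (gen 5) p

theorem semG_fwd (p : HN ⧸ hnSub) : semG.tau (semG.taui p) = p := inv_smul_smul (gen 5) p

theorem semG_us : ∀ un < 3, ∀ p, semG.fw (usW un) p = semG.tau p := by
  intro un hun p
  have hlt : ∀ un < 3, ∀ a ∈ usW un, a < 7 := by decide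
  rw [semG_fw _ (hlt un hun)]
  show _ = (gen 5)⁻¹ • p
  congr 2
  have r1 := gen_rel [5, 5, 5, 5, 5] (by decide)
  have r2 := gen_rel [1, 5, 0, 5, 5] (by decide)
  have r3 := gen_rel [4, 5, 4, 5, 4, 5] (by decide)
  have hz : (gen 4)⁻¹ = gen 4 := (gen_ivT 4).symm
  simp only [wprod, List.map_cons, List.map_nil, List.prod_cons, List.prod_nil, mul_one,
    show gen 1 = (gen 0)⁻¹ from gen_ivT 0] at r1 r2 r3
  interval_cases un <;>
    simp only [usW, List.getD_cons_zero, List.getD_cons_succ, wprod, List.map_cons, List.map_nil, List.prod_cons,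
      List.prod_nil, mul_one, show gen 6 = (gen 5)⁻¹ from gen_ivT 5, show gen 1 = (gen 0)⁻¹ from gen_ivT 0]
  · calc (gen 5)⁻¹ * ((gen 5)⁻¹ * ((gen 5)⁻¹ * (gen 5)⁻¹))
        = (gen 5 * (gen 5 * (gen 5 * (gen 5 * gen 5))))⁻¹ * gen 5 := by group
      _ = gen 5 := by rw [r1, inv_one, one_mul]
  · calc gen 0 * ((gen 5)⁻¹ * ((gen 5)⁻¹ * (gen 0)⁻¹))
        = gen 0 * ((gen 0)⁻¹ * (gen 5 * (gen 0 * (gen 5 * gen 5)))) * ((gen 5)⁻¹ * ((gen 5)⁻¹ * (gen 0)⁻¹)) := by
          rw [r2, mul_one]
      _ = gen 5 := by group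
  · calc gen 4 * ((gen 5)⁻¹ * (gen 4 * ((gen 5)⁻¹ * gen 4)))
        = (gen 4)⁻¹ * ((gen 5)⁻¹ * ((gen 4)⁻¹ * ((gen 5)⁻¹ * (gen 4)⁻¹))) := by rw [hz]
      _ = ((gen 4)⁻¹ * (gen 4 * (gen 5 * (gen 4 * (gen 5 * (gen 4 * gen 5))))) * gen 4)⁻¹ * gen 5 := by group
      _ = gen 5 := by rw [r3]; simp

theorem semG_all : (∀ k < 101, semG.Known k) ∧ ∀ j < 9, semG.GoodB j := by
  have h0 : semG.GoodB 0 := by
    intro g _
    show g • (wprod gen (bwW 0))⁻¹ • baseG = (wprod gen (bwW 0))⁻¹ • baseG
    rw [show bwW 0 = [] from rfl, show wprod gen [] = 1 from rfl, inv_one, one_smul, hp_smul]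
    refine (MulAction.mem_stabilizer_iff (G := HN)).1 ?_
    rw [baseG, MulAction.stabilizer_quotient]
    have : Ki 0 ≤ hnSub.comap psi := by
      rw [Ki, Subgroup.closure_le, show gensI 0 = [[0], [2], [4]] from rfl]
      rintro _ ⟨L, hL, rfl⟩
      simp only [Set.mem_setOf_eq, List.mem_cons, List.not_mem_nil, or_false] at hL
      rcases hL with rfl | rfl | rfl <;>
        rw [SetLike.mem_coe, Subgroup.mem_comap, psi_word (by decide)] <;>
        simpa [wprod] using gen_mem_hnSub (by omega)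
    exact this (Ki_zero ▸ Subgroup.mem_top g)
  have hcK : ∀ k ∈ certK, semG.Known k := by
    intro k hk
    have hk' : ∀ k ∈ certK, k < 101 := by decide +kernel
    obtain ⟨hH, hT, -⟩ := edge_facts k (hk' k hk)
    show (gen 5)⁻¹ • semG.pt (eI k) (eH k) = semG.pt (eJ k) (eT k)
    rw [semG_pt hH, semG_pt hT, ← mul_smul, ← mul_inv_rev]
    refine smul_base_eq ?_
    have := certK_mem k hk
    rw [edgeWord, wprod_append, wprod_append, wprod_gen_winv] at this
    simpa [wprod, mul_assoc] using this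
  have hcG : ∀ q ∈ certG, wprod hs q.2 • semG.b q.1 = semG.b q.1 := by
    intro q hq
    have hl : ∀ q ∈ certG, ∀ x ∈ q.2, x < 5 := by decide +kernel
    have := certG_mem q hq
    rw [stabWord, wprod_append, wprod_append, wprod_gen_winv] at this
    show psi (wprod hs q.2) • (wprod gen (bwW q.1))⁻¹ • baseG = (wprod gen (bwW q.1))⁻¹ • baseG
    rw [psi_word (hl q hq), ← mul_smul]
    have e := smul_base_eq (a := wprod gen (bwW q.1)) (b := wprod gen (bwW q.1) * (wprod gen q.2)⁻¹)
      (by rw [mul_inv_rev, inv_inv, ← mul_assoc]; exact this)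
    rw [mul_inv_rev, inv_inv] at e
    exact e.symm
  have hev := events_ok
  cases hrun : runEv certK certG events ([], [0]) with
  | none => rw [hrun] at hev; exact absurd hev (by simp)
  | some st =>
    rw [hrun] at hev
    simp only [Option.map_some, Option.some.injEq, Bool.and_eq_true, List.all_eq_true, List.mem_range] at hev
    obtain ⟨hK, hG⟩ := runEv_sound semG_back semG_fwd semG_us hcK hcG events ([], [0]) (by simp)
      (fun j hj => by rw [List.mem_singleton.1 hj]; exact h0) hrun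
    exact ⟨fun k hk => hK k (List.contains_iff_mem.1 (hev.1 k hk)) hk,
      fun j hj => hG j (List.contains_iff_mem.1 (hev.2 j hj))⟩

/-- From points to cosets. -/
noncomputable def phiPt (p : Pt) : HN ⧸ hnSub :=
  Quotient.liftOn' p.2 (fun g => g • semG.b p.1.val) fun g g' h => by
    have hm := semG_all.2 p.1.val p.1.2 _ (QuotientGroup.leftRel_apply.1 h)
    calc g • semG.b p.1.val = g • (g⁻¹ * g') • semG.b p.1.val := by rw [hm]
      _ = g' • semG.b p.1.val := by rw [← mul_smul, mul_inv_cancel_left]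

theorem phiPt_smul (h : HP) (p : Pt) : phiPt (h • p) = h • phiPt p := by
  obtain ⟨i, x⟩ := p
  induction x using QuotientGroup.induction_on with
  | H g =>
    show (h * g) • semG.b i.val = h • g • semG.b i.val
    exact mul_smul _ _ _

theorem phiPt_pt {j : ℕ} (hj : j < 9) (v : List ℕ) : phiPt (semX.pt j v) = semG.pt j v := by
  rw [semX_pt]
  show (wprod hs v)⁻¹ • semG.b (fi j).val = semG.pt j v
  rw [fi_val hj]
  rfl

theorem phiPt_tau (p : Pt) : phiPt (semX.tau p) = semG.tau (phiPt p) := by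
  obtain ⟨c, hc, k, hk, rfl⟩ := root_cover p
  rw [semX.comm c hc, phiPt_smul, phiPt_smul, semG.comm c hc, semX_known hk, phiPt_pt (eJ_lt hk),
    phiPt_pt (eI_lt hk), semG_all.1 k hk]

theorem phiPt_taui (p : Pt) : phiPt (semX.taui p) = semG.taui (phiPt p) := by
  rw [← semG_back (phiPt (semX.taui p)), ← phiPt_tau, semX_fwd]

theorem exists_hom_X : ∃ φ : HN →* Equiv.Perm Pt, ∀ x < 7, φ (gen x) = fX x := exists_hom fX fX_inv fX_rel

/-- The action of the presented group on the points. -/
noncomputable def phi : HN →* Equiv.Perm Pt := exists_hom_X.choose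

theorem phi_gen {x : ℕ} (hx : x < 7) : phi (gen x) = fX x := exists_hom_X.choose_spec x hx

theorem phi_psi (g : HP) : phi (psi g) = MulAction.toPermHom HP Pt g := by
  refine DFunLike.congr_fun (MonoidHom.eq_of_eqOn_dense hs_closure ?_ :
    phi.comp psi = MulAction.toPermHom HP Pt) g
  rintro _ ⟨x, hx, rfl⟩
  simp only [Set.mem_insert_iff, Set.mem_singleton_iff] at hx
  rw [MonoidHom.comp_apply, psi_hs (by omega), phi_gen (by omega), fX, if_pos (by omega)]

theorem phiPt_phi (g : HN) (p : Pt) : phiPt (phi g p) = g • phiPt p := by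
  induction (closure_gen.symm ▸ Subgroup.mem_top g : g ∈ Subgroup.closure (gen '' {0, 2, 4, 5}))
    using Subgroup.closure_induction generalizing p with
  | mem a ha =>
    obtain ⟨x, hx, rfl⟩ := ha
    simp only [Set.mem_insert_iff, Set.mem_singleton_iff] at hx
    rcases (show x < 5 ∨ x = 5 by omega) with h5 | rfl
    · rw [← psi_hs h5, phi_psi]
      exact phiPt_smul (hs x) p
    · rw [phi_gen (by omega)]
      show phiPt (semX.taui p) = semG.taui (phiPt p)
      exact phiPt_taui p
  | one => rw [map_one, one_smul]; rfl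
  | mul a b _ _ ha hb => rw [map_mul, Equiv.Perm.mul_apply, ha, hb, mul_smul]
  | inv a _ ha =>
    rw [eq_inv_smul_iff, ← ha, map_inv, ← Equiv.Perm.mul_apply, mul_inv_cancel, Equiv.Perm.one_apply]

/-- The base point. -/
noncomputable def ptBase : Pt := semX.b 0

theorem phiPt_base : phiPt ptBase = baseG := by
  show (1 : HP) • semG.b (fi 0).val = baseG
  rw [one_smul]
  show (wprod gen (bwW 0))⁻¹ • baseG = baseG
  rw [show bwW 0 = [] from rfl, show wprod gen [] = 1 from rfl, inv_one, one_smul]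

theorem phi_fix {h : HN} (hh : h ∈ hnSub) : phi h ptBase = ptBase := by
  have : hnSub ≤ (MulAction.stabilizer (Equiv.Perm Pt) ptBase).comap phi := by
    rw [hnSub, Subgroup.closure_le]
    rintro _ ⟨x, hx, rfl⟩
    simp only [Set.mem_insert_iff, Set.mem_singleton_iff] at hx
    rw [SetLike.mem_coe, Subgroup.mem_comap, MulAction.mem_stabilizer_iff, phi_gen (by omega), fX,
      if_pos (by omega)]
    exact semX_good (j := 0) (by omega) (hs x) (Ki_zero ▸ Subgroup.mem_top _)
  exact this hh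

/-- From cosets to points. -/
noncomputable def ptOf (q : HN ⧸ hnSub) : Pt :=
  Quotient.liftOn' q (fun g => phi g ptBase) fun g g' h => by
    have e := phi_fix (QuotientGroup.leftRel_apply.1 h)
    rw [map_mul, map_inv, Equiv.Perm.mul_apply, Equiv.Perm.inv_eq_iff_eq] at e
    exact e.symm

theorem baseTrace_ok : ∀ j < 9,
    ((runT allKnown allGood (bwW j) 0 [] (baseTrace.getD j ([], 0)).1).map fun r =>
      Nat.beq r.1 j && sameW allGood j r.2 [] (baseTrace.getD j ([], 0)).2) = some true := by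
  decide +kernel

theorem phi_base {j : ℕ} (hj : j < 9) : (phi (wprod gen (bwW j)))⁻¹ ptBase = semX.b j := by
  have hlt : ∀ j < 9, ∀ a ∈ bwW j, a < 7 := by decide +kernel
  have e : phi (wprod gen (bwW j)) = wprod fX (bwW j) := by
    have h := hlt j hj
    revert h
    generalize bwW j = L
    intro h
    induction L with
    | nil => exact map_one phi
    | cons a L ih =>
      obtain ⟨ha, h⟩ := List.forall_mem_cons.1 h
      show phi (gen a * wprod gen L) = fX a * wprod fX L
      rw [map_mul, phi_gen ha, ih h]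
  rw [e, ← fX_fw _ (hlt j hj)]
  have hb := baseTrace_ok j hj
  cases hrun : runT allKnown allGood (bwW j) 0 [] (baseTrace.getD j ([], 0)).1 with
  | none => rw [hrun] at hb; exact absurd hb (by simp)
  | some r =>
    obtain ⟨j', v'⟩ := r
    rw [hrun] at hb
    simp only [Option.map_some, Option.some.injEq, Bool.and_eq_true] at hb
    have hK : ∀ k ∈ allKnown, k < 101 → semX.Known k := fun k _ hk => semX_known hk
    have hG : ∀ j ∈ allGood, semX.GoodB j := fun j hj => semX_good (List.mem_range.1 hj)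
    obtain ⟨hv', e1⟩ := runT_sound hK hG (bwW j) (Or.inr semX_back) 0 [] _ (by simp) hrun
    have e0 : semX.pt 0 [] = ptBase := by
      show (wprod hs [])⁻¹ • semX.b 0 = semX.b 0
      rw [show wprod hs [] = 1 from rfl, inv_one, one_smul]
    have e2 : semX.pt j [] = semX.b j := by
      show (wprod hs [])⁻¹ • semX.b j = semX.b j
      rw [show wprod hs [] = 1 from rfl, inv_one, one_smul]
    rw [← e0, e1, Nat.eq_of_beq_eq_true hb.1, sameW_sound hG hv' (by simp) hb.2, e2]

theorem ptOf_smul (g : HN) (q : HN ⧸ hnSub) : ptOf (g • q) = phi g (ptOf q) := by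
  induction q using QuotientGroup.induction_on with
  | H a =>
    show phi (g * a) ptBase = phi g (phi a ptBase)
    rw [map_mul, Equiv.Perm.mul_apply]

theorem ptOf_phiPt (p : Pt) : ptOf (phiPt p) = p := by
  obtain ⟨i, x⟩ := p
  induction x using QuotientGroup.induction_on with
  | H g =>
    show ptOf (psi g • (wprod gen (bwW i.val))⁻¹ • baseG) = _
    rw [ptOf_smul, ptOf_smul, phi_psi, map_inv]
    show g • ((phi (wprod gen (bwW i.val)))⁻¹ (phi 1 ptBase)) = _
    rw [map_one, Equiv.Perm.one_apply, phi_base i.2]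
    show g • (⟨fi i.val, QuotientGroup.mk 1⟩ : Pt) = _
    rw [Sigma.smul_mk]
    refine pt_eq (Fin.ext (fi_val i.2)) ?_
    show (g * 1)⁻¹ * g ∈ _
    rw [mul_one, inv_mul_cancel]
    exact one_mem _

theorem phiPt_surjective : Function.Surjective phiPt := by
  intro q
  induction q using QuotientGroup.induction_on with
  | H a =>
    refine ⟨phi a ptBase, ?_⟩
    rw [phiPt_phi, phiPt_base]
    show ((a * 1 : HN) : HN ⧸ hnSub) = a
    rw [mul_one]

/-- Points and cosets correspond. -/
noncomputable def ptEquiv : Pt ≃ HN ⧸ hnSub :=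
  Equiv.ofBijective phiPt ⟨fun a b h => by rw [← ptOf_phiPt a, h, ptOf_phiPt], phiPt_surjective⟩

/-- **The index of ⟨x, y, z⟩.** -/
theorem hnSub_index : hnSub.index = 1539000 := by
  rw [Subgroup.index, ← Nat.card_congr ptEquiv, Pt_card]

end CfsgLib.InvChar.SporHN
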