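import Cfsg.Agent.Lib.InvChar.SporHNBase
import Cfsg.Agent.Lib.InvChar.SporData.HN.K1.Main
import Cfsg.Agent.Lib.InvChar.SporData.HN.K2.Main
import Cfsg.Agent.Lib.InvChar.SporData.HN.K3.Main
import Cfsg.Agent.Lib.InvChar.SporData.HN.K4.Main
import Cfsg.Agent.Lib.InvChar.SporData.HN.K5.Main
import Cfsg.Agent.Lib.InvChar.SporData.HN.K6.Main
import Cfsg.Agent.Lib.InvChar.SporData.HN.K7.Main
import Cfsg.Agent.Lib.InvChar.SporData.HN.K8.Main

/-!
# The order of the group of permutations, and its maps into other groups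
-/

set_option autoImplicit false
set_option maxRecDepth 100000

namespace CfsgLib.InvChar.SporHN

open CfsgLib.InvChar.Coset
open CfsgLib.KnownA

/-- The order of the stabiliser of the base of orbit `i`. -/
def mI (i : ℕ) : ℕ := orbM.getD i 0

theorem kChecked {i : ℕ} (h1 : 1 ≤ i) (hi : i < 9) : (kList i).Checked (derT i) img0 := by
  interval_cases i
  exacts [kChecked1, kChecked2, kChecked3, kChecked4, kChecked5, kChecked6, kChecked7, kChecked8]

theorem kList_facts : ∀ i < 9, 1 ≤ i →
    (kList i).gens = (List.range (gensI i).length).map (fun e => [e]) ∧ (kList i).m = mI i := by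
  decide +kernel

theorem Ki_eq {i : ℕ} (h1 : 1 ≤ i) (hi : i < 9) :
    Subgroup.closure (wprod (ks i) '' {L | L ∈ (kList i).gens}) = Ki i := by
  rw [Ki, (kList_facts i hi h1).1]
  congr 1
  ext g
  simp only [Set.mem_image, Set.mem_setOf_eq, List.mem_map, List.mem_range]
  constructor
  · rintro ⟨L, ⟨e, he, rfl⟩, rfl⟩
    refine ⟨(gensI i)[e], List.getElem_mem he, ?_⟩
    simp [wprod, ks, List.getElem?_eq_getElem he]
  · rintro ⟨L, hL, rfl⟩
    obtain ⟨e, he, rfl⟩ := List.mem_iff_getElem.1 hL
    refine ⟨[e], ⟨e, he, rfl⟩, ?_⟩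
    simp [wprod, ks, List.getElem?_eq_getElem he]

theorem kList_step {i : ℕ} (h1 : 1 ≤ i) (hi : i < 9) :
    ∀ g : HP, ∀ L ∈ (kList i).gens, img (g * wprod (ks i) L) = step4 (derT i) L (img g) := by
  intro g L hL
  rw [(kList_facts i hi h1).1] at hL
  obtain ⟨e, he, rfl⟩ := List.mem_map.1 hL
  refine ks_step hi (fun x hx => ?_) g
  rw [List.mem_singleton.1 hx]
  exact List.mem_range.1 he

theorem mI_le_card {i : ℕ} (h1 : 1 ≤ i) (hi : i < 9) : mI i ≤ Nat.card (Ki i) := by
  rw [← Ki_eq h1 hi, ← (kList_facts i hi h1).2]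
  exact (kChecked h1 hi).le_card img_one (kList_step h1 hi)

/-- The label of a point in orbit `i`. -/
noncomputable def lab (i q : ℕ) : ℕ := field (labTs.getD i (.leaf 0)) 128 20 q

/-- The tests on the forest of orbit `i` at one point. -/
noncomputable def chkForestPt (i q : ℕ) : Bool :=
  force (lab i q) fun k => Nat.blt k 101 && Nat.beq (edgeI.getD k 0) i &&
    force (field (depTs.getD i (.leaf 0)) 128 20 q) fun d =>
      bif Nat.beq d 0 then Nat.beq (rootQ.getD k 0) q
      else force (field (parTs.getD i (.leaf 0)) 128 20 q) fun v => force (v / 8) fun p => force (v % 8) fun e =>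
        Nat.blt p 1408 && Nat.blt e (gensI i).length &&
          Nat.blt (field (depTs.getD i (.leaf 0)) 128 20 p) d && Nat.beq (lab i p) k &&
          Nat.beq ((derT i).app p e) q

/-- The forest tests at `cnt` points from `q`. -/
noncomputable def chkForest (i : ℕ) (cnt : ℕ) : ℕ → Bool :=
  Nat.rec (fun _ => true) (fun _ ih q => chkForestPt i q && force (q + 1) ih) cnt

theorem chkForest_get (i : ℕ) : ∀ (cnt q : ℕ), chkForest i cnt q = true →
    ∀ j, q ≤ j → j < q + cnt → chkForestPt i j = true := by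
  intro cnt
  induction cnt with
  | zero => intro q _ j h1 h2; omega
  | succ cnt ih =>
    intro q h j h1 h2
    have h' : (chkForestPt i q && force (q + 1) (chkForest i cnt)) = true := h
    rw [Bool.and_eq_true, force_eq] at h'
    rcases eq_or_lt_of_le h1 with rfl | h3
    · exact h'.1
    · exact ih _ h'.2 j h3 (by omega)

theorem chkForest_all : ∀ i < 9, chkForest i 1408 0 = true := by decide +kernel

/-- The point of a root. -/
noncomputable def rq (k : ℕ) : Fin small.n :=
  ⟨rootQ.getD k 0 % 1408, by rw [show small.n = 1408 from rfl]; exact Nat.mod_lt _ (by omega)⟩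

theorem rootQ_lt : ∀ k < 101, rootQ.getD k 0 < 1408 ∧ edgeI.getD k 0 < 9 ∧ edgeJ.getD k 0 < 9 := by
  decide +kernel

theorem rq_val {k : ℕ} (hk : k < 101) : (rq k).val = rootQ.getD k 0 := Nat.mod_eq_of_lt (rootQ_lt k hk).1

theorem lab_facts {i : ℕ} (hi : i < 9) (q : Fin small.n) :
    lab i q < 101 ∧ edgeI.getD (lab i q) 0 = i ∧
      ∃ u ∈ Ki i, u.1 (rq (lab i q)) = q := by
  have hget : ∀ q : Fin small.n, chkForestPt i q = true := fun q =>
    chkForest_get i 1408 0 (chkForest_all i hi) q (Nat.zero_le _)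
      (lt_of_lt_of_le q.2 (show small.n ≤ 0 + 1408 by decide +kernel))
  induction hd : field (depTs.getD i (.leaf 0)) 128 20 q using Nat.strong_induction_on generalizing q with
  | _ d ih =>
    have h := hget q
    simp only [chkForestPt, force_eq, hd, Bool.and_eq_true] at h
    obtain ⟨⟨hk, he⟩, h⟩ := h
    have hk : lab i q < 101 := by simpa [Nat.blt] using hk
    refine ⟨hk, Nat.eq_of_beq_eq_true he, ?_⟩
    cases hb : Nat.beq d 0 with
    | true =>
      rw [hb, cond_true] at h
      exact ⟨1, one_mem _, Fin.ext (by rw [Subgroup.coe_one, Equiv.Perm.one_apply, rq_val hk]; exact Nat.eq_of_beq_eq_true h)⟩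
    | false =>
      rw [hb, cond_false] at h
      simp only [Bool.and_eq_true] at h
      obtain ⟨⟨⟨⟨hp, hee⟩, hdep⟩, hl⟩, happ⟩ := h
      set p := field (parTs.getD i (.leaf 0)) 128 20 q / 8
      set e := field (parTs.getD i (.leaf 0)) 128 20 q % 8
      have hp : p < 1408 := by simpa [Nat.blt] using hp
      have hee : e < (gensI i).length := by simpa [Nat.blt] using hee
      have hdep : field (depTs.getD i (.leaf 0)) 128 20 p < d := by simpa [Nat.blt] using hdep
      obtain ⟨-, -, u, hu, hup⟩ := ih _ hdep ⟨p, by rw [show small.n = 1408 from rfl]; exact hp⟩ rfl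
      refine ⟨(wprod hs (expand i [e]))⁻¹ * u, mul_mem (Subgroup.inv_mem _ (expand_mem i [e])) hu, Fin.ext ?_⟩
      rw [Subgroup.coe_mul, Equiv.Perm.mul_apply]
      rw [show lab i q = lab i p from (Nat.eq_of_beq_eq_true hl).symm, hup,
        hs_follow (expand_lt i hi [e]), ← derT_follow hi [e] (by simpa using hee)]
      show force ((derT i).app p e) (fun r => r) = q.val
      rw [force_eq]
      exact Nat.eq_of_beq_eq_true happ

/-- The first base point. -/
noncomputable def p0 : Fin small.n := bp 0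

theorem K1_le_stab : Ki 1 ≤ MulAction.stabilizer HP p0 := by
  rw [Ki, Subgroup.closure_le]
  rintro _ ⟨L, hL, rfl⟩
  have h : ∀ L ∈ gensI 1, (∀ x ∈ L, x < 5) ∧ small.follow L 0 = 0 := by decide +kernel
  rw [SetLike.mem_coe, ← inv_mem_iff, MulAction.mem_stabilizer_iff]
  show ((wprod hs L)⁻¹ : HP).1 p0 = p0
  exact Fin.ext (by rw [hs_follow (h L hL).1]; exact (h L hL).2)

theorem lab_zero : ∀ q < 1408, lab 0 q = 0 := by decide +kernel

theorem rq_zero : rq 0 = p0 := Fin.ext (by rw [rq_val (by omega)]; decide +kernel)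

theorem orbit_top : MulAction.orbit HP p0 = Set.univ := Set.eq_univ_of_forall fun q => by
  obtain ⟨-, -, u, -, hu⟩ := lab_facts (i := 0) (by omega) q
  rw [lab_zero q (lt_of_lt_of_le q.2 (show small.n ≤ 1408 by decide +kernel)), rq_zero] at hu
  exact ⟨u, hu⟩

theorem card_stab_mul : Nat.card HP = 1408 * Nat.card (MulAction.stabilizer HP p0) := by
  rw [← (MulAction.stabilizer HP p0).card_mul_index, MulAction.index_stabilizer, orbit_top,
    Set.ncard_univ, Nat.card_fin, mul_comm]
  rfl

theorem card_stab_p0 : Nat.card (MulAction.stabilizer HP p0) = 126000 := by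
  have h1 := mI_le_card (i := 1) le_rfl (by omega)
  have h2 := Subgroup.card_le_of_le K1_le_stab
  have h3 := card_stab_mul
  have h4 := HP_card_le
  rw [show mI 1 = 126000 from rfl] at h1
  omega

/-- **The order of the group of permutations.** -/
theorem HP_card : Nat.card HP = 177408000 := by rw [card_stab_mul, card_stab_p0]

theorem K1_eq_stab : Ki 1 = MulAction.stabilizer HP p0 := by
  refine Subgroup.eq_of_le_of_card_ge K1_le_stab ?_
  rw [card_stab_p0]
  exact mI_le_card (i := 1) le_rfl (by omega)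

theorem mem_K1_iff {g : HP} : g ∈ Ki 1 ↔ g.1 p0 = p0 := by
  rw [K1_eq_stab, MulAction.mem_stabilizer_iff]
  rfl

theorem img_injective : Function.Injective img := by
  intro a b e
  have hB : ∀ g : HP, ((g⁻¹ : HP).1 p0).val < 2048 ∧ ((g⁻¹ : HP).1 (bp 904)).val < 2048 ∧
      ((g⁻¹ : HP).1 (bp 829)).val < 2048 ∧ ((g⁻¹ : HP).1 (bp 621)).val < 2048 := fun g => by
    have : small.n < 2048 := by decide +kernel
    refine ⟨?_, ?_, ?_, ?_⟩ <;> exact lt_trans (Fin.is_lt _) this
  have eqs : ∀ p ∈ [p0, bp 904, bp 829, bp 621], (a⁻¹ : HP).1 p = (b⁻¹ : HP).1 p := by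
    obtain ⟨a1, a2, a3, -⟩ := hB a
    obtain ⟨b1, b2, b3, -⟩ := hB b
    simp only [img, pack4, show bp 0 = p0 from rfl] at e
    intro p hp
    simp only [List.mem_cons, List.not_mem_nil, or_false] at hp
    rcases hp with rfl | rfl | rfl | rfl <;> exact Fin.ext (by omega)
  have fix : ∀ p ∈ [p0, bp 904, bp 829, bp 621], (b * a⁻¹).1 p = p := fun p hp => by
    rw [Subgroup.coe_mul, Equiv.Perm.mul_apply, eqs p hp, ← Equiv.Perm.mul_apply, ← Subgroup.coe_mul,
      mul_inv_cancel, Subgroup.coe_one, Equiv.Perm.one_apply]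
  have hmem : b * a⁻¹ ∈ Ki 1 := mem_K1_iff.2 (fix p0 (by simp))
  have himg : img (b * a⁻¹) = img 1 := by
    have inv_fix : ∀ p ∈ [p0, bp 904, bp 829, bp 621], ((b * a⁻¹)⁻¹ : HP).1 p = p := fun p hp => by
      rw [Subgroup.coe_inv, Equiv.Perm.inv_eq_iff_eq, fix p hp]
    simp only [img, show bp 0 = p0 from rfl]
    rw [inv_fix _ (by simp), inv_fix _ (by simp), inv_fix _ (by simp), inv_fix _ (by simp)]
    simp
  have hc := kChecked (i := 1) le_rfl (by omega)
  have hex : ∀ j : Fin (kList 1).m, ∃ g : Ki 1, img g = (kList 1).tup j := fun j => by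
    obtain ⟨g, hg, he⟩ := hc.exists_of_lt img_one (kList_step le_rfl (by omega)) j j.2
    exact ⟨⟨g, Ki_eq le_rfl (by omega) ▸ hg⟩, he⟩
  choose f hf using hex
  have finj : Function.Injective f := fun x y h => Fin.ext (hc.tup_inj x.2 y.2 (by rw [← hf, ← hf, h]))
  have hbij : Function.Bijective f := finj.bijective_of_nat_card_le <| by
    rw [Nat.card_fin, K1_eq_stab, card_stab_p0]
    exact le_of_eq rfl
  obtain ⟨x, hx⟩ := hbij.2 ⟨_, hmem⟩
  obtain ⟨y, hy⟩ := hbij.2 1
  have : x = y := Fin.ext <| hc.tup_inj x.2 y.2 <| by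
    rw [← hf, ← hf, hx, hy]; exact himg
  have h1 : b * a⁻¹ = 1 := by
    have := hx.symm.trans (this ▸ hy)
    exact congrArg Subtype.val this
  exact (mul_inv_eq_one.1 h1).symm

theorem Ki_card {i : ℕ} (h1 : 1 ≤ i) (hi : i < 9) : Nat.card (Ki i) = mI i := by
  rw [← Ki_eq h1 hi, ← (kList_facts i hi h1).2]
  exact (kChecked h1 hi).card_eq img_one (kList_step h1 hi) img_injective

theorem Ki_zero : Ki 0 = ⊤ := by
  rw [Ki, ← hs_closure, show gensI 0 = [[0], [2], [4]] from rfl]
  congr 1
  ext g
  simp [wprod, eq_comm]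

theorem Ki_card_all {i : ℕ} (hi : i < 9) : Nat.card (Ki i) = mI i := by
  rcases Nat.eq_zero_or_pos i with rfl | h
  · rw [Ki_zero, Subgroup.card_top, HP_card]; rfl
  · exact Ki_card h hi

/-- A word is in the stabiliser of orbit `i`, certified by its place in the listing. -/
noncomputable def inK (i : ℕ) (w : List ℕ) (idx : ℕ) : Bool :=
  bif Nat.beq i 0 then true
  else Nat.blt idx (kList i).m && force (step4 small w img0) fun v => Nat.beq v ((kList i).tup idx)

theorem mem_of_inK {i : ℕ} (hi : i < 9) {w : List ℕ} (hw : ∀ x ∈ w, x < 5) {idx : ℕ}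
    (h : inK i w idx = true) : wprod hs w ∈ Ki i := by
  unfold inK at h
  rcases Nat.eq_zero_or_pos i with rfl | h1
  · rw [Ki_zero]; exact Subgroup.mem_top _
  · have hb : Nat.beq i 0 = false := by
      cases hh : Nat.beq i 0
      · rfl
      · exact absurd (Nat.eq_of_beq_eq_true hh) (by omega)
    rw [hb, cond_false, Bool.and_eq_true, force_eq] at h
    have hlt : idx < (kList i).m := by simpa [Nat.blt] using h.1
    rw [← Ki_eq h1 hi]
    exact (kChecked h1 hi).mem img_one (kList_step h1 hi) img_injective hlt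
      (by rw [img_wprod hw]; exact Nat.eq_of_beq_eq_true h.2)

/-- A group satisfying the ten relators is an image of the group of permutations. -/
theorem exists_psi {K : Type*} [Group K] {s : ℕ → K} (h : HLetters s) :
    ∃ ψ : HP →* K, ∀ x < 5, ψ (hs x) = s x := by
  let u : ℕ → K × HP := fun x => (s x, hs x)
  have hu : HLetters u := by
    refine ⟨fun x hx => Prod.ext (h.inv x hx) (hLetters_hs.inv x hx), fun r hr => ?_⟩
    have e : ∀ L : List ℕ, wprod u L = (wprod s L, wprod hs L) := fun L => by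
      induction L with
      | nil => rfl
      | cons a L ih => show u a * wprod u L = _; rw [ih]; rfl
    rw [e, h.rel r hr, hLetters_hs.rel r hr]; rfl
  obtain ⟨hfin, hcard⟩ := card_H_le hu
  let D := Subgroup.closure (u '' {0, 2, 4})
  let q : D →* HP := (MonoidHom.snd K HP).comp D.subtype
  have hr : q.range = ⊤ := by
    rw [MonoidHom.range_comp, Subgroup.range_subtype, MonoidHom.map_closure, ← Set.image_comp, ← hs_closure]
    rfl
  have hsurj : Function.Surjective q := MonoidHom.range_eq_top.1 hr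
  have hbij : Function.Bijective q := hsurj.bijective_of_nat_card_le (by rw [HP_card]; exact hcard)
  let e : D ≃* HP := MulEquiv.ofBijective q hbij
  refine ⟨((MonoidHom.fst K HP).comp D.subtype).comp e.symm.toMonoidHom, fun x hx => ?_⟩
  have hmem : u x ∈ D := by
    have m : ∀ y ∈ ({0, 2, 4} : Set ℕ), u y ∈ D := fun y hy => Subgroup.subset_closure ⟨y, hy, rfl⟩
    interval_cases x
    · exact m 0 (by simp)
    · rw [show u 1 = (u 0)⁻¹ from hu.inv 0 (by omega)]; exact Subgroup.inv_mem _ (m 0 (by simp))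
    · exact m 2 (by simp)
    · rw [show u 3 = (u 2)⁻¹ from hu.inv 2 (by omega)]; exact Subgroup.inv_mem _ (m 2 (by simp))
    · exact m 4 (by simp)
  have : e.symm (hs x) = ⟨u x, hmem⟩ := e.symm_apply_eq.2 rfl
  show (e.symm (hs x)).1.1 = s x
  rw [this]

/-- Words with the same permutation are equal in every such group. -/
theorem psi_wprod {K : Type*} [Group K] {s : ℕ → K} {ψ : HP →* K} (hψ : ∀ x < 5, ψ (hs x) = s x)
    {L : List ℕ} (hL : ∀ x ∈ L, x < 5) : ψ (wprod hs L) = wprod s L := by
  induction L with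
  | nil => exact map_one ψ
  | cons a L ih =>
    obtain ⟨ha, hL⟩ := List.forall_mem_cons.1 hL
    show ψ (hs a * wprod hs L) = s a * wprod s L
    rw [map_mul, hψ a ha, ih hL]

theorem wprod_hs_eq_one {L : List ℕ} (hL : ∀ x ∈ L, x < 5) (h : step4 small L img0 = img0) :
    wprod hs L = 1 := img_injective (by rw [img_wprod hL, h, img_one])

end CfsgLib.InvChar.SporHN
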