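import Cfsg.Agent.Lib.InvChar.CosetPerm
import Mathlib.Tactic

/-!
# Listing the elements of a small permutation group by the images of four points
-/

set_option autoImplicit false
set_option maxRecDepth 100000

namespace CfsgLib.InvChar.SporHN

open CfsgLib.InvChar.Coset

/-- Four points packed in one number. -/
noncomputable def pack4 (a b c d : ℕ) : ℕ := a + (b + (c + d * 2048) * 2048) * 2048

/-- A word applied to each of four packed points. -/
noncomputable def step4 (T : Table) (L : List ℕ) (v : ℕ) : ℕ :=
  force v fun v =>
    pack4 (T.follow L (v % 2048)) (T.follow L (v / 2048 % 2048)) (T.follow L (v / 4194304 % 2048))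
      (T.follow L (v / 8589934592))

theorem step4_pack4 (T : Table) (L : List ℕ) {a b c d : ℕ} (ha : a < 2048) (hb : b < 2048) (hc : c < 2048) :
    step4 T L (pack4 a b c d) = pack4 (T.follow L a) (T.follow L b) (T.follow L c) (T.follow L d) := by
  rw [step4, force_eq]
  unfold pack4
  rw [show (a + (b + (c + d * 2048) * 2048) * 2048) % 2048 = a by omega,
    show (a + (b + (c + d * 2048) * 2048) * 2048) / 2048 % 2048 = b by omega,
    show (a + (b + (c + d * 2048) * 2048) * 2048) / 4194304 % 2048 = c by omega,
    show (a + (b + (c + d * 2048) * 2048) * 2048) / 8589934592 = d by omega]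

/-- A listing: `m` elements, their packed images, the images under the generators, and a forest. -/
structure Listing where
  /-- number of elements -/
  m : ℕ
  /-- index of the identity -/
  root : ℕ
  /-- generating words -/
  gens : List (List ℕ)
  /-- packed images -/
  tups : Tr
  /-- index of the product with a generator -/
  next : Tr
  /-- a predecessor `j * 8 + e` -/
  back : Tr
  /-- depth -/
  dep : Tr

namespace Listing

variable (K : Listing)

/-- The packed images of element `i`. -/
noncomputable def tup (i : ℕ) : ℕ := field K.tups 128 44 i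
/-- The product of element `i` with generator `e`. -/
noncomputable def nxt (i e : ℕ) : ℕ := field K.next 128 20 (i * K.gens.length + e)

/-- The products with the generators from number `e` on. -/
noncomputable def chkGens (T : Table) (i : ℕ) (L : List (List ℕ)) : ℕ → Bool :=
  List.rec (fun _ => true)
    (fun w _ ih e => force (K.nxt i e) (fun j => Nat.blt j K.m && Nat.beq (step4 T w (K.tup i)) (K.tup j)) &&
      force (e + 1) ih) L

/-- All tests at element `i`. -/
noncomputable def chkElem (T : Table) (base i : ℕ) : Bool :=
  K.chkGens T i K.gens 0 &&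
    (bif Nat.beq i K.root then Nat.beq (K.tup i) base
      else force (field K.back 128 24 i) fun b => force (b / 8) fun j => force (b % 8) fun e =>
        Nat.blt j K.m && Nat.blt e K.gens.length && Nat.blt (field K.dep 128 8 j) (field K.dep 128 8 i) &&
          Nat.beq (K.nxt j e) i) &&
    (Nat.beq (i + 1) K.m || Nat.blt (K.tup i) (K.tup (i + 1)))

/-- The tests at `cnt` elements from `i`. -/
noncomputable def chkElems (T : Table) (base : ℕ) (cnt : ℕ) : ℕ → Bool :=
  Nat.rec (fun _ => true) (fun _ ih i => K.chkElem T base i && force (i + 1) ih) cnt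

theorem chkElems_get (T : Table) (base : ℕ) : ∀ (cnt i : ℕ), K.chkElems T base cnt i = true →
    ∀ j, i ≤ j → j < i + cnt → K.chkElem T base j = true := by
  intro cnt
  induction cnt with
  | zero => intro i _ j h1 h2; omega
  | succ cnt ih =>
    intro i h j h1 h2
    have h' : (K.chkElem T base i && force (i + 1) (fun i' => K.chkElems T base cnt i')) = true := h
    rw [Bool.and_eq_true, force_eq] at h'
    rcases eq_or_lt_of_le h1 with rfl | h3
    · exact h'.1
    · exact ih _ h'.2 j h3 (by omega)

theorem chkGens_get (T : Table) (i : ℕ) : ∀ (L : List (List ℕ)) (e₀ : ℕ), K.chkGens T i L e₀ = true →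
    ∀ e, ∀ he : e < L.length, K.nxt i (e₀ + e) < K.m ∧ step4 T L[e] (K.tup i) = K.tup (K.nxt i (e₀ + e)) := by
  intro L
  induction L with
  | nil => intro _ _ e he; simp at he
  | cons w L ih =>
    intro e₀ h e he
    have h' : (force (K.nxt i e₀) (fun j => Nat.blt j K.m && Nat.beq (step4 T w (K.tup i)) (K.tup j)) &&
      force (e₀ + 1) (K.chkGens T i L)) = true := h
    simp only [force_eq, Bool.and_eq_true] at h'
    rcases e with _ | e
    · exact ⟨by simpa [Nat.blt] using h'.1.1, Nat.eq_of_beq_eq_true h'.1.2⟩
    · have := ih (e₀ + 1) h'.2 e (by simpa using he)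
      rw [show e₀ + (e + 1) = e₀ + 1 + e by omega]
      exact this

/-- What the checks say. -/
structure Checked (T : Table) (base : ℕ) : Prop where
  hroot : K.root < K.m
  elems : ∀ i < K.m, K.chkElem T base i = true

variable {K} {T : Table} {base : ℕ}

theorem Checked.tup_next (h : K.Checked T base) {i : ℕ} (hi : i < K.m) {e : ℕ} (he : e < K.gens.length) :
    K.nxt i e < K.m ∧ step4 T K.gens[e] (K.tup i) = K.tup (K.nxt i e) := by
  have h' := h.elems i hi
  simp only [chkElem, Bool.and_eq_true] at h'
  simpa using K.chkGens_get T i K.gens 0 h'.1.1 e he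

theorem Checked.tup_root (h : K.Checked T base) : K.tup K.root = base := by
  have h' := h.elems _ h.hroot
  simp only [chkElem, Bool.and_eq_true, Nat.beq_refl, cond_true] at h'
  exact Nat.eq_of_beq_eq_true h'.1.2

theorem Checked.pred (h : K.Checked T base) {i : ℕ} (hi : i < K.m) (hne : i ≠ K.root) :
    ∃ j < K.m, ∃ e < K.gens.length, field K.dep 128 8 j < field K.dep 128 8 i ∧ K.nxt j e = i := by
  have h' := h.elems i hi
  have hb : Nat.beq i K.root = false := by
    cases hh : Nat.beq i K.root
    · rfl
    · exact absurd (Nat.eq_of_beq_eq_true hh) hne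
  simp only [chkElem, Bool.and_eq_true, hb, cond_false, force_eq] at h'
  obtain ⟨⟨-, ⟨⟨h1, h2⟩, h3⟩, h4⟩, -⟩ := h'
  exact ⟨_, by simpa [Nat.blt] using h1, _, by simpa [Nat.blt] using h2, by simpa [Nat.blt] using h3,
    Nat.eq_of_beq_eq_true h4⟩

theorem Checked.tup_strictMono (h : K.Checked T base) {i j : ℕ} (hj : j < K.m) (hij : i < j) :
    K.tup i < K.tup j := by
  have step : ∀ i, i + 1 < K.m → K.tup i < K.tup (i + 1) := fun i hi => by
    have h' := h.elems i (by omega)
    simp only [chkElem, Bool.and_eq_true, Bool.or_eq_true] at h'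
    rcases h'.2 with h2 | h2
    · exact absurd (Nat.eq_of_beq_eq_true h2) (by omega)
    · simpa [Nat.blt] using h2
  induction j with
  | zero => omega
  | succ j ih =>
    rcases Nat.lt_succ_iff_lt_or_eq.1 hij with h1 | h1
    · exact (ih (by omega) h1).trans (step j hj)
    · rw [h1]; exact step j hj

theorem Checked.tup_inj (h : K.Checked T base) {i j : ℕ} (hi : i < K.m) (hj : j < K.m)
    (e : K.tup i = K.tup j) : i = j := by
  rcases lt_trichotomy i j with h1 | h1 | h1
  · exact absurd e (h.tup_strictMono hj h1).ne
  · exact h1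
  · exact absurd e.symm (h.tup_strictMono hi h1).ne

section Group

variable {G : Type*} [Group G] {E : G → ℕ} {s : ℕ → G}

variable (h : K.Checked T base) (hone : E 1 = base)
  (hstep : ∀ g : G, ∀ L ∈ K.gens, E (g * wprod s L) = step4 T L (E g))

include h hone hstep

/-- Every listed element is an element of the generated group. -/
theorem Checked.exists_of_lt (i : ℕ) (hi : i < K.m) :
    ∃ g ∈ Subgroup.closure (wprod s '' {L | L ∈ K.gens}), E g = K.tup i := by
  induction hd : field K.dep 128 8 i using Nat.strong_induction_on generalizing i with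
  | _ d ih =>
    rcases eq_or_ne i K.root with rfl | hne
    · exact ⟨1, one_mem _, by rw [hone, h.tup_root]⟩
    · obtain ⟨j, hj, e, he, hdep, hnx⟩ := h.pred hi hne
      obtain ⟨g, hg, hE⟩ := ih _ (hd ▸ hdep) j hj rfl
      refine ⟨g * wprod s K.gens[e], mul_mem hg (Subgroup.subset_closure ⟨_, List.getElem_mem he, rfl⟩), ?_⟩
      rw [hstep _ _ (List.getElem_mem he), hE, (h.tup_next hj he).2, hnx]

/-- Every element of the generated group is listed. -/
theorem Checked.exists_index [Finite G] {g : G} (hg : g ∈ Subgroup.closure (wprod s '' {L | L ∈ K.gens})) :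
    ∃ i < K.m, E g = K.tup i := by
  have hg' : g ∈ Submonoid.closure (wprod s '' {L | L ∈ K.gens}) := by
    rwa [← Subgroup.closure_toSubmonoid_of_finite]
  induction hg' using Submonoid.closure_induction_right with
  | one => exact ⟨K.root, h.hroot, by rw [hone, h.tup_root]⟩
  | mul_right a ha b hb ih =>
    obtain ⟨L, hL, rfl⟩ := hb
    obtain ⟨e, he, rfl⟩ := List.mem_iff_getElem.1 hL
    obtain ⟨i, hi, hE⟩ := ih (by rwa [← Subgroup.mem_toSubmonoid, Subgroup.closure_toSubmonoid_of_finite])
    exact ⟨_, (h.tup_next hi he).1, by rw [hstep _ _ (List.getElem_mem he), hE, (h.tup_next hi he).2]⟩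

/-- The listed elements bound the order from below. -/
theorem Checked.le_card [Finite G] : K.m ≤ Nat.card (Subgroup.closure (wprod s '' {L | L ∈ K.gens})) := by
  have hc : ∀ i : Fin K.m, ∃ g : Subgroup.closure (wprod s '' {L | L ∈ K.gens}), E g = K.tup i := fun i => by
    obtain ⟨g, hg, e⟩ := h.exists_of_lt hone hstep i i.2
    exact ⟨⟨g, hg⟩, e⟩
  choose f hf using hc
  have hinj : Function.Injective f := fun a b e => Fin.ext (h.tup_inj a.2 b.2 (by rw [← hf, ← hf, e]))
  simpa using Nat.card_le_card_of_injective f hinj

/-- With a faithful image map the listing gives the order. -/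
theorem Checked.card_eq [Finite G] (hE : Function.Injective E) :
    Nat.card (Subgroup.closure (wprod s '' {L | L ∈ K.gens})) = K.m := by
  refine le_antisymm ?_ (h.le_card hone hstep)
  have hc : ∀ g : Subgroup.closure (wprod s '' {L | L ∈ K.gens}), ∃ i : Fin K.m, E g = K.tup i := fun g => by
    obtain ⟨i, hi, e⟩ := h.exists_index hone hstep g.2
    exact ⟨⟨i, hi⟩, e⟩
  choose f hf using hc
  have hinj : Function.Injective f := fun a b e => Subtype.ext (hE (by rw [hf, hf, e]))
  simpa using Nat.card_le_card_of_injective f hinj

/-- An element whose images are listed lies in the generated group. -/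
theorem Checked.mem (hE : Function.Injective E) {g : G} {i : ℕ} (hi : i < K.m) (e : E g = K.tup i) :
    g ∈ Subgroup.closure (wprod s '' {L | L ∈ K.gens}) := by
  obtain ⟨k, hk, hk'⟩ := h.exists_of_lt hone hstep i hi
  rwa [hE (e.trans hk'.symm)]

end Group


/-- The tests at element `i` that are needed for a lower bound only. -/
noncomputable def chkLow (T : Table) (base i : ℕ) : Bool :=
  (bif Nat.beq i K.root then Nat.beq (K.tup i) base
    else force (field K.back 128 24 i) fun b => force (b / 8) fun j => force (b % 8) fun e =>
      Nat.blt j K.m && Nat.blt e K.gens.length && Nat.blt (field K.dep 128 8 j) (field K.dep 128 8 i) &&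
        Nat.beq (step4 T (K.gens.getD e []) (K.tup j)) (K.tup i)) &&
    (Nat.beq (i + 1) K.m || Nat.blt (K.tup i) (K.tup (i + 1)))

/-- The lower tests at `cnt` elements from `i`. -/
noncomputable def chkLows (T : Table) (base : ℕ) (cnt : ℕ) : ℕ → Bool :=
  Nat.rec (fun _ => true) (fun _ ih i => K.chkLow T base i && force (i + 1) ih) cnt

theorem chkLows_get (T : Table) (base : ℕ) : ∀ (cnt i : ℕ), K.chkLows T base cnt i = true →
    ∀ j, i ≤ j → j < i + cnt → K.chkLow T base j = true := by
  intro cnt
  induction cnt with
  | zero => intro i _ j h1 h2; omega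
  | succ cnt ih =>
    intro i h j h1 h2
    have h' : (K.chkLow T base i && force (i + 1) (fun i' => K.chkLows T base cnt i')) = true := h
    rw [Bool.and_eq_true, force_eq] at h'
    rcases eq_or_lt_of_le h1 with rfl | h3
    · exact h'.1
    · exact ih _ h'.2 j h3 (by omega)

section Low

variable {G : Type*} [Group G] [Finite G] {E : G → ℕ} {s : ℕ → G}

/-- A checked lower listing bounds the order from below. -/
theorem le_card_of_low (hroot : K.root < K.m) (hlow : ∀ i < K.m, K.chkLow T base i = true)
    (hone : E 1 = base) (hstep : ∀ g : G, ∀ L ∈ K.gens, E (g * wprod s L) = step4 T L (E g)) :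
    K.m ≤ Nat.card (Subgroup.closure (wprod s '' {L | L ∈ K.gens})) := by
  have mem : ∀ i, i < K.m → ∃ g ∈ Subgroup.closure (wprod s '' {L | L ∈ K.gens}), E g = K.tup i := by
    intro i hi
    induction hd : field K.dep 128 8 i using Nat.strong_induction_on generalizing i with
    | _ d ih =>
      have h' := hlow i hi
      simp only [chkLow, Bool.and_eq_true] at h'
      rcases eq_or_ne i K.root with rfl | hne
      · simp only [Nat.beq_refl, cond_true] at h'
        exact ⟨1, one_mem _, by rw [hone, Nat.eq_of_beq_eq_true h'.1]⟩
      · have hb : Nat.beq i K.root = false := by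
          cases hh : Nat.beq i K.root
          · rfl
          · exact absurd (Nat.eq_of_beq_eq_true hh) hne
        simp only [hb, cond_false, force_eq, Bool.and_eq_true] at h'
        obtain ⟨⟨⟨⟨h1, h2⟩, h3⟩, h4⟩, -⟩ := h'
        have h1 : field K.back 128 24 i / 8 < K.m := by simpa [Nat.blt] using h1
        have h2 : field K.back 128 24 i % 8 < K.gens.length := by simpa [Nat.blt] using h2
        have h3 : field K.dep 128 8 (field K.back 128 24 i / 8) < field K.dep 128 8 i := by
          simpa [Nat.blt] using h3
        obtain ⟨g, hg, hE⟩ := ih _ (hd ▸ h3) _ h1 rfl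
        have h4 := Nat.eq_of_beq_eq_true h4
        rw [List.getD_eq_getElem _ _ h2] at h4
        exact ⟨g * wprod s K.gens[field K.back 128 24 i % 8],
          mul_mem hg (Subgroup.subset_closure ⟨_, List.getElem_mem h2, rfl⟩),
          by rw [hstep _ _ (List.getElem_mem h2), hE, h4]⟩
  have hmono : ∀ i j, j < K.m → i < j → K.tup i < K.tup j := by
    intro i j hj hij
    induction j with
    | zero => omega
    | succ j ih =>
      have h' := hlow j (by omega)
      simp only [chkLow, Bool.and_eq_true, Bool.or_eq_true] at h'
      have st : K.tup j < K.tup (j + 1) := by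
        rcases h'.2 with h2 | h2
        · exact absurd (Nat.eq_of_beq_eq_true h2) (by omega)
        · simpa [Nat.blt] using h2
      rcases Nat.lt_succ_iff_lt_or_eq.1 hij with h1 | h1
      · exact (ih (by omega) h1).trans st
      · rw [h1]; exact st
  have hc : ∀ i : Fin K.m, ∃ g : Subgroup.closure (wprod s '' {L | L ∈ K.gens}), E g = K.tup i := fun i => by
    obtain ⟨g, hg, e⟩ := mem i i.2
    exact ⟨⟨g, hg⟩, e⟩
  choose f hf using hc
  have hinj : Function.Injective f := fun a b e => by
    have e' : K.tup a.1 = K.tup b.1 := by rw [← hf, ← hf, e]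
    rcases lt_trichotomy a.1 b.1 with h1 | h1 | h1
    · exact absurd e' (hmono _ _ b.2 h1).ne
    · exact Fin.ext h1
    · exact absurd e'.symm (hmono _ _ a.2 h1).ne
  simpa using Nat.card_le_card_of_injective f hinj

end Low

end Listing

end CfsgLib.InvChar.SporHN
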