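import Cfsg.Agent.Lib.InvChar.SporHNTrace
import Cfsg.Agent.Lib.InvChar.SporData.HN.Centraliser

/-!
# The action on 1539000 points
-/

set_option autoImplicit false
set_option maxRecDepth 100000

namespace CfsgLib.InvChar.SporHN

open CfsgLib.InvChar.Coset
open CfsgLib.KnownA

/-- The points: cosets of the nine stabilisers. -/
abbrev Pt : Type := Σ i : Fin 9, HP ⧸ Ki i.val

/-- An orbit number. -/
def fi (n : ℕ) : Fin 9 := ⟨n % 9, Nat.mod_lt _ (by omega)⟩

theorem fi_val {n : ℕ} (h : n < 9) : (fi n).val = n := Nat.mod_eq_of_lt h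

theorem eI_lt {k : ℕ} (hk : k < 101) : eI k < 9 := (rootQ_lt k hk).2.1

theorem eJ_lt {k : ℕ} (hk : k < 101) : eJ k < 9 := (rootQ_lt k hk).2.2

theorem pt_eq {i i' : Fin 9} (h : i = i') {a b : HP} (hm : a⁻¹ * b ∈ Ki i.val) :
    (⟨i, QuotientGroup.mk a⟩ : Pt) = ⟨i', QuotientGroup.mk b⟩ := by
  subst h
  exact Sigma.ext rfl (heq_of_eq (QuotientGroup.eq.2 hm))

theorem lab_exists (i : Fin 9) (q : Fin small.n) :
    ∃ u, u ∈ Ki i.val ∧ u.1 (rq (lab i.val q.val)) = q := (lab_facts i.2 q).2.2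

/-- The element of the stabiliser carrying the root of a class to a point. -/
noncomputable def labU (i : Fin 9) (q : Fin small.n) : HP := (lab_exists i q).choose

theorem labU_mem (i : Fin 9) (q : Fin small.n) : labU i q ∈ Ki i.val := (lab_exists i q).choose_spec.1

theorem labU_apply (i : Fin 9) (q : Fin small.n) : (labU i q).1 (rq (lab i.val q.val)) = q :=
  (lab_exists i q).choose_spec.2

/-- The point of the first coordinate of a representative. -/
noncomputable def qOf (g : HP) : Fin small.n := (g⁻¹ : HP).1 p0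

/-- The image of a representative under t. -/
noncomputable def tauRep (i : Fin 9) (g : HP) : Pt :=
  ⟨fi (eJ (lab i.val (qOf g).val)), QuotientGroup.mk (g * labU i (qOf g) * dk (lab i.val (qOf g).val))⟩

theorem lab_eI (i : Fin 9) (q : Fin small.n) : lab i.val q.val < 101 ∧ eI (lab i.val q.val) = i.val :=
  ⟨(lab_facts i.2 q).1, (lab_facts i.2 q).2.1⟩

theorem lab_orbit {i : Fin 9} {k : ℕ} (hk : k < 101) (hi : eI k = i.val) {u : HP} (hu : u ∈ Ki i.val) :
    lab i.val (u.1 (rq k)).val = k := by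
  have := (stab_struct hk).2 u (hi ▸ hu)
  rwa [hi] at this

theorem dk_conj' {k : ℕ} (hk : k < 101) {u : HP} (hu : u ∈ Ki (eI k)) (hfix : u.1 (rq k) = rq k) :
    (dk k)⁻¹ * u * dk k ∈ Ki (fi (eJ k)).val := by
  rw [fi_val (eJ_lt hk)]
  exact dk_conj hk hu hfix

theorem tauRep_congr (i : Fin 9) (g g' : HP) (h : g⁻¹ * g' ∈ Ki i.val) : tauRep i g = tauRep i g' := by
  have hq : qOf g' = ((g⁻¹ * g')⁻¹ : HP).1 (qOf g) := by
    show (g'⁻¹ : HP).1 p0 = ((g⁻¹ * g')⁻¹ : HP).1 ((g⁻¹ : HP).1 p0)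
    rw [← Equiv.Perm.mul_apply, ← Subgroup.coe_mul]
    congr 2
    group
  obtain ⟨hk, hki⟩ := lab_eI i (qOf g)
  set k := lab i.val (qOf g).val with hkdef
  have hlab : lab i.val (qOf g').val = k := by
    have := lab_orbit hk hki (mul_mem (Subgroup.inv_mem _ h) (labU_mem i (qOf g)))
    rw [Subgroup.coe_mul, Equiv.Perm.mul_apply, labU_apply, ← hq] at this
    exact this
  unfold tauRep
  rw [hlab, ← hkdef]
  refine Sigma.ext rfl (heq_of_eq (QuotientGroup.eq.2 ?_))
  have hmem : (labU i (qOf g))⁻¹ * (g⁻¹ * g') * labU i (qOf g') ∈ Ki (eI k) := by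
    rw [hki]
    exact mul_mem (mul_mem (Subgroup.inv_mem _ (labU_mem _ _)) h) (labU_mem _ _)
  have hfix : ((labU i (qOf g))⁻¹ * (g⁻¹ * g') * labU i (qOf g') : HP).1 (rq k) = rq k := by
    have e := labU_apply i (qOf g')
    rw [hlab] at e
    have e0 := labU_apply i (qOf g)
    rw [← hkdef] at e0
    rw [Subgroup.coe_mul, Equiv.Perm.mul_apply, e, Subgroup.coe_mul, Equiv.Perm.mul_apply, hq]
    conv_lhs => rw [show ((g⁻¹ * g' : HP) : Equiv.Perm (Fin small.n)) (((g⁻¹ * g')⁻¹ : HP).1 (qOf g)) = qOf g by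
      rw [← Equiv.Perm.mul_apply, ← Subgroup.coe_mul, mul_inv_cancel, Subgroup.coe_one, Equiv.Perm.one_apply]]
    generalize labU i (qOf g) = U at e0 ⊢
    rw [← e0, ← Equiv.Perm.mul_apply, ← Subgroup.coe_mul, inv_mul_cancel, Subgroup.coe_one, Equiv.Perm.one_apply]
  convert dk_conj' hk hmem hfix using 1
  group

/-- The map of t. -/
noncomputable def tauX (p : Pt) : Pt :=
  Quotient.liftOn' p.2 (tauRep p.1) fun g g' h => tauRep_congr p.1 g g' (QuotientGroup.leftRel_apply.1 h)

theorem tauX_mk (i : Fin 9) (g : HP) : tauX ⟨i, QuotientGroup.mk g⟩ = tauRep i g := rfl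

/-- The semantics on the points. -/
noncomputable def semX : Sem Pt where
  tau := tauX
  taui p := tauX (tauX (tauX (tauX p)))
  b j := ⟨fi j, QuotientGroup.mk 1⟩
  comm c hc p := by
    obtain ⟨i, x⟩ := p
    induction x using QuotientGroup.induction_on with
    | H g =>
      have hq : qOf (c * g) = qOf g := by
        show ((c * g)⁻¹ : HP).1 p0 = (g⁻¹ : HP).1 p0
        rw [mul_inv_rev, Subgroup.coe_mul, Equiv.Perm.mul_apply, mem_K1_iff.1 (Subgroup.inv_mem _ hc)]
      show tauRep i (c * g) = c • tauRep i g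
      unfold tauRep
      rw [hq, Sigma.smul_mk]
      refine Sigma.ext rfl (heq_of_eq ?_)
      show _ = QuotientGroup.mk (c * _)
      simp only [mul_assoc]

theorem semX_pt (j : ℕ) (v : List ℕ) :
    semX.pt j v = (⟨fi j, QuotientGroup.mk ((wprod hs v)⁻¹)⟩ : Pt) := by
  show (wprod hs v)⁻¹ • (⟨fi j, QuotientGroup.mk 1⟩ : Pt) = _
  rw [Sigma.smul_mk]
  refine Sigma.ext rfl (heq_of_eq ?_)
  show QuotientGroup.mk ((wprod hs v)⁻¹ * 1) = _
  rw [mul_one]

theorem semX_good {j : ℕ} (hj : j < 9) : semX.GoodB j := by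
  intro g hg
  show g • (⟨fi j, QuotientGroup.mk 1⟩ : Pt) = _
  rw [Sigma.smul_mk]
  refine pt_eq rfl ?_
  show (g * 1)⁻¹ * 1 ∈ Ki (fi j).val
  rw [fi_val hj, mul_one, mul_one, Subgroup.inv_mem_iff]
  exact hg

theorem rq_eq {k : ℕ} (hk : k < 101) : rq k = qOf ((wprod hs (eH k))⁻¹) := by
  obtain ⟨hH, -, hr⟩ := edge_facts k hk
  refine Fin.ext ?_
  rw [rq_val hk, ← hr]
  show small.follow (winv (eH k)) p0 = (((wprod hs (eH k))⁻¹⁻¹ : HP).1 p0).val
  rw [← hs_follow (winv_lt hH), wprod_winv hLetters_hs hH]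

theorem semX_known {k : ℕ} (hk : k < 101) : semX.Known k := by
  obtain ⟨hH, hT, -⟩ := edge_facts k hk
  have hi := (eI_lt hk)
  show tauX (semX.pt (eI k) (eH k)) = semX.pt (eJ k) (eT k)
  rw [semX_pt, semX_pt, tauX_mk]
  unfold tauRep
  rw [← rq_eq hk]
  have hlab : lab (fi (eI k)).val (rq k).val = k := by
    have := lab_orbit (i := fi (eI k)) hk (fi_val hi).symm (one_mem _)
    simpa using this
  rw [hlab]
  refine Sigma.ext rfl (heq_of_eq (QuotientGroup.eq.2 ?_))
  have hu := labU_mem (fi (eI k)) (rq k)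
  have hf := labU_apply (fi (eI k)) (rq k)
  rw [hlab] at hf
  rw [← Subgroup.inv_mem_iff]
  have hm : labU (fi (eI k)) (rq k) ∈ Ki (eI k) := by
    have e := fi_val hi
    generalize labU (fi (eI k)) (rq k) = w at hu
    rw [e] at hu
    exact hu
  convert dk_conj' hk hm hf using 1
  rw [dk, wprod_append, wprod_winv hLetters_hs hT]
  group

/-- Every point is a translate of a root by an element fixing the first point. -/
theorem root_cover (p : Pt) : ∃ c ∈ Ki 1, ∃ k < 101, p = c • semX.pt (eI k) (eH k) := by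
  obtain ⟨i, x⟩ := p
  induction x using QuotientGroup.induction_on with
  | H g =>
    obtain ⟨hk, hki⟩ := lab_eI i (qOf g)
    set k := lab i.val (qOf g).val with hkdef
    refine ⟨g * labU i (qOf g) * wprod hs (eH k), mem_K1_iff.2 ?_, k, hk, ?_⟩
    · have e := labU_apply i (qOf g)
      rw [← hkdef] at e
      have e2 : (wprod hs (eH k)).1 p0 = rq k := by
        rw [rq_eq hk, qOf, inv_inv]
      rw [Subgroup.coe_mul, Equiv.Perm.mul_apply, e2, Subgroup.coe_mul, Equiv.Perm.mul_apply, e]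
      show g.1 ((g⁻¹ : HP).1 p0) = p0
      rw [Subgroup.coe_inv]
      exact Equiv.apply_symm_apply _ _
    · rw [semX_pt, Sigma.smul_mk]
      refine pt_eq (Fin.ext (by rw [fi_val (eI_lt hk), hki])) ?_
      show g⁻¹ * (g * labU i (qOf g) * wprod hs (eH k) * (wprod hs (eH k))⁻¹) ∈ Ki i.val
      rw [mul_inv_cancel_right, inv_mul_cancel_left]
      exact labU_mem _ _

/-- All orbits. -/
def allGood : List ℕ := List.range 9
/-- All roots. -/
def allKnown : List ℕ := List.range 101

/-- The test of a relator at all roots translated by one word. -/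
noncomputable def chkRelRow (L r : List ℕ) : List (List (ℕ × List ℕ × ℕ) × ℕ) → ℕ → Bool
  | [], k => Nat.ble 101 k
  | e :: es, k =>
    (match runT allKnown allGood L (eI k) (eH k ++ r) e.1 with
      | some (j', v') => Nat.beq j' (eI k) && sameW allGood (eI k) v' (eH k ++ r) e.2
      | none => false) && chkRelRow L r es (k + 1)

/-- The test of a relator at several translates. -/
noncomputable def chkRelRows (L : List ℕ) : List (List ℕ) → List (List (List (ℕ × List ℕ × ℕ) × ℕ)) → Bool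
  | [], _ => true
  | r :: rs, rows => chkC r && chkRelRow L r (rows.headD []) 0 && chkRelRows L rs rows.tail

theorem chkRelRow_sound {L r : List ℕ} (hL : ∀ a ∈ L, a < 6) (hr : chkC r = true) :
    ∀ (es : List (List (ℕ × List ℕ × ℕ) × ℕ)) (k0 : ℕ), chkRelRow L r es k0 = true → ∀ k, k0 ≤ k → k < 101 →
      semX.fw L (semX.pt (eI k) (eH k ++ r)) = semX.pt (eI k) (eH k ++ r) := by
  intro es
  induction es with
  | nil =>
    intro k0 h k h1 h2
    rw [chkRelRow] at h
    have := Nat.le_of_ble_eq_true h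
    omega
  | cons e es ih =>
    intro k0 h k h1 h2
    rw [chkRelRow, Bool.and_eq_true] at h
    rcases eq_or_lt_of_le h1 with rfl | h3
    · have hv : ∀ x ∈ eH k0 ++ r, x < 5 := app_lt (edge_facts k0 h2).1 (chkC_get hr).1
      cases hrun : runT allKnown allGood L (eI k0) (eH k0 ++ r) e.1 with
      | none => rw [hrun] at h; exact absurd h.1 (by simp)
      | some res =>
        obtain ⟨j', v'⟩ := res
        rw [hrun] at h
        have hh := h.1
        simp only [Bool.and_eq_true] at hh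
        have hK : ∀ k ∈ allKnown, k < 101 → semX.Known k := fun k _ hk => semX_known hk
        have hG : ∀ j ∈ allGood, semX.GoodB j := fun j hj => semX_good (List.mem_range.1 hj)
        obtain ⟨hv', e1⟩ := runT_sound hK hG L (Or.inl hL) _ _ _ hv hrun
        rw [e1, Nat.eq_of_beq_eq_true hh.1]
        exact sameW_sound hG hv' hv hh.2
    · exact ih (k0 + 1) h.2 k h3 h2

theorem chkRelRows_sound {L : List ℕ} (hL : ∀ a ∈ L, a < 6) :
    ∀ (rs : List (List ℕ)) (rows : List (List (List (ℕ × List ℕ × ℕ) × ℕ))), chkRelRows L rs rows = true →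
      ∀ r ∈ rs, chkC r = true ∧ ∀ k < 101,
        semX.fw L (semX.pt (eI k) (eH k ++ r)) = semX.pt (eI k) (eH k ++ r) := by
  intro rs
  induction rs with
  | nil => intro _ _ r hr; simp at hr
  | cons r0 rs ih =>
    intro rows h r hr
    rw [chkRelRows, Bool.and_eq_true, Bool.and_eq_true] at h
    rcases List.mem_cons.1 hr with rfl | hr
    · exact ⟨h.1.1, fun k hk => chkRelRow_sound hL h.1.1 _ 0 h.1.2 k (Nat.zero_le _) hk⟩
    · exact ih _ h.2 r hr

theorem Pt_card : Nat.card Pt = 1539000 := by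
  have hidx : ∀ i : Fin 9, Nat.card (HP ⧸ Ki i.val) * mI i.val = 177408000 := fun i => by
    rw [← Ki_card_all i.2, ← HP_card]
    exact (Ki i.val).index_mul_card
  have hval : ∀ i : Fin 9, Nat.card (HP ⧸ Ki i.val) = 177408000 / mI i.val := fun i => by
    have hpos : 0 < mI i.val := by rw [← Ki_card_all i.2]; exact Nat.card_pos
    rw [← hidx i, Nat.mul_div_cancel _ hpos]
  rw [Nat.card_sigma, Finset.sum_congr rfl fun i _ => hval i]
  decide +kernel

end CfsgLib.InvChar.SporHN
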