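import Cfsg.Agent.Lib.InvChar.SporHNSimple
import Cfsg.Agent.Lib.InvChar.SporData.HN.ZConj
import Cfsg.Agent.Lib.StructB.HN2HS.Embed
import Cfsg.Agent.Lib.KnownA.HSModel.Multiplier
import Cfsg.Agent.Lib.Coprime.Schur
import Cfsg.Prelude.Def_KGroupFacts

/-!
# The Schur multiplier of the presented HN is trivial

In a stem extension the derived preimage of 2·HS maps injectively, as HS has multiplier of order two. Lifts of
x and y are taken there, z is lifted as a conjugate of the square of the lift of x, and t by rescaling; then all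
fourteen relators hold, so the extension splits.
-/

set_option autoImplicit false
set_option maxRecDepth 100000

namespace CfsgLib.InvChar.SporHN

open CfsgLib.InvChar.Coset
open Cfsg.Spor
open scoped commutatorElement

/-- The image of the double cover. -/
noncomputable def evenSub : Subgroup HN := CfsgLib.StructB.HN2HS.K.map CfsgLib.StructB.HN2HS.emb

theorem emb_s : ∀ n < 5, CfsgLib.StructB.HN2HS.emb (CfsgLib.StructB.HN2HS.s n) = gen n := by
  intro n hn
  show FreeGroup.lift CfsgLib.StructB.HN2HS.hf (CfsgLib.StructB.HN2HS.fs n) = gen n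
  interval_cases n <;>
    simp [CfsgLib.StructB.HN2HS.fs, CfsgLib.StructB.HN2HS.hf, gen] <;> rfl

theorem emb_injective : Function.Injective CfsgLib.StructB.HN2HS.emb :=
  CfsgLib.StructB.HN2HS.injective_of_xx _ CfsgLib.StructB.HN2HS.emb_xx

theorem gen_mem_evenSub {x : ℕ} (hx : x < 4) : gen x ∈ evenSub := by
  rw [← emb_s x (by omega)]
  exact Subgroup.mem_map_of_mem _ (CfsgLib.StructB.HN2HS.low_mem x hx)

theorem evenSub_conj {k : HN} (hk : k ∈ evenSub) : gen 4 * k * gen 4 ∈ evenSub := by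
  obtain ⟨a, ha, rfl⟩ := hk
  rw [← emb_s 4 (by omega), ← map_mul, ← map_mul]
  exact Subgroup.mem_map_of_mem _ (CfsgLib.StructB.HN2HS.z_conj ha)

theorem evenSub_perfect : ⁅evenSub, evenSub⁆ = evenSub := by
  rw [evenSub, ← Subgroup.map_commutator]
  congr 1
  have h := congrArg (Subgroup.map CfsgLib.StructB.HN2HS.K.subtype) CfsgLib.StructB.HN2HS.perfect_K
  rwa [Subgroup.map_subtype_commutator, ← MonoidHom.range_eq_map, Subgroup.range_subtype] at h

theorem xx_ne_one : gen 0 * gen 0 ≠ 1 := by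
  have h := CfsgLib.StructB.HN2HS.emb_xx
  rwa [map_mul, emb_s 0 (by omega)] at h

/-- The word showing z conjugate to the square of x. -/
def zConjWord : List ℕ := winv zConjW ++ [4] ++ zConjW ++ [1, 1]

theorem zConj_ok : (∀ a ∈ zConjWord, a < 7) ∧ chkFix zConjWord fixStarts zConjTr = true := by
  decide +kernel

theorem z_eq_conj : gen 4 = wprod gen zConjW * (gen 0 * gen 0) * (wprod gen zConjW)⁻¹ := by
  have h := word_eq_one_of_chkFix zConj_ok.1 zConj_ok.2
  rw [zConjWord, wprod_append, wprod_append, wprod_append, wprod_gen_winv] at h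
  have h1 : wprod gen [1, 1] = (gen 0 * gen 0)⁻¹ := by simp [wprod, gen, mul_inv_rev]
  rw [h1, show wprod gen [4] = gen 4 by simp [wprod], mul_inv_eq_one] at h
  rw [← h]
  group

/-- In a perfect group the second center is the center. -/
theorem mem_center_of_second_center {L : Type*} [Group L] (hL : commutator L = ⊤) {n : L}
    (hz : ∀ l : L, ⁅n, l⁆ ∈ Subgroup.center L) : n ∈ Subgroup.center L := by
  have hmul : ∀ a b : L, ⁅n, a * b⁆ = ⁅n, a⁆ * ⁅n, b⁆ := fun a b => by
    calc ⁅n, a * b⁆ = ⁅n, a⁆ * (a * ⁅n, b⁆ * a⁻¹) := by simp only [commutatorElement_def]; group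
      _ = ⁅n, a⁆ * ⁅n, b⁆ := by rw [Subgroup.mem_center_iff.1 (hz b) a]; group
  let δ : L →* ↥(Subgroup.center L) :=
    { toFun := fun l => ⟨⁅n, l⁆, hz l⟩
      map_one' := Subtype.ext (commutatorElement_one_right n)
      map_mul' := fun a b => Subtype.ext (hmul a b) }
  refine Subgroup.mem_center_iff.2 fun l => ?_
  have hle : commutator L ≤ δ.ker := by
    rw [commutator_def, Subgroup.commutator_le]
    intro a _ b _
    rw [MonoidHom.mem_ker, map_commutatorElement, commutatorElement_eq_one_iff_mul_comm]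
    exact Subtype.ext (Subgroup.mem_center_iff.1 (δ b).2 (δ a).1)
  rw [hL] at hle
  have h := congrArg Subtype.val (MonoidHom.mem_ker.1 (hle (Subgroup.mem_top l)))
  exact (commutatorElement_eq_one_iff_mul_comm.1 h).symm

section Stem

variable {Γ : Type} [Group Γ] [Finite Γ] {σ : Γ →* HN}

/-- The derived subgroup of the preimage of the double cover. -/
noncomputable def liftSub (σ : Γ →* HN) : Subgroup Γ := ⁅evenSub.comap σ, evenSub.comap σ⁆

theorem liftSub_map (hσ : Function.Surjective σ) : (liftSub σ).map σ = evenSub := by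
  rw [liftSub, Subgroup.map_commutator, Subgroup.map_comap_eq_self_of_surjective hσ, evenSub_perfect]

theorem liftSub_perfect (hσ : Function.Surjective σ) (hc : σ.ker ≤ Subgroup.center Γ) :
    ⁅liftSub σ, liftSub σ⁆ = liftSub σ := by
  refine le_antisymm (Subgroup.commutator_le_self _) ?_
  have split : ∀ a ∈ evenSub.comap σ, ∃ l ∈ liftSub σ, ∃ c ∈ Subgroup.center Γ, a = l * c := by
    intro a ha
    have : σ a ∈ (liftSub σ).map σ := by rw [liftSub_map hσ]; exact ha
    obtain ⟨l, hl, e⟩ := this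
    exact ⟨l, hl, l⁻¹ * a, hc (by simp [MonoidHom.mem_ker, e]), by group⟩
  show ⁅evenSub.comap σ, evenSub.comap σ⁆ ≤ _
  rw [Subgroup.commutator_le]
  intro a ha b hb
  obtain ⟨l, hl, c, hc', rfl⟩ := split a ha
  obtain ⟨m, hm, d, hd', rfl⟩ := split b hb
  have e : ⁅l * c, m * d⁆ = ⁅l, m⁆ := by
    have hc1 := Subgroup.mem_center_iff.1 hc'
    have hd1 := Subgroup.mem_center_iff.1 hd'
    simp only [commutatorElement_def, mul_inv_rev]
    calc l * c * (m * d) * (c⁻¹ * l⁻¹) * (d⁻¹ * m⁻¹)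
        = l * (c * (m * d)) * c⁻¹ * l⁻¹ * (d⁻¹ * m⁻¹) := by simp only [mul_assoc]
      _ = l * ((m * d) * c) * c⁻¹ * l⁻¹ * (d⁻¹ * m⁻¹) := by rw [hc1 (m * d)]
      _ = l * m * (d * l⁻¹) * d⁻¹ * m⁻¹ := by group
      _ = l * m * (l⁻¹ * d) * d⁻¹ * m⁻¹ := by rw [hd1 l⁻¹]
      _ = l * m * l⁻¹ * m⁻¹ := by group
  rw [e]
  exact Subgroup.commutator_mem_commutator hl hm

set_option maxHeartbeats 1600000 in
/-- The map of the derived preimage onto the numbered HS. -/
theorem liftSub_inj (hσ : Function.Surjective σ) (hc : σ.ker ≤ Subgroup.center Γ) :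
    ∀ g ∈ liftSub σ, σ g = 1 → g = 1 := by
  have := CfsgLib.StructB.HN2HS.finite_P
  let e : ↥CfsgLib.StructB.HN2HS.K ≃* ↥evenSub :=
    Subgroup.equivMapOfInjective _ _ emb_injective
  have hmem : ∀ g : ↥(liftSub σ), σ g ∈ evenSub := fun g =>
    liftSub_map hσ ▸ Subgroup.mem_map_of_mem σ g.2
  let τ₀ : ↥(liftSub σ) →* ↥evenSub := (σ.comp (liftSub σ).subtype).codRestrict _ hmem
  have hτ₀ : Function.Surjective τ₀ := by
    rintro ⟨h, hh⟩
    rw [← liftSub_map hσ] at hh
    obtain ⟨g, hg, rfl⟩ := hh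
    exact ⟨⟨g, hg⟩, rfl⟩
  let τ : ↥(liftSub σ) →* _ := CfsgLib.StructB.HN2HS.phiK.comp (e.symm.toMonoidHom.comp τ₀)
  have hsurj : Function.Surjective τ :=
    CfsgLib.StructB.HN2HS.phiK_surjective.comp (e.symm.surjective.comp hτ₀)
  have hperf : commutator ↥(liftSub σ) = ⊤ := by
    refine Subgroup.map_injective (liftSub σ).subtype_injective ?_
    rw [Subgroup.map_subtype_commutator, liftSub_perfect hσ hc, ← MonoidHom.range_eq_map, Subgroup.range_subtype]
  have hcentral : τ.ker ≤ Subgroup.center ↥(liftSub σ) := by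
    intro n hn
    have hk : e.symm (τ₀ n) ∈ Subgroup.center ↥CfsgLib.StructB.HN2HS.K :=
      CfsgLib.StructB.HN2HS.ker_central hn
    have hz : ∀ l : ↥(liftSub σ), (⁅n, l⁆ : ↥(liftSub σ)) ∈ Subgroup.center ↥(liftSub σ) := by
      intro l
      have h1 : τ₀ ⁅n, l⁆ = 1 := by
        refine e.symm.injective ?_
        rw [map_one, map_commutatorElement, map_commutatorElement, commutatorElement_eq_one_iff_mul_comm]
        exact (Subgroup.mem_center_iff.1 hk _).symm
      have h2 : ((⁅n, l⁆ : ↥(liftSub σ)) : Γ) ∈ Subgroup.center Γ := hc (congrArg Subtype.val h1)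
      exact Subgroup.mem_center_iff.2 fun w => Subtype.ext (Subgroup.mem_center_iff.1 h2 w)
    exact mem_center_of_second_center hperf hz
  have hstem : Cfsg.IsStemExtension τ := ⟨hsurj, hcentral, hperf ▸ le_top⟩
  obtain ⟨π, hπ⟩ := CfsgLib.Schur.exists_surjective_of_stem hstem
  have hm := CfsgLib.Schur.card_mult_of_cyclic CfsgLib.KnownA.HSModel.multiplier
  have hle : Nat.card τ.ker ≤ 2 := by
    have : Finite ↥(CfsgLib.Schur.mult ↥CfsgLib.KnownA.HSModel.hsPermGroup) :=
      Nat.finite_of_card_ne_zero (by rw [hm]; decide)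
    exact (Nat.card_le_card_of_surjective π hπ).trans_eq hm
  intro g hg hg1
  obtain ⟨a, ha⟩ := hτ₀ (e CfsgLib.StructB.HN2HS.xx)
  by_contra hne
  have hk0 : τ₀ ⟨g, hg⟩ = 1 := Subtype.ext hg1
  have m0 : (⟨g, hg⟩ : ↥(liftSub σ)) ∈ τ.ker := by
    rw [MonoidHom.mem_ker]
    show CfsgLib.StructB.HN2HS.phiK (e.symm (τ₀ _)) = 1
    rw [hk0, map_one, map_one]
  have m1 : a ∈ τ.ker := by
    rw [MonoidHom.mem_ker]
    show CfsgLib.StructB.HN2HS.phiK (e.symm (τ₀ a)) = 1
    rw [ha, e.symm_apply_apply]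
    exact CfsgLib.StructB.HN2HS.xx_ker
  have hxx : τ₀ a ≠ 1 := fun h => by
    rw [ha, map_eq_one_iff e e.injective] at h
    have := congrArg (fun k : ↥CfsgLib.StructB.HN2HS.K => CfsgLib.StructB.HN2HS.emb k) h
    exact CfsgLib.StructB.HN2HS.emb_xx (this.trans (map_one _))
  let f : Fin 3 → τ.ker := ![1, ⟨_, m0⟩, ⟨a, m1⟩]
  have hf : Function.Injective f := by
    have n1 : (⟨_, m0⟩ : τ.ker) ≠ 1 := fun h => hne (congrArg (fun v : τ.ker => (v.1 : Γ)) h)
    have n2 : (⟨a, m1⟩ : τ.ker) ≠ 1 := fun h => hxx (by rw [show a = 1 from congrArg Subtype.val h, map_one])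
    have n3 : (⟨_, m0⟩ : τ.ker) ≠ ⟨a, m1⟩ := fun h => hxx (by
      rw [← show (⟨g, hg⟩ : ↥(liftSub σ)) = a from congrArg Subtype.val h, hk0])
    intro i j hij
    fin_cases i <;> fin_cases j <;>
      first
      | rfl
      | exact absurd hij n1
      | exact absurd hij.symm n1
      | exact absurd hij n2
      | exact absurd hij.symm n2
      | exact absurd hij n3
      | exact absurd hij.symm n3
  have h3 := (Nat.card_le_card_of_injective f hf).trans hle
  rw [Nat.card_fin] at h3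
  omega

/-- Letters for the lifts. -/
def liftL (a b c d : Γ) : ℕ → Γ
  | 0 => a | 1 => a⁻¹ | 2 => b | 3 => b⁻¹ | 4 => c | 5 => d | 6 => d⁻¹ | _ => 1

theorem exists_lifts (hσ : Function.Surjective σ) (hc : σ.ker ≤ Subgroup.center Γ) :
    ∃ T : ℕ → Γ, (∀ x < 7, T (ivT x) = (T x)⁻¹) ∧ (∀ x < 7, σ (T x) = gen x) ∧
      ∀ r ∈ rels, wprod T r = 1 := by
  have cen : ∀ {g : Γ}, σ g = 1 → ∀ w : Γ, w * g = g * w := fun h => Subgroup.mem_center_iff.1 (hc h)
  have inj := liftSub_inj hσ hc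
  have lift : ∀ x < 4, ∃ a ∈ liftSub σ, σ a = gen x := fun x hx => by
    have := gen_mem_evenSub hx
    rw [← liftSub_map hσ] at this
    exact this
  obtain ⟨a, ha, hσa⟩ := lift 0 (by omega)
  obtain ⟨b, hb, hσb⟩ := lift 2 (by omega)
  have inj2 : ∀ g h : Γ, g ∈ liftSub σ → h ∈ liftSub σ → σ g = σ h → g = h := fun g h hg hh e =>
    mul_inv_eq_one.1 (inj _ (mul_mem hg (inv_mem hh)) (by rw [map_mul, map_inv, e, mul_inv_cancel]))
  have hcomm : a * a * b = b * (a * a) := by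
    refine inj2 _ _ (mul_mem (mul_mem ha ha) hb) (mul_mem hb (mul_mem ha ha)) ?_
    have r := gen_rel [0, 0, 2, 0, 0, 3] (by decide)
    have r4 := x_four hLetters_gen
    simp only [wprod, List.map_cons, List.map_nil, List.prod_cons, List.prod_nil, mul_one,
      show gen 3 = (gen 2)⁻¹ from gen_ivT 2] at r r4
    simp only [map_mul, hσa, hσb]
    calc gen 0 * gen 0 * gen 2
        = (gen 0 * (gen 0 * (gen 2 * (gen 0 * (gen 0 * (gen 2)⁻¹))))) * gen 2 * (gen 0 * gen 0)⁻¹ := by group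
      _ = gen 2 * ((gen 0 * gen 0)⁻¹ * (gen 0 * (gen 0 * (gen 0 * gen 0)))) := by rw [r, r4]; group
      _ = gen 2 * (gen 0 * gen 0) := by rw [← mul_assoc (gen 0) (gen 0) (gen 0 * gen 0), inv_mul_cancel_left]
  have ha4 : a * (a * (a * a)) = 1 := by
    refine inj _ (mul_mem ha (mul_mem ha (mul_mem ha ha))) ?_
    have r4 := x_four hLetters_gen
    simp only [map_mul, hσa]
    simpa [wprod] using r4
  -- the involution over z
  obtain ⟨g, hg⟩ := hσ (wprod gen zConjW)
  set c := g * (a * a) * g⁻¹ with hcdef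
  have hσc : σ c = gen 4 := by
    rw [hcdef, map_mul, map_mul, map_inv, hg, map_mul, hσa, ← z_eq_conj]
  have hcc : c * c = 1 := by
    rw [hcdef]
    calc g * (a * a) * g⁻¹ * (g * (a * a) * g⁻¹) = g * (a * (a * (a * a))) * g⁻¹ := by group
      _ = 1 := by rw [ha4, mul_one, mul_inv_cancel]
  have hci : c⁻¹ = c := inv_eq_of_mul_eq_one_right hcc
  have conjL : ∀ (c' : Γ), σ c' = gen 4 → c' * c' = 1 → ∀ l ∈ liftSub σ, c' * l * c' ∈ liftSub σ := by
    intro c' hc' hcc' l hl
    have hi : c'⁻¹ = c' := inv_eq_of_mul_eq_one_right hcc'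
    have hle : (evenSub.comap σ).map (MulAut.conj c').toMonoidHom ≤ evenSub.comap σ := by
      rintro _ ⟨k, hk, rfl⟩
      show σ (c' * k * c'⁻¹) ∈ evenSub
      rw [hi, map_mul, map_mul, hc']
      exact evenSub_conj hk
    have h1 : MulAut.conj c' l ∈ liftSub σ := by
      have h2 : MulAut.conj c' l ∈ (liftSub σ).map (MulAut.conj c').toMonoidHom := Subgroup.mem_map_of_mem _ hl
      rw [liftSub, Subgroup.map_commutator] at h2
      exact Subgroup.commutator_mono hle hle h2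
    rw [MulAut.conj_apply, hi] at h1
    exact h1
  have huc : c * (a * a) * c = a * a := by
    refine inj2 _ _ (conjL c hσc hcc _ (mul_mem ha ha)) (mul_mem ha ha) ?_
    have r := gen_rel [4, 0, 4, 0] (by decide)
    have r4 := x_four hLetters_gen
    have rz := z_sq
    simp only [wprod, List.map_cons, List.map_nil, List.prod_cons, List.prod_nil, mul_one] at r r4
    have hz : gen 4 * gen 4 = 1 := rz
    simp only [map_mul, hσa, hσc]
    have e : gen 4 * gen 0 * gen 4 = (gen 0)⁻¹ := eq_inv_of_mul_eq_one_left (by simpa [mul_assoc] using r)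
    calc gen 4 * (gen 0 * gen 0) * gen 4 = gen 4 * gen 0 * (gen 4 * gen 4) * gen 0 * gen 4 := by
          rw [hz, mul_one]; simp only [mul_assoc]
      _ = (gen 4 * gen 0 * gen 4) * (gen 4 * gen 0 * gen 4) := by simp only [mul_assoc]
      _ = (gen 0)⁻¹ * (gen 0)⁻¹ * (gen 0 * (gen 0 * (gen 0 * gen 0))) := by rw [e, r4, mul_one]
      _ = gen 0 * gen 0 := by simp only [← mul_assoc, inv_mul_cancel_right, inv_mul_cancel, one_mul]
  -- the element over t
  obtain ⟨t₀, ht₀⟩ := hσ (gen 5)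
  have cp : ∀ (u w : Γ) (n : ℕ), (u⁻¹ * w * u) ^ n = u⁻¹ * w ^ n * u := fun u w n => by
    simpa using conj_pow (i := n) (a := u⁻¹) (b := w)
  set q := a⁻¹ * t₀ * a * (t₀ * t₀) with hqdef
  set e := t₀ ^ 5 with hedef
  have hσq : σ q = 1 := by
    have r := gen_rel [1, 5, 0, 5, 5] (by decide)
    simp only [wprod, List.map_cons, List.map_nil, List.prod_cons, List.prod_nil, mul_one,
      show gen 1 = (gen 0)⁻¹ from gen_ivT 0] at r
    rw [hqdef]
    simp only [map_mul, map_inv, hσa, ht₀]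
    simpa [mul_assoc] using r
  have hσe : σ e = 1 := by
    have r := gen_rel [5, 5, 5, 5, 5] (by decide)
    simp only [wprod, List.map_cons, List.map_nil, List.prod_cons, List.prod_nil, mul_one] at r
    rw [hedef, map_pow, ht₀]
    simpa [pow_succ, mul_assoc] using r
  have he3 : e ^ 3 = q ^ 5 := by
    have h1 : a⁻¹ * t₀ * a = q * (t₀ * t₀)⁻¹ := by rw [hqdef]; group
    have h2 : a⁻¹ * e * a = e := by rw [mul_assoc, ← cen hσe a]; group
    have h3 : a⁻¹ * e * a = (a⁻¹ * t₀ * a) ^ 5 := by rw [hedef, cp]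
    have h4 : (q * (t₀ * t₀)⁻¹) ^ 5 = q ^ 5 * (e ^ 2)⁻¹ := by
      rw [Commute.mul_pow (show Commute q (t₀ * t₀)⁻¹ from (cen hσq _).symm) 5, hedef]
      group
    rw [h2, h1, h4] at h3
    calc e ^ 3 = e * e ^ 2 := by group
      _ = q ^ 5 * (e ^ 2)⁻¹ * e ^ 2 := by rw [← h3]
      _ = q ^ 5 := by group
  set k := e * (q ^ 2)⁻¹ with hkdef
  have hσk : σ k = 1 := by rw [hkdef, map_mul, hσe, map_inv, map_pow, hσq]; simp
  have hek : Commute e (q ^ 2)⁻¹ := (cen hσe _).symm
  have hk3 : k ^ 3 = q⁻¹ := by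
    rw [hkdef, Commute.mul_pow hek, he3]
    group
  have hk5 : k ^ 5 = e⁻¹ := by
    rw [hkdef, Commute.mul_pow hek]
    calc e ^ 5 * ((q ^ 2)⁻¹) ^ 5 = e ^ 5 * ((q ^ 5) ^ 2)⁻¹ := by group
      _ = e ^ 5 * ((e ^ 3) ^ 2)⁻¹ := by rw [he3]
      _ = e⁻¹ := by group
  set t := t₀ * k with htdef
  have hσt : σ t = gen 5 := by rw [htdef, map_mul, ht₀, hσk, mul_one]
  have ht5 : t ^ 5 = 1 := by
    rw [htdef, Commute.mul_pow (show Commute t₀ k from cen hσk t₀), hk5, ← hedef, mul_inv_cancel]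
  have hxt : a⁻¹ * t * a * (t * t) = 1 := by
    have ck : ∀ w : Γ, w * k = k * w := cen hσk
    calc a⁻¹ * t * a * (t * t) = a⁻¹ * t₀ * (k * a) * (t₀ * (k * t₀) * k) := by
          rw [htdef]; simp only [mul_assoc]
      _ = a⁻¹ * t₀ * (a * k) * (t₀ * (t₀ * k) * k) := by rw [ck a, ck t₀]
      _ = a⁻¹ * t₀ * a * (k * (t₀ * t₀)) * k * k := by simp only [mul_assoc]
      _ = a⁻¹ * t₀ * a * (t₀ * t₀ * k) * k * k := by rw [ck (t₀ * t₀)]
      _ = q * k ^ 3 := by rw [hqdef]; simp only [pow_succ, pow_zero, one_mul, mul_assoc]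
      _ = 1 := by rw [hk3, mul_inv_cancel]
  have hut : (a * a)⁻¹ * t * (a * a) = t ^ 4 := by
    have h1 : a⁻¹ * t * a = (t * t)⁻¹ := eq_inv_of_mul_eq_one_left hxt
    calc (a * a)⁻¹ * t * (a * a) = a⁻¹ * (a⁻¹ * t * a) * a := by group
      _ = a⁻¹ * (t * t)⁻¹ * a := by rw [h1]
      _ = ((a⁻¹ * t * a) * (a⁻¹ * t * a))⁻¹ := by group
      _ = t ^ 4 := by rw [h1]; group
  set d := t⁻¹ * b⁻¹ * t * b with hddef
  have hσd : σ d = 1 := by
    have r := gen_rel [6, 3, 5, 2] (by decide)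
    simp only [wprod, List.map_cons, List.map_nil, List.prod_cons, List.prod_nil, mul_one,
      show gen 6 = (gen 5)⁻¹ from gen_ivT 5, show gen 3 = (gen 2)⁻¹ from gen_ivT 2] at r
    rw [hddef]
    simp only [map_mul, map_inv, hσt, hσb]
    simpa [mul_assoc] using r
  have hty : b⁻¹ * t * b = t * d := by rw [hddef]; group
  have hd1 : d = 1 := by
    have cd : Commute t d := cen hσd t
    have h5 : d ^ 5 = 1 := by
      have h1 : (b⁻¹ * t * b) ^ 5 = b⁻¹ * t ^ 5 * b := cp b t 5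
      rw [hty, cd.mul_pow, ht5] at h1
      simpa using h1
    have h3 : d ^ 3 = 1 := by
      have hu : (a * a)⁻¹ * (b⁻¹ * t * b) * (a * a) = b⁻¹ * t ^ 4 * b := by
        have e1 : b * (a * a) = a * a * b := hcomm.symm
        calc (a * a)⁻¹ * (b⁻¹ * t * b) * (a * a) = (b * (a * a))⁻¹ * t * (b * (a * a)) := by group
          _ = (a * a * b)⁻¹ * t * (a * a * b) := by rw [e1]
          _ = b⁻¹ * ((a * a)⁻¹ * t * (a * a)) * b := by group
          _ = b⁻¹ * t ^ 4 * b := by rw [hut]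
      have h4 : b⁻¹ * t ^ 4 * b = (b⁻¹ * t * b) ^ 4 := (cp b t 4).symm
      rw [h4, hty, cd.mul_pow] at hu
      have h6 : (a * a)⁻¹ * (t * d) * (a * a) = t ^ 4 * d := by
        calc (a * a)⁻¹ * (t * d) * (a * a) = (a * a)⁻¹ * t * (d * (a * a)) := by simp only [mul_assoc]
          _ = (a * a)⁻¹ * t * ((a * a) * d) := by rw [cen hσd (a * a)]
          _ = t ^ 4 * d := by rw [← hut]; simp only [mul_assoc]
      rw [h6] at hu
      have h7 := mul_left_cancel hu
      calc d ^ 3 = d ^ 4 * d⁻¹ := by group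
        _ = d * d⁻¹ := by rw [← h7]
        _ = 1 := mul_inv_cancel d
    calc d = (d ^ 3) ^ 2 * (d ^ 5)⁻¹ := by group
      _ = 1 := by rw [h3, h5]; simp
  -- the defect of (zt)^3
  set h := (c * t) ^ 3 with hhdef
  have hσh : σ h = 1 := by
    have r := gen_rel [4, 5, 4, 5, 4, 5] (by decide)
    simp only [wprod, List.map_cons, List.map_nil, List.prod_cons, List.prod_nil, mul_one] at r
    rw [hhdef, map_pow, map_mul, hσc, hσt]
    simpa [pow_succ, mul_assoc] using r
  have hh2 : h * h = 1 := by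
    have h1 : (a * a)⁻¹ * h * (a * a) = h := by rw [mul_assoc, ← cen hσh (a * a)]; group
    have h2 : (a * a)⁻¹ * c * (a * a) = c := by
      calc (a * a)⁻¹ * c * (a * a) = (a * a)⁻¹ * c * (a * a) * (c * c) := by rw [hcc, mul_one]
        _ = (a * a)⁻¹ * (c * (a * a) * c) * c := by simp only [mul_assoc]
        _ = c := by rw [huc]; group
    have h3 : (a * a)⁻¹ * h * (a * a) = (c * t ^ 4) ^ 3 := by
      calc (a * a)⁻¹ * h * (a * a) = ((a * a)⁻¹ * c * (a * a) * ((a * a)⁻¹ * t * (a * a))) ^ 3 := by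
            rw [hhdef, ← cp]; congr 1; group
        _ = (c * t ^ 4) ^ 3 := by rw [h2, hut]
    have h4 : t ^ 4 = t⁻¹ := eq_inv_of_mul_eq_one_left (by rw [← pow_succ]; exact ht5)
    have h5 : (c * t ^ 4) ^ 3 = (c * h * c)⁻¹ := by
      rw [h4, hhdef]
      calc (c * t⁻¹) ^ 3 = (c⁻¹ * t⁻¹) ^ 3 := by rw [hci]
        _ = ((t * c) ^ 3)⁻¹ := by rw [← inv_pow, mul_inv_rev t c]
        _ = (c⁻¹ * (c * t) ^ 3 * c)⁻¹ := by rw [← cp, inv_mul_cancel_left]
        _ = (c * (c * t) ^ 3 * c)⁻¹ := by rw [hci]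
    have h6 : c * h * c = h := by rw [cen hσh c, mul_assoc, hcc, mul_one]
    rw [h5, h6, h1] at h3
    calc h * h = h * h⁻¹ := by nth_rewrite 2 [h3]; rfl
      _ = 1 := mul_inv_cancel h
  set z := c * h with hzdef
  have ch : Commute c h := cen hσh c
  have hσz : σ z = gen 4 := by rw [hzdef, map_mul, hσc, hσh, mul_one]
  have hzz : z * z = 1 := by
    calc z * z = c * (h * c) * h := by rw [hzdef]; simp only [mul_assoc]
      _ = c * c * (h * h) := by rw [← ch.eq]; simp only [mul_assoc]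
      _ = 1 := by rw [hcc, hh2, one_mul]
  have hzt : (z * t) ^ 3 = 1 := by
    calc (z * t) ^ 3 = ((c * t) * h) ^ 3 := congrArg (· ^ 3) (by
          rw [hzdef, mul_assoc c h t, ← cen hσh t, ← mul_assoc c t h])
      _ = (c * t) ^ 3 * h ^ 3 := Commute.mul_pow (show Commute (c * t) h from cen hσh (c * t)) 3
      _ = (h * h) * (h * h) := by rw [← hhdef]; simp only [pow_succ, pow_zero, one_mul, mul_assoc]
      _ = 1 := by rw [hh2, one_mul]
  have hzi : z⁻¹ = z := inv_eq_of_mul_eq_one_right hzz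
  let T : ℕ → Γ := liftL a b z t
  have hinv : ∀ x < 7, T (ivT x) = (T x)⁻¹ := by
    intro x hx
    interval_cases x <;> simp [T, liftL, ivT, hzi]
  have hσT : ∀ x < 7, σ (T x) = gen x := by
    intro x hx
    interval_cases x <;> simp [T, liftL, hσa, hσb, hσz, hσt, gen]
  refine ⟨T, hinv, hσT, fun r hr => ?_⟩
  have hsplit : ∀ r ∈ rels, ((∀ x ∈ r, x < 5) ∧ r.count 4 % 2 = 0) ∨ r = [5, 5, 5, 5, 5] ∨
      r = [1, 5, 0, 5, 5] ∨ r = [6, 3, 5, 2] ∨ r = [4, 5, 4, 5, 4, 5] := by decide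
  rcases hsplit r hr with ⟨hlt, heven⟩ | rfl | rfl | rfl | rfl
  · have key : ∀ L : List ℕ, (∀ x ∈ L, x < 5) → ∃ l ∈ liftSub σ, wprod T L = l * z ^ (L.count 4) := by
      intro L
      induction L with
      | nil => intro _; exact ⟨1, one_mem _, by simp [wprod]⟩
      | cons x L ih =>
        intro hL
        obtain ⟨hx, hL⟩ := List.forall_mem_cons.1 hL
        obtain ⟨l, hl, e⟩ := ih hL
        show ∃ l' ∈ _, T x * wprod T L = _
        rcases (show x < 4 ∨ x = 4 by omega) with hx4 | rfl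
        · have hT : T x ∈ liftSub σ := by
            interval_cases x
            exacts [ha, Subgroup.inv_mem _ ha, hb, Subgroup.inv_mem _ hb]
          refine ⟨T x * l, mul_mem hT hl, ?_⟩
          rw [e, List.count_cons_of_ne (by omega), mul_assoc]
        · refine ⟨z * l * z, conjL z hσz hzz l hl, ?_⟩
          rw [e, List.count_cons_self, pow_succ']
          show z * (l * z ^ List.count 4 L) = _
          simp only [mul_assoc, ← mul_assoc z z, hzz, one_mul]
    obtain ⟨l, hl, e⟩ := key r hlt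
    obtain ⟨m, hm⟩ := Nat.dvd_of_mod_eq_zero heven
    rw [hm, pow_mul, pow_two, hzz, one_pow, mul_one] at e
    rw [e]
    refine inj l hl ?_
    rw [← e, map_wprod σ T gen r fun x hx => hσT x (lt_trans (hlt x hx) (by omega))]
    exact gen_rel r hr
  · simpa [wprod, T, liftL, pow_succ, mul_assoc] using ht5
  · simpa [wprod, T, liftL, mul_assoc] using hxt
  · simpa [wprod, T, liftL, mul_assoc] using hddef.symm.trans hd1
  · simpa [wprod, T, liftL, pow_succ, mul_assoc] using hzt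

theorem stem_ker_bot (hσ : Cfsg.IsStemExtension σ) : σ.ker = ⊥ := by
  obtain ⟨hs', hc, hd⟩ := hσ
  obtain ⟨T, hinv, hσT, hR⟩ := exists_lifts hs' hc
  obtain ⟨φ, hφ⟩ := exists_hom T hinv hR
  have hcomp : ∀ g, σ (φ g) = g := by
    refine fun g => DFunLike.congr_fun (MonoidHom.eq_of_eqOn_dense closure_gen ?_ :
      σ.comp φ = MonoidHom.id HN) g
    rintro _ ⟨x, hx, rfl⟩
    simp only [Set.mem_insert_iff, Set.mem_singleton_iff] at hx
    show σ (φ (gen x)) = gen x
    rw [hφ x (by omega), hσT x (by omega)]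
  refine (Subgroup.eq_bot_iff_forall _).2 fun n hn => ?_
  have hle : commutator Γ ≤ φ.range := by
    rw [commutator_def, Subgroup.commutator_le]
    intro a _ b _
    have split : ∀ w : Γ, ∃ g : HN, ∀ v : Γ, v * (φ g⁻¹ * w) = φ g⁻¹ * w * v := fun w =>
      ⟨σ w, Subgroup.mem_center_iff.1 (hc (by simp [MonoidHom.mem_ker, hcomp]))⟩
    obtain ⟨g, hg⟩ := split a
    obtain ⟨g', hg'⟩ := split b
    refine ⟨⁅g, g'⁆, ?_⟩
    generalize hu : φ g⁻¹ * a = u at hg
    generalize hv : φ g'⁻¹ * b = v at hg'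
    rw [map_inv, inv_mul_eq_iff_eq_mul] at hu hv
    subst hu; subst hv
    rw [map_commutatorElement]
    simp only [commutatorElement_def, mul_inv_rev]
    calc φ g * φ g' * (φ g)⁻¹ * (φ g')⁻¹
        = φ g * φ g' * (v * (φ g)⁻¹) * v⁻¹ * (φ g')⁻¹ := by rw [← hg' (φ g)⁻¹]; group
      _ = φ g * (u * (φ g' * v)) * u⁻¹ * (φ g)⁻¹ * (v⁻¹ * (φ g')⁻¹) := by rw [← hg (φ g' * v)]; group
      _ = _ := by group
  obtain ⟨g, rfl⟩ := hle (hd hn)
  rw [MonoidHom.mem_ker, hcomp] at hn
  rw [hn, map_one]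

end Stem

/-- **The multiplier of the presented HN is trivial.** -/
theorem HN_multiplier : Cfsg.HasCyclicSchurMultiplier HN 1 := by
  have := HN_finite
  refine ⟨⟨HN, inferInstance, inferInstance, MonoidHom.id HN, ⟨Function.surjective_id, ?_, ?_⟩, ?_⟩, ?_⟩
  · rw [MonoidHom.ker_id]; exact bot_le
  · rw [MonoidHom.ker_id]; exact bot_le
  · rw [MonoidHom.ker_id]
    exact ⟨MulEquiv.ofUnique⟩
  · intro Γ _ _ σ hσ
    refine ⟨1, fun x => ⟨1, ?_⟩⟩
    have h : (x : Γ) ∈ (⊥ : Subgroup Γ) := stem_ker_bot hσ ▸ x.2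
    exact Subtype.ext (Subgroup.mem_bot.1 h).symm

end CfsgLib.InvChar.SporHN
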