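import Cfsg.Agent.Lib.InvChar.SporHNOutMain

/-!
# Out(HN) has order 2
-/

set_option autoImplicit false
set_option maxRecDepth 100000
set_option maxHeartbeats 1000000

namespace CfsgLib.InvChar.SporHN.Out

open CfsgLib.InvChar.Coset
open CfsgLib.InvChar.SporHN
open Cfsg.Spor

theorem eA_pow : eA ^ 11 = 1 := by rw [← map_pow, aH_pow, map_one]

theorem eA_order : orderOf eA = 11 := by rw [orderOf_injective psi psi_injective, aH_order]

theorem eN_pow_conj (i : ℕ) : (eN ^ i)⁻¹ * eA * eN ^ i = eA ^ 2 ^ i := by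
  have h1 : eN⁻¹ * eA * eN = eA ^ 2 := by
    rw [mul_assoc, ← map_mul, nH_conj, map_mul, inv_mul_cancel_left, map_pow]
  induction i with
  | zero => simp
  | succ i ih =>
    calc (eN ^ (i + 1))⁻¹ * eA * eN ^ (i + 1) = eN⁻¹ * ((eN ^ i)⁻¹ * eA * eN ^ i) * eN⁻¹⁻¹ := by
          rw [pow_succ, inv_inv, mul_inv_rev]; simp only [mul_assoc]
      _ = (eN⁻¹ * eA * eN⁻¹⁻¹) ^ 2 ^ i := by rw [ih, conj_pow]
      _ = eA ^ 2 ^ (i + 1) := by rw [inv_inv, h1, ← pow_mul, ← pow_succ']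

theorem two_gen : ∀ k < 11, k ≠ 0 → ∃ i < 10, 2 ^ i * k % 11 = 1 := by decide

theorem fix_eA (φ : MulAut HN) : ∃ g : HN, g * φ eA * g⁻¹ = eA := by
  haveI : Finite HN := HN_finite
  haveI : Fact (Nat.Prime 11) := ⟨by norm_num⟩
  have hc : ∀ g : HN, orderOf g = 11 →
      Nat.card (Subgroup.zpowers g) = 11 ^ (Nat.card HN).factorization 11 := by
    intro g hg
    have h11 : (273030912000000 : ℕ).factorization 11 = 1 := by
      rw [Nat.factorization_def _ (by norm_num), show (273030912000000 : ℕ) = 24820992000000 * 11 from rfl,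
        padicValNat.mul (by norm_num) (by norm_num), padicValNat.eq_zero_of_not_dvd (by norm_num),
        padicValNat.self (by norm_num)]
    rw [Nat.card_zpowers, hg, HN_card, h11, pow_one]
  have ho : orderOf (φ eA) = 11 := by rw [MulEquiv.orderOf_eq, eA_order]
  obtain ⟨g, hg⟩ := MulAction.exists_smul_eq HN (Sylow.ofCard _ (hc _ ho)) (Sylow.ofCard _ (hc _ eA_order))
  have hmem : g * φ eA * g⁻¹ ∈ Subgroup.zpowers eA := by
    have h1 : g * φ eA * g⁻¹ ∈ ((g • Sylow.ofCard _ (hc _ ho) : Sylow 11 HN) : Subgroup HN) :=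
      ⟨φ eA, Subgroup.mem_zpowers _, rfl⟩
    rw [hg] at h1
    exact h1
  classical
  obtain ⟨k, hk, e⟩ := Finset.mem_image.1
    (((isOfFinOrder_of_finite eA).mem_zpowers_iff_mem_range_orderOf).1 hmem)
  have hk : k < 11 := eA_order ▸ Finset.mem_range.1 hk
  have e : g * φ eA * g⁻¹ = eA ^ k := e.symm
  have hk0 : k ≠ 0 := by
    rintro rfl
    rw [pow_zero, conj_eq_one_iff, MulEquiv.map_eq_one_iff] at e
    exact aH_ne (psi_injective (by rw [map_one]; exact e))
  obtain ⟨i, -, hi⟩ := two_gen k hk hk0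
  refine ⟨(eN ^ i)⁻¹ * g, ?_⟩
  calc (eN ^ i)⁻¹ * g * φ eA * ((eN ^ i)⁻¹ * g)⁻¹ = (eN ^ i)⁻¹ * (g * φ eA * g⁻¹) * (eN ^ i)⁻¹⁻¹ := by group
    _ = ((eN ^ i)⁻¹ * eA * (eN ^ i)⁻¹⁻¹) ^ k := by rw [e, conj_pow]
    _ = eA := by rw [inv_inv, eN_pow_conj, ← pow_mul, pow_eq_pow_mod _ eA_pow, hi, pow_one]

theorem fix_eC {φ : MulAut HN} (hA : φ eA = eA) : φ eC = eC := by
  have hcomm : Commute eA (φ eC) := by
    have := ((eC_comm aH).symm).map φ
    rwa [hA] at this
  obtain ⟨h, hh⟩ := exists_psi' (g := φ eC) (mem_of_conj_eA (by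
    rw [mul_assoc, hcomm.eq, inv_mul_cancel_left]; exact psi_mem _))
  rw [← hh]
  refine congrArg psi ?_
  refine inv_cent_a (psi_comm.1 (by rw [hh]; exact hcomm)) (psi_injective ?_) fun e => eC_ne ?_
  · rw [map_mul, hh, ← map_mul, eC_sq, map_one, map_one]
  · exact φ.injective (by rw [← hh, e, map_one, map_one])

theorem fix_eA_eN (φ : MulAut HN) : ∃ g : HN, g * φ eA * g⁻¹ = eA ∧
    (g * φ eN * g⁻¹ = eN ∨ g * φ eN * g⁻¹ = eN * eC) := by
  obtain ⟨g, hg⟩ := fix_eA φ
  set χ : MulAut HN := MulAut.conj g * φ with hχ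
  have hA : χ eA = eA := hg
  have hC := fix_eC hA
  obtain ⟨h, hh⟩ := exists_psi' (g := χ eN) (mem_of_comm_eC (by
    have := (eC_comm nH).map χ
    rwa [hC] at this))
  have hrel : aH * h = h * aH ^ 2 := psi_injective (by
    have := congrArg χ (congrArg psi nH_conj)
    simp only [map_mul, map_pow, hA, ← hh] at this ⊢
    exact this)
  obtain ⟨i, hi, j, hj, e⟩ := cent_a (g := h * nH⁻¹) (by
    show aH * (h * nH⁻¹) = h * nH⁻¹ * aH
    have : aH ^ 2 * nH⁻¹ = nH⁻¹ * aH := by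
      rw [eq_inv_mul_iff_mul_eq, ← mul_assoc, ← nH_conj, mul_inv_cancel_right]
    rw [← mul_assoc, hrel, mul_assoc, this, mul_assoc])
  have he : h = cH ^ j * aH ^ i * nH := by rw [← e, inv_mul_cancel_right]
  have hn2 : ∀ l : ℕ, nH * aH ^ (2 * l) = aH ^ l * nH := by
    intro l
    induction l with
    | zero => simp
    | succ l ih =>
      rw [mul_add, mul_one, pow_add, ← mul_assoc, ih, mul_assoc, ← nH_conj, ← mul_assoc, ← pow_succ]
  refine ⟨eA ^ (9 * i) * g, ?_, ?_⟩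
  · rw [show eA ^ (9 * i) * g * φ eA * (eA ^ (9 * i) * g)⁻¹ =
        eA ^ (9 * i) * (g * φ eA * g⁻¹) * (eA ^ (9 * i))⁻¹ by group, hg,
      (Commute.self_pow eA (9 * i)).symm.eq, mul_inv_cancel_right]
  · have inner : aH ^ (9 * i) * h * (aH ^ (9 * i))⁻¹ = cH ^ j * nH := by
      rw [mul_inv_eq_iff_eq_mul, he, ← mul_assoc, ← mul_assoc, ← ((cH_central (aH ^ (9 * i))).pow_left j).eq,
        mul_assoc (cH ^ j), ← pow_add, show 9 * i + i = 10 * i by ring, mul_assoc (cH ^ j),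
        mul_assoc (cH ^ j)]
      refine congrArg (cH ^ j * ·) ?_
      rw [← hn2]
      refine congrArg (nH * ·) ?_
      rw [show 2 * (10 * i) = 11 * i + 9 * i by ring, pow_add, pow_mul, aH_pow, one_pow, one_mul]
    have key : eA ^ (9 * i) * g * φ eN * (eA ^ (9 * i) * g)⁻¹ = psi (cH ^ j * nH) := by
      rw [show eA ^ (9 * i) * g * φ eN * (eA ^ (9 * i) * g)⁻¹ =
          eA ^ (9 * i) * (g * φ eN * g⁻¹) * (eA ^ (9 * i))⁻¹ by group,
        show g * φ eN * g⁻¹ = psi h from hh.symm, ← inner, map_mul, map_mul, map_inv, map_pow]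
    rw [key]
    rcases (show j = 0 ∨ j = 1 by omega) with rfl | rfl
    · exact Or.inl (by rw [pow_zero, one_mul])
    · exact Or.inr (by rw [pow_one, (cH_central nH).eq, map_mul])

theorem cases_fixed (σ : MulAut HN) (hs0 : σ (gen 0) = gen 0) (hs2 : σ (gen 2) = gen 2)
    (hs4 : σ (gen 4) = eC * gen 4) (χ : MulAut HN) (hA : χ eA = eA) (hN : χ eN = eN ∨ χ eN = eN * eC) :
    χ ∈ Cfsg.Inn HN ∨ σ * χ ∈ Cfsg.Inn HN := by
  have hC := fix_eC hA
  have hH : ∀ h : HP, ∃ h', psi h' = χ (psi h) := fun h => exists_psi' (mem_of_comm_eC (by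
    have := (eC_comm h).map χ
    rwa [hC] at this))
  choose f hf using hH
  let F : HP →* HP := MonoidHom.mk' f fun a b => psi_injective (by rw [map_mul, hf, hf, hf, map_mul, map_mul])
  have hF : ∀ h, psi (F h) = χ (psi h) := hf
  have hFa : F aH = aH := psi_injective (by rw [hF, hA])
  have hFm : F (nH * nH) = nH * nH := psi_injective (by
    rw [hF, map_mul, map_mul]
    rcases hN with e | e <;> rw [e]
    rw [mul_assoc, ← mul_assoc eC, (eC_comm nH).eq, mul_assoc, eC_sq, mul_one])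
  have g : ∀ x < 5, χ (gen x) = psi (F (hs x)) := fun x hx => by rw [hF, psi_hs hx]
  rcases gens_cases F hFa hFm with ⟨a, b, c⟩ | ⟨a, b, c⟩
  · left
    rcases inner_of_fix χ (by rw [g 0 (by omega), a, psi_hs (by omega)])
      (by rw [g 2 (by omega), b, psi_hs (by omega)]) (by rw [g 4 (by omega), c, psi_hs (by omega)]) with e | e
    · rw [e]; exact one_mem _
    · rw [e]; exact ⟨eC, rfl⟩
  · right
    have hsC : σ eC = eC := by
      rw [eC, psi_word (L := [0, 0]) (by decide)]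
      simp [wprod, hs0]
    rcases inner_of_fix (σ * χ) (by rw [MulAut.mul_apply, g 0 (by omega), a, psi_hs (by omega), hs0])
      (by rw [MulAut.mul_apply, g 2 (by omega), b, psi_hs (by omega), hs2])
      (by rw [MulAut.mul_apply, g 4 (by omega), c, map_mul, psi_hs (by omega), map_mul, hsC, hs4, ← mul_assoc,
        eC_sq, one_mul]) with e | e
    · rw [e]; exact one_mem _
    · rw [e]; exact ⟨eC, rfl⟩

theorem not_inner (σ : MulAut HN) (hs0 : σ (gen 0) = gen 0) (hs2 : σ (gen 2) = gen 2)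
    (hs4 : σ (gen 4) = eC * gen 4) : σ ∉ Cfsg.Inn HN := by
  rintro ⟨g, hg⟩
  have app : ∀ u : HN, σ u = g * u * g⁻¹ := fun u => (DFunLike.congr_fun hg u).symm
  have hsC : σ eC = eC := by
    rw [eC, psi_word (L := [0, 0]) (by decide)]
    simp [wprod, hs0]
  have hgC : Commute eC g := (mul_inv_eq_iff_eq_mul.1 ((app eC).symm.trans hsC)).symm
  obtain ⟨h, rfl⟩ := exists_psi' (mem_of_comm_eC hgC)
  have hx : Commute (hs 0) h := (psi_comm.1 (show Commute (psi h) (psi (hs 0)) by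
    rw [psi_hs (by omega)]; exact mul_inv_eq_iff_eq_mul.1 ((app (gen 0)).symm.trans hs0))).symm
  have hy : Commute (hs 2) h := (psi_comm.1 (show Commute (psi h) (psi (hs 2)) by
    rw [psi_hs (by omega)]; exact mul_inv_eq_iff_eq_mul.1 ((app (gen 2)).symm.trans hs2))).symm
  have hK : ∀ u ∈ Ki 1, Commute u h := by
    intro u hu
    induction hu using Subgroup.closure_induction with
    | mem a ha =>
      obtain ⟨L, hL, rfl⟩ := ha
      have hgens : ∀ L ∈ gensI 1, L = [2] ∨ L = [1, 2, 0] := by decide +kernel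
      have h1 : Commute (hs 1) h := by
        rw [show hs 1 = (hs 0)⁻¹ from hLetters_hs.inv 0 (by omega)]; exact hx.inv_left
      rcases hgens L hL with rfl | rfl
      · simpa [wprod] using hy
      · simpa [wprod] using h1.mul_left (hy.mul_left hx)
    | one => exact Commute.one_left _
    | mul a b _ _ ha hb => exact ha.mul_left hb
    | inv a _ ha => exact ha.inv_left
  have hz := app (gen 4)
  rw [hs4, ← psi_hs (x := 4) (by omega)] at hz
  have e : cH = 1 := by
    have h' : cH * hs 4 = h * hs 4 * h⁻¹ := psi_injective (by rw [map_mul, map_mul, map_mul, map_inv]; exact hz)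
    rcases cent_K hK with rfl | rfl
    · simpa using h'
    · rw [(cH_central (hs 4)).eq, mul_inv_cancel_right] at h'
      simpa using h'
  exact cH_ne e

/-- **`Out(HN)` has order 2.** -/
theorem card_out : Nat.card (Cfsg.Out HN) = 2 := by
  obtain ⟨σ, hs0, hs2, hs4, -⟩ := exists_sigma
  have hσ : ∀ χ : MulAut HN, σ * χ ∈ Cfsg.Inn HN → (χ : Cfsg.Out HN) = (QuotientGroup.mk σ)⁻¹ := fun χ h =>
    eq_inv_of_mul_eq_one_right ((QuotientGroup.mk_mul _ _ _).symm.trans ((QuotientGroup.eq_one_iff _).2 h))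
  have hcases : ∀ q : Cfsg.Out HN, q = 1 ∨ q = (QuotientGroup.mk σ)⁻¹ := by
    intro q
    obtain ⟨φ, rfl⟩ := QuotientGroup.mk_surjective q
    obtain ⟨g, hA, hN⟩ := fix_eA_eN φ
    have hconj : ((MulAut.conj g : MulAut HN) : Cfsg.Out HN) = 1 :=
      (QuotientGroup.eq_one_iff _).2 ⟨g, rfl⟩
    have hq : (φ : Cfsg.Out HN) = ((MulAut.conj g * φ : MulAut HN) : Cfsg.Out HN) := by
      rw [QuotientGroup.mk_mul, hconj, one_mul]
    rcases cases_fixed σ hs0 hs2 hs4 (MulAut.conj g * φ) hA hN with h | h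
    · exact Or.inl (by rw [hq]; exact (QuotientGroup.eq_one_iff _).2 h)
    · exact Or.inr (by rw [hq]; exact hσ _ h)
  have hne : (1 : Cfsg.Out HN) ≠ (QuotientGroup.mk σ)⁻¹ := fun e =>
    not_inner σ hs0 hs2 hs4 ((QuotientGroup.eq_one_iff _).1 (by rw [← inv_eq_one]; exact e.symm))
  rw [Nat.card_eq_two_iff]
  exact ⟨1, (QuotientGroup.mk σ)⁻¹, hne, by ext q; simpa using hcases q⟩

end CfsgLib.InvChar.SporHN.Out
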