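import Cfsg.Agent.Lib.InvChar.SporHNOutData

/-! Kernel checks of the centraliser certificates. -/

set_option autoImplicit false
set_option maxRecDepth 100000
set_option maxHeartbeats 4000000

namespace CfsgLib.InvChar.SporHN.Out

theorem vTab_ok : VOK vTab := by unfold VOK; decide +kernel

theorem certA_shape : chkShape certA = true := by decide +kernel
theorem certA_good : chkGood certA = true := by decide +kernel
theorem certA_all : chkAll vTab certA 1408 0 = true := by decide +kernel
theorem certA_cand : certA.cands.all (chkCand certA) = true := by decide +kernel
theorem certA_reps : certA.reps.all (chkRep vTab certA) = true := by decide +kernel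

theorem certK_shape : chkShape certK = true := by decide +kernel
theorem certK_good : chkGood certK = true := by decide +kernel
theorem certK_all : chkAll vTab certK 1408 0 = true := by decide +kernel
theorem certK_cand : certK.cands.all (chkCand certK) = true := by decide +kernel
theorem certK_reps : certK.reps.all (chkRep vTab certK) = true := by decide +kernel

theorem certM_shape : chkShape certM = true := by decide +kernel
theorem certM_good : chkGood certM = true := by decide +kernel
theorem certM_all : chkAll vTab certM 1408 0 = true := by decide +kernel
theorem certM_cand : certM.cands.all (chkCand certM) = true := by decide +kernel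
theorem certM_reps : certM.reps.all (chkRep vTab certM) = true := by decide +kernel

theorem certA_ok : certA.OK vTab := ⟨certA_shape, certA_good, certA_all, certA_cand, certA_reps⟩
theorem certK_ok : certK.OK vTab := ⟨certK_shape, certK_good, certK_all, certK_cand, certK_reps⟩
theorem certM_ok : certM.OK vTab := ⟨certM_shape, certM_good, certM_all, certM_cand, certM_reps⟩

end CfsgLib.InvChar.SporHN.Out
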