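import Cfsg.Agent.Lib.InvChar.SporHNGroup

/-!
# Orbital colours on 1408 points and forced images under centralising elements

An element commuting with given words sends a point and its translates to a point and its
translates and keeps the orbital colour of every pair. A certificate lists points whose images
are then forced, far enough to fix the element by its images of the four base points.
-/

set_option autoImplicit false
set_option maxRecDepth 100000

namespace CfsgLib.InvChar.SporHN.Out

open CfsgLib.InvChar.Coset

/-- Right action on point numbers. -/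
noncomputable def rN (g : HP) (x : ℕ) : ℕ :=
  if h : x < small.n then ((g⁻¹ : HP).1 ⟨x, h⟩).val else 0

theorem rN_eq (g : HP) {x : ℕ} (h : x < small.n) : rN g x = ((g⁻¹ : HP).1 ⟨x, h⟩).val := dif_pos h

theorem rN_lt (g : HP) {x : ℕ} (h : x < small.n) : rN g x < small.n := by rw [rN_eq g h]; exact Fin.is_lt _

theorem rN_mul (g k : HP) {x : ℕ} (h : x < small.n) : rN (g * k) x = rN k (rN g x) := by
  rw [rN_eq (g * k) h, rN_eq k (rN_lt g h)]
  simp only [rN_eq g h, mul_inv_rev, Subgroup.coe_mul, Equiv.Perm.mul_apply, Fin.eta]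

theorem rN_one {x : ℕ} (h : x < small.n) : rN 1 x = x := by
  rw [rN_eq 1 h, inv_one]; rfl

theorem rN_word {L : List ℕ} (hL : ∀ a ∈ L, a < 5) {x : ℕ} (h : x < small.n) :
    rN (wprod hs L) x = small.follow L x := by
  rw [rN_eq _ h]; exact hs_follow hL _

theorem follow_lt {L : List ℕ} (hL : ∀ a ∈ L, a < 5) {x : ℕ} (h : x < small.n) :
    small.follow L x < small.n := by rw [← rN_word hL h]; exact rN_lt _ h

theorem img_rN (g : HP) : img g = pack4 (rN g 0) (rN g 904) (rN g 829) (rN g 621) := by
  have h : ∀ p ∈ [0, 904, 829, 621], p < small.n := by decide +kernel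
  rw [rN_eq g (h 0 (by simp)), rN_eq g (h 904 (by simp)), rN_eq g (h 829 (by simp)),
    rN_eq g (h 621 (by simp))]
  rfl

theorem mem_K1_rN {g : HP} : g ∈ Ki 1 ↔ rN g 0 = 0 := by
  rw [← Subgroup.inv_mem_iff, mem_K1_iff, rN_eq g (show 0 < small.n by decide +kernel), Fin.ext_iff]
  rfl

/-- Every colour of a point is invariant under the stabiliser of the first point. -/
theorem lab_inv_gens : ∀ L ∈ gensI 1, ∀ q < 1408, lab 1 (small.follow L q) = lab 1 q := by decide +kernel

theorem lab_K1 {u : HP} (hu : u ∈ Ki 1) : ∀ q < small.n, lab 1 (rN u q) = lab 1 q := by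
  induction hu using Subgroup.closure_induction with
  | mem a ha =>
    obtain ⟨L, hL, rfl⟩ := ha
    intro q hq
    rw [rN_word (gensI_lt 1 (by omega) L hL) hq]
    exact lab_inv_gens L hL q hq
  | one => intro q hq; rw [rN_one hq]
  | mul a b _ _ ha hb => intro q hq; rw [rN_mul a b hq, hb _ (rN_lt a hq), ha q hq]
  | inv a _ ha =>
    intro q hq
    have h := ha _ (rN_lt a⁻¹ hq)
    rw [← rN_mul a⁻¹ a hq, inv_mul_cancel, rN_one hq] at h
    exact h.symm

/-- The letters of a packed word, least digit first. -/
noncomputable def decW (f : ℕ) : ℕ → List ℕ :=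
  Nat.rec (fun _ => []) (fun _ ih v => force v fun v => bif Nat.beq v 0 then [] else (v % 6 - 1) :: ih (v / 6)) f

section Cert

variable (vt : Tr)

/-- A word taking point `p` to the first point. -/
noncomputable def colV (p : ℕ) : List ℕ := decW 16 (field vt 128 44 p)

/-- The transversal test. -/
noncomputable def chkV (p : ℕ) : Bool :=
  (colV vt p).all (fun a => Nat.blt a 5) && Nat.beq (small.follow (colV vt p) p) 0

/-- The colour of a pair of points. -/
noncomputable def col (p q : ℕ) : ℕ := force q fun q => lab 1 (small.follow (colV vt p) q)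

/-- The transversal is right at every point. -/
def VOK : Prop := ∀ p < 1408, chkV vt p = true

theorem small_n : small.n = 1408 := by rfl

theorem colV_ok (hV : VOK vt) {p : ℕ} (hp : p < small.n) :
    (∀ a ∈ colV vt p, a < 5) ∧ small.follow (colV vt p) p = 0 := by
  have h := hV p (small_n ▸ hp)
  rw [chkV, Bool.and_eq_true] at h
  exact ⟨fun a ha => by simpa [Nat.blt] using List.all_eq_true.1 h.1 a ha, Nat.eq_of_beq_eq_true h.2⟩

/-- **Colours are invariant.** -/
theorem col_inv (hV : VOK vt) (g : HP) {p q : ℕ} (hp : p < small.n) (hq : q < small.n) :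
    col vt (rN g p) (rN g q) = col vt p q := by
  obtain ⟨h1, e1⟩ := colV_ok vt hV hp
  obtain ⟨h2, e2⟩ := colV_ok vt hV (rN_lt g hp)
  have key : ∀ x : ℕ, x < small.n → rN ((wprod hs (colV vt p))⁻¹ * g * wprod hs (colV vt (rN g p)))
      (small.follow (colV vt p) x) = small.follow (colV vt (rN g p)) (rN g x) := fun x hx => by
    have hx' := follow_lt h1 hx
    rw [mul_assoc, rN_mul _ _ hx', ← rN_word h1 hx, ← rN_mul _ _ hx, mul_inv_cancel, rN_one hx,
      rN_mul _ _ hx, rN_word h2 (rN_lt g hx)]
  have hu := key p hp
  rw [e1, e2] at hu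
  simp only [col, force_eq]
  rw [← key q hq, lab_K1 (mem_K1_rN.2 hu) _ (follow_lt h1 hq)]

/-- A representative: its point, forced steps, and where the four base points are. -/
structure Rep where
  /-- the image of the seed -/
  q : ℕ
  /-- steps: a point, its forced image (1408: none), the known points used -/
  steps : List (ℕ × ℕ × List ℕ)
  /-- 0: the seed itself; 1: an impossible step; 2: images outside the group -/
  kind : ℕ
  /-- a place in the listing of the stabiliser -/
  pos : ℕ

/-- A certificate for a centraliser. -/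
structure CentCert where
  /-- the words centralised, the empty word first -/
  ew : List (List ℕ)
  /-- the seed -/
  seed : ℕ
  /-- the pairs of translates used for the colour profile -/
  ps : List (ℕ × ℕ)
  /-- the elements of the centraliser -/
  gw : List (List ℕ)
  /-- the candidates, each with a representative and an element -/
  cands : List (ℕ × ℕ × ℕ)
  /-- the representatives -/
  reps : List Rep

/-- Known pairs fit the colour of a new pair. -/
noncomputable def fits (F : List (ℕ × ℕ)) (r s : ℕ) : List ℕ → Bool :=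
  List.rec true fun k _ ih =>
    force (F.getD k (0, 0)).1 (fun x => force (F.getD k (0, 0)).2 fun y => Nat.beq (col vt y s) (col vt x r)) && ih

/-- The only fitting image of `r` is `r'`. -/
noncomputable def chkScan (F : List (ℕ × ℕ)) (r r' : ℕ) (ks : List ℕ) (cnt : ℕ) : ℕ → Bool :=
  Nat.rec (fun _ => true) (fun _ ih s => (bif fits vt F r s ks then Nat.beq s r' else true) && force (s + 1) ih) cnt

/-- Run the steps. -/
noncomputable def chkSteps : List (ℕ × ℕ × List ℕ) → List (ℕ × ℕ) → Option (List (ℕ × ℕ))
  | [], F => some F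
  | (r, r', ks) :: St, F =>
    bif Nat.blt r 1408 && (ks.all fun k => Nat.blt k F.length) && chkScan vt F r r' ks 1408 0
      then chkSteps St (F ++ [(r, r')]) else none

/-- The image of a point among known pairs, 1408 if unknown. -/
noncomputable def lookF : List (ℕ × ℕ) → ℕ → ℕ
  | [], _ => 1409
  | (x, y) :: F, b => bif Nat.beq x b then y else lookF F b

/-- The translates of the seed with their images. -/
noncomputable def start (C : CentCert) (q : ℕ) : List (ℕ × ℕ) :=
  C.ew.map fun L => (small.follow L C.seed, small.follow L q)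

/-- The test at the end of the steps. -/
noncomputable def chkEnd (C : CentCert) (R : Rep) (F : List (ℕ × ℕ)) : Bool :=
  bif Nat.beq R.kind 1 then F.any fun e => Nat.beq e.2 1408
  else force (lookF F 0) fun a => force (lookF F 904) fun b => force (lookF F 829) fun c => force (lookF F 621) fun d =>
    bif Nat.beq R.kind 0 then Nat.beq R.q C.seed && Nat.beq a 0 && Nat.beq b 904 && Nat.beq c 829 && Nat.beq d 621
    else Nat.blt a 1408 && Nat.blt b 1408 && Nat.blt c 1408 && Nat.blt d 1408 &&
      force (step4 small (colV vt a) (pack4 a b c d)) fun v =>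
        Nat.blt (R.pos + 1) (kList 1).m && Nat.blt ((kList 1).tup R.pos) v && Nat.blt v ((kList 1).tup (R.pos + 1))

/-- The test of a representative. -/
noncomputable def chkRep (C : CentCert) (R : Rep) : Bool :=
  match chkSteps vt R.steps (start C R.q) with
  | none => false
  | some F => chkEnd vt C R F

/-- The profile of a candidate. -/
noncomputable def chkProf (C : CentCert) (q : ℕ) : List (ℕ × ℕ) → Bool :=
  List.rec true fun ij _ ih =>
    Nat.beq (col vt (small.follow (C.ew.getD ij.1 []) q) (small.follow (C.ew.getD ij.2 []) q))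
      (col vt (small.follow (C.ew.getD ij.1 []) C.seed) (small.follow (C.ew.getD ij.2 []) C.seed)) && ih

/-- A candidate is the translate of a representative. -/
noncomputable def chkCand (C : CentCert) (e : ℕ × ℕ × ℕ) : Bool :=
  Nat.blt e.2.1 C.reps.length && Nat.blt e.2.2 C.gw.length &&
    Nat.beq (small.follow (C.gw.getD e.2.2 []) (C.reps.getD e.2.1 ⟨0, [], 0, 0⟩).q) e.1

/-- Every point with the profile of the seed is listed. -/
noncomputable def chkAll (C : CentCert) (cnt : ℕ) : ℕ → Bool :=
  Nat.rec (fun _ => true)
    (fun _ ih q => (bif chkProf vt C q C.ps then C.cands.any (fun e => Nat.beq e.1 q) else true) && force (q + 1) ih) cnt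

/-- The elements commute with the words. -/
noncomputable def chkGood (C : CentCert) : Bool :=
  C.gw.all fun G => (G.all fun a => Nat.blt a 5) && C.ew.all fun L =>
    Nat.beq (step4 small (G ++ L) img0) (step4 small (L ++ G) img0)

/-- The small tests. -/
noncomputable def chkShape (C : CentCert) : Bool :=
  Nat.blt C.seed 1408 && (C.ew.all fun L => L.all fun a => Nat.blt a 5) &&
    (C.ps.all fun ij => Nat.blt ij.1 C.ew.length && Nat.blt ij.2 C.ew.length) &&
    (C.reps.all fun R => Nat.blt R.q 1408)

/-- All tests. -/
structure CentCert.OK (C : CentCert) : Prop where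
  shape : chkShape C = true
  good : chkGood C = true
  all : chkAll vt C 1408 0 = true
  cand : (C.cands.all (chkCand C)) = true
  reps : (C.reps.all (chkRep vt C)) = true

theorem chkScan_get {F : List (ℕ × ℕ)} {r r' : ℕ} {ks : List ℕ} : ∀ (cnt s : ℕ),
    chkScan vt F r r' ks cnt s = true → ∀ j, s ≤ j → j < s + cnt → fits vt F r j ks = true → j = r' := by
  intro cnt
  induction cnt with
  | zero => intro s _ j h1 h2; omega
  | succ cnt ih =>
    intro s h j h1 h2 hf
    have h' : ((bif fits vt F r s ks then Nat.beq s r' else true) &&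
      force (s + 1) (fun s' => chkScan vt F r r' ks cnt s')) = true := h
    rw [Bool.and_eq_true, force_eq] at h'
    rcases eq_or_lt_of_le h1 with rfl | h3
    · rw [hf, cond_true] at h'
      exact Nat.eq_of_beq_eq_true h'.1
    · exact ih _ h'.2 j h3 (by omega) hf

/-- `g` realises the known pairs. -/
def Real (g : HP) (F : List (ℕ × ℕ)) : Prop := ∀ e ∈ F, e.1 < small.n ∧ rN g e.1 = e.2

theorem fits_true (hV : VOK vt) {g : HP} {F : List (ℕ × ℕ)} (hF : Real g F) {r : ℕ} (hr : r < small.n) :
    ∀ ks : List ℕ, (∀ k ∈ ks, k < F.length) → fits vt F r (rN g r) ks = true := by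
  intro ks
  induction ks with
  | nil => intro _; rfl
  | cons k ks ih =>
    intro hk
    obtain ⟨hk, hks⟩ := List.forall_mem_cons.1 hk
    show (force (F.getD k (0, 0)).1 (fun x => force (F.getD k (0, 0)).2 fun y =>
      Nat.beq (col vt y (rN g r)) (col vt x r)) && fits vt F r (rN g r) ks) = true
    obtain ⟨hx, hy⟩ := hF _ (List.getElem_mem hk)
    rw [ih hks, Bool.and_true, force_eq, force_eq, List.getD_eq_getElem _ _ hk, ← hy, col_inv vt hV g hx hr]
    exact Nat.beq_refl _

theorem chkSteps_sound (hV : VOK vt) {g : HP} : ∀ (St : List (ℕ × ℕ × List ℕ)) (F F' : List (ℕ × ℕ)),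
    Real g F → chkSteps vt St F = some F' → Real g F' := by
  intro St
  induction St with
  | nil => intro F F' hF h; rw [chkSteps, Option.some.injEq] at h; exact h ▸ hF
  | cons e St ih =>
    obtain ⟨r, r', ks⟩ := e
    intro F F' hF h
    rw [chkSteps] at h
    cases hb : (Nat.blt r 1408 && (ks.all fun k => Nat.blt k F.length) && chkScan vt F r r' ks 1408 0) with
    | false => rw [hb] at h; exact absurd h (by simp)
    | true =>
      rw [hb, cond_true] at h
      simp only [Bool.and_eq_true] at hb
      have hr : r < small.n := by rw [small_n]; simpa [Nat.blt] using hb.1.1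
      have hks : ∀ k ∈ ks, k < F.length := fun k hk => by simpa [Nat.blt] using List.all_eq_true.1 hb.1.2 k hk
      have he := chkScan_get vt 1408 0 hb.2 (rN g r) (Nat.zero_le _)
        (by have := rN_lt g hr; rw [small_n] at this; omega) (fits_true vt hV hF hr ks hks)
      refine ih _ _ (fun e he' => ?_) h
      rcases List.mem_append.1 he' with h1 | h1
      · exact hF e h1
      · rw [List.mem_singleton] at h1; subst h1; exact ⟨hr, he⟩

theorem lookF_sound {g : HP} : ∀ {F : List (ℕ × ℕ)} {b : ℕ}, Real g F → lookF F b < 1409 → rN g b = lookF F b := by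
  intro F
  induction F with
  | nil => intro b _ h; simp [lookF] at h
  | cons e F ih =>
    obtain ⟨x, y⟩ := e
    intro b hF h
    rw [lookF] at h ⊢
    cases hb : Nat.beq x b with
    | false =>
      rw [hb, cond_false] at h
      rw [cond_false]; exact ih (fun e he => hF e (List.mem_cons_of_mem _ he)) h
    | true =>
      rw [cond_true]
      have := (hF (x, y) (List.mem_cons_self)).2
      rwa [Nat.eq_of_beq_eq_true hb] at this

theorem not_mem_of_gap {v pos : ℕ} (hm : pos + 1 < (kList 1).m) (h1 : (kList 1).tup pos < v)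
    (h2 : v < (kList 1).tup (pos + 1)) {g : HP} (hg : g ∈ Ki 1) : img g ≠ v := by
  intro e
  rw [← Ki_eq le_rfl (by omega)] at hg
  have hC := kChecked (i := 1) le_rfl (by omega)
  obtain ⟨i, hi, hE⟩ := hC.exists_index img_one (kList_step le_rfl (by omega)) hg
  rw [e] at hE
  rcases le_or_gt i pos with h | h
  · rcases eq_or_lt_of_le h with rfl | h
    · omega
    · have := hC.tup_strictMono (by omega) h; omega
  · rcases eq_or_lt_of_le (show pos + 1 ≤ i from h) with h | h
    · rw [← h] at hE; omega
    · have := hC.tup_strictMono hi h; omega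

/-- The listed elements are all that commute with the words. -/
theorem CentCert.OK.mem {C : CentCert} (hC : C.OK vt) (hV : VOK vt) {g : HP}
    (hg : ∀ L ∈ C.ew, wprod hs L * g = g * wprod hs L) : ∃ G ∈ C.gw, g = wprod hs G := by
  obtain ⟨hshape, hgood, hall, hcand, hreps⟩ := hC
  simp only [chkShape, Bool.and_eq_true, List.all_eq_true] at hshape
  obtain ⟨⟨⟨hseed, hew⟩, hps⟩, hrq⟩ := hshape
  have hp : C.seed < small.n := by rw [small_n]; simpa [Nat.blt] using hseed
  have hL : ∀ L ∈ C.ew, ∀ a ∈ L, a < 5 := fun L h a ha => by simpa [Nat.blt] using hew L h a ha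
  have trans : ∀ (k : HP), (∀ L ∈ C.ew, wprod hs L * k = k * wprod hs L) → ∀ L ∈ C.ew, ∀ x, x < small.n →
      rN k (small.follow L x) = small.follow L (rN k x) := fun k hk L h x hx => by
    rw [← rN_word (hL L h) hx, ← rN_mul _ _ hx, hk L h, rN_mul _ _ hx, rN_word (hL L h) (rN_lt k hx)]
  have hprof : ∀ ps : List (ℕ × ℕ), (∀ ij ∈ ps, ij.1 < C.ew.length ∧ ij.2 < C.ew.length) →
      chkProf vt C (rN g C.seed) ps = true := by
    intro ps
    induction ps with
    | nil => intro _; rfl
    | cons ij ps ih =>
      intro h
      obtain ⟨⟨hi, hj⟩, h⟩ := List.forall_mem_cons.1 h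
      show (Nat.beq _ _ && chkProf vt C (rN g C.seed) ps) = true
      rw [ih h, Bool.and_true, List.getD_eq_getElem _ _ hi, List.getD_eq_getElem _ _ hj,
        ← trans g hg _ (List.getElem_mem hi) _ hp, ← trans g hg _ (List.getElem_mem hj) _ hp,
        col_inv vt hV g (follow_lt (hL _ (List.getElem_mem hi)) hp) (follow_lt (hL _ (List.getElem_mem hj)) hp)]
      exact Nat.beq_refl _
  have hq1 : rN g C.seed < 1408 := small_n ▸ rN_lt g hp
  have hmem : ∃ e ∈ C.cands, e.1 = rN g C.seed := by
    have get : ∀ (cnt s : ℕ), chkAll vt C cnt s = true → ∀ j, s ≤ j → j < s + cnt →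
        chkProf vt C j C.ps = true → C.cands.any (fun e => Nat.beq e.1 j) = true := by
      intro cnt
      induction cnt with
      | zero => intro s _ j h1 h2; omega
      | succ cnt ih =>
        intro s h j h1 h2 hf
        have h' : ((bif chkProf vt C s C.ps then C.cands.any (fun e => Nat.beq e.1 s) else true) &&
          force (s + 1) (fun s' => chkAll vt C cnt s')) = true := h
        rw [Bool.and_eq_true, force_eq] at h'
        rcases eq_or_lt_of_le h1 with rfl | h3
        · rw [hf, cond_true] at h'
          exact h'.1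
        · exact ih _ h'.2 j h3 (by omega) hf
    have := get 1408 0 hall _ (Nat.zero_le _) (by omega) (hprof C.ps fun ij h => by
      have := hps ij h
      simpa [Nat.blt, Bool.and_eq_true] using this)
    obtain ⟨e, he, heq⟩ := List.any_eq_true.1 this
    exact ⟨e, he, Nat.eq_of_beq_eq_true heq⟩
  obtain ⟨⟨q, ri, gi⟩, he, rfl⟩ := hmem
  have hc := List.all_eq_true.1 hcand _ he
  simp only [chkCand, Bool.and_eq_true] at hc
  obtain ⟨⟨hri, hgi⟩, hfol⟩ := hc
  have hri : ri < C.reps.length := by simpa [Nat.blt] using hri
  have hgi : gi < C.gw.length := by simpa [Nat.blt] using hgi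
  rw [List.getD_eq_getElem _ _ hri, List.getD_eq_getElem _ _ hgi] at hfol
  have hG := List.all_eq_true.1 hgood _ (List.getElem_mem hgi)
  simp only [Bool.and_eq_true, List.all_eq_true] at hG
  have hG5 : ∀ a ∈ C.gw[gi], a < 5 := fun a ha => by simpa [Nat.blt] using hG.1 a ha
  set G := C.gw[gi] with hGdef
  set R := C.reps[ri] with hR
  have hRq : R.q < small.n := by rw [small_n]; simpa [Nat.blt] using hrq R (List.getElem_mem hri)
  let k := g * (wprod hs G)⁻¹
  have hGc : ∀ L ∈ C.ew, wprod hs L * wprod hs G = wprod hs G * wprod hs L := fun L h => by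
    rw [← wprod_append, ← wprod_append]
    refine img_injective ?_
    rw [img_wprod (fun a ha => (List.mem_append.1 ha).elim (hL L h a) (hG5 a)),
      img_wprod (fun a ha => (List.mem_append.1 ha).elim (hG5 a) (hL L h a))]
    exact (Nat.eq_of_beq_eq_true (hG.2 L h)).symm
  have hk : ∀ L ∈ C.ew, wprod hs L * k = k * wprod hs L := fun L h =>
    (Commute.mul_right (hg L h) (Commute.inv_right (hGc L h))).eq
  have hkp : rN k C.seed = R.q := by
    show rN (g * (wprod hs G)⁻¹) C.seed = R.q
    rw [rN_mul _ _ hp, ← Nat.eq_of_beq_eq_true hfol, ← rN_word hG5 hRq, ← rN_mul _ _ hRq, mul_inv_cancel,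
      rN_one hRq]
  have hRc := List.all_eq_true.1 hreps R (List.getElem_mem hri)
  unfold chkRep at hRc
  cases hS : chkSteps vt R.steps (start C R.q) with
  | none => rw [hS] at hRc; exact absurd hRc (by simp)
  | some F =>
    rw [hS] at hRc
    have hF : Real k F := chkSteps_sound vt hV _ _ _ (fun e he => by
      simp only [start, List.mem_map] at he
      obtain ⟨L, hLm, rfl⟩ := he
      exact ⟨follow_lt (hL L hLm) hp, by rw [trans k hk L hLm _ hp, hkp]⟩) hS
    simp only [chkEnd, force_eq] at hRc
    cases h1 : Nat.beq R.kind 1 with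
    | true =>
      rw [h1, cond_true] at hRc
      obtain ⟨e, he, heq⟩ := List.any_eq_true.1 hRc
      obtain ⟨hx, hy⟩ := hF e he
      have := rN_lt k hx
      rw [small_n, hy, Nat.eq_of_beq_eq_true heq] at this
      omega
    | false =>
      rw [h1, cond_false] at hRc
      cases h0 : Nat.beq R.kind 0 with
      | true =>
        rw [h0, cond_true] at hRc
        simp only [Bool.and_eq_true] at hRc
        obtain ⟨⟨⟨⟨-, ha⟩, hb⟩, hcc⟩, hd⟩ := hRc
        have val : ∀ b v, Nat.beq (lookF F b) v = true → v < 1409 → rN k b = v := fun b v h hv => by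
          have e := Nat.eq_of_beq_eq_true h
          rw [← e]; exact lookF_sound hF (by omega)
        have hk1 : k = 1 := img_injective (by
          rw [img_one, img_rN, val 0 0 ha (by omega), val 904 904 hb (by omega), val 829 829 hcc (by omega),
            val 621 621 hd (by omega)]
          rfl)
        exact ⟨G, List.getElem_mem hgi, mul_inv_eq_one.1 hk1⟩
      | false =>
        rw [h0, cond_false] at hRc
        simp only [Bool.and_eq_true] at hRc
        obtain ⟨⟨⟨⟨ha, hb⟩, hcc⟩, hd⟩, ⟨hm, h1'⟩, h2'⟩ := hRc
        have val : ∀ b, Nat.blt (lookF F b) 1408 = true → rN k b = lookF F b := fun b h =>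
          lookF_sound hF (by have : lookF F b < 1408 := (by simpa [Nat.blt] using h); omega)
        have ha' : lookF F 0 < small.n := by rw [small_n]; simpa [Nat.blt] using ha
        obtain ⟨hw, hw0⟩ := colV_ok vt hV ha'
        exfalso
        refine not_mem_of_gap (by simpa [Nat.blt] using hm) (by simpa [Nat.blt] using h1')
          (by simpa [Nat.blt] using h2') (g := k * wprod hs (colV vt (lookF F 0))) (mem_K1_rN.2 ?_) ?_
        · rw [rN_mul _ _ (by rw [small_n]; omega), val 0 ha, rN_word hw ha', hw0]
        · rw [img_mul hw, img_rN, val 0 ha, val 904 hb, val 829 hcc, val 621 hd]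

end Cert

end CfsgLib.InvChar.SporHN.Out
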