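import Cfsg.Agent.Lib.InvChar.SporHNListing

/-! Data for the outer automorphism group of HN. -/

set_option autoImplicit false
set_option maxRecDepth 100000

namespace CfsgLib.InvChar.SporHN.Out

/-- hints for the substituted relators -/
def relHints : List (List (List (ℕ × List ℕ × ℕ) × ℕ)) := [
  [([], 0), ([], 24400), ([], 24400), ([], 24400), ([], 24400)],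
  [([], 0), ([], 24400), ([], 24400), ([], 24400), ([], 24400)],
  [([], 0), ([], 24400), ([], 24400), ([], 24400), ([], 24400)],
  [([], 0), ([], 24400), ([], 24400), ([], 24400), ([], 24400)],
  [([], 0), ([], 24400), ([], 24400), ([], 24400), ([], 24400)],
  [([], 0), ([], 24400), ([], 24400), ([], 24400), ([], 24400)],
  [([], 0), ([], 24400), ([], 24400), ([], 24400), ([], 24400)],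
  [([], 0), ([], 24400), ([], 24400), ([], 24400), ([], 24400)],
  [([], 0), ([], 24400), ([], 24400), ([], 24400), ([], 24400)],
  [([], 0), ([], 24400), ([], 24400), ([], 24400), ([], 24400)],
  [([(0, [], 0), (1, [], 0), (4, [], 0), (3, [], 0), (2, [], 0), (0, [], 0), (1, [], 0), (4, [], 0), (3, [], 0), (2, [], 0)], 0), ([(1, [], 0), (4, [], 0), (3, [], 0), (2, [], 0), (0, [], 0), (1, [], 0), (4, [], 0), (3, [], 0), (2, [], 0), (0, [], 0)], 0), ([(11, [], 0), (76, [], 0), (79, [0, 2, 2, 0, 2, 1, 3, 1], 49), (78, [3, 0, 2, 0, 3, 3, 0, 3, 3, 1, 2, 1, 3, 1], 49), (77, [2, 2, 0, 2, 0, 3, 3, 0, 2, 0, 3, 3, 1, 3, 3, 1, 2, 1, 3, 1], 49), (11, [2, 2, 0, 2, 0, 3, 3, 0, 2, 0, 3, 3, 1, 3, 3, 1, 2, 1, 3, 1], 0), (76, [2, 2, 0,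 2, 0, 3, 3, 0, 2, 0, 3, 3, 1, 3, 3, 1, 2, 1, 3, 1], 0), (79, [3, 0, 3, 3, 0, 3, 0, 2, 0, 2, 1, 2, 2, 1, 2, 2, 1, 2, 1], 49), (78, [2, 0, 2, 0, 3, 3, 0, 3, 0, 2, 2, 1, 2, 2, 1, 3, 3, 1, 3, 1], 49), (77, [2, 2, 0, 2, 2, 0, 3, 3, 0, 3, 0, 2, 2, 1, 2, 2, 1, 3, 3, 1, 3, 1], 49)], 80184), ([(10, [0, 2, 0, 2, 0, 3, 0, 3, 0, 2, 2, 1, 2, 1, 3, 1, 3, 1, 2, 1, 2], 36039), (30, [0, 2, 0, 2, 0, 3, 0, 3, 0, 2, 2, 1, 2, 1, 3, 1, 3, 1, 2, 1, 2], 0), (23, [0, 2, 0, 2, 0, 2, 0, 3, 0, 3, 0, 2, 2, 1, 3, 1, 2], 2983), (22, [3, 0, 3, 3, 0, 2, 1, 3, 3, 1, 3], 2009), (31, [3, 0, 3, 3, 0, 2, 0, 2, 2, 1, 3, 1, 3, 3, 1, 2], 786), (10, [2, 0, 4, 2, 2, 4, 2, 2, 4, 2, 0, 2, 2, 0, 3, 3, 1, 2, 4, 2, 2], 95285), (30, [2, 0, 4, 2, 2, 4, 2, 2, 4, 2, 0,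 2, 2, 0, 3, 3, 1, 2, 4, 2, 2], 0), (23, [2, 4, 2, 4, 2, 2, 1, 4, 3, 4, 3, 3, 3, 4, 3, 1, 2, 2, 4, 2, 1, 3], 2983), (22, [2, 4, 3, 3, 4, 2, 2, 4, 2, 2, 4, 3, 4, 0, 3, 4, 3, 4, 3, 3, 3, 4], 2009), (31, [4, 3, 3, 4, 3, 3, 4, 3, 3, 4, 2, 2, 1, 3, 1, 3, 3, 1, 3, 3, 1, 2], 786)], 25263), ([(10, [4, 3, 0, 4, 3, 0, 3, 3, 0, 3, 3, 3, 4, 3, 3, 4, 1, 2], 8061), (30, [4, 3, 0, 4, 3, 0, 3, 3, 0, 3, 3, 3, 4, 3, 3, 4, 1, 2], 0), (23, [4, 3, 0, 2, 2, 4, 3, 1, 2, 2, 4, 2, 2, 1, 2, 1, 3, 4, 3, 1], 2983), (22, [2, 0, 4, 2, 2, 2, 4, 2, 2, 1, 3, 4, 3, 3, 1, 2, 4], 2009), (31, [0, 3, 0, 3, 0, 2, 2, 2, 1, 3, 3, 3, 1, 2, 2, 1], 786), (10, [0, 3, 3, 0, 3, 3, 0, 2, 2, 0, 2, 1, 3, 3, 1, 3, 1, 2, 1], 95285), (30, [0, 3, 3, 0, 3, 3, 0, 2, 2, 0,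 2, 1, 3, 3, 1, 3, 1, 2, 1], 0), (23, [3, 4, 3, 4, 2, 4, 2, 2, 1, 2, 2, 1, 2, 1, 3, 3, 3, 4, 2, 2], 2983), (22, [3, 0, 4, 2, 4, 3, 4, 3, 4, 2, 4, 2, 1, 3, 4, 1], 2009), (31, [0, 2, 0, 2, 2, 0, 2, 2, 2, 4, 2, 2, 4, 2, 2, 4, 2, 2, 4, 0, 3], 786)], 88392)],
  [([(0, [], 0), (1, [], 0), (1, [], 24400), (4, [], 0), (3, [], 0), (2, [], 0)], 0), ([(4, [], 0), (3, [], 0), (4, [], 24400), (3, [], 0), (2, [], 0), (0, [], 0)], 0), ([(11, [3, 3, 0, 2, 2, 0, 3, 0, 2, 2, 1, 2, 2, 1, 3, 1, 3], 22012), (76, [3, 3, 0, 2, 2, 0, 3, 0, 2, 2, 1, 2, 2, 1, 3, 1, 3], 0), (76, [2, 0, 3, 0, 2, 2, 0, 2, 0, 2, 2, 1, 3, 3, 1, 3, 1, 2, 2, 1, 2], 49), (79, [2, 0, 2, 0, 2, 2, 0, 3, 0, 2, 1, 2, 1, 2, 1, 3, 3, 1], 49), (78, [4, 2, 2, 2, 4, 2, 0, 3, 4,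 3, 3, 4, 3, 3, 3, 4, 0, 3, 4, 3, 1], 49), (77, [3, 3, 0, 3, 0, 2, 0, 2, 0, 2, 2, 1, 3, 3, 1, 3, 3, 1, 3, 3, 1], 49)], 19721), ([(9, [4, 2, 2, 2, 0, 4, 3, 1, 3, 3, 1, 3, 3, 3, 4, 1, 2, 4], 81529), (16, [3, 0, 3, 0, 2, 0, 2, 0, 3, 0, 3, 1, 3, 1, 2, 1, 2, 1, 2, 1], 3491), (30, [2, 2, 0, 2, 0, 2, 4, 3, 3, 4, 3, 3, 4, 3, 1, 2, 2, 1, 2, 4], 1430), (23, [2, 0, 2, 2, 0, 3, 3, 0, 2, 2, 1, 2, 1, 3, 3, 3, 1, 2, 2], 2983), (22, [2, 0, 4, 3, 0, 2, 2, 0, 3, 3, 1, 3, 4, 3, 3, 4, 3, 3, 4, 3], 2009), (31, [0, 2, 0, 3, 3, 0, 3, 0, 2, 2, 0, 3, 1, 2, 1, 2, 1, 3, 3, 1, 3, 1], 786)], 91732), ([(9, [0, 2, 0, 2, 0, 2, 0, 3, 1, 3, 3, 1, 2, 1, 3, 1], 7108), (16, [2, 0, 2, 2, 0, 2, 0, 2, 0, 3, 1, 3, 3, 3, 1, 3, 1, 3, 3, 1], 3491), (30, [3, 0,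 4, 2, 4, 2, 0, 3, 1, 3, 1, 3, 3, 4, 3, 3, 4, 3], 1430), (23, [2, 1, 4, 3, 3, 4, 3, 3, 4, 3, 3, 4, 3, 1, 3, 3, 1, 2, 2, 1], 2983), (22, [0, 2, 0, 3, 4, 2, 2, 0, 4, 2, 2, 4, 2, 2, 1, 2, 2, 4, 2, 1, 3, 1], 2009), (31, [2, 2, 0, 2, 2, 0, 2, 2, 0, 2, 2, 1, 3, 3, 1, 2, 2, 1, 3, 3], 786)], 32505)],
  [([(2, [], 0), (3, [], 0), (3, [3], 0), (2, [3], 0)], 0), ([(0, [], 0), (2, [], 0), (2, [3], 0), (0, [3], 0)], 24400), ([(77, [2, 2, 0, 2, 0, 3, 3, 0, 2, 0, 3, 3, 1, 3, 3, 1, 2, 1, 3, 1], 99899), (78, [2, 0, 2, 0, 3, 3, 0, 3, 0, 2, 2, 1, 2, 2, 1, 3, 3, 1, 3, 1], 97), (78, [2, 0, 2, 0, 3, 3, 0, 3, 0, 2, 2, 1, 2, 2, 1, 3, 3, 1, 3, 1, 3], 0), (77, [3, 4, 3, 4, 2, 2, 2, 0, 3, 1, 4, 3, 1, 3, 3, 3, 1, 3, 3, 4, 2, 2], 49)], 80184), ([(31,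 [3, 0, 3, 3, 0, 2, 0, 2, 2, 1, 3, 1, 3, 3, 1, 2], 27628), (22, [2, 4, 3, 3, 4, 2, 2, 4, 2, 2, 4, 3, 4, 0, 3, 4, 3, 4, 3, 3, 3, 4], 974), (22, [2, 0, 4, 2, 0, 4, 2, 0, 2, 2, 4, 2, 4, 2, 4, 3, 3, 3, 4, 1, 3, 1], 2983), (31, [0, 2, 0, 2, 2, 4, 2, 2, 0, 4, 3, 4, 2, 2, 4, 2, 4, 0, 3, 3, 4], 786)], 25263), ([(31, [0, 3, 0, 3, 0, 2, 2, 2, 1, 3, 3, 3, 1, 2, 2, 1], 74075), (22, [3, 0, 4, 2, 4, 3, 4, 3, 4, 2, 4, 2, 1, 3, 4, 1], 974), (22, [0, 3, 0, 4, 2, 4, 3, 3, 4, 2, 2, 4, 0, 3, 4, 3, 4], 2983), (31, [2, 0, 3, 0, 2, 2, 0, 2, 0, 3, 3, 1, 3, 1, 2, 1, 2, 1, 2, 2], 786)], 88392)],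
  [([(0, [], 0), (1, [], 0), (7, [], 24400), (26, [], 0), (3, [], 24400), (2, [], 0)], 0), ([(6, [], 0), (13, [], 0), (27, [], 9832), (12, [], 0), (2, [], 24400), (0, [], 0)], 0), ([(9, [4, 3, 4, 2, 2, 2, 0, 2, 0, 3, 0, 3, 1, 2, 2, 4, 2, 4, 2], 125070), (16, [0, 4, 2, 2, 0, 2, 2, 4, 2, 2, 4, 2, 0, 3, 1, 2, 2, 4, 3], 3491), (43, [0, 2, 4, 2, 0, 3, 4, 3, 0, 2, 4, 2, 4, 3, 4, 3, 4], 1206), (42, [4, 2, 2, 2, 0, 2, 0, 2, 2, 0, 3, 3, 4, 3, 3, 4, 1, 2, 4, 3], 304), (78, [4, 2, 2, 2, 4, 2, 0, 3, 4, 3, 3, 4, 3, 3, 3, 4, 0, 3, 4, 3, 1], 315), (77, [3, 3, 0, 3, 0, 2, 0, 2, 0, 2, 2, 1, 3, 3, 1, 3, 3, 1, 3, 3, 1], 49)], 19721), ([(11, [0, 2, 0, 4, 2, 4, 3, 3, 0, 3, 4, 1, 3, 4, 3, 4, 2, 4, 1], 32881), (76, [0, 2, 0, 4, 2, 4, 3, 3,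 0, 3, 4, 1, 3, 4, 3, 4, 2, 4, 1], 0), (84, [2, 2, 0, 3, 0, 3, 0, 2, 1, 2, 2, 1, 2, 2, 1, 3], 245), (58, [0, 2, 0, 2, 0, 3, 3, 0, 3, 0, 3, 3, 1, 3, 3, 1, 2, 1, 3, 1, 3, 1], 35), (22, [3, 3, 0, 3, 0, 3, 0, 2, 2, 2, 1, 2, 1, 3, 3, 1, 3], 2164), (31, [3, 0, 2, 2, 2, 1, 3, 1, 3, 1, 3, 1, 2, 1], 786)], 40587), ([(7, [4, 2, 2, 2, 0, 4, 2, 1, 2, 2, 1, 3, 3, 3, 4, 1, 3, 4], 3755), (26, [4, 2, 2, 2, 0, 4, 2, 1, 2, 2, 1, 3, 3, 3, 4, 1, 3, 4], 0), (10, [3, 3, 0, 2, 2, 0, 2, 1, 3, 3, 1, 2, 1, 2, 2, 1, 2, 1, 2, 1], 3040), (30, [3, 3, 0, 2, 2, 0, 2, 1, 3, 3, 1, 2, 1, 2, 2, 1, 2, 1, 2, 1], 0), (22, [0, 3, 0, 2, 2, 0, 2, 0, 2, 2, 2, 1, 2, 2, 1, 2, 1, 2, 2, 1, 2], 2164), (31, [2, 0, 3, 1], 786)], 110311)]]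

/-- places of the central involution between listed elements -/
def cPos : List ℕ := [0, 113977, 4499, 0, 1049, 159, 225, 407, 0]

/-- conjugates of the central involution by two base words -/
def conjW : List (List ℕ) := [[0, 0, 4], [4, 2, 4, 0, 3, 1]]

/-- hints for the two conjugates -/
def conjHints : List (List (List (ℕ × List ℕ × ℕ) × ℕ)) := [
  [([(0, [], 0), (7, [], 0), (7, [2, 2, 0, 3, 0, 3, 0, 2, 2, 2, 1, 3, 3, 3, 1, 3, 1], 48023), (0, [0, 2, 2, 0, 3, 0, 3, 0, 2, 2, 2, 0, 3, 3, 3, 1, 3], 24400)], 0), ([(1, [], 0), (5, [], 24400), (12, [], 24400), (6, [], 2300)], 24400), ([(11, [], 0), (84, [], 0), (25, [2, 0, 3, 1, 2, 4, 2, 2, 4, 2, 2, 4, 2, 2, 4], 184), (9, [3, 0, 2, 4, 2, 4, 2, 2, 0, 2, 2, 4, 3, 4, 3, 3,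 4, 1, 3, 4], 651)], 119473), ([(10, [0, 2, 0, 2, 0, 3, 0, 3, 0, 2, 2, 1, 2, 1, 3, 1, 3, 1, 2, 1, 2], 36039), (43, [0, 2, 0, 2, 2, 0, 2, 2, 1, 3, 3, 1, 2, 1, 2], 946), (87, [2, 2, 0, 2, 2, 2, 0, 2, 2, 2, 1, 3, 1, 3, 3], 12), (11, [2, 2, 0, 3, 3, 0, 3, 0, 2, 4, 1, 2, 2, 4, 2, 2, 4, 2, 2, 4], 39)], 28721), ([(10, [4, 3, 0, 4, 3, 0, 3, 3, 0, 3, 3, 3, 4, 3, 3, 4, 1, 2], 8061), (38, [0, 3, 0, 2, 0, 2, 2, 2, 0, 2, 2, 1, 3, 1, 2, 1, 2, 1, 2], 1003), (29, [3, 0, 3, 0, 2, 0, 2, 2, 0, 3, 1, 3, 1, 2, 1, 2, 1, 3, 3], 121), (7, [3, 0, 2, 2, 2, 0, 3, 1, 3, 1, 2, 1, 2, 1, 3, 1, 3, 1], 42686)], 63435)],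
  [([(0, [], 0), (8, [0, 2, 1], 24400), (49, [2, 0, 2, 2, 0, 3, 0, 2, 2, 1, 3, 3, 3, 1, 2, 1, 3, 3], 3702), (61, [2, 0, 2, 0, 3, 3, 0, 2, 2, 1, 2, 1, 3, 3, 1, 2], 65), (61, [0, 3, 0, 2, 2, 0, 3, 3, 1, 3, 1, 2, 2, 1, 3, 3], 12355), (49, [2, 2, 0, 4, 2, 0, 2, 0, 2, 2, 1, 2, 4, 2, 2, 4, 2, 2, 4, 3, 3], 118), (8, [2, 2, 2, 0, 4, 2, 0, 2, 0, 2, 2, 1, 2, 4, 2, 2, 4, 2, 2, 4, 3], 2983), (0, [4, 2, 4, 2, 4, 3, 3, 4, 2, 2, 2, 0, 3, 3, 4, 3, 3, 3, 4, 1, 3, 3], 24400)], 0), ([(1, [], 0), (6, [0, 2, 1], 24400), (47, [2, 0, 2, 2, 0, 2, 2, 1, 2, 2, 1, 2, 1, 3, 1, 3, 1, 3, 3, 1], 3870), (69, [], 65), (62, [3, 4, 2, 2, 4, 3, 4, 3, 3, 4, 2, 2, 1, 3, 3, 4, 3, 4, 1, 2], 163), (48, [0, 2, 0, 3, 3, 0, 2, 0, 2, 2, 0, 3, 3, 1, 2], 118), (20,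 [3, 3, 0, 2, 0, 2, 0, 3, 0, 3, 3, 1, 3, 3, 3, 1, 3, 1, 3, 1], 15), (9, [0, 3, 0, 3, 0, 2, 0, 4, 2, 4, 3, 4, 3, 4, 2, 2, 4, 1, 3, 4, 3], 4602)], 13996), ([(11, [], 0), (85, [0, 2, 1], 49), (60, [3, 0, 2, 2, 2, 0, 2, 0, 2, 2, 1, 3, 1, 3, 1, 3, 3], 82), (75, [2, 2, 2, 0, 2, 2, 2, 1, 3, 1, 3, 3, 1, 2, 1, 2, 1, 3], 146), (74, [2, 4, 3, 3, 4, 3, 3, 4, 3, 3, 4, 3, 0, 2, 1, 3], 146), (60, [3, 4, 2, 2, 2, 4, 2, 2, 0, 4, 3, 4, 2, 1, 2, 4, 3, 4, 3], 93), (85, [3, 4, 2, 0, 4, 2, 2, 4, 2, 0, 3, 4, 3, 3, 3, 4, 1, 2, 4, 1], 216), (11, [0, 2, 0, 2, 0, 3, 0, 3, 1, 3, 3, 1, 2, 2, 1, 3, 1, 2], 39)], 112418), ([(10, [0, 2, 0, 2, 0, 3, 0, 3, 0, 2, 2, 1, 2, 1, 3, 1, 3, 1, 2, 1, 2], 36039), (42, [0, 3, 0, 2, 0, 2, 0, 3, 1, 3, 1, 3, 3, 3, 1,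 2, 1, 3], 754), (60, [3, 3, 0, 4, 3, 3, 4, 3, 0, 4, 3, 4, 3, 0, 2, 2, 4, 2, 4, 1, 2], 435), (72, [0, 2, 2, 0, 3, 4, 2, 2, 2, 4, 2, 4, 0, 2, 4, 2, 4, 3, 3, 4, 1], 159), (73, [2, 2, 2, 0, 2, 0, 2, 0, 3, 1, 3, 3, 3, 1, 3, 1], 156), (60, [2, 4, 3, 0, 4, 3, 0, 3, 4, 3, 1, 2, 4, 2, 4, 3, 3, 3, 4, 1], 178), (42, [2, 0, 3, 0, 3, 4, 2, 2, 4, 2, 2, 4, 2, 1, 3, 3, 1, 3, 4], 256), (10, [3, 0, 2, 2, 0, 2, 0, 2, 0, 3, 3, 1, 3, 1, 3, 1, 2, 1], 899)], 69205), ([(10, [4, 3, 0, 4, 3, 0, 3, 3, 0, 3, 3, 3, 4, 3, 3, 4, 1, 2], 8061), (39, [0, 3, 0, 3, 0, 2, 2, 2, 0, 3, 3, 1, 2, 1, 3, 1, 3, 1, 3], 1003), (82, [2, 4, 3, 0, 3, 1, 4, 2, 4, 2, 2, 4, 2, 4, 2, 1, 2, 2, 4, 1], 105), (86, [0, 3, 0, 3, 0, 2, 0, 2, 2, 0, 2, 2, 1], 279), (86, [0, 3,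 3, 0, 2, 2, 0, 3, 1, 2, 2, 1, 2, 2, 1], 75), (90, [2, 0, 4, 2, 2, 2, 4, 2, 2, 1, 2, 2, 2, 4, 2, 2, 4, 3, 4, 3, 4], 174), (25, [0, 4, 3, 0, 4, 3, 3, 0, 2, 0, 2, 4, 2, 2, 4, 2, 2, 4, 2, 4, 2, 2], 40), (9, [0, 4, 2, 2, 4, 2, 2, 4, 2, 0, 3, 1, 2, 2, 1, 3, 4, 3, 3, 1, 2, 1], 2466)], 115824)]]

/-- an element of order ten normalising the group of order eleven -/
def nW : List ℕ := [0, 2, 2, 2, 0, 3, 4, 3, 3, 0, 2, 2, 1, 2, 1, 2, 2, 1, 2]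

/-- tests: powers of a by exponent, 11 for w -/
def testW : List (List ℕ) := [[10, 11, 10, 11, 10, 11, 10, 11, 10, 11, 10, 11, 10, 11, 10, 11, 10, 11, 10, 11], [5, 11, 5, 11, 5, 11, 5, 11, 5, 11, 5, 11, 5, 11, 5, 11, 5, 11, 5, 11], [8, 11, 7, 11, 8, 11, 7, 11, 8, 11, 7, 11, 8, 11, 7, 11, 8, 11, 7, 11, 8, 11, 7, 11, 8, 11, 7, 11, 8, 11, 7, 11, 8, 11, 7, 11, 8, 11, 7, 11, 8, 11, 7, 11, 8, 11, 7, 11, 8, 11, 7, 11, 8, 11, 7, 11, 8, 11, 7, 11, 8, 11, 7, 11, 8, 11, 7, 11, 8, 11, 7, 11, 8, 11, 7, 11, 8, 11, 7, 11, 8, 11, 7, 11, 8, 11, 7, 11], [1, 11, 7, 11, 1, 11, 7, 11, 1, 11, 7, 11, 1, 11, 7, 11, 1, 11, 7, 11, 1, 11, 7, 11, 1, 11, 7, 11, 1, 11, 7, 11, 1, 11, 7, 11, 1, 11, 7, 11], [9, 11, 1, 11, 7, 11, 9, 11, 1, 11, 7, 11,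 9, 11, 1, 11, 7, 11, 9, 11, 1, 11, 7, 11, 9, 11, 1, 11, 7, 11, 9, 11, 1, 11, 7, 11, 9, 11, 1, 11, 7, 11, 9, 11, 1, 11, 7, 11]]

/-- x, y, z in a, w and their inverses -/
def exprW : List (List ℕ) := [[0, 1, 2, 1, 0, 1, 0, 0, 0, 0, 1, 0, 3, 0, 3, 2, 3, 2, 2, 2, 3, 0, 0], [0, 0, 1, 2, 1, 2, 2, 2, 1, 2, 1, 0, 0, 1, 0, 3, 2, 3, 2, 2, 2, 3, 0, 3, 2, 2, 3], [0, 0, 1, 2, 1, 2, 1, 2, 1, 0, 0, 0, 0, 1, 2, 2, 3, 0, 3, 0, 0, 0, 0, 3, 0, 0, 3]]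

end CfsgLib.InvChar.SporHN.Out
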