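import Cfsg.Agent.Lib.InvChar.SporHNSimple
import Cfsg.Agent.Lib.InvChar.SporHNOutChk
import Cfsg.Agent.Lib.InvChar.SporHNOutWords

/-!
# Facts inside 2.HS:2 for the outer automorphisms of HN

`aH` has order 11 and centraliser `⟨aH⟩ × ⟨cH⟩`, `nH` normalises its group and the centraliser of
`nH²` contains one further generator, determined up to the central involution `cH` by five relations.
-/

set_option autoImplicit false
set_option maxRecDepth 100000
set_option maxHeartbeats 1000000

namespace CfsgLib.InvChar.SporHN.Out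

open CfsgLib.InvChar.Coset
open CfsgLib.InvChar.SporHN

/-- The test that two words agree on the 1408 points. -/
noncomputable def eqW (L M : List ℕ) : Bool :=
  (L.all fun a => Nat.blt a 5) && (M.all fun a => Nat.blt a 5) && Nat.beq (step4 small L img0) (step4 small M img0)

theorem eqW_sound {L M : List ℕ} (h : eqW L M = true) : wprod hs L = wprod hs M := by
  simp only [eqW, Bool.and_eq_true, List.all_eq_true] at h
  obtain ⟨⟨hL, hM⟩, he⟩ := h
  refine img_injective ?_
  rw [img_wprod fun a ha => by simpa [Nat.blt] using hL a ha,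
    img_wprod fun a ha => by simpa [Nat.blt] using hM a ha]
  exact Nat.eq_of_beq_eq_true he

/-- A word for the element of order eleven. -/
def aW : List ℕ := certA.ew.getD 1 []

/-- The element of order eleven. -/
noncomputable abbrev aH : HP := wprod hs aW
/-- The central involution. -/
noncomputable abbrev cH : HP := wprod hs [0, 0]
/-- The element normalising the group of order eleven. -/
noncomputable abbrev nH : HP := wprod hs nW

theorem wprod_rep (L : List ℕ) (i : ℕ) : wprod hs (List.replicate i L).flatten = wprod hs L ^ i := by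
  induction i with
  | zero => simp [wprod]
  | succ i ih => rw [List.replicate_succ, List.flatten_cons, wprod_append, ih, pow_succ']

theorem basic_chk : eqW [0, 0, 0, 0] [] = true ∧ eqW [0, 0] [] = false ∧
    (∀ x ∈ [0, 2, 4], eqW [0, 0, x] [x, 0, 0] = true) ∧
    eqW (List.replicate 11 aW).flatten [] = true ∧ eqW aW [] = false ∧
    eqW (aW ++ nW) (nW ++ (aW ++ aW)) = true := by
  decide +kernel

theorem word_lists_ok : certA.gw = (List.range 11).map (fun i => certA.ew.getD i []) ++
      (List.range 11).map (fun i => [0, 0] ++ certA.ew.getD i []) ∧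
    certA.ew.length = 11 ∧ certM.ew.length = 5 ∧ certK.gw = [[], [0, 0]] ∧ certM.gw.length = 100 := by
  decide +kernel

theorem ewA_chk : ∀ i < 11, eqW (certA.ew.getD i []) (List.replicate i aW).flatten = true := by decide +kernel

theorem ewM_chk : ∀ i < 5, eqW (certM.ew.getD i []) (List.replicate i (nW ++ nW)).flatten = true := by
  decide +kernel

theorem ewK_chk : ∀ L ∈ certK.ew, (L.all fun a => Nat.blt a 5) = true ∧ small.follow L 0 = 0 := by decide +kernel

theorem eq_false_of_img {L M : List ℕ} (h : eqW L M = false) (hL : ∀ a ∈ L, a < 5) (hM : ∀ a ∈ M, a < 5) :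
    wprod hs L ≠ wprod hs M := fun e => by
  have h' := congrArg img e
  rw [img_wprod hL, img_wprod hM] at h'
  have : eqW L M = true := by
    simp only [eqW, Bool.and_eq_true, List.all_eq_true]
    exact ⟨⟨fun a ha => by simpa [Nat.blt] using hL a ha, fun a ha => by simpa [Nat.blt] using hM a ha⟩,
      by rw [h']; exact Nat.beq_refl _⟩
  rw [h] at this
  exact absurd this (by simp)

theorem cH_sq : cH * cH = 1 := by rw [← wprod_append]; exact eqW_sound basic_chk.1

theorem cH_ne : cH ≠ 1 := eq_false_of_img (M := []) basic_chk.2.1 (by decide) (by simp)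

theorem cH_central (g : HP) : Commute cH g := by
  induction (hs_closure.symm ▸ Subgroup.mem_top g : g ∈ Subgroup.closure (hs '' {0, 2, 4}))
    using Subgroup.closure_induction with
  | mem a ha =>
    obtain ⟨x, hx, rfl⟩ := ha
    have h := eqW_sound (basic_chk.2.2.1 x (by simpa using hx))
    rw [show [0, 0, x] = [0, 0] ++ [x] from rfl, show [x, 0, 0] = [x] ++ [0, 0] from rfl, wprod_append,
      wprod_append, show wprod hs [x] = hs x by simp [wprod]] at h
    exact h
  | one => exact Commute.one_right _
  | mul a b _ _ ha hb => exact ha.mul_right hb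
  | inv a _ ha => exact ha.inv_right

theorem aH_pow : aH ^ 11 = 1 := by rw [← wprod_rep]; exact eqW_sound basic_chk.2.2.2.1

theorem aH_ne : aH ≠ 1 :=
  eq_false_of_img (M := []) basic_chk.2.2.2.2.1 (by decide +kernel) (by simp)

theorem aH_order : orderOf aH = 11 :=
  haveI : Fact (Nat.Prime 11) := ⟨by norm_num⟩
  orderOf_eq_prime aH_pow aH_ne

theorem nH_conj : aH * nH = nH * aH ^ 2 := by
  rw [pow_two, ← wprod_append, ← wprod_append, ← wprod_append]; exact eqW_sound basic_chk.2.2.2.2.2

theorem ewA_eq {i : ℕ} (hi : i < 11) : wprod hs (certA.ew.getD i []) = aH ^ i := by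
  rw [eqW_sound (ewA_chk i hi), wprod_rep]

/-- The centraliser of the element of order eleven. -/
theorem cent_a {g : HP} (hg : Commute aH g) : ∃ i < 11, ∃ j < 2, g = cH ^ j * aH ^ i := by
  obtain ⟨G, hG, rfl⟩ := certA_ok.mem vTab vTab_ok (g := g) fun L hL => by
    obtain ⟨i, hi, rfl⟩ := List.mem_iff_getElem.1 hL
    rw [← List.getD_eq_getElem certA.ew [] hi, ewA_eq (word_lists_ok.2.1 ▸ hi)]
    exact (hg.pow_left i).eq
  rw [word_lists_ok.1, List.mem_append] at hG
  rcases hG with h | h <;> obtain ⟨i, hi, rfl⟩ := List.mem_map.1 h <;> have hi := List.mem_range.1 hi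
  · exact ⟨i, hi, 0, by omega, by rw [ewA_eq hi, pow_zero, one_mul]⟩
  · exact ⟨i, hi, 1, by omega, by rw [wprod_append, ewA_eq hi, pow_one]⟩

/-- The only involution commuting with the element of order eleven is the central one. -/
theorem inv_cent_a {g : HP} (hg : Commute aH g) (h2 : g * g = 1) (h1 : g ≠ 1) : g = cH := by
  obtain ⟨i, hi, j, hj, rfl⟩ := cent_a hg
  have hc : Commute (cH ^ j) (aH ^ i) := (cH_central _).pow_left j
  have h2' : cH ^ (j * 2) * aH ^ (i * 2) = 1 := by
    rw [pow_mul, pow_mul, ← hc.mul_pow, pow_two]; exact h2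
  rw [mul_comm j 2, pow_mul, pow_two, cH_sq, one_pow, one_mul] at h2'
  have hd := orderOf_dvd_of_pow_eq_one h2'
  rw [aH_order] at hd
  obtain rfl : i = 0 := by omega
  rw [pow_zero, mul_one] at h1 ⊢
  interval_cases j
  · exact absurd (pow_zero _) h1
  · exact pow_one _

/-- The centraliser of the stabiliser of a point. -/
theorem cent_K {g : HP} (hg : ∀ u ∈ Ki 1, Commute u g) : g = 1 ∨ g = cH := by
  obtain ⟨G, hG, rfl⟩ := certK_ok.mem vTab vTab_ok (g := g) fun L hL => by
    obtain ⟨hlt, h0⟩ := ewK_chk L hL
    have hlt : ∀ a ∈ L, a < 5 := fun a ha => by simpa [Nat.blt] using List.all_eq_true.1 hlt a ha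
    exact (hg _ (mem_K1_rN.2 (by rw [rN_word hlt (by rw [small_n]; omega)]; exact h0))).eq
  rw [word_lists_ok.2.2.2.1] at hG
  simp only [List.mem_cons, List.not_mem_nil, or_false] at hG
  rcases hG with rfl | rfl
  · exact Or.inl rfl
  · exact Or.inr rfl

/-- The centraliser of the square of `nH`. -/
theorem cent_m {g : HP} (hg : Commute (nH * nH) g) : ∃ k < 100, g = wprod hs (certM.gw.getD k []) := by
  obtain ⟨G, hG, rfl⟩ := certM_ok.mem vTab vTab_ok (g := g) fun L hL => by
    obtain ⟨i, hi, rfl⟩ := List.mem_iff_getElem.1 hL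
    rw [← List.getD_eq_getElem certM.ew [] hi, eqW_sound (ewM_chk i (word_lists_ok.2.2.1 ▸ hi)), wprod_rep,
      wprod_append]
    exact (hg.pow_left i).eq
  obtain ⟨k, hk, rfl⟩ := List.mem_iff_getElem.1 hG
  exact ⟨k, word_lists_ok.2.2.2.2 ▸ hk, by rw [List.getD_eq_getElem certM.gw [] hk]⟩

/-- The words of the letters of a test. -/
def testL (k t : ℕ) : List ℕ := bif Nat.blt t 11 then certA.ew.getD t [] else certM.gw.getD k []

/-- Whether all tests hold for a choice of the further generator. -/
noncomputable def chkTests (k : ℕ) : Bool := testW.all fun T => eqW (T.flatMap (testL k)) []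

theorem tests_ok : (testW.all fun T => eqW (T.flatMap (testL 3)) []) = true ∧
    ∀ k < 100, (!chkTests k || Nat.beq k 3 || Nat.beq k 6) = true := by
  decide +kernel

/-- The words of the letters a, w and their inverses. -/
def exprL (k t : ℕ) : List ℕ :=
  [certA.ew.getD 1 [], certM.gw.getD k [], certA.ew.getD 10 [], winv (certM.gw.getD k [])].getD t []

/-- The expression of a generator. -/
def exprG (k g : ℕ) : List ℕ := (exprW.getD g []).flatMap (exprL k)

theorem expr_ok : eqW (exprG 3 0) [0] = true ∧ eqW (exprG 3 1) [2] = true ∧ eqW (exprG 3 2) [4] = true ∧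
    eqW (exprG 6 0) [0] = true ∧ eqW (exprG 6 1) [2] = true ∧ eqW (exprG 6 2) [0, 0, 4] = true ∧
    (∀ t ∈ exprW.flatten, t < 4) ∧ (∀ T ∈ testW, ∀ t ∈ T, t < 12) ∧
    (∀ k < 100, ∀ a ∈ certM.gw.getD k [], a < 5) := by
  decide +kernel

theorem wprod_bind' (E : ℕ → List ℕ) : ∀ L : List ℕ,
    wprod hs (L.flatMap E) = (L.map fun t => wprod hs (E t)).prod := by
  intro L
  induction L with
  | nil => simp [wprod]
  | cons a L ih => rw [List.flatMap_cons, wprod_append, ih, List.map_cons, List.prod_cons]

/-- A homomorphism fixing `aH` with `nH²` fixed acts on x, y, z trivially or as the central twist. -/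
theorem gens_cases (f : HP →* HP) (ha : f aH = aH) (hm : f (nH * nH) = nH * nH) :
    (f (hs 0) = hs 0 ∧ f (hs 2) = hs 2 ∧ f (hs 4) = hs 4) ∨
      (f (hs 0) = hs 0 ∧ f (hs 2) = hs 2 ∧ f (hs 4) = cH * hs 4) := by
  obtain ⟨hx3, hy3, hz3, hx6, hy6, hz6, hlet, htest, hlt⟩ := expr_ok
  have hw : Commute (nH * nH) (wprod hs (certM.gw.getD 3 [])) := by
    have hG := certM_good
    simp only [chkGood, List.all_eq_true, Bool.and_eq_true] at hG
    have h3 : 3 < certM.gw.length := by rw [word_lists_ok.2.2.2.2]; omega
    obtain ⟨-, h⟩ := hG _ (List.getElem_mem h3)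
    have h1 : 1 < certM.ew.length := by rw [word_lists_ok.2.2.1]; omega
    have e := h _ (List.getElem_mem h1)
    rw [← List.getD_eq_getElem certM.gw [] h3, ← List.getD_eq_getElem certM.ew [] h1] at e
    have l1 : ∀ a ∈ certM.ew.getD 1 [], a < 5 := by decide +kernel
    have happ : ∀ {A B : List ℕ}, (∀ a ∈ A, a < 5) → (∀ a ∈ B, a < 5) → ∀ a ∈ A ++ B, a < 5 :=
      fun hA hB a ha => (List.mem_append.1 ha).elim (hA a) (hB a)
    have e' : wprod hs (certM.gw.getD 3 [] ++ certM.ew.getD 1 []) =
        wprod hs (certM.ew.getD 1 [] ++ certM.gw.getD 3 []) := img_injective (by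
      rw [img_wprod (happ (hlt 3 (by omega)) l1), img_wprod (happ l1 (hlt 3 (by omega)))]
      exact Nat.eq_of_beq_eq_true e)
    rw [wprod_append, wprod_append, eqW_sound (ewM_chk 1 (by omega)), wprod_rep, pow_one, wprod_append] at e'
    exact e'.symm
  obtain ⟨k, hk, hfw⟩ := cent_m (g := f (wprod hs (certM.gw.getD 3 []))) (by
    have := hw.map f
    rwa [hm] at this)
  have hA : ∀ i < 11, f (wprod hs (certA.ew.getD i [])) = wprod hs (certA.ew.getD i []) := fun i hi => by
    rw [ewA_eq hi, map_pow, ha]
  have htk : chkTests k = true := List.all_eq_true.2 fun T hT => by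
    have e3 := congrArg f (eqW_sound (List.all_eq_true.1 tests_ok.1 T hT))
    rw [wprod_bind', map_list_prod, List.map_map, show wprod hs [] = 1 from rfl, map_one] at e3
    have e : wprod hs (T.flatMap (testL k)) = 1 := by
      rw [wprod_bind', ← e3]
      refine congrArg List.prod (List.map_congr_left fun t ht => ?_)
      show wprod hs (testL k t) = f (wprod hs (testL 3 t))
      rcases lt_or_ge t 11 with h | h
      · rw [testL, testL, show Nat.blt t 11 = true from Nat.ble_eq_true_of_le h, cond_true, cond_true, hA t h]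
      · have hb : Nat.blt t 11 = false := by
          cases hh : Nat.blt t 11
          · rfl
          · exact absurd (Nat.le_of_ble_eq_true hh) (by omega)
        rw [testL, testL, hb, cond_false, cond_false, hfw]
    have hTlt : ∀ a ∈ T.flatMap (testL k), a < 5 := by
      intro a ha
      obtain ⟨t, ht, hat⟩ := List.mem_flatMap.1 ha
      rw [testL] at hat
      cases hb : Nat.blt t 11 with
      | false => rw [hb, cond_false] at hat; exact hlt k hk a hat
      | true =>
        rw [hb, cond_true] at hat
        have : ∀ L ∈ certA.ew, ∀ a ∈ L, a < 5 := by decide +kernel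
        rcases lt_or_ge t certA.ew.length with h | h
        · rw [List.getD_eq_getElem _ _ h] at hat; exact this _ (List.getElem_mem h) a hat
        · rw [List.getD_eq_default _ _ h] at hat; simp at hat
    cases hq : eqW (T.flatMap (testL k)) [] with
    | true => rfl
    | false => exact absurd e (eq_false_of_img (M := []) hq hTlt (by simp))
  have hk36 := tests_ok.2 k hk
  rw [htk] at hk36
  simp only [Bool.not_true, Bool.false_or, Bool.or_eq_true] at hk36
  have hexp : ∀ g < 3, f (wprod hs (exprG 3 g)) = wprod hs (exprG k g) := by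
    intro g hg
    rw [exprG, exprG, wprod_bind', wprod_bind', map_list_prod, List.map_map]
    refine congrArg List.prod (List.map_congr_left fun t ht => ?_)
    show f (wprod hs (exprL 3 t)) = wprod hs (exprL k t)
    have ht4 : t < 4 := hlet t (by
      rw [List.mem_flatten]
      rcases lt_or_ge g exprW.length with h | h
      · exact ⟨_, List.getElem_mem h, by rwa [List.getD_eq_getElem _ _ h] at ht⟩
      · rw [List.getD_eq_default _ _ h] at ht; simp at ht)
    interval_cases t
    · exact hA 1 (by omega)
    · exact hfw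
    · exact hA 10 (by omega)
    · show f (wprod hs (winv (certM.gw.getD 3 []))) = wprod hs (winv (certM.gw.getD k []))
      rw [wprod_winv hLetters_hs (hlt 3 (by omega)), wprod_winv hLetters_hs (hlt k hk), map_inv, hfw]
  have one : ∀ x : ℕ, wprod hs [x] = hs x := fun x => by simp [wprod]
  rw [← one 0, ← one 2, ← one 4, ← eqW_sound hx3, ← eqW_sound hy3, ← eqW_sound hz3, hexp 0 (by omega),
    hexp 1 (by omega), hexp 2 (by omega), eqW_sound hx3, eqW_sound hy3, eqW_sound hz3]
  rcases hk36 with h | h
  · obtain rfl := Nat.eq_of_beq_eq_true h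
    exact Or.inl ⟨eqW_sound hx3, eqW_sound hy3, eqW_sound hz3⟩
  · obtain rfl := Nat.eq_of_beq_eq_true h
    refine Or.inr ⟨eqW_sound hx6, eqW_sound hy6, ?_⟩
    rw [eqW_sound hz6, show [0, 0, 4] = [0, 0] ++ [4] from rfl, wprod_append]

end CfsgLib.InvChar.SporHN.Out
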