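import Cfsg.Agent.Lib.InvChar.SporHNOutFacts
import Cfsg.Prelude.Def_KGroupFacts
import Mathlib.GroupTheory.Sylow

/-!
# The outer automorphism group of HN has order 2

An element of order 11 fixes one point, so its centraliser lies in `⟨x, y, z⟩`; hence every automorphism
can be moved to fix it, the central involution `C` and `⟨x, y, z⟩`.  There it is trivial or the twist
`z ↦ C z`, and then the image of `t` is a power of `t` fixed by one relator.
-/

set_option autoImplicit false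
set_option maxRecDepth 100000
set_option maxHeartbeats 1000000

namespace CfsgLib.InvChar.SporHN.Out

open CfsgLib.InvChar.Coset
open CfsgLib.InvChar.SporHN
open Cfsg.Spor

/-- The element of order eleven. -/
noncomputable abbrev eA : HN := psi aH
/-- The central involution of `⟨x, y, z⟩`. -/
noncomputable abbrev eC : HN := psi cH
/-- The element normalising the group of order eleven. -/
noncomputable abbrev eN : HN := psi nH
/-- The generator t. -/
noncomputable abbrev eT : HN := gen 5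

theorem psi_comm {a b : HP} : Commute (psi a) (psi b) ↔ Commute a b :=
  ⟨fun h => psi_injective (by rw [map_mul, map_mul]; exact h.eq), fun h => h.map psi⟩

theorem eC_comm (h : HP) : Commute eC (psi h) := psi_comm.2 (cH_central h)

theorem eC_sq : eC * eC = 1 := by rw [← map_mul, cH_sq, map_one]

theorem eC_ne : eC ≠ 1 := fun e => cH_ne (psi_injective (by rw [map_one]; exact e))

theorem exists_psi' {g : HN} (hg : g ∈ hnSub) : ∃ h, psi h = g := by rwa [← psi_range] at hg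

theorem psi_mem (h : HP) : psi h ∈ hnSub := psi_range ▸ ⟨h, rfl⟩

theorem fix_point {g : HN} {u : HP} (h : g⁻¹ * psi u * g ∈ hnSub) {i : Fin 9} {k : HP}
    (hP : phi g ptBase = (⟨i, QuotientGroup.mk k⟩ : Pt)) : k⁻¹ * u * k ∈ Ki i.val := by
  have e := phi_fix h
  rw [map_mul, map_mul, map_inv, Equiv.Perm.mul_apply, Equiv.Perm.mul_apply, Equiv.Perm.inv_eq_iff_eq,
    hP, phi_psi] at e
  have e' : u • (⟨i, QuotientGroup.mk k⟩ : Pt) = ⟨i, QuotientGroup.mk k⟩ := e
  rw [Sigma.smul_mk] at e'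
  have e2 : ((u * k : HP) : HP ⧸ Ki i.val) = (k : HP ⧸ Ki i.val) := eq_of_heq (Sigma.ext_iff.1 e').2
  have e3 := QuotientGroup.eq.1 e2
  rw [← Subgroup.inv_mem_iff] at e3
  simpa [mul_assoc] using e3

theorem point_of (g : HN) : ∃ (i : Fin 9) (k : HP), phi g ptBase = (⟨i, QuotientGroup.mk k⟩ : Pt) := by
  rcases h : phi g ptBase with ⟨i, q⟩
  obtain ⟨k, rfl⟩ := QuotientGroup.mk_surjective q
  exact ⟨i, k, rfl⟩

theorem mem_of_zero {g : HN} {i : Fin 9} {k : HP} (hP : phi g ptBase = (⟨i, QuotientGroup.mk k⟩ : Pt))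
    (hi : i.val = 0) : g ∈ hnSub := by
  refine mem_hnSub_of_fix (hP.trans ?_)
  refine pt_eq (Fin.ext (by rw [fi_val (by omega)]; exact hi)) ?_
  rw [hi, Ki_zero]
  exact Subgroup.mem_top _

theorem decomp {g : HN} {i : Fin 9} {k : HP} (hP : phi g ptBase = (⟨i, QuotientGroup.mk k⟩ : Pt)) :
    ∃ h : HP, g = psi k * (wprod gen (bwW i.val))⁻¹ * psi h := by
  have hb : (⟨i, QuotientGroup.mk k⟩ : Pt) = phi (psi k * (wprod gen (bwW i.val))⁻¹) ptBase := by
    rw [map_mul, map_inv, Equiv.Perm.mul_apply, phi_base i.2, phi_psi]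
    show _ = k • (⟨fi i.val, QuotientGroup.mk 1⟩ : Pt)
    rw [Sigma.smul_mk]
    refine pt_eq (Fin.ext (fi_val i.2).symm) ?_
    show k⁻¹ * (k * 1) ∈ _
    rw [mul_one, inv_mul_cancel]; exact one_mem _
  obtain ⟨h, hh⟩ := exists_psi' (g := (psi k * (wprod gen (bwW i.val))⁻¹)⁻¹ * g) (mem_hnSub_of_fix (by
    rw [map_mul, map_inv, Equiv.Perm.mul_apply, hP, hb, Equiv.Perm.inv_eq_iff_eq]))
  exact ⟨h, by rw [hh, mul_inv_cancel_left]⟩

theorem eleven_ndvd : ∀ i < 9, i ≠ 0 → ¬ 11 ∣ mI i := by decide +kernel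

/-- An element normalising the chosen group of order eleven inside `⟨x, y, z⟩` is in it. -/
theorem mem_of_conj_eA {g : HN} (h : g⁻¹ * eA * g ∈ hnSub) : g ∈ hnSub := by
  obtain ⟨i, k, hP⟩ := point_of g
  by_cases hi : i.val = 0
  · exact mem_of_zero hP hi
  · have hm := fix_point h hP
    refine absurd ?_ (eleven_ndvd i.val i.2 hi)
    rw [← Ki_card_all i.2, ← aH_order,
      show orderOf aH = orderOf (⟨k⁻¹ * aH * k, hm⟩ : Ki i.val) by
        rw [← orderOf_injective (Ki i.val).subtype (Subgroup.subtype_injective _) ⟨_, hm⟩,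
          ← MulEquiv.orderOf_eq (MulAut.conj k⁻¹) aH, MulAut.conj_apply, inv_inv]
        rfl]
    exact orderOf_dvd_natCard _

/-- The test that the central involution is not listed. -/
noncomputable def chkGap (i : ℕ) : Bool :=
  force (cPos.getD i 0) fun p => force (step4 small [0, 0] img0) fun v =>
    Nat.blt (p + 1) (kList i).m && Nat.blt ((kList i).tup p) v && Nat.blt v ((kList i).tup (p + 1))

theorem gap_ok : ∀ i ∈ [1, 2, 4, 5, 6, 7], chkGap i = true := by decide +kernel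

theorem cH_not_mem {i : ℕ} (hi : i ∈ [1, 2, 4, 5, 6, 7]) : cH ∉ Ki i := by
  intro hg
  have hb : 1 ≤ i ∧ i < 9 := by
    simp only [List.mem_cons, List.not_mem_nil, or_false] at hi; omega
  rw [← Ki_eq hb.1 hb.2] at hg
  have hC := kChecked (i := i) hb.1 hb.2
  obtain ⟨j, hj, hE⟩ := hC.exists_index img_one (kList_step hb.1 hb.2) hg
  rw [img_wprod (by decide)] at hE
  have h := gap_ok i hi
  simp only [chkGap, force_eq, Bool.and_eq_true] at h
  obtain ⟨⟨hm, h1⟩, h2⟩ := h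
  have hm : cPos.getD i 0 + 1 < (kList i).m := by simpa [Nat.blt] using hm
  have h1 : (kList i).tup (cPos.getD i 0) < step4 small [0, 0] img0 := by simpa [Nat.blt] using h1
  have h2 : step4 small [0, 0] img0 < (kList i).tup (cPos.getD i 0 + 1) := by simpa [Nat.blt] using h2
  rcases le_or_gt j (cPos.getD i 0) with h | h
  · rcases eq_or_lt_of_le h with rfl | h
    · omega
    · have := hC.tup_strictMono (by omega) h; omega
  · rcases eq_or_lt_of_le (show cPos.getD i 0 + 1 ≤ j from h) with h | h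
    · rw [← h] at hE; omega
    · have := hC.tup_strictMono hj h; omega

/-- The word conjugating the central involution by a base word, times the inverse of its value. -/
def conjWord (s i : ℕ) : List ℕ := bwW i ++ [0, 0] ++ winv (bwW i) ++ winv (conjW.getD s [])

theorem conj_ok : (∀ a ∈ conjWord 0 3, a < 7) ∧ (∀ a ∈ conjWord 1 8, a < 7) ∧
    chkFix (conjWord 0 3) fixStarts (conjHints.getD 0 []) = true ∧
    chkFix (conjWord 1 8) fixStarts (conjHints.getD 1 []) = true ∧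
    eqW (conjW.getD 0 []) [0, 0] = false ∧ eqW (conjW.getD 1 []) [0, 0] = false ∧
    (∀ a ∈ conjW.getD 0 [], a < 5) ∧ (∀ a ∈ conjW.getD 1 [], a < 5) := by
  decide +kernel

/-- **The centraliser of the central involution.** -/
theorem mem_of_comm_eC {g : HN} (h : Commute eC g) : g ∈ hnSub := by
  obtain ⟨i, k, hP⟩ := point_of g
  by_cases hi : i.val = 0
  · exact mem_of_zero hP hi
  have hmem : i.val ∈ [1, 2, 4, 5, 6, 7] ∨ i.val = 3 ∨ i.val = 8 := by
    simp only [List.mem_cons, List.not_mem_nil, or_false]; have := i.2; omega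
  rcases hmem with hm | hm
  · have h' : g⁻¹ * eC * g ∈ hnSub := by rw [mul_assoc, h.eq, inv_mul_cancel_left]; exact psi_mem _
    have hk := fix_point h' hP
    rw [mul_assoc, (cH_central k).eq, inv_mul_cancel_left] at hk
    exact absurd hk (cH_not_mem hm)
  · obtain ⟨k', hg⟩ := decomp hP
    have hW : Commute eC (wprod gen (bwW i.val)) := by
      have e : wprod gen (bwW i.val) = ((psi k)⁻¹ * g * (psi k')⁻¹)⁻¹ := by rw [hg]; group
      rw [e]
      exact ((((eC_comm k).inv_right).mul_right h).mul_right (eC_comm k').inv_right).inv_right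
    obtain ⟨w1, w2, c1, c2, n1, n2, l1, l2⟩ := conj_ok
    have bad : ∀ s : ℕ, (∀ a ∈ conjWord s i.val, a < 7) →
        chkFix (conjWord s i.val) fixStarts (conjHints.getD s []) = true →
        eqW (conjW.getD s []) [0, 0] = false → (∀ a ∈ conjW.getD s [], a < 5) → False := by
      intro s hlt hc hne hl
      have e := word_eq_one_of_chkFix hlt hc
      rw [conjWord, wprod_append, wprod_append, wprod_append, wprod_gen_winv, wprod_gen_winv,
        ← psi_word (L := [0, 0]) (by decide), ← psi_word hl, ← hW.eq, mul_inv_cancel_right, mul_inv_eq_one] at e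
      exact eq_false_of_img hne hl (by decide) (psi_injective e).symm
    rcases hm with hm | hm
    · exact (bad 0 (hm ▸ w1) (hm ▸ c1) n1 l1).elim
    · exact (bad 1 (hm ▸ w2) (hm ▸ c2) n2 l2).elim

theorem eT_not_mem : eT ∉ hnSub := fun h => by
  have e := phi_base (j := 1) (by omega)
  rw [show bwW 1 = [5] from rfl, show wprod gen [5] = eT by simp [wprod], ← map_inv,
    phi_fix (inv_mem h)] at e
  have := congrArg Sigma.fst e
  exact absurd this (by decide +kernel)

theorem eT_rels : eT ^ 5 = 1 ∧ gen 0 * eT * (gen 0)⁻¹ = eT ^ 2 ∧ gen 4 * gen 4 = 1 ∧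
    (gen 4 * eT) ^ 3 = 1 ∧ eC * eT * eC = eT⁻¹ := by
  have r5 : eT ^ 5 = 1 := by
    have := gen_rel [5, 5, 5, 5, 5] (by decide)
    simpa [wprod, pow_succ, mul_assoc] using this
  have rx : (gen 0)⁻¹ * eT * gen 0 * (eT * eT) = 1 := by
    have := gen_rel [1, 5, 0, 5, 5] (by decide)
    simpa [wprod, gen, mul_assoc] using this
  have rz : gen 4 * gen 4 = 1 := by
    have := gen_rel [4, 4] (by decide)
    simpa [wprod] using this
  have rzt : (gen 4 * eT) ^ 3 = 1 := by
    have := gen_rel [4, 5, 4, 5, 4, 5] (by decide)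
    simpa [wprod, pow_succ, mul_assoc] using this
  have h1 : (gen 0)⁻¹ * eT * gen 0 = (eT ^ 2)⁻¹ := by rw [pow_two]; exact eq_inv_of_mul_eq_one_left rx
  have h2 : gen 0 * eT * (gen 0)⁻¹ = eT ^ 2 := by
    have h3 : eT = gen 0 * (eT ^ 2)⁻¹ * (gen 0)⁻¹ := by rw [← h1]; group
    have h4 : gen 0 * eT ^ 2 * (gen 0)⁻¹ = eT⁻¹ := by
      calc gen 0 * eT ^ 2 * (gen 0)⁻¹ = (gen 0 * (eT ^ 2)⁻¹ * (gen 0)⁻¹)⁻¹ := by group
        _ = eT⁻¹ := by rw [← h3]
    calc gen 0 * eT * (gen 0)⁻¹ = gen 0 * (eT ^ 2) ^ 3 * (gen 0)⁻¹ := by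
          rw [← pow_mul, show 2 * 3 = 5 + 1 from rfl, pow_succ, r5, one_mul]
      _ = (gen 0 * eT ^ 2 * (gen 0)⁻¹) ^ 3 := conj_pow.symm
      _ = eT⁻¹ ^ 3 * eT ^ 5 := by rw [h4, r5, mul_one]
      _ = eT ^ 2 := by group
  refine ⟨r5, h2, rz, rzt, ?_⟩
  have hc : eC = gen 0 * gen 0 := by
    rw [eC, psi_word (L := [0, 0]) (by decide)]; simp [wprod]
  have hci : eC = eC⁻¹ := eq_inv_of_mul_eq_one_left eC_sq
  calc eC * eT * eC = eC * eT * eC⁻¹ := by rw [← hci]
    _ = gen 0 * (gen 0 * eT * (gen 0)⁻¹) * (gen 0)⁻¹ := by rw [hc]; group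
    _ = eT⁻¹ * eT ^ 5 := by rw [h2, ← conj_pow, h2]; group
    _ = eT⁻¹ := by rw [r5, mul_one]

/-- The images of the letters under the outer automorphism. -/
def sigL (x : ℕ) : List ℕ := [[0], [1], [2], [3], [0, 0, 4], [5, 5], [6, 6]].getD x []

theorem sig_words_ok : (∀ r ∈ rels, ∀ a ∈ r.flatMap sigL, a < 7) ∧
    (List.range 14).all (fun i => chkFix ((rels.getD i []).flatMap sigL) fixStarts (relHints.getD i [])) = true := by
  decide +kernel

theorem exists_sigma : ∃ σ : MulAut HN, σ (gen 0) = gen 0 ∧ σ (gen 2) = gen 2 ∧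
    σ (gen 4) = eC * gen 4 ∧ σ eT = eT ^ 2 := by
  haveI := HN_finite
  haveI := HN_simple
  have bind : ∀ L : List ℕ, wprod gen (L.flatMap sigL) = wprod (fun t => wprod gen (sigL t)) L := by
    intro L
    induction L with
    | nil => simp [wprod]
    | cons a L ih => rw [List.flatMap_cons, wprod_append, ih]; simp [wprod]
  have hc : wprod gen [0, 0] = eC := (psi_word (by decide)).symm
  have hz : gen 4 * gen 4 = 1 := eT_rels.2.2.1
  obtain ⟨σ, hσ⟩ := exists_hom (fun t => wprod gen (sigL t)) (fun x hx => by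
      interval_cases x
      · simp [sigL, ivT, wprod, gen]
      · simp [sigL, ivT, wprod, gen]
      · simp [sigL, ivT, wprod, gen]
      · simp [sigL, ivT, wprod, gen]
      · show wprod gen ([0, 0] ++ [4]) = (wprod gen ([0, 0] ++ [4]))⁻¹
        rw [wprod_append, hc, show wprod gen [4] = gen 4 by simp [wprod]]
        refine eq_inv_of_mul_eq_one_left ?_
        have h4 : Commute eC (gen 4) := by rw [← psi_hs (x := 4) (by omega)]; exact eC_comm _
        calc eC * gen 4 * (eC * gen 4) = eC * eC * (gen 4 * gen 4) := by rw [h4.mul_mul_mul_comm]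
          _ = 1 := by rw [eC_sq, hz, one_mul]
      · simp [sigL, ivT, wprod, gen]
      · simp [sigL, ivT, wprod, gen])
    (fun r hr => by
      rw [← bind]
      obtain ⟨i, hi, rfl⟩ := List.mem_iff_getElem.1 hr
      have hi' : i < 14 := by rwa [show rels.length = 14 by decide] at hi
      have h := List.all_eq_true.1 sig_words_ok.2 i (List.mem_range.2 hi')
      rw [List.getD_eq_getElem _ _ hi] at h
      exact word_eq_one_of_chkFix (sig_words_ok.1 _ (List.getElem_mem hi)) h)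
  have h0 : σ (gen 0) = gen 0 := by rw [hσ 0 (by omega)]; simp [sigL, wprod]
  have h2 : σ (gen 2) = gen 2 := by rw [hσ 2 (by omega)]; simp [sigL, wprod]
  have h4 : σ (gen 4) = eC * gen 4 := by
    rw [hσ 4 (by omega), ← hc]; simp [sigL, wprod, mul_assoc]
  have h5 : σ eT = eT ^ 2 := by rw [hσ 5 (by omega)]; simp [sigL, wprod, pow_two]
  have hinj : Function.Injective σ := by
    rw [← MonoidHom.ker_eq_bot_iff]
    refine (σ.normal_ker.eq_bot_or_eq_top).resolve_right fun h => eC_ne ?_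
    have : gen 0 ∈ σ.ker := h ▸ Subgroup.mem_top _
    rw [MonoidHom.mem_ker, h0] at this
    rw [← hc]
    simp [wprod, this]
  exact ⟨MulEquiv.ofBijective σ (Finite.injective_iff_bijective.1 hinj), h0, h2, h4, h5⟩

theorem aut_ext {φ ψ : MulAut HN} (h0 : φ (gen 0) = ψ (gen 0)) (h2 : φ (gen 2) = ψ (gen 2))
    (h4 : φ (gen 4) = ψ (gen 4)) (h5 : φ eT = ψ eT) : φ = ψ := by
  refine MulEquiv.ext fun g => ?_
  have := MonoidHom.eq_of_eqOn_dense (f := φ.toMonoidHom) (g := ψ.toMonoidHom) closure_gen ?_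
  · exact DFunLike.congr_fun this g
  · rintro _ ⟨x, hx, rfl⟩
    simp only [Set.mem_insert_iff, Set.mem_singleton_iff] at hx
    rcases hx with rfl | rfl | rfl | rfl
    exacts [h0, h2, h4, h5]

theorem psi_gens (φ : MulAut HN) (h0 : φ (gen 0) = gen 0) (h2 : φ (gen 2) = gen 2) (h4 : φ (gen 4) = gen 4)
    (h : HP) : φ (psi h) = psi h := by
  refine DFunLike.congr_fun (MonoidHom.eq_of_eqOn_dense hs_closure ?_ : φ.toMonoidHom.comp psi = psi) h
  rintro _ ⟨x, hx, rfl⟩
  simp only [Set.mem_insert_iff, Set.mem_singleton_iff] at hx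
  rcases hx with rfl | rfl | rfl <;>
    simp only [MonoidHom.comp_apply, psi_hs (x := 0) (by omega), psi_hs (x := 2) (by omega),
      psi_hs (x := 4) (by omega)]
  exacts [h0, h2, h4]

theorem fixK_pts : ∀ q < 1408, (∀ L ∈ gensI 1, small.follow L q = q) → q ∈ [0, 1, 2, 3] := by decide +kernel

theorem x_orbit : ∀ q ∈ [0, 1, 2, 3], ∃ j < 4, small.follow (List.replicate j 1) 0 = q := by decide +kernel

theorem eT_conj (j : ℕ) : gen 0 ^ j * eT * (gen 0 ^ j)⁻¹ = eT ^ 2 ^ j := by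
  induction j with
  | zero => simp
  | succ j ih =>
    rw [pow_succ', show gen 0 * gen 0 ^ j * eT * (gen 0 * gen 0 ^ j)⁻¹ =
      gen 0 * (gen 0 ^ j * eT * (gen 0 ^ j)⁻¹) * (gen 0)⁻¹ by group, ih, ← conj_pow, eT_rels.2.1, ← pow_mul,
      ← pow_succ']

theorem eT_comm {c : HP} (hc : c ∈ Ki 1) : Commute eT (psi c) := gen5_comm hc

/-- An element of order five commuting with the stabiliser of a point is a power of t. -/
theorem cent_K_five {g : HN} (hg : ∀ c ∈ Ki 1, Commute g (psi c)) (h5 : g ^ 5 = 1) (hne : g ≠ 1) :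
    ∃ k, g = eT ^ k ∧ k < 5 ∧ k ≠ 0 := by
  have hconj : ∀ u ∈ Ki 1, g⁻¹ * psi u * g ∈ hnSub := fun u hu => by
    rw [mul_assoc, ← (hg u hu).eq, inv_mul_cancel_left]; exact psi_mem _
  obtain ⟨i, k, hP⟩ := point_of g
  have hfix : ∀ u ∈ Ki 1, k⁻¹ * u * k ∈ Ki i.val := fun u hu => fix_point (hconj u hu) hP
  rcases (show i.val = 0 ∨ i.val = 1 ∨ 2 ≤ i.val by omega) with hi | hi | hi
  · obtain ⟨h, rfl⟩ := exists_psi' (mem_of_zero hP hi)
    exfalso
    rcases cent_K (g := h) (fun u hu => (psi_comm.1 (hg u hu)).symm) with rfl | rfl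
    · exact hne (map_one psi)
    · exact eC_ne (by
        calc eC = eC * (eC * eC) * (eC * eC) := by rw [eC_sq, mul_one, mul_one]
          _ = eC ^ 5 := by simp only [pow_succ, pow_zero, one_mul, mul_assoc]
          _ = 1 := h5)
  · have hk : small.follow [] 0 = 0 := rfl
    have hq : rN k⁻¹ 0 ∈ [0, 1, 2, 3] := by
      refine fixK_pts _ ((rN_lt k⁻¹ (show 0 < small.n by rw [small_n]; omega)).trans_le (le_of_eq small_n)) ?_
      intro L hL
      have hLlt := gensI_lt 1 (by omega) L hL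
      have h0 : (0 : ℕ) < small.n := by rw [small_n]; omega
      have hm := hi ▸ hfix _ (Subgroup.subset_closure ⟨L, hL, rfl⟩)
      have e := mem_K1_rN.1 hm
      rw [rN_mul _ _ h0, rN_mul _ _ h0] at e
      have e' := congrArg (rN k⁻¹) e
      rw [← rN_mul k k⁻¹ (rN_lt _ (rN_lt _ h0)), mul_inv_cancel, rN_one (rN_lt _ (rN_lt _ h0)),
        rN_word hLlt (rN_lt _ h0)] at e'
      exact e'
    obtain ⟨j, hj, hjq⟩ := x_orbit _ hq
    have h0 : (0 : ℕ) < small.n := by rw [small_n]; omega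
    have hxj : wprod hs (List.replicate j 1) = (hs 0 ^ j)⁻¹ := by
      rw [wprod, List.map_replicate, List.prod_replicate, ← inv_pow, ← hLetters_hs.inv 0 (by omega)]; rfl
    have hkK : k⁻¹ * hs 0 ^ j ∈ Ki 1 := by
      refine mem_K1_rN.2 ?_
      rw [rN_mul _ _ h0, ← hjq, ← rN_word (by simp) h0, ← rN_mul _ _ h0, hxj, inv_mul_cancel, rN_one h0]
    have hP' : phi g ptBase = (⟨i, QuotientGroup.mk (hs 0 ^ j)⟩ : Pt) := by
      rw [hP]; refine pt_eq rfl ?_; rw [hi]; exact hkK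
    obtain ⟨h, hgh⟩ := decomp hP'
    rw [hi, show bwW 1 = [5] from rfl, show wprod gen [5] = eT by simp [wprod], map_pow,
      psi_hs (x := 0) (by omega)] at hgh
    have e1 : gen 0 ^ j * eT⁻¹ = (eT ^ 2 ^ j)⁻¹ * gen 0 ^ j := by rw [← eT_conj j]; group
    rw [e1, mul_assoc, ← psi_hs (x := 0) (by omega), ← map_pow, ← map_mul] at hgh
    have hh := cent_K (g := hs 0 ^ j * h) (fun u hu => (psi_comm.1 (by
      rw [show psi (hs 0 ^ j * h) = eT ^ 2 ^ j * g by rw [hgh, mul_inv_cancel_left]]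
      exact ((eT_comm hu).pow_left _).mul_left (hg u hu))).symm)
    have hpow : (eT ^ 2 ^ j)⁻¹ = eT ^ (4 * 2 ^ j) := by
      refine inv_eq_of_mul_eq_one_right ?_
      rw [← pow_add, show 2 ^ j + 4 * 2 ^ j = 5 * 2 ^ j by ring, pow_mul, eT_rels.1, one_pow]
    rw [hpow, pow_eq_pow_mod _ eT_rels.1] at hgh
    rcases hh with hh | hh
    · rw [hh, map_one, mul_one] at hgh
      exact ⟨_, hgh, Nat.mod_lt _ (by omega), by interval_cases j <;> decide⟩
    · rw [hh] at hgh
      exfalso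
      have hsq : g * g = 1 := by
        have e2 : eC * eT ^ (4 * 2 ^ j % 5) * eC = (eT ^ (4 * 2 ^ j % 5))⁻¹ := by
          rw [← inv_pow, ← eT_rels.2.2.2.2]
          have hci : eC = eC⁻¹ := eq_inv_of_mul_eq_one_left eC_sq
          conv_lhs => rw [show eC * eT ^ (4 * 2 ^ j % 5) * eC = eC * eT ^ (4 * 2 ^ j % 5) * eC⁻¹ by rw [← hci]]
          rw [← conj_pow, ← hci]
        rw [hgh, mul_assoc, ← mul_assoc (psi cH), e2, mul_inv_cancel]
      refine hne ?_
      calc g = g * (g * g) * (g * g) := by rw [hsq, mul_one, mul_one]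
        _ = g ^ 5 := by simp only [pow_succ, pow_zero, one_mul, mul_assoc]
        _ = 1 := h5
  · exfalso
    have h1 : Nat.card ((Ki 1).map (MulAut.conj k⁻¹).toMonoidHom) ≤ Nat.card (Ki i.val) := by
      refine Subgroup.card_le_of_le ?_
      rintro _ ⟨u, hu, rfl⟩
      show k⁻¹ * u * k⁻¹⁻¹ ∈ _
      rw [inv_inv]; exact hfix u hu
    rw [Subgroup.card_map_of_injective (MulAut.conj k⁻¹).injective, Ki_card_all (by omega), Ki_card_all i.2] at h1
    have : ∀ i < 9, 2 ≤ i → mI i < mI 1 := by decide +kernel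
    exact absurd h1 (not_le.2 (this _ i.2 hi))

/-- An automorphism fixing `⟨x, y, z⟩` pointwise is inner. -/
theorem inner_of_fix (φ : MulAut HN) (h0 : φ (gen 0) = gen 0) (h2 : φ (gen 2) = gen 2)
    (h4 : φ (gen 4) = gen 4) : φ = 1 ∨ φ = MulAut.conj eC := by
  have hp := psi_gens φ h0 h2 h4
  obtain ⟨r5, -, rz, rzt, rct⟩ := eT_rels
  have hne : eT ≠ 1 := fun e => eT_not_mem (e ▸ one_mem _)
  obtain ⟨k, hk, hk5, hk0⟩ := cent_K_five (g := φ eT) (fun c hc => by
    have := (eT_comm hc).map φ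
    rwa [hp] at this) (by rw [← map_pow, r5, map_one]) (by simpa using hne)
  have hci : eC = eC⁻¹ := eq_inv_of_mul_eq_one_left eC_sq
  have hC0 : ∀ x < 5, Commute eC (gen x) := fun x hx => by rw [← psi_hs hx]; exact eC_comm _
  obtain ⟨σ, hs0, hs2, hs4, hs5⟩ := exists_sigma
  have no2 : (gen 4 * eT ^ 2) ^ 3 ≠ 1 := by
    intro e
    refine eT_not_mem ?_
    have f : (eC * gen 4 * eT ^ 2) ^ 3 = 1 := by rw [← hs4, ← hs5, ← map_mul, ← map_pow, rzt, map_one]
    set z := gen 4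
    have zc : Commute eC z := hC0 4 (by omega)
    have zi : z⁻¹ = z := inv_eq_of_mul_eq_one_right rz
    have cz : z * eC = eC * z := zc.eq.symm
    have ct : eT ^ 2 * eC = eC * (eT ^ 2)⁻¹ := by
      have : eC * eT ^ 2 * eC = (eT ^ 2)⁻¹ := by
        rw [← inv_pow, ← rct]
        conv_lhs => rw [show eC * eT ^ 2 * eC = eC * eT ^ 2 * eC⁻¹ by rw [← hci]]
        rw [← conj_pow, ← hci]
      rw [← this, ← mul_assoc, ← mul_assoc, eC_sq, one_mul]
    have f' : z * (eT ^ 2)⁻¹ * z * eT ^ 2 * z * (eT ^ 2)⁻¹ * eC = 1 := by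
      rw [← f]
      have ct' : ∀ a, eT ^ 2 * (eC * a) = eC * ((eT ^ 2)⁻¹ * a) := fun a => by rw [← mul_assoc, ct, mul_assoc]
      have cz' : ∀ a, z * (eC * a) = eC * (z * a) := fun a => by rw [← mul_assoc, cz, mul_assoc]
      have cc : ∀ a : HN, eC * (eC * a) = a := fun a => by rw [← mul_assoc, eC_sq, one_mul]
      have ti : (eT ^ 2)⁻¹ * eC = eC * eT ^ 2 := by
        rw [inv_mul_eq_iff_eq_mul, ← mul_assoc, ct, mul_assoc, inv_mul_cancel, mul_one]
      have ti' : ∀ a, (eT ^ 2)⁻¹ * (eC * a) = eC * (eT ^ 2 * a) := fun a => by rw [← mul_assoc, ti, mul_assoc]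
      conv_rhs => rw [pow_succ, pow_succ, pow_one]
      simp only [mul_assoc, ct', cz', cc, ti', cz, ti]
    have e' : z * eT ^ 2 * z = (eT ^ 2)⁻¹ * z * (eT ^ 2)⁻¹ := by
      calc z * eT ^ 2 * z = (z * eT ^ 2) ^ 3 * ((eT ^ 2)⁻¹ * z⁻¹ * (eT ^ 2)⁻¹) := by
            simp only [pow_succ, pow_zero, one_mul]; group
        _ = (eT ^ 2)⁻¹ * z * (eT ^ 2)⁻¹ := by rw [e, one_mul, zi]
    have e3 : z * (eT ^ 2)⁻¹ * z = eT ^ 2 * z * eT ^ 2 := by
      calc z * (eT ^ 2)⁻¹ * z = (z * eT ^ 2 * z)⁻¹ := by rw [mul_inv_rev, mul_inv_rev, zi, mul_assoc]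
        _ = eT ^ 2 * z * eT ^ 2 := by rw [e']; group; rw [zpow_neg_one, zi]
    have e4 : z * eT⁻¹ * z = eT * z * eT := by
      calc z * eT⁻¹ * z = (z * eT⁻¹ * z) * (z * eT) ^ 3 := by rw [rzt, mul_one]
        _ = z * eT⁻¹ * (z * z) * eT * (z * eT) * (z * eT) := by simp only [pow_succ, pow_zero, one_mul]; group
        _ = eT * z * eT := by rw [rz, mul_one, mul_assoc z eT⁻¹, inv_mul_cancel, mul_one, ← mul_assoc,
              ← mul_assoc, rz, one_mul, mul_assoc]
    have t4 : eT⁻¹ = eT ^ 2 * eT ^ 2 := inv_eq_of_mul_eq_one_right (by rw [← pow_add, ← pow_succ']; exact r5)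
    have e5 : eT ^ 3 * z * eT⁻¹ * eC = 1 := by
      calc eT ^ 3 * z * eT⁻¹ * eC = eT ^ 2 * (eT * z * eT) * (eT ^ 2)⁻¹ * eC := by group
        _ = eT ^ 2 * (z * (eT ^ 2 * eT ^ 2) * z) * (eT ^ 2)⁻¹ * eC := by rw [← e4, t4]
        _ = (eT ^ 2 * z * eT ^ 2) * eT ^ 2 * z * (eT ^ 2)⁻¹ * eC := by simp only [mul_assoc]
        _ = 1 := by rw [← e3, f']
    have e6 : eT = z * eC := by
      have hct : eC * eT = eT⁻¹ * eC := by rw [← rct, mul_assoc, eC_sq, mul_one]
      have hzt : z = eT * eC := by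
        calc z = (eT ^ 3)⁻¹ * (eT ^ 3 * z * eT⁻¹ * eC) * eC⁻¹ * eT := by group
          _ = (eT ^ 3)⁻¹ * (eC * eT) := by rw [e5, mul_one, ← hci, mul_assoc]
          _ = (eT ^ 5)⁻¹ * eT * eC := by rw [hct]; group
          _ = eT * eC := by rw [r5, inv_one, one_mul]
      rw [hzt, mul_assoc, eC_sq, mul_one]
    rw [e6, show z = psi (hs 4) from (psi_hs (by omega)).symm, ← map_mul]; exact psi_mem _
  have hz3 : (gen 4 * eT ^ k) ^ 3 = 1 := by rw [← hk, ← h4, ← map_mul, ← map_pow, rzt, map_one]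
  interval_cases k
  · exact absurd rfl hk0
  · exact Or.inl (aut_ext h0 h2 h4 (by rw [hk, pow_one]; rfl))
  · exact absurd hz3 no2
  · exfalso
    refine no2 ?_
    have hz : (gen 4)⁻¹ = gen 4 := inv_eq_of_mul_eq_one_right rz
    have h' : (eT ^ 2 * gen 4) ^ 3 = 1 := by
      rw [← inv_eq_one, ← inv_pow, mul_inv_rev, hz, ← hz3]
      congr 2
      refine inv_eq_of_mul_eq_one_right ?_
      rw [← pow_add]; exact r5
    calc (gen 4 * eT ^ 2) ^ 3 = gen 4 * (eT ^ 2 * gen 4) ^ 3 * (gen 4)⁻¹ := by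
          rw [← conj_pow]; group
      _ = 1 := by rw [h', mul_one, mul_inv_cancel]
  · refine Or.inr (aut_ext ?_ ?_ ?_ ?_) <;> rw [MulAut.conj_apply]
    · rw [h0, (hC0 0 (by omega)).eq, mul_inv_cancel_right]
    · rw [h2, (hC0 2 (by omega)).eq, mul_inv_cancel_right]
    · rw [h4, (hC0 4 (by omega)).eq, mul_inv_cancel_right]
    · rw [hk, ← hci, rct]
      exact eq_inv_of_mul_eq_one_left (by rw [← pow_succ]; exact r5)

end CfsgLib.InvChar.SporHN.Out
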