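import Cfsg.Agent.Lib.InvChar.SporHNCosets
import Cfsg.Agent.Lib.InvChar.SporData.HN.Normal
import Cfsg.Agent.Lib.KnownA.CosetInvGroup

/-!
# Order and simplicity of the presented group HN

The subgroup is faithful on the points and maximal because of its nine orbit lengths; so every nontrivial
normal subgroup contains all elements of order 19, and z is a product of eight of them.
-/

set_option autoImplicit false
set_option maxRecDepth 100000

namespace CfsgLib.InvChar.SporHN

open CfsgLib.InvChar.Coset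
open CfsgLib.KnownA
open Cfsg.Spor

theorem psi_range : psi.range = hnSub := by
  rw [MonoidHom.range_eq_map, ← hs_closure, MonoidHom.map_closure, hnSub, ← Set.image_comp]
  refine congrArg Subgroup.closure (Set.image_congr fun x hx => ?_)
  simp only [Set.mem_insert_iff, Set.mem_singleton_iff] at hx
  exact psi_hs (by omega)

/-- An element of the group of permutations fixing every point of the second orbit is trivial. -/
theorem eq_one_of_smul_pt {h : HP} {vs : List (List ℕ)} (hlt : ∀ v ∈ vs, ∀ x ∈ v, x < 5)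
    (hvs : vs.map (fun v => small.follow v 0) = [0, 904, 829, 621])
    (hfix : ∀ v ∈ vs, h • semX.pt 1 v = semX.pt 1 v) : h = 1 := by
  have key : ∀ v ∈ vs, (h⁻¹ : HP).1 (((wprod hs v)⁻¹ : HP).1 p0) = ((wprod hs v)⁻¹ : HP).1 p0 := by
    intro v hv
    have e := hfix v hv
    rw [semX_pt, Sigma.smul_mk] at e
    have e' := eq_of_heq (Sigma.ext_iff.1 e).2
    have e'' : ((h * (wprod hs v)⁻¹ : HP) : HP ⧸ Ki 1) = (((wprod hs v)⁻¹ : HP) : HP ⧸ Ki 1) := e'
    rw [QuotientGroup.eq, mul_inv_rev, inv_inv] at e''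
    have hm := mem_K1_iff.1 e''
    rw [Subgroup.coe_mul, Equiv.Perm.mul_apply, Subgroup.coe_mul, Equiv.Perm.mul_apply] at hm
    have := congrArg ((wprod hs v)⁻¹ : HP).1 hm
    rw [← Equiv.Perm.mul_apply, ← Subgroup.coe_mul, inv_mul_cancel, Subgroup.coe_one,
      Equiv.Perm.one_apply] at this
    exact this
  have key2 : ∀ p (hp : p < 1408), p ∈ [0, 904, 829, 621] → ((h⁻¹ : HP).1 (bp p hp)).val = p := by
    intro p hp hmem
    rw [← hvs, List.mem_map] at hmem
    obtain ⟨v, hv, rfl⟩ := hmem
    have e : (bp (small.follow v 0) hp : Fin small.n) = ((wprod hs v)⁻¹ : HP).1 p0 :=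
      Fin.ext (hs_follow (hlt v hv) p0).symm
    rw [e, key v hv, ← e]
    rfl
  refine img_injective ?_
  rw [img_one, img, key2 0 (by omega) (by simp), key2 904 (by omega) (by simp), key2 829 (by omega) (by simp),
    key2 621 (by omega) (by simp)]
  rfl

theorem fixStarts_ok : (∀ s ∈ fixStarts, s.1 < 9 ∧ ∀ x ∈ s.2, x < 5) ∧ fixStarts.head? = some (0, []) ∧
    (fixStarts.tail.all fun s => Nat.beq s.1 1) = true ∧
    fixStarts.tail.map (fun s => small.follow s.2 0) = [0, 904, 829, 621] := by
  decide +kernel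

theorem smul_eq_one {h : HP} (hfix : ∀ p : Pt, h • p = p) : h = 1 := by
  obtain ⟨hlt, -, -, hvs⟩ := fixStarts_ok
  refine eq_one_of_smul_pt (vs := fixStarts.tail.map Prod.snd) ?_ (by rw [List.map_map]; exact hvs)
    fun v _ => hfix _
  intro v hv
  obtain ⟨s, hs', rfl⟩ := List.mem_map.1 hv
  exact (hlt s (List.mem_of_mem_tail hs')).2

theorem psi_injective : Function.Injective psi := by
  refine (injective_iff_map_eq_one psi).2 fun h hh => smul_eq_one fun p => ?_
  have := congrArg phi hh
  rw [phi_psi, map_one] at this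
  exact DFunLike.congr_fun this p

theorem hnSub_card : Nat.card hnSub = 177408000 := by
  rw [← psi_range, ← Nat.card_congr (MonoidHom.ofInjective psi_injective).toEquiv, HP_card]

/-- **The order of the presented group.** -/
theorem HN_card : Nat.card HN = 273030912000000 := by
  rw [← hnSub.card_mul_index, hnSub_card, hnSub_index]

theorem HN_finite : Finite HN := Nat.finite_of_card_ne_zero (by rw [HN_card]; decide)

theorem mem_hnSub_of_fix {g : HN} (h : phi g ptBase = ptBase) : g ∈ hnSub := by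
  have e := phiPt_phi g ptBase
  rw [h, phiPt_base] at e
  have e' : ((g * 1 : HN) : HN ⧸ hnSub) = ((1 : HN) : HN ⧸ hnSub) := e.symm
  rw [QuotientGroup.eq, mul_one, mul_one, Subgroup.inv_mem_iff] at e'
  exact e'

theorem eq_one_of_fix {g : HN} (h : ∀ s ∈ fixStarts, phi g (semX.pt s.1 s.2) = semX.pt s.1 s.2) : g = 1 := by
  obtain ⟨hlt, hhead, hone, hvs⟩ := fixStarts_ok
  have h0 := h (0, []) (List.mem_of_head? hhead)
  have e0 : semX.pt 0 [] = ptBase := by
    show (wprod hs [])⁻¹ • semX.b 0 = semX.b 0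
    rw [show wprod hs [] = 1 from rfl, inv_one, one_smul]
  rw [show ((0, []) : ℕ × List ℕ).1 = 0 from rfl, show ((0, []) : ℕ × List ℕ).2 = [] from rfl, e0] at h0
  have hg := mem_hnSub_of_fix h0
  rw [← psi_range] at hg
  obtain ⟨u, rfl⟩ := hg
  rw [eq_one_of_smul_pt (h := u) (vs := fixStarts.tail.map Prod.snd) ?_ (by rw [List.map_map]; exact hvs) ?_,
    map_one]
  · intro v hv
    obtain ⟨s, hs', rfl⟩ := List.mem_map.1 hv
    exact (hlt s (List.mem_of_mem_tail hs')).2
  · intro v hv
    obtain ⟨s, hs', rfl⟩ := List.mem_map.1 hv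
    have := h s (List.mem_of_mem_tail hs')
    rw [Nat.eq_of_beq_eq_true (List.all_eq_true.1 hone s hs'), phi_psi] at this
    exact this

/-- The test that a word fixes the chosen points. -/
noncomputable def chkFix (word : List ℕ) :
    List (ℕ × List ℕ) → List (List (ℕ × List ℕ × ℕ) × ℕ) → Bool
  | [], _ => true
  | s :: ss, tr =>
    (match runT allKnown allGood word s.1 s.2 (tr.headD ([], 0)).1 with
      | some (j', v') => Nat.beq j' s.1 && sameW allGood s.1 v' s.2 (tr.headD ([], 0)).2
      | none => false) && chkFix word ss tr.tail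

theorem word_eq_one_of_chkFix {word : List ℕ} (hw : ∀ a ∈ word, a < 7) {tr : List (List (ℕ × List ℕ × ℕ) × ℕ)}
    (h : chkFix word fixStarts tr = true) : wprod gen word = 1 := by
  refine inv_eq_one.1 (eq_one_of_fix ?_)
  have main : ∀ (ss : List (ℕ × List ℕ)) (tr : List (List (ℕ × List ℕ × ℕ) × ℕ)),
      (∀ s ∈ ss, ∀ x ∈ s.2, x < 5) → chkFix word ss tr = true →
      ∀ s ∈ ss, semX.fw word (semX.pt s.1 s.2) = semX.pt s.1 s.2 := by
    intro ss
    induction ss with
    | nil => intro _ _ _ s hs'; simp at hs'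
    | cons s0 ss ih =>
      intro tr hlt h s hs'
      obtain ⟨hlt0, hlt⟩ := List.forall_mem_cons.1 hlt
      rw [chkFix, Bool.and_eq_true] at h
      rcases List.mem_cons.1 hs' with rfl | hs'
      · cases hrun : runT allKnown allGood word s.1 s.2 (tr.headD ([], 0)).1 with
        | none => rw [hrun] at h; exact absurd h.1 (by simp)
        | some r =>
          obtain ⟨j', v'⟩ := r
          rw [hrun] at h
          have hb := h.1
          simp only [Bool.and_eq_true] at hb
          have hK : ∀ k ∈ allKnown, k < 101 → semX.Known k := fun k _ hk => semX_known hk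
          have hG : ∀ j ∈ allGood, semX.GoodB j := fun j hj => semX_good (List.mem_range.1 hj)
          obtain ⟨hv', e1⟩ := runT_sound hK hG word (Or.inr semX_back) _ _ _ hlt0 hrun
          rw [e1, Nat.eq_of_beq_eq_true hb.1]
          exact sameW_sound hG hv' hlt0 hb.2
      · exact ih _ hlt h.2 s hs'
  intro s hs'
  have e : phi (wprod gen word) = wprod fX word := by
    clear h main hs'
    induction word with
    | nil => exact map_one phi
    | cons a L ih =>
      obtain ⟨ha, hw⟩ := List.forall_mem_cons.1 hw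
      show phi (gen a * wprod gen L) = fX a * wprod fX L
      rw [map_mul, phi_gen ha, ih hw]
  rw [map_inv, e, ← fX_fw _ hw]
  exact main _ tr (fun s hs'' => (fixStarts_ok.1 s hs'').2) h s hs'

theorem hnSub_core : hnSub.normalCore = ⊥ := by
  refine (Subgroup.eq_bot_iff_forall _).2 fun g hg => eq_one_of_fix fun s _ => ?_
  have hall : ∀ p : Pt, phi g p = p := fun p => by
    have hbase : ∀ a : HN, phi g (phi a ptBase) = phi a ptBase := fun a => by
      have hc : a⁻¹ * g * a ∈ hnSub :=
        Subgroup.normalCore_le _ (by simpa using hnSub.normalCore_normal.conj_mem g hg a⁻¹)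
      have e := phi_fix hc
      rw [map_mul, map_mul, map_inv, Equiv.Perm.mul_apply, Equiv.Perm.mul_apply,
        Equiv.Perm.inv_eq_iff_eq] at e
      exact e
    obtain ⟨a, ha⟩ := QuotientGroup.mk_surjective (phiPt p)
    have : phi a ptBase = p := by
      have e := ptOf_phiPt p
      rw [← ha] at e
      exact e
    rw [← this]; exact hbase a
  exact hall _

/-- The number of points of an orbit. -/
def fibN (i : Fin 9) : ℕ := 177408000 / mI i.val

theorem fib_sums : ∀ T : Finset (Fin 9), (0 : Fin 9) ∈ T → (∑ i ∈ T, fibN i) ∣ 1539000 →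
    T = {0} ∨ T = Finset.univ := by
  decide +kernel

theorem hnSub_maximal (L : Subgroup HN) (hL : hnSub ≤ L) : L = hnSub ∨ L = ⊤ := by
  classical
  haveI := HN_finite
  have hst : MulAction.stabilizer L baseG = hnSub.subgroupOf L := by
    ext a
    rw [MulAction.mem_stabilizer_iff, Subgroup.mem_subgroupOf]
    show (((a : HN) * 1 : HN) : HN ⧸ hnSub) = ((1 : HN) : HN ⧸ hnSub) ↔ _
    rw [mul_one, QuotientGroup.eq, mul_one, Subgroup.inv_mem_iff]
  have hrel : (MulAction.orbit L baseG).ncard = hnSub.relIndex L := by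
    rw [← MulAction.index_stabilizer, hst]; rfl
  have hdvd : hnSub.relIndex L ∣ 1539000 := ⟨L.index, by rw [Subgroup.relIndex_mul_index hL, hnSub_index]⟩
  let T : Finset (Fin 9) :=
    Finset.univ.filter fun i => phiPt (⟨i, QuotientGroup.mk 1⟩ : Pt) ∈ MulAction.orbit L baseG
  have hmem : ∀ p : Pt, phiPt p ∈ MulAction.orbit L baseG ↔ p.1 ∈ T := by
    rintro ⟨i, x⟩
    induction x using QuotientGroup.induction_on with
    | H g =>
      have e : (⟨i, QuotientGroup.mk g⟩ : Pt) = g • (⟨i, QuotientGroup.mk 1⟩ : Pt) := by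
        rw [Sigma.smul_mk]
        refine pt_eq rfl ?_
        show g⁻¹ * (g * 1) ∈ _
        rw [mul_one, inv_mul_cancel]
        exact one_mem _
      have hpsi : psi g ∈ L := hL (psi_range ▸ ⟨g, rfl⟩)
      simp only [T, Finset.mem_filter, Finset.mem_univ, true_and]
      rw [e, phiPt_smul, hp_smul]
      constructor
      · intro hh
        have := MulAction.mem_orbit_of_mem_orbit (⟨(psi g)⁻¹, Subgroup.inv_mem _ hpsi⟩ : L) hh
        rwa [show (⟨(psi g)⁻¹, Subgroup.inv_mem _ hpsi⟩ : L) • psi g • phiPt (⟨i, QuotientGroup.mk 1⟩ : Pt) =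
          (psi g)⁻¹ • psi g • phiPt (⟨i, QuotientGroup.mk 1⟩ : Pt) from rfl, inv_smul_smul] at this
      · exact fun hh => MulAction.mem_orbit_of_mem_orbit (⟨psi g, hpsi⟩ : L) hh
  have h0 : (0 : Fin 9) ∈ T := (hmem ptBase).1 (by rw [phiPt_base]; exact MulAction.mem_orbit_self _)
  have hcount : (MulAction.orbit L baseG).ncard = ∑ i ∈ T, fibN i := by
    have e1 : (MulAction.orbit L baseG).ncard = Nat.card {p : Pt // p.1 ∈ T} := by
      rw [← Nat.card_coe_set_eq]
      exact (Nat.card_congr (Equiv.subtypeEquiv ptEquiv (fun p => (hmem p).symm))).symm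
    rw [e1, Nat.card_congr (Equiv.subtypeSigmaEquiv (fun i : Fin 9 => HP ⧸ Ki i.val) (· ∈ T)), Nat.card_sigma]
    rw [← Finset.sum_coe_sort T fibN]
    refine Finset.sum_congr (by ext; simp) fun i _ => ?_
    have hpos : 0 < mI i.1.val := by rw [← Ki_card_all i.1.2]; exact Nat.card_pos
    rw [fibN, ← HP_card, ← (Ki i.1.val).index_mul_card, Ki_card_all i.1.2, Nat.mul_div_cancel _ hpos]
    rfl
  rw [hrel] at hcount
  rcases fib_sums T h0 (hcount ▸ hdvd) with e | e
  · left
    rw [e, Finset.sum_singleton, show fibN 0 = 1 by decide +kernel] at hcount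
    exact le_antisymm (Subgroup.relIndex_eq_one.1 hcount) hL
  · right
    refine eq_top_iff.2 fun g _ => ?_
    obtain ⟨p, hp⟩ := phiPt_surjective (QuotientGroup.mk g)
    obtain ⟨l, hl⟩ := (hmem p).2 (e ▸ Finset.mem_univ _)
    have hl' : (((l : HN) * 1 : HN) : HN ⧸ hnSub) = g := hl.trans hp
    rw [mul_one, QuotientGroup.eq] at hl'
    simpa using mul_mem l.2 (hL hl')

/-- The word showing that z is a product of conjugates of an element of order 19. -/
def zWord : List ℕ :=
  [4] ++ (zTerms.map fun t => winv t.2 ++ (bif t.1 then nineteenW else winv nineteenW) ++ t.2).flatten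

/-- The nineteenth power of the word. -/
def nineteenPow : List ℕ := (List.replicate 19 nineteenW).flatten

theorem normal_words_ok : (∀ a ∈ nineteenPow, a < 7) ∧ (∀ a ∈ zWord, a < 7) ∧
    chkFix nineteenPow fixStarts nineteenTr = true ∧ chkFix zWord fixStarts zTr = true := by
  decide +kernel

theorem nineteen_pow : (wprod gen nineteenW) ^ 19 = 1 := by
  have h := word_eq_one_of_chkFix normal_words_ok.1 normal_words_ok.2.2.1
  have key : ∀ n, wprod gen (List.replicate n nineteenW).flatten = (wprod gen nineteenW) ^ n := by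
    intro n
    induction n with
    | zero => rfl
    | succ n ih => rw [List.replicate_succ, List.flatten_cons, wprod_append, ih, pow_succ']
  exact (key 19).symm.trans h

theorem mem_normal_z {N : Subgroup HN} (hN : N.Normal) (hw : wprod gen nineteenW ∈ N) : gen 4 ∈ N := by
  have h := word_eq_one_of_chkFix normal_words_ok.2.1 normal_words_ok.2.2.2
  rw [zWord, wprod_append] at h
  have hprod : ∀ ts : List (Bool × List ℕ),
      wprod gen (ts.map fun t => winv t.2 ++ (bif t.1 then nineteenW else winv nineteenW) ++ t.2).flatten ∈ N := by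
    intro ts
    induction ts with
    | nil => exact one_mem _
    | cons t ts ih =>
      rw [List.map_cons, List.flatten_cons, wprod_append, wprod_append, wprod_append, wprod_gen_winv]
      refine mul_mem ?_ ih
      have hc := fun n (hn : n ∈ N) => hN.conj_mem n hn (wprod gen t.2)⁻¹
      cases t.1 with
      | true => simpa using hc _ hw
      | false =>
        rw [cond_false, wprod_gen_winv]
        simpa using hc _ (Subgroup.inv_mem _ hw)
  have h4 : wprod gen [4] = gen 4 := by simp [wprod]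
  rw [← h4, eq_inv_of_mul_eq_one_left h]
  exact Subgroup.inv_mem _ (hprod zTerms)

theorem eq_top_of_z_mem {N : Subgroup HN} (hN : N.Normal) (hz : gen 4 ∈ N) : N = ⊤ := by
  haveI := hN
  let q : HN →* HN ⧸ N := QuotientGroup.mk' N
  have hr : ∀ r ∈ rels, wprod (fun a => q (gen a)) r = 1 := fun r hr => by
    rw [← map_wprod q gen _ r fun _ _ => rfl, gen_rel r hr, map_one]
  have e4 : q (gen 4) = 1 := (QuotientGroup.eq_one_iff _).2 hz
  have i1 : q (gen 1) = (q (gen 0))⁻¹ := by rw [← map_inv, ← gen_ivT 0]; rfl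
  have i3 : q (gen 3) = (q (gen 2))⁻¹ := by rw [← map_inv, ← gen_ivT 2]; rfl
  have i6 : q (gen 6) = (q (gen 5))⁻¹ := by rw [← map_inv, ← gen_ivT 5]; rfl
  have rw' : ∀ r ∈ rels, (r.map fun a => q (gen a)).prod = 1 := hr
  have t3 := rw' [4, 5, 4, 5, 4, 5] (by decide)
  have t5 := rw' [5, 5, 5, 5, 5] (by decide)
  have zx := rw' [4, 0, 4, 0] (by decide)
  have zR := rw' [4, 3, 1, 3, 1, 3, 3, 3, 4, 2, 2, 2, 0, 2, 0, 2, 0, 3, 1, 3, 1, 3, 3, 3, 4, 2, 2, 2, 0, 2, 0, 2, 0, 3, 1, 3, 1, 3, 3, 3, 4, 2, 2, 2, 0, 2, 0, 2, 0] (by decide)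
  have y6 := rw' [2, 2, 2, 2, 2, 2] (by decide)
  have y8 := rw' [0, 2, 0, 2, 0, 2, 0, 2, 0, 2, 0, 2, 0, 2, 0, 2] (by decide)
  have y15 := rw' [1, 2, 2, 0, 2, 2, 2, 1, 2, 2, 0, 2, 2, 2, 1, 2, 2, 0, 2, 2, 2] (by decide)
  simp only [List.map_cons, List.map_nil, List.prod_cons, List.prod_nil, mul_one, e4, one_mul] at t3 t5 zx zR y6 y8 y15
  have et : q (gen 5) = 1 := by
    generalize q (gen 5) = b at t3 t5 ⊢
    have h3 : b ^ 3 = 1 := by rw [← t3]; simp only [pow_succ, pow_zero, one_mul, mul_assoc]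
    have h5 : b ^ 5 = 1 := by rw [← t5]; simp only [pow_succ, pow_zero, one_mul, mul_assoc]
    calc b = (b ^ 3) ^ 2 * (b ^ 5)⁻¹ := by group
      _ = 1 := by rw [h3, h5]; simp
  simp only [i1, i3] at zR
  have ex : q (gen 0) = 1 := by
    have e3 : q (gen 0) * (q (gen 0) * q (gen 0)) = 1 := by simpa [mul_assoc] using zR
    calc q (gen 0) = q (gen 0) * (q (gen 0) * q (gen 0)) * (q (gen 0) * q (gen 0))⁻¹ := by group
      _ = 1 := by rw [e3, zx]; group
  simp only [i1, ex, inv_one, one_mul] at y8 y15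
  have ey : q (gen 2) = 1 := by
    generalize q (gen 2) = b at y6 y8 y15 ⊢
    have h6 : b ^ 6 = 1 := by rw [← y6]; simp only [pow_succ, pow_zero, one_mul, mul_assoc]
    have h8 : b ^ 8 = 1 := by rw [← y8]; simp only [pow_succ, pow_zero, one_mul, mul_assoc]
    have h15 : b ^ 15 = 1 := by rw [← y15]; simp only [pow_succ, pow_zero, one_mul, mul_assoc]
    have hd : orderOf b ∣ 1 := by
      have := Nat.dvd_gcd (Nat.dvd_gcd (orderOf_dvd_of_pow_eq_one h6) (orderOf_dvd_of_pow_eq_one h8))
        (orderOf_dvd_of_pow_eq_one h15)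
      simpa using this
    exact orderOf_eq_one_iff.1 (Nat.dvd_one.1 hd)
  rw [eq_top_iff, ← closure_gen, Subgroup.closure_le]
  rintro _ ⟨x, hx, rfl⟩
  rw [SetLike.mem_coe, ← QuotientGroup.eq_one_iff]
  simp only [Set.mem_insert_iff, Set.mem_singleton_iff] at hx
  rcases hx with rfl | rfl | rfl | rfl
  exacts [ex, ey, e4, et]

/-- **The presented group is simple.** -/
theorem HN_simple : IsSimpleGroup HN := by
  haveI := HN_finite
  haveI : Nontrivial HN := Finite.one_lt_card_iff_nontrivial.1 (by rw [HN_card]; decide)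
  haveI : Fact (Nat.Prime 19) := ⟨by norm_num⟩
  refine { eq_bot_or_eq_top_of_normal := fun N hN => ?_ }
  by_cases h : N = ⊥
  · exact Or.inl h
  haveI := hN
  refine Or.inr (eq_top_of_z_mem hN (mem_normal_z hN ?_))
  exact CosetInv.pow_eq_one_mem_normal hnSub hnSub_core hnSub_maximal 19 1 (by rw [hnSub_index]; decide)
    (by rw [HN_card]; decide) N h _ nineteen_pow

end CfsgLib.InvChar.SporHN
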