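import Cfsg.Agent.Lib.InvChar.SporHNGroup
import Cfsg.Agent.Lib.InvChar.SporData.HN.StabLists

/-!
# The stabilisers of the roots
-/

set_option autoImplicit false
set_option maxRecDepth 100000

namespace CfsgLib.InvChar.SporHN

open CfsgLib.InvChar.Coset
open CfsgLib.KnownA

/-- The orbit of a root. -/
def eI (k : ℕ) : ℕ := edgeI.getD k 0
/-- The orbit of the image of a root. -/
def eJ (k : ℕ) : ℕ := edgeJ.getD k 0
/-- The word of a root. -/
def eH (k : ℕ) : List ℕ := edgeH.getD k []
/-- The word of the image of a root. -/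
def eT (k : ℕ) : List ℕ := edgeT.getD k []

theorem edge_facts : ∀ k < 101, (∀ x ∈ eH k, x < 5) ∧ (∀ x ∈ eT k, x < 5) ∧
    small.follow (winv (eH k)) 0 = rootQ.getD k 0 := by decide +kernel

theorem winv_lt {L : List ℕ} (h : ∀ x ∈ L, x < 5) : ∀ x ∈ winv L, x < 5 := by
  intro x hx
  simp only [winv, List.mem_reverse, List.mem_map] at hx
  obtain ⟨y, hy, rfl⟩ := hx
  have := h y hy
  interval_cases y <;> decide

theorem app_lt {L M : List ℕ} (h : ∀ x ∈ L, x < 5) (h' : ∀ x ∈ M, x < 5) : ∀ x ∈ L ++ M, x < 5 :=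
  fun x hx => (List.mem_append.1 hx).elim (h x) (h' x)

theorem wprod_winv {K : Type*} [Group K] {s : ℕ → K} (h : HLetters s) {L : List ℕ} (hL : ∀ x ∈ L, x < 5) :
    wprod s (winv L) = (wprod s L)⁻¹ := wprod_inv_word h.inv L hL

/-- The element carrying a root to its image. -/
noncomputable def dk (k : ℕ) : HP := wprod hs (eH k ++ winv (eT k))

/-- Strictly increasing points of label `k`. -/
noncomputable def chkClass (i k : ℕ) : List ℕ → Bool :=
  List.rec true fun p rest ih => Nat.blt p 1408 && Nat.beq (lab i p) k &&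
    List.rec true (fun q _ _ => Nat.blt p q) rest && ih

/-- The tests on the generators of the stabiliser of root `k`. -/
noncomputable def chkGensStab (k i j q : ℕ) : List (List ℕ) → List (ℕ × ℕ) → Bool :=
  List.rec (fun _ => true) fun U _ ih C =>
    (U.all fun e => Nat.blt e (gensI i).length) && Nat.beq ((derT i).follow U q) q &&
      inK j (winv (eH k ++ winv (eT k)) ++ expand i U ++ (eH k ++ winv (eT k))) (C.headD (0, 0)).2 &&
        ih C.tail

/-- The tests on root `k`. -/
noncomputable def chkStab (k : ℕ) : Bool :=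
  force (eI k) fun i => force (stabN.getD k 0) fun n =>
    chkGensStab k i (eJ k) (rootQ.getD k 0) (stabU.getD k []) (stabChk.getD k []) &&
    chkClass i k (classPts.getD k []) && Nat.blt 0 n && Nat.blt 0 (classPts.getD k []).length &&
    Nat.beq ((classPts.getD k []).length * n) (mI i) &&
    bif Nat.beq n 126000 then
      match stabU.getD k [] with
      | [U, V] => Nat.beq (step4 small (expand i U) img0) (step4 small [2] img0) &&
          Nat.beq (step4 small (expand i V) img0) (step4 small [1, 2, 0] img0)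
      | _ => false
    else
      decide ((sLists.getD k kList1).gens = stabU.getD k []) && Nat.beq (sLists.getD k kList1).m n &&
      Nat.blt (sLists.getD k kList1).root n && (sLists.getD k kList1).chkLows (derT i) img0 n 0

/-- The tests on `cnt` roots from `k`. -/
noncomputable def chkStabs (cnt : ℕ) : ℕ → Bool :=
  Nat.rec (fun _ => true) (fun _ ih k => chkStab k && force (k + 1) ih) cnt

theorem chkStabs_ok : chkStabs 101 0 = true := by decide +kernel

theorem chkStab_all : ∀ k < 101, chkStab k = true := by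
  have : ∀ cnt a, chkStabs cnt a = true → ∀ j, a ≤ j → j < a + cnt → chkStab j = true := by
    intro cnt
    induction cnt with
    | zero => intro a _ j h1 h2; omega
    | succ cnt ih =>
      intro a h j h1 h2
      have h' : (chkStab a && force (a + 1) (chkStabs cnt)) = true := h
      rw [Bool.and_eq_true, force_eq] at h'
      rcases eq_or_lt_of_le h1 with rfl | h3
      · exact h'.1
      · exact ih _ h'.2 j h3 (by omega)
  exact fun k hk => this 101 0 chkStabs_ok k (Nat.zero_le _) (by omega)

theorem chkClass_get {i k : ℕ} : ∀ {L : List ℕ}, chkClass i k L = true →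
    (∀ p ∈ L, p < 1408 ∧ lab i p = k) ∧ L.Pairwise (· < ·) := by
  intro L
  induction L with
  | nil => intro _; simp
  | cons p rest ih =>
    intro h
    have h' : (Nat.blt p 1408 && Nat.beq (lab i p) k &&
      List.rec (motive := fun _ => Bool) true (fun q _ _ => Nat.blt p q) rest && chkClass i k rest) = true := h
    simp only [Bool.and_eq_true] at h'
    obtain ⟨⟨⟨h1, h2⟩, h3⟩, h4⟩ := h'
    obtain ⟨hm, hp⟩ := ih h4
    refine ⟨List.forall_mem_cons.2 ⟨⟨by simpa [Nat.blt] using h1, Nat.eq_of_beq_eq_true h2⟩, hm⟩,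
      List.pairwise_cons.2 ⟨?_, hp⟩⟩
    cases rest with
    | nil => simp
    | cons q r =>
      have hpq : p < q := by simpa [Nat.blt] using h3
      intro x hx
      rcases List.mem_cons.1 hx with rfl | hx
      · exact hpq
      · exact hpq.trans ((List.pairwise_cons.1 hp).1 x hx)

theorem chkGensStab_get {k i j q : ℕ} : ∀ {US : List (List ℕ)} {C : List (ℕ × ℕ)},
    chkGensStab k i j q US C = true → ∀ U ∈ US, (∀ e ∈ U, e < (gensI i).length) ∧ (derT i).follow U q = q ∧
      ∃ idx, inK j (winv (eH k ++ winv (eT k)) ++ expand i U ++ (eH k ++ winv (eT k))) idx = true := by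
  intro US
  induction US with
  | nil => intro _ _ U hU; simp at hU
  | cons U0 US ih =>
    intro C h U hU
    have h' : ((U0.all fun e => Nat.blt e (gensI i).length) && Nat.beq ((derT i).follow U0 q) q &&
      inK j (winv (eH k ++ winv (eT k)) ++ expand i U0 ++ (eH k ++ winv (eT k))) (C.headD (0, 0)).2 &&
        chkGensStab k i j q US C.tail) = true := h
    simp only [Bool.and_eq_true] at h'
    obtain ⟨⟨⟨h1, h2⟩, h3⟩, h4⟩ := h'
    rcases List.mem_cons.1 hU with rfl | hU
    · exact ⟨fun e he => by simpa [Nat.blt] using List.all_eq_true.1 h1 e he, Nat.eq_of_beq_eq_true h2, _, h3⟩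
    · exact ih h4 U hU

/-- The stabiliser of the point of root `k` inside `Ki`. -/
noncomputable def St (k : ℕ) : Subgroup HP := Ki (eI k) ⊓ MulAction.stabilizer HP (rq k)

theorem stab_struct {k : ℕ} (hk : k < 101) :
    St k ≤ (Ki (eJ k)).comap (MulAut.conj (dk k)⁻¹).toMonoidHom ∧
      ∀ u ∈ Ki (eI k), lab (eI k) (u.1 (rq k)).val = k := by
  classical
  set i := eI k with hidef
  have hi : i < 9 := (rootQ_lt k hk).2.1
  have hj : eJ k < 9 := (rootQ_lt k hk).2.2
  have h := chkStab_all k hk
  simp only [chkStab, force_eq, Bool.and_eq_true, ← hidef] at h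
  obtain ⟨⟨⟨⟨⟨hg, hc⟩, hn⟩, hlen⟩, hprod⟩, hlow⟩ := h
  set US := stabU.getD k [] with hUS
  set n := stabN.getD k 0 with hndef
  set L := classPts.getD k [] with hLdef
  have hn : 0 < n := Nat.le_of_ble_eq_true hn
  have hlen : 0 < L.length := Nat.le_of_ble_eq_true hlen
  have hprod : L.length * n = mI i := Nat.eq_of_beq_eq_true hprod
  have hgens := chkGensStab_get hg
  let S := Subgroup.closure (wprod (ks i) '' {U | U ∈ US})
  have hSle : S ≤ St k := by
    rw [Subgroup.closure_le]
    rintro _ ⟨U, hU, rfl⟩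
    obtain ⟨hlt, hfix, -⟩ := hgens U hU
    refine ⟨by rw [wprod_ks]; exact expand_mem i U, ?_⟩
    show wprod (ks i) U ∈ MulAction.stabilizer HP (rq k)
    rw [← Subgroup.inv_mem_iff, MulAction.mem_stabilizer_iff, wprod_ks]
    refine Fin.ext ?_
    show (((wprod hs (expand i U))⁻¹ : HP).1 (rq k)).val = _
    rw [hs_follow (expand_lt i hi U), ← derT_follow hi U hlt, rq_val hk]
    exact hfix
  have hnS : n ≤ Nat.card S := by
    cases hb : Nat.beq n 126000 with
    | true =>
      rw [hb, cond_true] at hlow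
      match hU2 : US, hlow with
      | [U, V], hlow =>
        rw [Bool.and_eq_true] at hlow
        have e : ∀ (W : List ℕ) (w : List ℕ), (∀ x ∈ w, x < 5) → W ∈ US →
            step4 small (expand i W) img0 = step4 small w img0 → wprod hs w ∈ S := fun W w hw hW he => by
          refine Subgroup.subset_closure ⟨W, hW, img_injective ?_⟩
          rw [wprod_ks, img_wprod (expand_lt i hi W), img_wprod hw, he]
        have e1 := e U [2] (by decide) (by simp [hU2]) (Nat.eq_of_beq_eq_true hlow.1)
        have e2 := e V [1, 2, 0] (by decide) (by simp [hU2]) (Nat.eq_of_beq_eq_true hlow.2)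
        have hK : Ki 1 ≤ S := by
          rw [Ki, Subgroup.closure_le, show gensI 1 = [[2], [1, 2, 0]] from rfl]
          rintro _ ⟨w, hw, rfl⟩
          simp only [Set.mem_setOf_eq, List.mem_cons, List.not_mem_nil, or_false] at hw
          rcases hw with rfl | rfl
          exacts [e1, e2]
        refine le_trans ?_ (Subgroup.card_le_of_le hK)
        rw [Nat.eq_of_beq_eq_true hb, Ki_card_all (by omega)]
        decide +kernel
    | false =>
      rw [hb, cond_false] at hlow
      simp only [Bool.and_eq_true, decide_eq_true_eq] at hlow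
      obtain ⟨⟨⟨hgs, hm⟩, hr⟩, hl⟩ := hlow
      have hm := Nat.eq_of_beq_eq_true hm
      have := (sLists.getD k kList1).le_card_of_low (T := derT i) (E := img) (s := ks i) (base := img0)
        (by rw [hm]; simpa [Nat.blt] using hr)
        (fun x hx => (sLists.getD k kList1).chkLows_get _ _ n 0 hl x (Nat.zero_le _) (by omega))
        img_one (fun g W hW => ks_step hi (hgens W (hgs ▸ hW)).1 g)
      rw [hgs, hm] at this
      exact this
  have hLO : {p : Fin small.n | p.val ∈ L} ⊆ MulAction.orbit (Ki i) (rq k) := by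
    intro p hp
    obtain ⟨-, -, u, hu, hup⟩ := lab_facts hi p
    rw [((chkClass_get hc).1 p hp).2] at hup
    exact ⟨⟨u, hu⟩, hup⟩
  have hLcard : L.length ≤ {p : Fin small.n | p.val ∈ L}.ncard := by
    have hnd : L.Nodup := (chkClass_get hc).2.imp fun h => h.ne
    have hi' : Fin.val '' {p : Fin small.n | p.val ∈ L} = {p | p ∈ L} := by
      ext p
      exact ⟨fun ⟨q, hq, e⟩ => e ▸ hq, fun hp =>
        ⟨⟨p, lt_of_lt_of_le ((chkClass_get hc).1 p hp).1 (show 1408 ≤ small.n by decide +kernel)⟩, hp, rfl⟩⟩
    rw [← Set.ncard_image_of_injective _ Fin.val_injective, hi', ← List.toFinset_card_of_nodup hnd,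
      ← Set.ncard_coe_finset]
    simp
  have hsplit : Nat.card (Ki i) = (MulAction.orbit (Ki i) (rq k)).ncard * Nat.card (St k) := by
    have e : Nat.card (MulAction.stabilizer (Ki i) (rq k)) = Nat.card (St k) :=
      Nat.card_congr
        { toFun := fun x => ⟨x.1.1, x.1.2, x.2⟩
          invFun := fun x => ⟨⟨x.1, x.2.1⟩, x.2.2⟩
          left_inv := fun x => rfl
          right_inv := fun x => rfl }
    rw [← e, ← MulAction.index_stabilizer (Ki i) (rq k)]
    exact ((MulAction.stabilizer (Ki i) (rq k)).index_mul_card).symm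
  rw [Ki_card_all hi, ← hprod] at hsplit
  have h1 : L.length ≤ (MulAction.orbit (Ki i) (rq k)).ncard :=
    hLcard.trans (Set.ncard_le_ncard hLO (Set.toFinite _))
  have h2 : n ≤ Nat.card (St k) := hnS.trans (Subgroup.card_le_of_le hSle)
  have h3 : (MulAction.orbit (Ki i) (rq k)).ncard ≤ L.length :=
    Nat.le_of_mul_le_mul_right (hsplit ▸ Nat.mul_le_mul_left _ h2) hn
  have h4 : Nat.card (St k) ≤ n :=
    Nat.le_of_mul_le_mul_left (hsplit ▸ Nat.mul_le_mul_right _ h1) hlen
  have hS : S = St k := Subgroup.eq_of_le_of_card_ge hSle (h4.trans hnS)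
  have horb : MulAction.orbit (Ki i) (rq k) = {p : Fin small.n | p.val ∈ L} :=
    (Set.eq_of_subset_of_ncard_le hLO (h3.trans hLcard) (Set.toFinite _)).symm
  refine ⟨?_, fun u hu => ?_⟩
  · rw [← hS, Subgroup.closure_le]
    rintro _ ⟨U, hU, rfl⟩
    obtain ⟨-, -, idx, hin⟩ := hgens U hU
    obtain ⟨hH, hT, -⟩ := edge_facts k hk
    have hd := app_lt hH (winv_lt hT)
    have hm := mem_of_inK hj (app_lt (app_lt (winv_lt hd) (expand_lt i hi U)) hd) hin
    rw [wprod_append, wprod_append, wprod_winv hLetters_hs hd] at hm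
    rw [SetLike.mem_coe, Subgroup.mem_comap, wprod_ks]
    simpa [dk] using hm
  · have : u.1 (rq k) ∈ MulAction.orbit (Ki i) (rq k) := ⟨⟨u, hu⟩, rfl⟩
    rw [horb] at this
    exact ((chkClass_get hc).1 _ this).2

theorem dk_conj {k : ℕ} (hk : k < 101) {u : HP} (hu : u ∈ Ki (eI k)) (hfix : u.1 (rq k) = rq k) :
    (dk k)⁻¹ * u * dk k ∈ Ki (eJ k) := by
  have := (stab_struct hk).1 ⟨hu, hfix⟩
  rw [Subgroup.mem_comap] at this
  simpa using this

end CfsgLib.InvChar.SporHN
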