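import Cfsg.Agent.Lib.InvChar.SporHNStab

/-!
# Following words through known roots and known stabilisers

A point is written as a base of one of the nine orbits followed by a word in the letters of x, y, z.
The two letters for t can be followed from such a point when the root it comes from is known.
-/

set_option autoImplicit false
set_option maxRecDepth 100000

namespace CfsgLib.InvChar.SporHN

open CfsgLib.InvChar.Coset
open CfsgLib.KnownA

/-- An action of the group of permutations together with a map standing for t. -/
structure Sem (A : Type*) [MulAction HP A] where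
  /-- the map of t -/
  tau : A → A
  /-- the map of the inverse of t -/
  taui : A → A
  /-- the bases -/
  b : ℕ → A
  comm : ∀ c ∈ Ki 1, ∀ p : A, tau (c • p) = c • tau p

namespace Sem

variable {A : Type*} [MulAction HP A] (S : Sem A)

/-- The point with base `j` and word `v`. -/
noncomputable def pt (j : ℕ) (v : List ℕ) : A := (wprod hs v)⁻¹ • S.b j

/-- The map of a letter. -/
noncomputable def act (a : ℕ) (p : A) : A :=
  if a < 5 then (hs a)⁻¹ • p else if a = 5 then S.tau p else S.taui p

/-- The map of a word. -/
noncomputable def fw : List ℕ → A → A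
  | [], p => p
  | a :: L, p => fw L (S.act a p)

/-- The image of root `k` is as recorded. -/
def Known (k : ℕ) : Prop := S.tau (S.pt (eI k) (eH k)) = S.pt (eJ k) (eT k)

/-- The stabiliser of orbit `j` fixes its base. -/
def GoodB (j : ℕ) : Prop := ∀ g ∈ Ki j, g • S.b j = S.b j

/-- The inverse map inverts. -/
def Back : Prop := ∀ p : A, S.taui (S.tau p) = p

theorem fw_append (L M : List ℕ) (p : A) : S.fw (L ++ M) p = S.fw M (S.fw L p) := by
  induction L generalizing p with
  | nil => rfl
  | cons a L ih => exact ih _

theorem fw_small : ∀ {L : List ℕ}, (∀ x ∈ L, x < 5) → ∀ p : A, S.fw L p = (wprod hs L)⁻¹ • p := by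
  intro L
  induction L with
  | nil => intro _ p; show p = (1 : HP)⁻¹ • p; rw [inv_one, one_smul]
  | cons a L ih =>
    intro hL p
    obtain ⟨ha, hL⟩ := List.forall_mem_cons.1 hL
    show S.fw L (S.act a p) = (hs a * wprod hs L)⁻¹ • p
    rw [ih hL, act, if_pos ha, mul_inv_rev, mul_smul]

theorem pt_append (j : ℕ) (v c : List ℕ) : S.pt j (v ++ c) = (wprod hs c)⁻¹ • S.pt j v := by
  rw [pt, pt, wprod_append, mul_inv_rev, mul_smul]

end Sem

/-- The tests on a word fixing the first point. -/
noncomputable def chkC (c : List ℕ) : Bool :=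
  (c.all fun x => Nat.blt x 5) && Nat.beq (small.follow c 0) 0

/-- Two words give the same point, literally or by a stabiliser. -/
noncomputable def sameW (good : List ℕ) (j : ℕ) (v v' : List ℕ) (idx : ℕ) : Bool :=
  leq v v' || (good.contains j && Nat.blt j 9 && inK j (v ++ winv v') idx)

/-- One letter of a trace: a small letter, or a letter for t with a hint. -/
noncomputable def stepT (known good : List ℕ) (a j : ℕ) (v : List ℕ) (h : ℕ × List ℕ × ℕ) :
    Option (ℕ × List ℕ) :=
  bif Nat.blt a 5 then some (j, v ++ [a])
  else bif known.contains h.1 && Nat.blt h.1 101 && chkC h.2.1 then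
    (bif Nat.beq a 5 then
      (bif Nat.beq (eI h.1) j && sameW good j v (eH h.1 ++ h.2.1) h.2.2 then some (eJ h.1, eT h.1 ++ h.2.1)
      else none)
    else
      (bif Nat.beq (eJ h.1) j && sameW good j v (eT h.1 ++ h.2.1) h.2.2 then some (eI h.1, eH h.1 ++ h.2.1)
      else none))
  else none

/-- A trace: one hint for each letter for t. -/
noncomputable def runT (known good : List ℕ) : List ℕ → ℕ → List ℕ → List (ℕ × List ℕ × ℕ) → Option (ℕ × List ℕ)
  | [], j, v, _ => some (j, v)
  | a :: L, j, v, H =>
    match stepT known good a j v (H.headD (1000, [], 0)) with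
    | none => none
    | some (j', v') => runT known good L j' v' (bif Nat.blt a 5 then H else H.tail)

section Sound

variable {A : Type*} [MulAction HP A] {S : Sem A} {known good : List ℕ}

theorem chkC_get {c : List ℕ} (h : chkC c = true) : (∀ x ∈ c, x < 5) ∧ (wprod hs c)⁻¹ ∈ Ki 1 := by
  rw [chkC, Bool.and_eq_true] at h
  have hc : ∀ x ∈ c, x < 5 := fun x hx => by simpa [Nat.blt] using List.all_eq_true.1 h.1 x hx
  exact ⟨hc, mem_K1_iff.2 (Fin.ext (by rw [hs_follow hc]; exact Nat.eq_of_beq_eq_true h.2))⟩

theorem Known.shift {k : ℕ} (hk : S.Known k) {c : List ℕ} (hc : chkC c = true) :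
    S.tau (S.pt (eI k) (eH k ++ c)) = S.pt (eJ k) (eT k ++ c) := by
  rw [S.pt_append, S.pt_append, S.comm _ (chkC_get hc).2, hk]

theorem sameW_sound (hG : ∀ j ∈ good, S.GoodB j) {j : ℕ} {v v' : List ℕ} {idx : ℕ}
    (hv : ∀ x ∈ v, x < 5) (hv' : ∀ x ∈ v', x < 5) (h : sameW good j v v' idx = true) :
    S.pt j v = S.pt j v' := by
  rw [sameW, Bool.or_eq_true] at h
  rcases h with h | h
  · rw [eq_of_leq _ _ h]
  · simp only [Bool.and_eq_true, List.contains_iff_mem] at h
    obtain ⟨⟨hj, hj9⟩, hin⟩ := h
    have hj9 : j < 9 := Nat.le_of_ble_eq_true hj9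
    have hm := mem_of_inK hj9 (app_lt hv (winv_lt hv')) hin
    rw [wprod_append, wprod_winv hLetters_hs hv'] at hm
    have := hG j hj _ (Subgroup.inv_mem _ hm)
    rw [mul_inv_rev, inv_inv, mul_smul] at this
    calc S.pt j v = (wprod hs v)⁻¹ • S.b j := rfl
      _ = (wprod hs v')⁻¹ • (wprod hs v' • (wprod hs v)⁻¹ • S.b j) := (inv_smul_smul _ _).symm
      _ = S.pt j v' := by rw [this]; rfl

theorem stepT_sound (hK : ∀ k ∈ known, k < 101 → S.Known k) (hG : ∀ j ∈ good, S.GoodB j) {a j : ℕ}
    {v : List ℕ} (hv : ∀ x ∈ v, x < 5) {h : ℕ × List ℕ × ℕ} {j' : ℕ} {v' : List ℕ}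
    (hB : a < 6 ∨ S.Back) (e : stepT known good a j v h = some (j', v')) :
    (∀ x ∈ v', x < 5) ∧ S.act a (S.pt j v) = S.pt j' v' := by
  rcases lt_or_ge a 5 with ha | ha
  · have hb : Nat.blt a 5 = true := Nat.ble_eq_true_of_le ha
    rw [stepT, hb, cond_true, Option.some.injEq, Prod.mk.injEq] at e
    obtain ⟨rfl, rfl⟩ := e
    refine ⟨app_lt hv (by simpa using ha), ?_⟩
    rw [S.pt_append, Sem.act, if_pos ha]
    simp [wprod]
  · have hb : Nat.blt a 5 = false := by
      cases hh : Nat.blt a 5
      · rfl
      · exact absurd (Nat.le_of_ble_eq_true hh) (by omega)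
    rw [stepT, hb, cond_false] at e
    obtain ⟨k, c, idx⟩ := h
    simp only at e
    cases hkc : (known.contains k && Nat.blt k 101 && chkC c) with
    | false => rw [hkc, cond_false] at e; exact absurd e (by simp)
    | true =>
      rw [hkc, cond_true] at e
      simp only [Bool.and_eq_true, List.contains_iff_mem] at hkc
      obtain ⟨⟨hk, hk101⟩, hc⟩ := hkc
      have hk101 : k < 101 := Nat.le_of_ble_eq_true hk101
      have hkn := hK k hk hk101
      obtain ⟨hH, hT, -⟩ := edge_facts k hk101
      have hcl := (chkC_get hc).1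
      cases h5 : Nat.beq a 5 with
      | true =>
        rw [h5, cond_true] at e
        cases hs' : (Nat.beq (eI k) j && sameW good j v (eH k ++ c) idx) with
        | false => rw [hs', cond_false] at e; exact absurd e (by simp)
        | true =>
          rw [hs', cond_true, Option.some.injEq, Prod.mk.injEq] at e
          obtain ⟨rfl, rfl⟩ := e
          rw [Bool.and_eq_true] at hs'
          have ej : eI k = j := Nat.eq_of_beq_eq_true hs'.1
          have ha5 : a = 5 := Nat.eq_of_beq_eq_true h5
          refine ⟨app_lt hT hcl, ?_⟩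
          rw [Sem.act, if_neg (by omega), if_pos ha5,
            sameW_sound hG hv (app_lt hH hcl) hs'.2, ← ej, Known.shift hkn hc]
      | false =>
        rw [h5, cond_false] at e
        cases hs' : (Nat.beq (eJ k) j && sameW good j v (eT k ++ c) idx) with
        | false => rw [hs', cond_false] at e; exact absurd e (by simp)
        | true =>
          rw [hs', cond_true, Option.some.injEq, Prod.mk.injEq] at e
          obtain ⟨rfl, rfl⟩ := e
          rw [Bool.and_eq_true] at hs'
          have ej : eJ k = j := Nat.eq_of_beq_eq_true hs'.1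
          have ha5 : a ≠ 5 := fun hh => by rw [hh] at h5; simp at h5
          refine ⟨app_lt hH hcl, ?_⟩
          rw [Sem.act, if_neg (by omega), if_neg ha5,
            sameW_sound hG hv (app_lt hT hcl) hs'.2, ← ej, ← Known.shift hkn hc]
          rcases hB with h6 | hback
          · omega
          · exact hback _

theorem runT_sound (hK : ∀ k ∈ known, k < 101 → S.Known k) (hG : ∀ j ∈ good, S.GoodB j) :
    ∀ (L : List ℕ), ((∀ a ∈ L, a < 6) ∨ S.Back) → ∀ (j : ℕ) (v : List ℕ) (H : List (ℕ × List ℕ × ℕ)),
      (∀ x ∈ v, x < 5) → ∀ {j' : ℕ} {v' : List ℕ}, runT known good L j v H = some (j', v') →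
        (∀ x ∈ v', x < 5) ∧ S.fw L (S.pt j v) = S.pt j' v' := by
  intro L
  induction L with
  | nil =>
    intro _ j v H hv j' v' e
    rw [runT, Option.some.injEq, Prod.mk.injEq] at e
    obtain ⟨rfl, rfl⟩ := e
    exact ⟨hv, rfl⟩
  | cons a L ih =>
    intro hB j v H hv j' v' e
    rw [runT] at e
    cases hst : stepT known good a j v (H.headD (1000, [], 0)) with
    | none => rw [hst] at e; exact absurd e (by simp)
    | some r =>
      obtain ⟨j1, v1⟩ := r
      rw [hst] at e
      obtain ⟨hv1, he⟩ := stepT_sound hK hG hv (hB.imp_left fun h => h a (by simp)) hst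
      obtain ⟨hv', he'⟩ := ih (hB.imp_left fun h x hx => h x (by simp [hx])) j1 v1 _ hv1 e
      refine ⟨hv', ?_⟩
      show S.fw L (S.act a (S.pt j v)) = _
      rw [he, he']

end Sound

/-- Two traces of two words with the same effect, giving an element fixing a base. -/
structure Pair where
  /-- the kind of the two words -/
  kind : ℕ
  /-- which word for t -/
  un : ℕ
  /-- the word fixing the first point -/
  cw : List ℕ
  /-- the orbit of the start -/
  j0 : ℕ
  /-- the word of the start -/
  v0 : List ℕ
  /-- hints of the first trace -/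
  h1 : List (ℕ × List ℕ × ℕ)
  /-- hints of the second trace -/
  h2 : List (ℕ × List ℕ × ℕ)

/-- A step of the saturation. -/
inductive Ev where
  /-- the image of a root is given by a certificate -/
  | cert (k : ℕ)
  /-- the image of a root found by following a word equal to t -/
  | loop (k : ℕ) (cw : List ℕ) (un : ℕ) (H : List (ℕ × List ℕ × ℕ)) (vend : List ℕ)
  /-- a base with all generators of its stabiliser -/
  | good (j : ℕ) (src : List (Option Pair))

/-- Three words equal to t. -/
def usW (un : ℕ) : List ℕ := [[6, 6, 6, 6], [0, 6, 6, 1], [4, 6, 4, 6, 4]].getD un [5]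

/-- The first word of a pair. -/
def pairL (p : Pair) : List ℕ :=
  bif Nat.beq p.kind 0 then usW p.un else bif Nat.beq p.kind 1 then [6] ++ p.cw ++ [5] else [5] ++ p.cw ++ [6]

/-- The second word of a pair. -/
def pairL' (p : Pair) : List ℕ := bif Nat.beq p.kind 0 then [5] else p.cw

/-- The test that a pair shows the word `u` to fix the base `j`. -/
noncomputable def chkPair (known good : List ℕ) (j : ℕ) (u : List ℕ) (p : Pair) : Bool :=
  (p.v0.all fun x => Nat.blt x 5) && chkC p.cw &&
    match runT known good (pairL p) p.j0 p.v0 p.h1, runT known good (pairL' p) p.j0 p.v0 p.h2 with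
    | some (ja, va), some (jb, vb) => Nat.beq ja j && Nat.beq jb j &&
        Nat.beq (step4 small u img0) (step4 small (vb ++ winv va) img0)
    | _, _ => false

/-- The test that a certificate shows the word `u` to fix the base `j`. -/
def chkGiven (certG : List (ℕ × List ℕ)) (j : ℕ) (u : List ℕ) : Bool := certG.contains (j, u)

/-- The tests on the generators of a base. -/
noncomputable def chkSrc (certG : List (ℕ × List ℕ)) (known good : List ℕ) (j : ℕ) :
    List (List ℕ) → List (Option Pair) → Bool
  | [], _ => true
  | u :: us, srcs =>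
    (match srcs.headD none with
      | none => chkGiven certG j u
      | some p => chkPair known good j u p) && chkSrc certG known good j us srcs.tail

/-- One step of the saturation. -/
noncomputable def stepEv (certK : List ℕ) (certG : List (ℕ × List ℕ)) (st : List ℕ × List ℕ) :
    Ev → Option (List ℕ × List ℕ)
  | .cert k => bif certK.contains k then some (k :: st.1, st.2) else none
  | .loop k cw un H vend =>
    bif Nat.blt k 101 && Nat.blt un 3 && chkC cw then
      match runT st.1 st.2 (usW un) (eI k) (eH k ++ cw) H with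
      | some (j3, v3) =>
        bif Nat.beq j3 (eJ k) && leq v3 vend &&
          Nat.beq (step4 small (eT k) img0) (step4 small (vend ++ winv cw) img0) then some (k :: st.1, st.2)
        else none
      | none => none
    else none
  | .good j src => bif Nat.blt j 9 && chkSrc certG st.1 st.2 j (gensI j) src then some (st.1, j :: st.2) else none

/-- The saturation. -/
noncomputable def runEv (certK : List ℕ) (certG : List (ℕ × List ℕ)) :
    List Ev → List ℕ × List ℕ → Option (List ℕ × List ℕ)
  | [], st => some st
  | e :: es, st =>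
    match stepEv certK certG st e with
    | none => none
    | some st' => runEv certK certG es st'

section Saturation

variable {A : Type*} [MulAction HP A] {S : Sem A}

theorem fw_pair (hBack : S.Back) (hFwd : ∀ p, S.tau (S.taui p) = p)
    (hUS : ∀ un < 3, ∀ p, S.fw (usW un) p = S.tau p) {pr : Pair} (hc : chkC pr.cw = true) (p : A) :
    S.fw (pairL pr) p = S.fw (pairL' pr) p := by
  have h5 : ∀ q, S.fw [5] q = S.tau q := fun q => by simp [Sem.fw, Sem.act]
  have h6 : ∀ q, S.fw [6] q = S.taui q := fun q => by simp [Sem.fw, Sem.act]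
  obtain ⟨hcl, hcm⟩ := chkC_get hc
  unfold pairL pairL'
  cases h0 : Nat.beq pr.kind 0 with
  | true =>
    simp only [cond_true]
    rw [h5]
    rcases Nat.lt_or_ge pr.un 3 with hu | hu
    · exact hUS _ hu p
    · rw [usW, List.getD_eq_default _ _ (by simpa using hu), h5]
  | false =>
    simp only [cond_false]
    cases h1 : Nat.beq pr.kind 1 with
    | true =>
      simp only [cond_true, S.fw_append, h5, h6, S.fw_small hcl]
      rw [S.comm _ hcm, hFwd]
    | false =>
      simp only [cond_false, S.fw_append, h5, h6, S.fw_small hcl]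
      rw [← S.comm _ hcm, hBack]

theorem chkPair_sound {known good : List ℕ} (hK : ∀ k ∈ known, k < 101 → S.Known k)
    (hG : ∀ j ∈ good, S.GoodB j) (hBack : S.Back) (hFwd : ∀ p, S.tau (S.taui p) = p)
    (hUS : ∀ un < 3, ∀ p, S.fw (usW un) p = S.tau p) {j : ℕ} {u : List ℕ} (hu : ∀ x ∈ u, x < 5) {pr : Pair}
    (h : chkPair known good j u pr = true) : wprod hs u • S.b j = S.b j := by
  simp only [chkPair, Bool.and_eq_true] at h
  obtain ⟨⟨h0, hc⟩, h⟩ := h
  have hv0 : ∀ x ∈ pr.v0, x < 5 := fun x hx => by simpa [Nat.blt] using List.all_eq_true.1 h0 x hx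
  cases ha : runT known good (pairL pr) pr.j0 pr.v0 pr.h1 with
  | none => rw [ha] at h; exact absurd h (by simp)
  | some ra =>
    cases hb : runT known good (pairL' pr) pr.j0 pr.v0 pr.h2 with
    | none => rw [ha, hb] at h; exact absurd h (by simp)
    | some rb =>
      obtain ⟨ja, va⟩ := ra
      obtain ⟨jb, vb⟩ := rb
      rw [ha, hb] at h
      simp only [Bool.and_eq_true] at h
      obtain ⟨⟨hja, hjb⟩, himg⟩ := h
      obtain ⟨hva, ea⟩ := runT_sound hK hG _ (Or.inr hBack) _ _ _ hv0 ha
      obtain ⟨hvb, eb⟩ := runT_sound hK hG _ (Or.inr hBack) _ _ _ hv0 hb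
      rw [fw_pair hBack hFwd hUS hc, eb, Nat.eq_of_beq_eq_true hja, Nat.eq_of_beq_eq_true hjb] at ea
      have e : wprod hs u = wprod hs (vb ++ winv va) := img_injective <| by
        rw [img_wprod hu, img_wprod (app_lt hvb (winv_lt hva))]
        exact Nat.eq_of_beq_eq_true himg
      rw [e, wprod_append, wprod_winv hLetters_hs hva, mul_smul]
      have ea' : (wprod hs vb)⁻¹ • S.b j = (wprod hs va)⁻¹ • S.b j := ea
      rw [← ea', smul_inv_smul]

theorem stepEv_sound (hBack : S.Back) (hFwd : ∀ p, S.tau (S.taui p) = p)
    (hUS : ∀ un < 3, ∀ p, S.fw (usW un) p = S.tau p) {certK : List ℕ} {certG : List (ℕ × List ℕ)}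
    (hcK : ∀ k ∈ certK, S.Known k) (hcG : ∀ q ∈ certG, wprod hs q.2 • S.b q.1 = S.b q.1)
    {st st' : List ℕ × List ℕ} {e : Ev} (hK : ∀ k ∈ st.1, k < 101 → S.Known k)
    (hG : ∀ j ∈ st.2, S.GoodB j) (h : stepEv certK certG st e = some st') :
    (∀ k ∈ st'.1, k < 101 → S.Known k) ∧ ∀ j ∈ st'.2, S.GoodB j := by
  cases e with
  | cert k =>
    rw [stepEv] at h
    cases hc : certK.contains k with
    | false => rw [hc, cond_false] at h; exact absurd h (by simp)
    | true =>
      rw [hc, cond_true, Option.some.injEq] at h
      subst h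
      exact ⟨List.forall_mem_cons.2 ⟨fun _ => hcK k (List.contains_iff_mem.1 hc), hK⟩, hG⟩
  | loop k cw un H vend =>
    rw [stepEv] at h
    cases hc : (Nat.blt k 101 && Nat.blt un 3 && chkC cw) with
    | false => rw [hc, cond_false] at h; exact absurd h (by simp)
    | true =>
      rw [hc, cond_true] at h
      simp only [Bool.and_eq_true] at hc
      obtain ⟨⟨hk, hun⟩, hcw⟩ := hc
      have hk : k < 101 := Nat.le_of_ble_eq_true hk
      cases hr : runT st.1 st.2 (usW un) (eI k) (eH k ++ cw) H with
      | none => rw [hr] at h; exact absurd h (by simp)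
      | some r =>
        obtain ⟨j3, v3⟩ := r
        rw [hr] at h
        simp only at h
        cases hh : (Nat.beq j3 (eJ k) && leq v3 vend &&
            Nat.beq (step4 small (eT k) img0) (step4 small (vend ++ winv cw) img0)) with
        | false => rw [hh, cond_false] at h; exact absurd h (by simp)
        | true =>
          rw [hh, cond_true, Option.some.injEq] at h
          subst h
          refine ⟨List.forall_mem_cons.2 ⟨fun _ => ?_, hK⟩, hG⟩
          simp only [Bool.and_eq_true] at hh
          obtain ⟨⟨hj3, hv3⟩, himg⟩ := hh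
          obtain ⟨hcl, hcm⟩ := chkC_get hcw
          obtain ⟨hH, hT, -⟩ := edge_facts k hk
          obtain ⟨hv, ev⟩ := runT_sound hK hG _ (Or.inr hBack) _ _ _ (app_lt hH hcl) hr
          rw [hUS un (Nat.le_of_ble_eq_true hun), S.pt_append, S.comm _ hcm,
            Nat.eq_of_beq_eq_true hj3, eq_of_leq _ _ hv3] at ev
          have hvend : ∀ x ∈ vend, x < 5 := eq_of_leq _ _ hv3 ▸ hv
          have e : wprod hs (eT k) = wprod hs (vend ++ winv cw) := img_injective <| by
            rw [img_wprod hT, img_wprod (app_lt hvend (winv_lt hcl))]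
            exact Nat.eq_of_beq_eq_true himg
          show S.tau (S.pt (eI k) (eH k)) = S.pt (eJ k) (eT k)
          rw [inv_smul_eq_iff] at ev
          rw [ev, Sem.pt, Sem.pt, e, wprod_append, wprod_winv hLetters_hs hcl, mul_inv_rev, inv_inv, mul_smul]
  | good j src =>
    rw [stepEv] at h
    cases hc : (Nat.blt j 9 && chkSrc certG st.1 st.2 j (gensI j) src) with
    | false => rw [hc, cond_false] at h; exact absurd h (by simp)
    | true =>
      rw [hc, cond_true, Option.some.injEq] at h
      subst h
      refine ⟨hK, List.forall_mem_cons.2 ⟨?_, hG⟩⟩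
      rw [Bool.and_eq_true] at hc
      have hj : j < 9 := Nat.le_of_ble_eq_true hc.1
      have main : ∀ (us : List (List ℕ)) (srcs : List (Option Pair)), (∀ u ∈ us, ∀ x ∈ u, x < 5) →
          chkSrc certG st.1 st.2 j us srcs = true → ∀ u ∈ us, wprod hs u • S.b j = S.b j := by
        intro us
        induction us with
        | nil => intro _ _ _ u hu; simp at hu
        | cons u0 us ih =>
          intro srcs hlt h u hu
          obtain ⟨hlt0, hlt⟩ := List.forall_mem_cons.1 hlt
          rw [chkSrc, Bool.and_eq_true] at h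
          rcases List.mem_cons.1 hu with rfl | hu
          · cases hd : srcs.headD none with
            | none =>
              have h1 := h.1
              rw [hd] at h1
              exact hcG (j, u) (List.contains_iff_mem.1 h1)
            | some p =>
              have h1 := h.1
              rw [hd] at h1
              exact chkPair_sound hK hG hBack hFwd hUS hlt0 h1
          · exact ih _ hlt h.2 u hu
      intro g hg
      have : Ki j ≤ MulAction.stabilizer HP (S.b j) := by
        rw [Ki, Subgroup.closure_le]
        rintro _ ⟨u, hu, rfl⟩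
        exact main _ _ (gensI_lt j hj) hc.2 u hu
      exact this hg

theorem runEv_sound (hBack : S.Back) (hFwd : ∀ p, S.tau (S.taui p) = p)
    (hUS : ∀ un < 3, ∀ p, S.fw (usW un) p = S.tau p) {certK : List ℕ} {certG : List (ℕ × List ℕ)}
    (hcK : ∀ k ∈ certK, S.Known k) (hcG : ∀ q ∈ certG, wprod hs q.2 • S.b q.1 = S.b q.1) :
    ∀ (es : List Ev) (st : List ℕ × List ℕ), (∀ k ∈ st.1, k < 101 → S.Known k) →
      (∀ j ∈ st.2, S.GoodB j) → ∀ {st' : List ℕ × List ℕ}, runEv certK certG es st = some st' →
        (∀ k ∈ st'.1, k < 101 → S.Known k) ∧ ∀ j ∈ st'.2, S.GoodB j := by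
  intro es
  induction es with
  | nil =>
    intro st hK hG st' h
    rw [runEv, Option.some.injEq] at h
    subst h
    exact ⟨hK, hG⟩
  | cons e es ih =>
    intro st hK hG st' h
    rw [runEv] at h
    cases hs' : stepEv certK certG st e with
    | none => rw [hs'] at h; exact absurd h (by simp)
    | some st1 =>
      rw [hs'] at h
      obtain ⟨hK1, hG1⟩ := stepEv_sound hBack hFwd hUS hcK hcG hK hG hs'
      exact ih st1 hK1 hG1 h

end Saturation

end CfsgLib.InvChar.SporHN
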