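import Cfsg.Agent.Lib.InvChar.SporHe
import Cfsg.Agent.Lib.InvChar.SporHeInvolData

/-!
# The involution `e` of the presented Held group has a centraliser of order at most 21504
-/

set_option autoImplicit false
set_option maxRecDepth 100000

namespace CfsgLib.InvChar.SporHeInvol

open CfsgLib.InvChar.Coset Cfsg.Spor

/-- A stabiliser chain level with matching upper bound: the orbit is exactly the listed one. -/
theorem orbit_exact {T : Table} {n : ℕ} (hn : T.n = n) {R : Subgroup (Equiv.Perm (Fin n))}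
    (hT : T.Realises R) {S : List (List ℕ)} (hS : ∀ L ∈ S, ∀ x ∈ L, x < T.g) {pts pos par : Tr}
    {m : ℕ} (hm : 0 < m) (hok : ∀ k < m, Table.OrbitOK T S pts pos par m k) (b : Fin n)
    (hb : (b : ℕ) = field pts 128 20 0) {N : ℕ}
    (hN : N ≤ Nat.card ↥(R ⊓ MulAction.stabilizer (Equiv.Perm (Fin n)) b)) (hN0 : 0 < N)
    (hR : Nat.card R ≤ m * N) :
    Nat.card ↥(R ⊓ MulAction.stabilizer (Equiv.Perm (Fin n)) b) = N ∧
      ∀ σ ∈ R, ∃ k < m, field pts 128 20 k = (σ b : ℕ) := by
  have hlift : ∀ g : ℕ, ∃ σ, g < S.length →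
      σ ∈ R ∧ ∀ i : Fin n, T.follow (S.getD g []) i = (σ i : ℕ) := by
    intro g
    rcases lt_or_ge g S.length with hg | hg
    · obtain ⟨σ, h1, h2⟩ := hT.follow T _ (hS _ (List.getElem_mem hg))
      exact ⟨σ, fun _ => ⟨h1, fun i => by rw [List.getD_eq_getElem _ _ hg]; exact h2 i⟩⟩
    · exact ⟨1, fun h => absurd h (by omega)⟩
  choose σ hσ using hlift
  let K := Subgroup.closure (σ '' Set.Iio S.length)
  have hK : K ≤ R := by
    rw [Subgroup.closure_le]; rintro _ ⟨g, hg, rfl⟩; exact (hσ g hg).1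
  obtain ⟨hc, hmem⟩ := Table.orbit_eq hn hm hok σ (fun g hg => (hσ g hg).2) K rfl b hb
  have hsub : MulAction.orbit K b ⊆ MulAction.orbit R b := by
    rintro _ ⟨k, rfl⟩; exact ⟨⟨k, hK k.2⟩, rfl⟩
  have h1 : m ≤ (MulAction.orbit R b).ncard := hc ▸ Set.ncard_le_ncard hsub (Set.toFinite _)
  have h2 : Nat.card R = (MulAction.orbit R b).ncard * Nat.card (MulAction.stabilizer R b) := by
    rw [← MulAction.index_stabilizer R b]
    exact ((MulAction.stabilizer R b).index_mul_card).symm
  have h3 : Nat.card (MulAction.stabilizer R b) =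
      Nat.card ↥(R ⊓ MulAction.stabilizer (Equiv.Perm (Fin n)) b) := by
    refine Nat.card_congr
      { toFun := fun x => ⟨(x.1 : Equiv.Perm (Fin n)), x.1.2, x.2⟩
        invFun := fun x => ⟨⟨x, x.2.1⟩, x.2.2⟩
        left_inv := fun x => rfl
        right_inv := fun x => rfl }
  rw [h3] at h2
  have hprod := le_antisymm hR (h2 ▸ Nat.mul_le_mul h1 hN)
  have hstab : Nat.card ↥(R ⊓ MulAction.stabilizer (Equiv.Perm (Fin n)) b) = N := by
    refine le_antisymm ?_ hN
    refine Nat.le_of_mul_le_mul_left ?_ hm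
    calc m * _ ≤ (MulAction.orbit R b).ncard * _ := Nat.mul_le_mul_right _ h1
      _ = m * N := by rw [← h2, hprod]
  refine ⟨hstab, fun ρ hρ => ?_⟩
  have hle : (MulAction.orbit R b).ncard ≤ (MulAction.orbit K b).ncard := by
    rw [hc]
    rw [hstab, hprod] at h2
    exact (Nat.eq_of_mul_eq_mul_right hN0 h2).ge
  have heq := Set.eq_of_subset_of_ncard_le hsub hle (Set.toFinite _)
  have hin : ρ b ∈ MulAction.orbit K b := heq ▸ ⟨⟨ρ, hρ⟩, rfl⟩
  exact (hmem _).1 hin

/-- Order of a subgroup from the possible images of a point. -/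
theorem card_le_images {n : ℕ} (S : Subgroup (Equiv.Perm (Fin n))) (b : Fin n) (l : List ℕ) {N : ℕ}
    (hl : ∀ σ ∈ S, (σ b : ℕ) ∈ l)
    (hN : Nat.card ↥(S ⊓ MulAction.stabilizer (Equiv.Perm (Fin n)) b) ≤ N) :
    Nat.card S ≤ l.length * N := by
  have h2 : Nat.card S = (MulAction.orbit S b).ncard * Nat.card (MulAction.stabilizer S b) := by
    rw [← MulAction.index_stabilizer S b]
    exact ((MulAction.stabilizer S b).index_mul_card).symm
  rw [h2]
  refine Nat.mul_le_mul ?_ (le_of_eq_of_le ?_ hN)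
  · have h : Fin.val '' MulAction.orbit S b ⊆ {x | x ∈ l} := by
      rintro _ ⟨_, ⟨σ, rfl⟩, rfl⟩; exact hl σ σ.2
    calc (MulAction.orbit S b).ncard = (Fin.val '' MulAction.orbit S b).ncard :=
          (Set.ncard_image_of_injective _ Fin.val_injective).symm
      _ ≤ {x | x ∈ l}.ncard := Set.ncard_le_ncard h (List.finite_toSet l)
      _ ≤ l.length := by
          classical
          rw [show {x | x ∈ l} = (l.toFinset : Set ℕ) by ext; simp, Set.ncard_coe_finset]
          exact l.toFinset_card_le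
  · refine Nat.card_congr
      { toFun := fun x => ⟨(x.1 : Equiv.Perm (Fin n)), x.1.2, x.2⟩
        invFun := fun x => ⟨⟨x, x.2.1⟩, x.2.2⟩
        left_inv := fun x => rfl
        right_inv := fun x => rfl }

/-- The range of the action on 2058 points. -/
noncomputable abbrev R0 : Subgroup (Equiv.Perm (Fin HeA.table.n)) := SporHe.rep.range

/-- The base points. -/
noncomputable def b0 : Fin HeA.table.n := ⟨0, by decide +kernel⟩
/-- The base points. -/
noncomputable def b1 : Fin HeA.table.n := ⟨1, by decide +kernel⟩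
/-- The base points. -/
noncomputable def b15 : Fin HeA.table.n := ⟨15, by decide +kernel⟩
/-- The base points. -/
noncomputable def b34 : Fin HeA.table.n := ⟨34, by decide +kernel⟩

/-- The stabiliser chain. -/
noncomputable abbrev R1 := R0 ⊓ MulAction.stabilizer (Equiv.Perm (Fin HeA.table.n)) b0
/-- The stabiliser chain. -/
noncomputable abbrev R2 := R1 ⊓ MulAction.stabilizer (Equiv.Perm (Fin HeA.table.n)) b1
/-- The stabiliser chain. -/
noncomputable abbrev R3 := R2 ⊓ MulAction.stabilizer (Equiv.Perm (Fin HeA.table.n)) b15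

theorem realises0 : HeA.table.Realises R0 :=
  Table.realises_range HeA.valid HeA.sq SporHe.gen SporHe.rep SporHe.rep_gen

theorem realises1 : HeA.tab1.Realises R1 :=
  (realises0.derived HeA.table HeA.tab1 HeA.words1 (by decide) (by decide +kernel)
    HeA.derived1).inf_stabilizer (T := HeA.tab1) b0 (by
      intro x hx; have hx : x < 4 := hx; revert x; decide +kernel)

theorem realises2 : HeA.tab2.Realises R2 :=
  (realises1.derived HeA.tab1 HeA.tab2 HeA.words2 (by decide) (by decide +kernel)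
    HeA.derived2).inf_stabilizer (T := HeA.tab2) b1 (by
      intro x hx; have hx : x < 4 := hx; revert x; decide +kernel)

theorem realises3 : HeA.tab3.Realises R3 :=
  (realises2.derived HeA.tab2 HeA.tab3 HeA.words3 (by decide) (by decide +kernel)
    HeA.derived3).inf_stabilizer (T := HeA.tab3) b15 (by
      intro x hx; have hx : x < 4 := hx; revert x; decide +kernel)

theorem card_R0 : Nat.card R0 = 4030387200 := by
  rw [← SporHe.card_eq.1]
  exact Nat.card_congr (MonoidHom.ofInjective SporHe.card_eq.2).toEquiv.symm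

theorem chain_facts :
    (∀ σ ∈ R1, ∃ k < 1360, field HeA.orb1Pts 128 20 k = (σ b1 : ℕ)) ∧
    (∀ σ ∈ R2, ∃ k < 360, field HeA.orb2Pts 128 20 k = (σ b15 : ℕ)) ∧
    (∀ σ ∈ R3, ∃ k < 4, field HeA.orb3Pts 128 20 k = (σ b34 : ℕ)) ∧
    R3 ⊓ MulAction.stabilizer (Equiv.Perm (Fin HeA.table.n)) b34 = ⊥ := by
  have p4 : 1 ≤ Nat.card ↥(R3 ⊓ MulAction.stabilizer (Equiv.Perm (Fin HeA.table.n)) b34) :=
    Nat.card_pos
  have c3 := Table.card_ge_step (T := HeA.tab3) (n := HeA.table.n) rfl realises3
    (S := [[0], [1], [2], [3]]) (by decide +kernel) (by decide) HeA.orbit3_ok b34 HeA.base3.symm p4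
  have c2 := Table.card_ge_step (T := HeA.tab2) (n := HeA.table.n) rfl realises2
    (S := [[0], [1], [2], [3]]) (by decide +kernel) (by decide) HeA.orbit2_ok b15 HeA.base2.symm c3
  have c1 := Table.card_ge_step (T := HeA.tab1) (n := HeA.table.n) rfl realises1
    (S := [[0], [1], [2], [3]]) (by decide +kernel) (by decide) HeA.orbit1_ok b1 HeA.base1.symm c2
  have e0 := orbit_exact (T := HeA.table) (n := HeA.table.n) rfl realises0
    (S := [[0], [1], [2], [3], [4], [5], [6]]) (by decide +kernel) (by decide) HeA.orbit0_ok b0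
    HeA.base0.symm c1 (by norm_num) (le_of_eq (card_R0.trans (by norm_num)))
  have e1 := orbit_exact (T := HeA.tab1) (n := HeA.table.n) rfl realises1
    (S := [[0], [1], [2], [3]]) (by decide +kernel) (by decide) HeA.orbit1_ok b1 HeA.base1.symm c2
    (by norm_num) (le_of_eq e0.1)
  have e2 := orbit_exact (T := HeA.tab2) (n := HeA.table.n) rfl realises2
    (S := [[0], [1], [2], [3]]) (by decide +kernel) (by decide) HeA.orbit2_ok b15 HeA.base2.symm c3
    (by norm_num) (le_of_eq e1.1)
  have e3 := orbit_exact (T := HeA.tab3) (n := HeA.table.n) rfl realises3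
    (S := [[0], [1], [2], [3]]) (by decide +kernel) (by decide) HeA.orbit3_ok b34 HeA.base3.symm p4
    (by norm_num) (le_of_eq e2.1)
  exact ⟨e1.2, e2.2, e3.2, Subgroup.card_eq_one.1 e3.1⟩

theorem words_lt :
    (∀ k < 360, ∀ x ∈ HeInvol.words15.getD k [], x < HeA.tab2.g) ∧
    (∀ l < 4, ∀ x ∈ HeInvol.words34.getD l [], x < HeA.tab3.g) := by
  have h15 : ∀ L ∈ HeInvol.words15, ∀ x ∈ L, x < HeA.tab2.g := by decide +kernel
  have h34 : ∀ L ∈ HeInvol.words34, ∀ x ∈ L, x < HeA.tab3.g := by decide +kernel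
  constructor
  · intro k _ x hx
    rcases lt_or_ge k HeInvol.words15.length with h | h
    · rw [List.getD_eq_getElem _ _ h] at hx; exact h15 _ (List.getElem_mem h) x hx
    · rw [List.getD_eq_default _ _ h] at hx; simp at hx
  · intro k _ x hx
    rcases lt_or_ge k HeInvol.words34.length with h | h
    · rw [List.getD_eq_getElem _ _ h] at hx; exact h34 _ (List.getElem_mem h) x hx
    · rw [List.getD_eq_default _ _ h] at hx; simp at hx

theorem words_hit :
    (∀ k < 360, HeA.tab2.follow (HeInvol.words15.getD k []) 15 = field HeA.orb2Pts 128 20 k) ∧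
    (∀ l < 4, HeA.tab3.follow (HeInvol.words34.getD l []) 34 = field HeA.orb3Pts 128 20 l) := by
  decide +kernel

/-- The image of a point under the element with a given number of the two point stabiliser. -/
noncomputable def eltApp (j i : ℕ) : ℕ :=
  force (j / 4) fun k => force (j % 4) fun l =>
    force (HeA.tab3.follow (HeInvol.words34.getD l []) i) fun i' =>
      HeA.tab2.follow (HeInvol.words15.getD k []) i'

/-- The element commutes with `e` at the two remaining base points. -/
noncomputable def commutesAt (j : ℕ) : Bool :=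
  Nat.beq (eltApp j (HeA.table.app 15 4)) (HeA.table.app (eltApp j 15) 4) &&
    Nat.beq (eltApp j (HeA.table.app 34 4)) (HeA.table.app (eltApp j 34) 4)

theorem count_commutes : ((List.range 1440).filter commutesAt).length = 32 := by decide +kernel

theorem exists_index {σ : Equiv.Perm (Fin HeA.table.n)} (hσ : σ ∈ R2) :
    ∃ j < 1440, ∀ i : Fin HeA.table.n, eltApp j i = (σ i : ℕ) := by
  obtain ⟨-, h15, h34, hbot⟩ := chain_facts
  obtain ⟨k, hk, hkσ⟩ := h15 σ hσ
  obtain ⟨τ, hτ, hτi⟩ := realises2.follow HeA.tab2 _ (words_lt.1 k hk)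
  have hρ : τ⁻¹ * σ ∈ R3 := by
    refine ⟨R2.mul_mem (R2.inv_mem hτ) hσ, ?_⟩
    show τ⁻¹ * σ ∈ MulAction.stabilizer _ b15
    rw [MulAction.mem_stabilizer_iff, Equiv.Perm.smul_def, Equiv.Perm.mul_apply, Equiv.Perm.inv_eq_iff_eq]
    refine Fin.ext ?_
    rw [← hkσ, ← hτi b15]
    exact (words_hit.1 k hk).symm
  obtain ⟨l, hl, hlρ⟩ := h34 _ hρ
  obtain ⟨υ, hυ, hυi⟩ := realises3.follow HeA.tab3 _ (words_lt.2 l hl)
  have hlast : υ⁻¹ * (τ⁻¹ * σ) = 1 := by
    rw [← Subgroup.mem_bot, ← hbot]
    refine ⟨R3.mul_mem (R3.inv_mem hυ) hρ, ?_⟩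
    show υ⁻¹ * (τ⁻¹ * σ) ∈ MulAction.stabilizer _ b34
    rw [MulAction.mem_stabilizer_iff, Equiv.Perm.smul_def, Equiv.Perm.mul_apply, Equiv.Perm.inv_eq_iff_eq]
    refine Fin.ext ?_
    rw [← hlρ, ← hυi b34]
    exact (words_hit.2 l hl).symm
  have hσeq : σ = τ * υ := by
    rw [inv_mul_eq_one] at hlast
    rw [hlast, mul_inv_cancel_left]
  refine ⟨4 * k + l, by omega, fun i => ?_⟩
  rw [eltApp, force_eq, force_eq, force_eq, show (4 * k + l) / 4 = k by omega,
    show (4 * k + l) % 4 = l by omega, hυi i, hτi, hσeq, Equiv.Perm.mul_apply]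

/-- The image of `e`. -/
noncomputable abbrev zP : Equiv.Perm (Fin HeA.table.n) := SporHe.rep (SporHe.gen 4)

theorem zP_apply (i : Fin HeA.table.n) : (zP i : ℕ) = HeA.table.app i 4 := by
  rw [zP, SporHe.rep_gen 4 (by decide)]
  exact HeA.valid.toPerm_apply HeA.sq (by decide) i

theorem card_pointwise_le :
    Nat.card ↥(R2 ⊓ Subgroup.centralizer {zP}) ≤ 32 := by
  classical
  choose j hj hji using fun x : ↥(R2 ⊓ Subgroup.centralizer {zP}) => exists_index x.2.1
  let L := (List.range 1440).filter commutesAt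
  have hmem : ∀ x, j x ∈ L := by
    intro x
    refine List.mem_filter.2 ⟨List.mem_range.2 (hj x), ?_⟩
    have hc : ∀ i, (x : Equiv.Perm (Fin HeA.table.n)) (zP i) = zP ((x : Equiv.Perm (Fin HeA.table.n)) i) := by
      intro i
      have := Subgroup.mem_centralizer_singleton_iff.1 x.2.2
      simpa using congrFun (congrArg DFunLike.coe this) i
    have key : ∀ b : Fin HeA.table.n,
        Nat.beq (eltApp (j x) (HeA.table.app b 4)) (HeA.table.app (eltApp (j x) b) 4) = true := by
      intro b
      rw [← zP_apply b, hji x (zP b), hc b, zP_apply, hji x b]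
      exact Nat.beq_refl _
    rw [commutesAt, Bool.and_eq_true]
    exact ⟨key b15, key b34⟩
  calc Nat.card ↥(R2 ⊓ Subgroup.centralizer {zP}) ≤ Nat.card {a // a ∈ L.toFinset} :=
        Nat.card_le_card_of_injective (fun x => ⟨j x, List.mem_toFinset.2 (hmem x)⟩) (by
          intro x y h
          have h' : j x = j y := congrArg Subtype.val h
          refine Subtype.ext (Equiv.ext fun i => Fin.ext ?_)
          rw [← hji x i, ← hji y i, h'])
    _ ≤ L.length := by rw [Nat.card_eq_fintype_card, Fintype.card_coe]; exact L.toFinset_card_le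
    _ = 32 := count_commutes

theorem fixed_count :
    ((List.range 2058).filter fun i => Nat.beq (HeA.table.app i 4) i).length = 42 := by
  decide +kernel

theorem fixed_suborbit : ∀ k < 1360, HeA.table.app (field HeA.orb1Pts 128 20 k) 4 =
    field HeA.orb1Pts 128 20 k → field HeA.orb1Pts 128 20 k ∈ HeInvol.fix16 := by
  decide +kernel

/-- **The centraliser of `e` has at most 21504 elements.** -/
theorem card_centralizer_le : Nat.card (Subgroup.centralizer ({SporHe.gen 4} : Set He)) ≤ 21504 := by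
  have hinj : Function.Injective SporHe.rep := SporHe.card_eq.2
  let S := R0 ⊓ Subgroup.centralizer {zP}
  have h0 : Nat.card (Subgroup.centralizer ({SporHe.gen 4} : Set He)) ≤ Nat.card S := by
    refine Nat.card_le_card_of_injective (fun x => ⟨SporHe.rep x.1, ⟨x.1, rfl⟩, ?_⟩) ?_
    · show SporHe.rep x.1 ∈ Subgroup.centralizer {zP}
      rw [Subgroup.mem_centralizer_singleton_iff, zP, ← map_mul, ← map_mul,
        Subgroup.mem_centralizer_singleton_iff.1 x.2]
    · intro x y h
      exact Subtype.ext (hinj (congrArg Subtype.val h))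
  have hfix : ∀ σ ∈ S, ∀ b : Fin HeA.table.n, zP b = b → zP (σ b) = σ b := by
    intro σ hσ b hb
    have h := Subgroup.mem_centralizer_singleton_iff.1 hσ.2
    have h' := congrFun (congrArg DFunLike.coe h) b
    simp only [Equiv.Perm.mul_apply, hb] at h'
    exact h'.symm
  have hb0 : zP b0 = b0 := Fin.ext (by rw [zP_apply]; decide +kernel)
  have hb1 : zP b1 = b1 := Fin.ext (by rw [zP_apply]; decide +kernel)
  let S1 := S ⊓ MulAction.stabilizer (Equiv.Perm (Fin HeA.table.n)) b0
  have hS2 : Nat.card ↥(S1 ⊓ MulAction.stabilizer (Equiv.Perm (Fin HeA.table.n)) b1) ≤ 32 := by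
    refine le_trans (le_of_eq (Nat.card_congr (Equiv.setCongr ?_))) card_pointwise_le
    ext σ
    simp only [S1, S, R2, R1, SetLike.mem_coe, Subgroup.mem_inf]
    tauto
  have hS1 : Nat.card S1 ≤ HeInvol.fix16.length * 32 := by
    refine card_le_images S1 b1 _ (fun σ hσ => ?_) hS2
    obtain ⟨k, hk, hkσ⟩ := chain_facts.1 σ ⟨hσ.1.1, hσ.2⟩
    rw [← hkσ]
    refine fixed_suborbit k hk ?_
    rw [hkσ, ← zP_apply, hfix σ hσ.1 b1 hb1]
  have hS : Nat.card S ≤ ((List.range 2058).filter fun i => Nat.beq (HeA.table.app i 4) i).length *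
      (HeInvol.fix16.length * 32) := by
    refine card_le_images S b0 _ (fun σ hσ => ?_) hS1
    refine List.mem_filter.2 ⟨List.mem_range.2 (σ b0).2, ?_⟩
    rw [← zP_apply, hfix σ hσ b0 hb0]
    exact Nat.beq_refl _
  rw [fixed_count, show HeInvol.fix16.length = 16 by decide +kernel] at hS
  exact h0.trans hS

end CfsgLib.InvChar.SporHeInvol
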