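import Mathlib.LinearAlgebra.Matrix.GeneralLinearGroup.Card
import Mathlib.LinearAlgebra.Matrix.Transvection
import Mathlib.LinearAlgebra.Matrix.SpecialLinearGroup
import Mathlib.Tactic

/-!
# The centraliser of a transvection in SL(5,2) as a permutation group on 16 affine points
-/

set_option autoImplicit false

namespace CfsgLib.InvChar.TransvFive

open Matrix

/-- The special linear group SL(5,2). -/
abbrev SL5 := Matrix.SpecialLinearGroup (Fin 5) (ZMod 2)

/-- The shape of a matrix commuting with the transvection. -/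
theorem shape {s : SL5} (hs : (s : Matrix (Fin 5) (Fin 5) (ZMod 2)) = Matrix.transvection 0 1 1)
    {A : SL5} (hA : A ∈ Subgroup.centralizer ({s} : Set SL5)) :
    (∀ i, i ≠ 0 → A i 0 = 0) ∧ (∀ j, j ≠ 1 → A 1 j = 0) ∧ A 0 0 = 1 ∧ A 1 1 = 1 := by
  have h : (A : Matrix (Fin 5) (Fin 5) (ZMod 2)) * (Matrix.single 0 1 1) =
      Matrix.single 0 1 1 * (A : Matrix (Fin 5) (Fin 5) (ZMod 2)) := by
    have h0 := congrArg (fun X : SL5 => (X : Matrix (Fin 5) (Fin 5) (ZMod 2)))
      (Subgroup.mem_centralizer_singleton_iff.1 hA)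
    simp only [Matrix.SpecialLinearGroup.coe_mul, hs, Matrix.transvection, mul_add, add_mul, mul_one,
      one_mul] at h0
    exact add_left_cancel h0
  have h1 : ∀ i, i ≠ (0 : Fin 5) → A i 0 = 0 := fun i hi => by
    have := congrFun (congrFun h i) 1
    rwa [Matrix.mul_single_apply_same, Matrix.single_mul_apply_of_ne _ _ _ _ _ hi, mul_one] at this
  have h2 : ∀ j, j ≠ (1 : Fin 5) → A 1 j = 0 := fun j hj => by
    have := congrFun (congrFun h 0) j
    rwa [Matrix.mul_single_apply_of_ne _ _ _ _ _ hj, Matrix.single_mul_apply_same, one_mul, eq_comm] at this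
  have h3 : A 0 0 = A 1 1 := by
    have := congrFun (congrFun h 0) 1
    rwa [Matrix.mul_single_apply_same, Matrix.single_mul_apply_same, mul_one, one_mul] at this
  have hdet := A.det_coe
  have h0 : A 0 0 = 1 := by
    rcases (by decide : ∀ x : ZMod 2, x = 0 ∨ x = 1) (A 0 0) with h | h
    · rw [Matrix.det_eq_zero_of_column_eq_zero 0 fun i => ?_] at hdet
      · exact absurd hdet zero_ne_one
      · by_cases hi : i = 0
        · rw [hi]; exact h
        · exact h1 i hi
    · exact h
  exact ⟨h1, h2, h0, h3 ▸ h0⟩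

/-- The vector with number `i`; its coordinate `1` is one. -/
def dec (i : Fin 16) : Fin 5 → ZMod 2 :=
  ![((i : ℕ) % 2 : ℕ), 1, ((i : ℕ) / 2 % 2 : ℕ), ((i : ℕ) / 4 % 2 : ℕ), ((i : ℕ) / 8 : ℕ)]

/-- The number of a vector. -/
def enc (v : Fin 5 → ZMod 2) : Fin 16 :=
  ⟨(v 0).val + 2 * (v 2).val + 4 * (v 3).val + 8 * (v 4).val, by
    have h0 := (v 0).val_lt; have h2 := (v 2).val_lt; have h3 := (v 3).val_lt; have h4 := (v 4).val_lt
    omega⟩

theorem enc_dec : ∀ i, enc (dec i) = i := by decide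

theorem dec_enc : ∀ v : Fin 5 → ZMod 2, v 1 = 1 → dec (enc v) = v := by decide

theorem dec_one : ∀ i, dec i 1 = 1 := by decide

/-- The action of a matrix on the 16 affine points. -/
def act (A : Matrix (Fin 5) (Fin 5) (ZMod 2)) (i : Fin 16) : Fin 16 := enc (A *ᵥ dec i)

section

variable {s : SL5} (hs : (s : Matrix (Fin 5) (Fin 5) (ZMod 2)) = Matrix.transvection 0 1 1)

include hs

theorem dec_act (A : ↥(Subgroup.centralizer ({s} : Set SL5))) (i : Fin 16) :
    dec (act (A : SL5) i) = ((A : SL5) : Matrix (Fin 5) (Fin 5) (ZMod 2)) *ᵥ dec i := by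
  refine dec_enc _ ?_
  obtain ⟨-, h2, -, h11⟩ := shape hs A.2
  simp [Matrix.mulVec, dotProduct, Fin.sum_univ_five, h2 0 (by decide), h2 2 (by decide),
    h2 3 (by decide), h2 4 (by decide), h11, dec_one]

theorem act_mul (A B : ↥(Subgroup.centralizer ({s} : Set SL5))) (i : Fin 16) :
    act ((A * B : ↥(Subgroup.centralizer ({s} : Set SL5))) : SL5) i = act (A : SL5) (act (B : SL5) i) := by
  show enc _ = enc _
  rw [dec_act hs B i, Matrix.mulVec_mulVec, Subgroup.coe_mul, Matrix.SpecialLinearGroup.coe_mul]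

omit hs in
theorem act_one (i : Fin 16) :
    act ((1 : ↥(Subgroup.centralizer ({s} : Set SL5))) : SL5) i = i := by
  show enc _ = i
  rw [Subgroup.coe_one, Matrix.SpecialLinearGroup.coe_one, Matrix.one_mulVec, enc_dec]

/-- The centraliser acting on 16 points. -/
def psi : ↥(Subgroup.centralizer ({s} : Set SL5)) →* Equiv.Perm (Fin 16) where
  toFun A :=
    { toFun := act (A : SL5)
      invFun := act ((A⁻¹ : ↥(Subgroup.centralizer ({s} : Set SL5))) : SL5)
      left_inv := fun i => by rw [← act_mul hs, inv_mul_cancel]; exact act_one i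
      right_inv := fun i => by rw [← act_mul hs, mul_inv_cancel]; exact act_one i }
  map_one' := by ext i; exact congrArg Fin.val (act_one i)
  map_mul' A B := by ext i; exact congrArg Fin.val (act_mul hs A B i)

theorem psi_apply (A : ↥(Subgroup.centralizer ({s} : Set SL5))) (i : Fin 16) :
    psi hs A i = act (A : SL5) i := rfl

theorem psi_injective : Function.Injective (psi hs) := by
  intro A B h
  refine Subtype.ext (Subtype.ext ?_)
  have hv : ∀ i j, ((A : SL5) : Matrix (Fin 5) (Fin 5) (ZMod 2)) *ᵥ dec i =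
      ((B : SL5) : Matrix (Fin 5) (Fin 5) (ZMod 2)) *ᵥ dec i ∨ j = i := fun i j => by
    left
    rw [← dec_act hs, ← dec_act hs, ← psi_apply hs, ← psi_apply hs, h]
  have hw : ∀ i r, (((A : SL5) : Matrix (Fin 5) (Fin 5) (ZMod 2)) *ᵥ dec i) r =
      (((B : SL5) : Matrix (Fin 5) (Fin 5) (ZMod 2)) *ᵥ dec i) r := fun i r => by
    rcases hv i (i + 1) with h' | h'
    · rw [h']
    · simp at h'
  have d0 : dec 0 = ![0, 1, 0, 0, 0] := by decide
  have d1 : dec 1 = ![1, 1, 0, 0, 0] := by decide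
  have d2 : dec 2 = ![0, 1, 1, 0, 0] := by decide
  have d4 : dec 4 = ![0, 1, 0, 1, 0] := by decide
  have d8 : dec 8 = ![0, 1, 0, 0, 1] := by decide
  ext r c
  have e0 := hw 0 r; have e1 := hw 1 r; have e2 := hw 2 r; have e4 := hw 4 r; have e8 := hw 8 r
  simp [d0, d1, d2, d4, d8, Matrix.mulVec, dotProduct, Fin.sum_univ_five] at e0 e1 e2 e4 e8
  rw [e0] at e1 e2 e4 e8
  fin_cases c
  · exact add_right_cancel e1
  · exact e0
  · exact add_left_cancel e2
  · exact add_left_cancel e4
  · exact add_left_cancel e8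

/-- The lower block of a matrix. -/
def block (A : Matrix (Fin 5) (Fin 5) (ZMod 2)) : Matrix (Fin 3) (Fin 3) (ZMod 2) :=
  A.submatrix ![2, 3, 4] ![2, 3, 4]

theorem block_mul (A B : ↥(Subgroup.centralizer ({s} : Set SL5))) :
    block ((A : SL5) : Matrix (Fin 5) (Fin 5) (ZMod 2)) * block ((B : SL5) : Matrix _ _ (ZMod 2)) =
      block (((A * B : ↥(Subgroup.centralizer ({s} : Set SL5))) : SL5) : Matrix _ _ (ZMod 2)) := by
  obtain ⟨ha, -, -, -⟩ := shape hs A.2
  obtain ⟨-, hb, -, -⟩ := shape hs B.2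
  have r0 : ∀ i : Fin 3, (A : SL5) (![2, 3, 4] i) 0 = 0 := fun i => ha _ (by revert i; decide)
  have r1 : ∀ j : Fin 3, (B : SL5) 1 (![2, 3, 4] j) = 0 := fun j => hb _ (by revert j; decide)
  ext i j
  rw [Subgroup.coe_mul, Matrix.SpecialLinearGroup.coe_mul]
  simp only [block, Matrix.mul_apply, Matrix.submatrix_apply, Fin.sum_univ_five, Fin.sum_univ_three,
    r0 i, r1 j]
  simp

/-- The centraliser of the transvection has at most 21504 elements. -/
theorem card_le : Nat.card ↥(Subgroup.centralizer ({s} : Set SL5)) ≤ 21504 := by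
  haveI : Fact (Nat.Prime 2) := ⟨Nat.prime_two⟩
  let g : ↥(Subgroup.centralizer ({s} : Set SL5)) → GL (Fin 3) (ZMod 2) × (Fin 7 → ZMod 2) := fun A =>
    (⟨block ((A : SL5) : Matrix _ _ (ZMod 2)),
      block (((A⁻¹ : ↥(Subgroup.centralizer ({s} : Set SL5))) : SL5) : Matrix _ _ (ZMod 2)),
      by rw [block_mul hs, mul_inv_cancel]; ext i j; fin_cases i <;> fin_cases j <;> rfl,
      by rw [block_mul hs, inv_mul_cancel]; ext i j; fin_cases i <;> fin_cases j <;> rfl⟩,
     ![(A : SL5) 0 1, (A : SL5) 0 2, (A : SL5) 0 3, (A : SL5) 0 4, (A : SL5) 2 1, (A : SL5) 3 1,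
      (A : SL5) 4 1])
  have hg : Function.Injective g := by
    intro A B h
    obtain ⟨a1, a2, a3, a4⟩ := shape hs A.2
    obtain ⟨b1, b2, b3, b4⟩ := shape hs B.2
    have hM : block ((A : SL5) : Matrix _ _ (ZMod 2)) = block ((B : SL5) : Matrix _ _ (ZMod 2)) :=
      congrArg (fun p : GL (Fin 3) (ZMod 2) × (Fin 7 → ZMod 2) => Units.val p.1) h
    have hf := congrArg Prod.snd h
    have hB : ∀ i j : Fin 3, (A : SL5) (![2, 3, 4] i) (![2, 3, 4] j) =
        (B : SL5) (![2, 3, 4] i) (![2, 3, 4] j) := fun i j => congrFun (congrFun hM i) j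
    refine Subtype.ext (Subtype.ext (Matrix.ext fun i j => ?_))
    fin_cases i <;> fin_cases j <;>
      first
        | exact a3.trans b3.symm
        | exact a4.trans b4.symm
        | exact (a1 _ (by decide)).trans (b1 _ (by decide)).symm
        | exact (a2 _ (by decide)).trans (b2 _ (by decide)).symm
        | exact congrFun hf 0 | exact congrFun hf 1 | exact congrFun hf 2 | exact congrFun hf 3
        | exact congrFun hf 4 | exact congrFun hf 5 | exact congrFun hf 6
        | exact hB 0 0 | exact hB 0 1 | exact hB 0 2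
        | exact hB 1 0 | exact hB 1 1 | exact hB 1 2
        | exact hB 2 0 | exact hB 2 1 | exact hB 2 2
  refine (Nat.card_le_card_of_injective g hg).trans (le_of_eq ?_)
  rw [Nat.card_prod, Matrix.card_GL_field, Nat.card_fun, Nat.card_fin, Nat.card_zmod, Fintype.card_eq_nat_card,
    Nat.card_zmod]
  simp [Fin.prod_univ_three]

end

end CfsgLib.InvChar.TransvFive
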