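import Cfsg.Agent.Lib.InvChar.SporHeInvolBound
import Cfsg.Agent.Lib.InvChar.TransvectionCentFive

/-!
# Kernel checks for the involution centraliser of the Held group
-/

set_option autoImplicit false
set_option maxRecDepth 100000

namespace CfsgLib.InvChar.SporHeInvol

open CfsgLib.InvChar.Coset Cfsg.Spor

theorem n_eq : HeA.table.n = 2058 := rfl

/-- A Boolean property holds at `cnt` numbers from `i`. -/
noncomputable def allFrom (p : ℕ → Bool) (cnt : ℕ) : ℕ → Bool :=
  Nat.rec (fun _ => true) (fun _ ih i => p i && force (i + 1) ih) cnt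

theorem allFrom_get (p : ℕ → Bool) : ∀ (cnt i : ℕ), allFrom p cnt i = true →
    ∀ j, i ≤ j → j < i + cnt → p j = true := by
  intro cnt
  induction cnt with
  | zero => intro i _ j h1 h2; omega
  | succ cnt ih =>
    intro i h j h1 h2
    have h' : (p i && force (i + 1) (fun i' => allFrom p cnt i')) = true := h
    rw [Bool.and_eq_true, force_eq] at h'
    rcases eq_or_lt_of_le h1 with rfl | h3
    · exact h'.1
    · exact ih _ h'.2 j h3 (by omega)

/-- The pairs. -/
noncomputable def pairX (k : ℕ) : ℕ := field HeInvol.ptX 128 20 k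
/-- The pairs. -/
noncomputable def pairY (k : ℕ) : ℕ := field HeInvol.ptY 128 20 k
/-- The point under a pair. -/
noncomputable def pairPi (k : ℕ) : ℕ := field HeInvol.ptPi 128 20 k

theorem pair_range : ∀ k < 5376, pairX k < 2058 ∧ pairY k < 2058 ∧ pairPi k < 16 := by
  intro k hk
  have h := allFrom_get (fun k => Nat.blt (pairX k) 2058 && Nat.blt (pairY k) 2058 && Nat.blt (pairPi k) 16)
    5376 0 (by decide +kernel) k (Nat.zero_le _) (by omega)
  simp only [Bool.and_eq_true] at h
  obtain ⟨⟨h1, h2⟩, h3⟩ := h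
  exact ⟨Nat.le_of_ble_eq_true h1, Nat.le_of_ble_eq_true h2, Nat.le_of_ble_eq_true h3⟩

theorem pair_increasing : ∀ k < 5375,
    pairX k * 2058 + pairY k < pairX (k + 1) * 2058 + pairY (k + 1) := by
  intro k hk
  exact Nat.le_of_ble_eq_true (allFrom_get
    (fun k => Nat.blt (pairX k * 2058 + pairY k) (pairX (k + 1) * 2058 + pairY (k + 1)))
    5375 0 (by decide +kernel) k (Nat.zero_le _) (by omega))

theorem witness : ∀ i : Fin 16, HeInvol.wit.getD i 0 < 5376 ∧ pairPi (HeInvol.wit.getD i 0) = i := by
  decide +kernel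

theorem kWords_lt : ∀ j : Fin 3, ∀ x ∈ HeInvol.kWords.getD j [], x < 7 := by decide +kernel

/-- One step of the commutation check. -/
noncomputable def chkComm (L : List ℕ) (i : ℕ) : Bool :=
  Nat.beq (HeA.table.app (HeA.table.follow L i) 4) (HeA.table.follow L (HeA.table.app i 4))

theorem kWords_comm : ∀ j : Fin 3, ∀ i < 2058,
    HeA.table.app (HeA.table.follow (HeInvol.kWords.getD j []) i) 4 =
      HeA.table.follow (HeInvol.kWords.getD j []) (HeA.table.app i 4) := by
  intro j i hi
  have h : allFrom (chkComm (HeInvol.kWords.getD j [])) 2058 0 = true := by revert j; decide +kernel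
  exact Nat.eq_of_beq_eq_true (allFrom_get _ 2058 0 h i (Nat.zero_le _) (by omega))

/-- The three matrices. -/
noncomputable def mat (j : Fin 3) : Matrix (Fin 5) (Fin 5) (ZMod 2) :=
  Matrix.of fun r c => ((((HeInvol.mats.getD j []).getD r []).getD c 0 : ℕ) : ZMod 2)

theorem mat_det : ∀ j : Fin 3, (mat j).det = 1 := by decide +kernel

theorem mat_comm : ∀ j : Fin 3, mat j * Matrix.transvection 0 1 1 = Matrix.transvection 0 1 1 * mat j := by
  decide +kernel

theorem mat_act : ∀ j : Fin 3, ∀ i : Fin 16,
    (TransvFive.act (mat j) i : ℕ) = HeInvol.tab0.app i j := by decide +kernel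

/-- The next pair. -/
noncomputable def nextPair : Fin 3 → ℕ → ℕ :=
  ![fun k => field HeInvol.next0 128 20 k, fun k => field HeInvol.next1 128 20 k,
    fun k => field HeInvol.next2 128 20 k]

/-- One step of the equivariance check. -/
noncomputable def chkNext (L : List ℕ) (x : ℕ) (next : ℕ → ℕ) (k : ℕ) : Bool :=
  force (next k) fun j => Nat.blt j 5376 && Nat.beq (HeA.table.follow L (pairX k)) (pairX j) &&
    Nat.beq (HeA.table.follow L (pairY k)) (pairY j) &&
    Nat.beq (pairPi j) (HeInvol.tab0.app (pairPi k) x)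

theorem next_ok : ∀ j : Fin 3, ∀ k < 5376,
    chkNext (HeInvol.kWords.getD j []) j (nextPair j) k = true := by
  intro j k hk
  have h : allFrom (chkNext (HeInvol.kWords.getD j []) j (nextPair j)) 5376 0 = true := by
    revert j; decide +kernel
  exact allFrom_get _ 5376 0 h k (Nat.zero_le _) (by omega)

end CfsgLib.InvChar.SporHeInvol
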