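import Cfsg.Agent.Lib.InvChar.SporHeInvolBound
import Cfsg.Agent.Lib.InvChar.SporHeInvolChecks
import Cfsg.Agent.Lib.InvChar.SporHeAutData
import Cfsg.Agent.Lib.InvChar.SporData.HeA.Suborbits

/-!
# The centraliser of the pair `a, b` in the Held group, and the elements that can replace `d`

The generators are first conjugated so that `a` fixes the first three base points and `b` the first.
-/

set_option autoImplicit false
set_option maxRecDepth 100000

namespace CfsgLib.InvChar.SporHeInvol

open CfsgLib.InvChar.Coset Cfsg.Spor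

/-- The element of a word, acting as `follow`. -/
noncomputable def wElt (L : List ℕ) : He := (wprod SporHe.gen L)⁻¹

theorem rep_wElt (L : List ℕ) (hL : ∀ x ∈ L, x < 7) (i : Fin HeA.table.n) :
    (SporHe.rep (wElt L) i : ℕ) = HeA.table.follow L i := by
  rw [wElt, map_inv, map_wprod SporHe.rep SporHe.gen SporHe.perm L fun x hx => SporHe.rep_gen x (hL x hx)]
  exact (HeA.valid.follow_eq HeA.sq L hL i).symm

theorem wprod_reverse : ∀ L : List ℕ, wprod SporHe.gen L.reverse = (wprod SporHe.gen L : He)⁻¹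
  | [] => by simp [wprod]
  | x :: L => by
    have ih := wprod_reverse L
    have hi : (SporHe.gen x : He)⁻¹ = SporHe.gen x := inv_eq_of_mul_eq_one_right (SporHe.gen_mul_self x)
    simp only [wprod, List.reverse_cons, List.map_append, List.prod_append, List.map_cons, List.map_nil,
      List.prod_cons, List.prod_nil, mul_one, mul_inv_rev] at ih ⊢
    rw [ih, hi]

/-- The conjugating element. -/
noncomputable def uElt : He := wElt HeAut.uWord

/-- The word of a conjugated generator. -/
noncomputable def cw (x : ℕ) : List ℕ := HeAut.uWord.reverse ++ [x] ++ HeAut.uWord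

/-- A conjugated generator. -/
noncomputable def cgen (x : ℕ) : He := wElt (cw x)

theorem cgen_eq (x : ℕ) : cgen x = MulAut.conj uElt (SporHe.gen x) := by
  rw [MulAut.conj_apply, cgen, uElt, wElt, wElt, cw]
  rw [show wprod SporHe.gen (HeAut.uWord.reverse ++ [x] ++ HeAut.uWord) =
      wprod SporHe.gen HeAut.uWord.reverse * SporHe.gen x * (wprod SporHe.gen HeAut.uWord : He) by
    simp [wprod, mul_assoc], wprod_reverse, mul_inv_rev, mul_inv_rev, inv_inv,
    inv_eq_of_mul_eq_one_right (SporHe.gen_mul_self x)]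
  group

theorem uWord_lt : ∀ x ∈ HeAut.uWord, x < 7 := by decide +kernel

theorem cw_lt {x : ℕ} (hx : x < 7) : ∀ y ∈ cw x, y < 7 := by
  intro y hy
  simp only [cw, List.mem_append, List.mem_reverse, List.mem_singleton] at hy
  rcases hy with (hy | hy) | hy
  · exact uWord_lt y hy
  · omega
  · exact uWord_lt y hy

/-- The action of a conjugated generator. -/
noncomputable def cApp (x i : ℕ) : ℕ := HeA.table.follow (cw x) i

theorem rep_cgen {x : ℕ} (hx : x < 7) (i : Fin HeA.table.n) : (SporHe.rep (cgen x) i : ℕ) = cApp x i :=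
  rep_wElt _ (cw_lt hx) i

/-- Elements agreeing at the four base points are equal. -/
theorem eq_of_base {g h : He}
    (hb : ∀ b ∈ [b0, b1, b15, b34], SporHe.rep g b = SporHe.rep h b) : g = h := by
  have hb' : ∀ b ∈ [b0, b1, b15, b34], SporHe.rep (h⁻¹ * g) b = b := fun b hm => by
    rw [map_mul, map_inv, Equiv.Perm.mul_apply, hb b hm]
    exact (SporHe.rep h).symm_apply_apply b
  have : SporHe.rep (h⁻¹ * g) ∈ R3 ⊓ MulAction.stabilizer (Equiv.Perm (Fin HeA.table.n)) b34 :=
    ⟨⟨⟨⟨_, rfl⟩, hb' b0 (by simp)⟩, hb' b1 (by simp)⟩, hb' b15 (by simp)⟩ |> fun h3 =>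
      ⟨h3, hb' b34 (by simp)⟩
  rw [chain_facts.2.2.2, Subgroup.mem_bot] at this
  exact (inv_mul_eq_one.1 (SporHe.card_eq.2 (by rw [this, map_one]))).symm

/-- An element fixing the first point lies in the subgroup of index 2058. -/
theorem mem_H_of_fix {h : He} (hh : SporHe.rep h b0 = b0) : h ∈ SporHe.H := by
  obtain ⟨e, he0, he⟩ := SporHe.index_H.2
  have h1 := he h ⟨0, HeA.covered.hn⟩
  rw [show SporHe.rep h ⟨0, HeA.covered.hn⟩ = ⟨0, HeA.covered.hn⟩ from hh, he0] at h1
  have h2 : ((h * 1 : He) : He ⧸ SporHe.H) = ((1 : He) : He ⧸ SporHe.H) := h1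
  rw [mul_one, QuotientGroup.eq, mul_one] at h2
  exact inv_mem_iff.1 h2

/-- The suborbit of 136 points containing the fixed point 513 is invariant. -/
theorem suborbit_inv {h : He} (hh : SporHe.rep h b0 = b0) (q : Fin HeA.table.n) (hq : (q : ℕ) = 513) :
    ∃ k < 136, field HeA.sub3Pts 128 20 k = (SporHe.rep h q : ℕ) := by
  obtain ⟨e, -, he⟩ := SporHe.index_H.2
  obtain ⟨-, hmem⟩ := suborbit_of_cert HeA.table rfl HeA.valid HeA.sq SporHe.gen SporHe.rep SporHe.rep_gen
    e he (S := HeA.subs) (by decide +kernel) SporHe.H rfl (by norm_num : 0 < 136) HeA.sub3_ok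
    (⟨65, by decide +kernel⟩ : Fin HeA.table.n) HeA.sub3_root.symm
  have h513 : ∃ k < 136, field HeA.sub3Pts 128 20 k = 513 := by decide +kernel
  obtain ⟨⟨k0, hk0⟩, hk0'⟩ := (hmem q).2 (by rw [hq]; exact h513)
  refine (hmem _).1 ⟨⟨h * k0, mul_mem (mem_H_of_fix hh) hk0⟩, ?_⟩
  rw [← he h q, ← hk0']
  exact mul_smul h k0 _

theorem fixed_list : allFrom (fun i => bif Nat.beq (cApp 0 i) i && Nat.beq (cApp 1 i) i
    then HeAut.fix14.contains i else true) 2058 0 = true := by decide +kernel

theorem fix14_split : ∀ p ∈ HeAut.fix14,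
    (∃ i < 7, HeAut.good7.getD i 0 = p) ∨ ∃ i < 7, HeAut.bad7.getD i 0 = p := by decide +kernel

theorem bad_words : ∀ i < 7, (∀ x ∈ HeAut.bad7Words.getD i [], x < 7) ∧
    HeA.table.follow (HeAut.bad7Words.getD i []) 0 = HeAut.bad7.getD i 0 := by decide +kernel

theorem bad_ok : allFrom (fun i => allFrom (fun k =>
    !(HeAut.fix14.contains (HeA.table.follow (HeAut.bad7Words.getD i []) (field HeA.sub3Pts 128 20 k))))
      136 0) 7 0 = true := by decide +kernel

/-- The word reaching one of the seven points. -/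
noncomputable def kWord (i : ℕ) : List ℕ :=
  HeAut.uWord.reverse ++ HeAut.good7Words.getD i [] ++ HeAut.uWord

theorem good_words : ∀ i < 7, (∀ x ∈ kWord i, x < 7) ∧
    HeA.table.follow (kWord i) 0 = HeAut.good7.getD i 0 ∧
    ∀ b ∈ [0, 1, 15, 34], ∀ x ∈ [0, 1],
      HeA.table.follow (kWord i) (cApp x b) = cApp x (HeA.table.follow (kWord i) b) := by decide +kernel

theorem cand_ok : allFrom (fun k => force (field HeA.orb1Pts 128 20 k) fun x =>
    bif Nat.beq (cApp 0 x) x then HeAut.cand76.contains x else true) 1360 0 = true := by decide +kernel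

theorem cand_words : ∀ i < 76, (∀ x ∈ HeAut.cand76Words.getD i [], x < HeA.tab1.g) ∧
    HeA.tab1.follow (HeAut.cand76Words.getD i []) 1 = HeAut.cand76.getD i 0 := by decide +kernel

theorem cand_length : HeAut.cand76.length = 76 := by decide +kernel

theorem eltApp_fifteen : allFrom (fun j => Nat.beq (eltApp j 15) (field HeA.orb2Pts 128 20 (j / 4))) 1440 0 =
    true := by decide +kernel

/-- An element fixing the first point, by candidate and number. -/
noncomputable def stabApp (t p : ℕ) : ℕ :=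
  force (eltApp (t % 1440) p) fun q => HeA.tab1.follow (HeAut.cand76Words.getD (t / 1440) []) q

/-- It commutes with the two conjugated generators at a point. -/
noncomputable def commAB (t b : ℕ) : Bool :=
  Nat.beq (stabApp t (cApp 0 b)) (cApp 0 (stabApp t b)) &&
    Nat.beq (stabApp t (cApp 1 b)) (cApp 1 (stabApp t b))

theorem stab_search : allFrom (fun i => allFrom (fun k =>
    force (HeA.tab1.follow (HeAut.cand76Words.getD i []) (field HeA.orb2Pts 128 20 k)) fun x =>
      bif Nat.beq (cApp 0 x) x then allFrom (fun l => force (1440 * i + (4 * k + l)) fun t =>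
        bif commAB t 1 && commAB t 15 && commAB t 34 then HeAut.stab48.contains t else true) 4 0
      else true) 360 0) 76 0 = true := by decide +kernel

/-- An element of the centraliser of the pair. -/
noncomputable def pairApp (i t p : ℕ) : ℕ :=
  force (stabApp t p) fun q => HeA.table.follow (kWord i) q

/-- Every element centralising the conjugates of `a` and `b` is one of the 336 listed ones. -/
theorem pair_cent (h : He) (hA : h * cgen 0 = cgen 0 * h) (hB : h * cgen 1 = cgen 1 * h) :
    ∃ i < 7, ∃ t ∈ HeAut.stab48, ∀ p : Fin HeA.table.n, (SporHe.rep h p : ℕ) = pairApp i t p := by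
  have hcomm : ∀ (g : He) (x : ℕ), x < 7 → g * cgen x = cgen x * g → ∀ p : Fin HeA.table.n,
      (SporHe.rep g (SporHe.rep (cgen x) p) : ℕ) = cApp x (SporHe.rep g p) := by
    intro g x hx e p
    rw [← Equiv.Perm.mul_apply, ← map_mul, e, map_mul, Equiv.Perm.mul_apply, rep_cgen hx]
  have hfix : ∀ (g : He) (x : ℕ), x < 7 → g * cgen x = cgen x * g → ∀ p : Fin HeA.table.n,
      cApp x p = p → cApp x (SporHe.rep g p) = SporHe.rep g p := by
    intro g x hx e p hp
    rw [← hcomm g x hx e p, show SporHe.rep (cgen x) p = p from Fin.ext ((rep_cgen hx p).trans hp)]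
  have hlt : ∀ p : Fin HeA.table.n, (p : ℕ) < 0 + 2058 := fun p =>
    lt_of_lt_of_eq p.2 (n_eq.trans (Nat.zero_add _).symm)
  have hin : ∀ p : Fin HeA.table.n, cApp 0 p = p → cApp 1 p = p → (p : ℕ) ∈ HeAut.fix14 := by
    intro p h0 h1
    have e := allFrom_get _ 2058 0 fixed_list p (Nat.zero_le _) (hlt p)
    rw [show (Nat.beq (cApp 0 p) p && Nat.beq (cApp 1 p) p) = true by
      rw [h0, h1, Bool.and_eq_true]; exact ⟨Nat.beq_refl _, Nat.beq_refl _⟩] at e
    simpa using e
  have hb0 : cApp 0 b0 = b0 ∧ cApp 1 b0 = b0 := by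
    constructor <;> decide +kernel
  have h0mem := hin _ (hfix h 0 (by norm_num) hA b0 hb0.1) (hfix h 1 (by norm_num) hB b0 hb0.2)
  rcases fix14_split _ h0mem with ⟨i, hi, hip⟩ | ⟨i, hi, hip⟩
  swap
  · exfalso
    obtain ⟨hlt', hv⟩ := bad_words i hi
    let v := wElt (HeAut.bad7Words.getD i [])
    have hfix0 : SporHe.rep (v⁻¹ * h) b0 = b0 := by
      rw [map_mul, map_inv, Equiv.Perm.mul_apply, Equiv.Perm.inv_eq_iff_eq]
      refine Fin.ext ?_
      rw [rep_wElt _ hlt', ← hip]
      exact hv.symm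
    have hq : (513 : ℕ) < HeA.table.n := by decide +kernel
    obtain ⟨k, hk, hkq⟩ := suborbit_inv hfix0 ⟨513, hq⟩ rfl
    have h513 : cApp 0 513 = 513 ∧ cApp 1 513 = 513 := by
      constructor <;> decide +kernel
    have hin513 := hin _ (hfix h 0 (by norm_num) hA ⟨513, hq⟩ h513.1)
      (hfix h 1 (by norm_num) hB ⟨513, hq⟩ h513.2)
    have hb := allFrom_get _ 136 0 (allFrom_get _ 7 0 bad_ok i (Nat.zero_le _) (by omega)) k
      (Nat.zero_le _) (by omega)
    rw [hkq, ← rep_wElt _ hlt', ← Equiv.Perm.mul_apply, ← map_mul, mul_inv_cancel_left] at hb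
    simp only [Bool.not_eq_true', List.contains_eq_mem, decide_eq_false_iff_not] at hb
    exact hb hin513
  obtain ⟨hklt, hk0, hkc⟩ := good_words i hi
  have hbase : ∀ x ∈ [0, 1], wElt (kWord i) * cgen x = cgen x * wElt (kWord i) := by
    intro x hx
    have hx7 : x < 7 := by revert x; decide
    refine eq_of_base fun b hb => Fin.ext ?_
    rw [map_mul, map_mul, Equiv.Perm.mul_apply, Equiv.Perm.mul_apply, rep_wElt _ hklt, rep_cgen hx7,
      rep_cgen hx7, rep_wElt _ hklt]
    refine hkc b ?_ x hx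
    simp only [List.mem_cons, List.not_mem_nil, or_false] at hb ⊢
    rcases hb with rfl | rfl | rfl | rfl
    · exact Or.inl rfl
    · exact Or.inr (Or.inl rfl)
    · exact Or.inr (Or.inr (Or.inl rfl))
    · exact Or.inr (Or.inr (Or.inr rfl))
  let s : He := (wElt (kWord i))⁻¹ * h
  have hsc : ∀ x ∈ [0, 1], s * cgen x = cgen x * s := by
    intro x hx
    have e : h * cgen x = cgen x * h := by
      simp only [List.mem_cons, List.not_mem_nil, or_false] at hx
      rcases hx with rfl | rfl
      · exact hA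
      · exact hB
    calc s * cgen x = (wElt (kWord i))⁻¹ * (cgen x * h) := by rw [← e]; simp [s, mul_assoc]
      _ = (wElt (kWord i))⁻¹ * (cgen x * wElt (kWord i)) * s := by simp [s, mul_assoc]
      _ = (wElt (kWord i))⁻¹ * (wElt (kWord i) * cgen x) * s := by rw [hbase x hx]
      _ = cgen x * s := by simp [mul_assoc]
  have hs0 : SporHe.rep s b0 = b0 := by
    simp only [s]
    rw [map_mul, map_inv, Equiv.Perm.mul_apply, Equiv.Perm.inv_eq_iff_eq]
    refine Fin.ext ?_
    rw [rep_wElt _ hklt, ← hip]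
    exact hk0.symm
  have hs1 : SporHe.rep s ∈ R1 := ⟨⟨s, rfl⟩, hs0⟩
  obtain ⟨k1, hk1, hk1e⟩ := chain_facts.1 _ hs1
  have hA1 : cApp 0 b1 = b1 ∧ cApp 0 b15 = b15 := by constructor <;> decide +kernel
  have hf1 := hfix s 0 (by norm_num) (hsc 0 (by simp)) b1 hA1.1
  have hcand := allFrom_get _ 1360 0 cand_ok k1 (Nat.zero_le _) (by omega)
  rw [force_eq, hk1e, hf1, show Nat.beq (SporHe.rep s b1 : ℕ) (SporHe.rep s b1) = true from Nat.beq_refl _] at hcand
  simp only [cond_true, List.contains_eq_mem, decide_eq_true_eq] at hcand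
  obtain ⟨c, hc, hce⟩ := List.mem_iff_getElem.1 hcand
  rw [cand_length] at hc
  obtain ⟨hclt, hc1⟩ := cand_words c hc
  rw [List.getD_eq_getElem HeAut.cand76 0 (by rw [cand_length]; exact hc), hce] at hc1
  obtain ⟨τ, hτ, hτi⟩ := realises1.follow HeA.tab1 _ hclt
  have hρ : τ⁻¹ * SporHe.rep s ∈ R2 := by
    refine ⟨R1.mul_mem (R1.inv_mem hτ) hs1, ?_⟩
    show τ⁻¹ * SporHe.rep s ∈ MulAction.stabilizer _ b1
    rw [MulAction.mem_stabilizer_iff, Equiv.Perm.smul_def, Equiv.Perm.mul_apply, Equiv.Perm.inv_eq_iff_eq]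
    refine Fin.ext ?_
    rw [← hτi b1]
    exact hc1.symm
  obtain ⟨j, hj, hji⟩ := exists_index hρ
  have happ : ∀ p : Fin HeA.table.n, (SporHe.rep s p : ℕ) = stabApp (1440 * c + j) p := by
    intro p
    rw [stabApp, force_eq, show (1440 * c + j) % 1440 = j by omega, show (1440 * c + j) / 1440 = c by omega,
      hji, hτi, ← Equiv.Perm.mul_apply, mul_inv_cancel_left]
  have hk : j / 4 < 360 := by omega
  have hs := allFrom_get _ 360 0 (allFrom_get _ 76 0 stab_search c (Nat.zero_le _) (by omega)) (j / 4)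
    (Nat.zero_le _) (by omega)
  have e15 : HeA.tab1.follow (HeAut.cand76Words.getD c []) (field HeA.orb2Pts 128 20 (j / 4)) =
      (SporHe.rep s b15 : ℕ) := by
    rw [happ, stabApp, force_eq, show (1440 * c + j) % 1440 = j by omega,
      show (1440 * c + j) / 1440 = c by omega,
      show ((b15 : Fin HeA.table.n) : ℕ) = 15 from rfl,
      Nat.eq_of_beq_eq_true (allFrom_get _ 1440 0 eltApp_fifteen j (Nat.zero_le _) (by omega))]
  have hf15 := hfix s 0 (by norm_num) (hsc 0 (by simp)) b15 hA1.2
  rw [force_eq, e15, hf15, show Nat.beq (SporHe.rep s b15 : ℕ) (SporHe.rep s b15) = true from Nat.beq_refl _] at hs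
  simp only [cond_true] at hs
  have hl := allFrom_get _ 4 0 hs (j % 4) (Nat.zero_le _) (by omega)
  rw [force_eq, show 1440 * c + (4 * (j / 4) + j % 4) = 1440 * c + j by omega] at hl
  have hck : ∀ b : Fin HeA.table.n, commAB (1440 * c + j) b = true := by
    intro b
    rw [commAB, Bool.and_eq_true]
    have e : ∀ x ∈ [0, 1], x < 7 →
        stabApp (1440 * c + j) (cApp x b) = cApp x (stabApp (1440 * c + j) b) := by
      intro x hx hx7
      rw [← rep_cgen hx7 b, ← happ, ← happ, hcomm s x hx7 (hsc x hx) b]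
    constructor
    · rw [e 0 (by simp) (by norm_num)]; exact Nat.beq_refl _
    · rw [e 1 (by simp) (by norm_num)]; exact Nat.beq_refl _
  rw [show commAB (1440 * c + j) 1 = true from hck b1, show commAB (1440 * c + j) 15 = true from hck b15,
    show commAB (1440 * c + j) 34 = true from hck b34] at hl
  simp only [Bool.and_self, cond_true, List.contains_eq_mem, decide_eq_true_eq] at hl
  refine ⟨i, hi, _, hl, fun p => ?_⟩
  rw [pairApp, force_eq, ← happ, ← rep_wElt _ hklt, ← Equiv.Perm.mul_apply, ← map_mul, mul_inv_cancel_left]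

/-- Test of the relations on a candidate for `d` at a point. -/
noncomputable def chkD (i t b : ℕ) : Bool :=
  Nat.beq (pairApp i t (pairApp i t b)) b &&
    allFrom (fun k => force ([4, 5, 6].getD k 0) fun x =>
      Nat.beq (pairApp i t (cApp x (pairApp i t (cApp x (pairApp i t (cApp x b)))))) b) 3 0 &&
    Nat.beq (cApp 2 (pairApp i t (cApp 2 (pairApp i t (cApp 2 (pairApp i t (cApp 2 (pairApp i t
      (cApp 2 (pairApp i t b)))))))))) (cApp 0 b)

/-- Test of a swap at a point. -/
noncomputable def chkSwap (i t b : ℕ) : Bool :=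
  Nat.beq (pairApp i t (cApp 2 b)) (cApp 2 (pairApp i t b)) &&
    Nat.beq (pairApp i t (cApp 5 b)) (cApp 6 (pairApp i t b))

/-- Agreement with a conjugate of `d` at a point. -/
noncomputable def chkIsD (i t b : ℕ) : Bool :=
  Nat.beq (pairApp i t b) (cApp 3 b)

/-- Agreement with the other conjugate of `d` at a point. -/
noncomputable def chkIsEDE (i t b : ℕ) : Bool :=
  Nat.beq (pairApp i t b) (cApp 4 (cApp 3 (cApp 4 b)))

/-- A test at the four base points. -/
noncomputable def atBase (p : ℕ → Bool) : Bool := p 0 && p 1 && p 15 && p 34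

theorem d_search : ∀ i < 7, ∀ t ∈ HeAut.stab48,
    atBase (chkSwap i t) = false ∧
      (atBase (chkD i t) = true → atBase (chkIsD i t) = true ∨ atBase (chkIsEDE i t) = true) := by
  decide +kernel

theorem atBase_of {p : ℕ → Bool} (h : ∀ b : Fin HeA.table.n, p b = true) : atBase p = true := by
  rw [atBase, show p 0 = true from h b0, show p 1 = true from h b1, show p 15 = true from h b15,
    show p 34 = true from h b34]
  rfl

/-- **Only `d` and `e d e` can replace `d`.** -/
theorem d_unique (D : He) (hA : D * cgen 0 = cgen 0 * D) (hB : D * cgen 1 = cgen 1 * D) (hD : D * D = 1)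
    (h4 : (D * cgen 4) ^ 3 = 1) (h5 : (D * cgen 5) ^ 3 = 1) (h6 : (D * cgen 6) ^ 3 = 1)
    (h10 : (cgen 2 * D) ^ 5 = cgen 0) : D = cgen 3 ∨ D = cgen 4 * cgen 3 * cgen 4 := by
  obtain ⟨i, hi, t, ht, happ⟩ := pair_cent D hA hB
  have hc : ∀ {x : ℕ} (_ : x < 7) (p : Fin HeA.table.n), cApp x p = (SporHe.rep (cgen x) p : ℕ) :=
    fun hx p => (rep_cgen hx p).symm
  have key : atBase (chkD i t) = true := by
    refine atBase_of fun b => ?_
    have e1 : pairApp i t (pairApp i t b) = b := by
      rw [← happ, ← happ, ← Equiv.Perm.mul_apply, ← map_mul, hD, map_one, Equiv.Perm.one_apply]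
    have e3 : ∀ x, x < 7 → (D * cgen x) ^ 3 = 1 →
        pairApp i t (cApp x (pairApp i t (cApp x (pairApp i t (cApp x b))))) = b := by
      intro x hx h
      rw [hc hx, ← happ, hc hx, ← happ, hc hx, ← happ]
      have e := congrArg (fun π : Equiv.Perm (Fin HeA.table.n) => (π b : ℕ)) (congrArg SporHe.rep h)
      simpa [pow_succ, mul_assoc] using e
    have e5 : cApp 2 (pairApp i t (cApp 2 (pairApp i t (cApp 2 (pairApp i t (cApp 2 (pairApp i t
        (cApp 2 (pairApp i t b))))))))) = cApp 0 b := by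
      have h2 : (2 : ℕ) < 7 := by norm_num
      rw [← happ, hc h2, ← happ, hc h2, ← happ, hc h2, ← happ, hc h2, ← happ, hc h2, hc (by norm_num : 0 < 7)]
      have e := congrArg (fun π : Equiv.Perm (Fin HeA.table.n) => (π b : ℕ)) (congrArg SporHe.rep h10)
      simpa [pow_succ, mul_assoc] using e
    simp only [chkD, Bool.and_eq_true]
    refine ⟨⟨by rw [e1]; exact Nat.beq_refl _, ?_⟩, by rw [e5]; exact Nat.beq_refl _⟩
    show (Nat.beq _ _ && force 1 fun i' => (Nat.beq _ _ && force 2 fun i' => (Nat.beq _ _ && true))) = true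
    simp only [force_eq, List.getD_cons_zero, List.getD_cons_succ]
    rw [e3 4 (by norm_num) h4, e3 5 (by norm_num) h5, e3 6 (by norm_num) h6]
    simp
  have fin : ∀ (E : He) (q : ℕ → ℕ), (∀ p : Fin HeA.table.n, (SporHe.rep E p : ℕ) = q p) →
      atBase (fun b => Nat.beq (pairApp i t b) (q b)) = true → D = E := by
    intro E q hq h
    simp only [atBase, Bool.and_eq_true] at h
    obtain ⟨⟨⟨e0, e1⟩, e15⟩, e34⟩ := h
    refine eq_of_base fun b hb => Fin.ext ?_
    rw [happ, hq]
    simp only [List.mem_cons, List.not_mem_nil, or_false] at hb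
    rcases hb with rfl | rfl | rfl | rfl
    exacts [Nat.eq_of_beq_eq_true e0, Nat.eq_of_beq_eq_true e1, Nat.eq_of_beq_eq_true e15,
      Nat.eq_of_beq_eq_true e34]
  rcases (d_search i hi t ht).2 key with h | h
  · exact Or.inl (fin _ _ (fun p => rep_cgen (by norm_num) p) h)
  · refine Or.inr (fin _ (fun p => cApp 4 (cApp 3 (cApp 4 p))) (fun p => ?_) h)
    rw [map_mul, map_mul, Equiv.Perm.mul_apply, Equiv.Perm.mul_apply, rep_cgen (by norm_num),
      rep_cgen (by norm_num), rep_cgen (by norm_num)]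

/-- No element centralising `a, b, c` exchanges `f` and `g`. -/
theorem no_swap (h : He) (hA : h * cgen 0 = cgen 0 * h) (hB : h * cgen 1 = cgen 1 * h)
    (hC : h * cgen 2 = cgen 2 * h) (hFG : h * cgen 5 = cgen 6 * h) : False := by
  obtain ⟨i, hi, t, ht, happ⟩ := pair_cent h hA hB
  have key : atBase (chkSwap i t) = true := by
    refine atBase_of fun b => ?_
    have e : ∀ x y, x < 7 → y < 7 → h * cgen x = cgen y * h →
        pairApp i t (cApp x b) = cApp y (pairApp i t b) := by
      intro x y hx hy hxy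
      rw [← rep_cgen hx, ← happ, ← happ, ← rep_cgen hy, ← Equiv.Perm.mul_apply, ← Equiv.Perm.mul_apply,
        ← map_mul, ← map_mul, hxy]
    simp only [chkSwap, Bool.and_eq_true]
    rw [e 2 2 (by norm_num) (by norm_num) hC, e 5 6 (by norm_num) (by norm_num) hFG]
    exact ⟨Nat.beq_refl _, Nat.beq_refl _⟩
  rw [(d_search i hi t ht).1] at key
  exact Bool.false_ne_true key

end CfsgLib.InvChar.SporHeInvol
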