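import Cfsg.Agent.Lib.InvChar.SporHeTuples
import Cfsg.Agent.Lib.InvChar.SporHePairCent
import Cfsg.Prelude.Def_KGroupFacts

/-!
# The outer automorphism group of the presented Held group has order two
-/

set_option autoImplicit false
set_option maxRecDepth 100000

namespace CfsgLib.InvChar.SporHeInvol

open CfsgLib.InvChar.Coset Cfsg.Spor

/-- The exchange of `f` and `g` on letters. -/
def swapFG (x : ℕ) : ℕ := if x = 5 then 6 else if x = 6 then 5 else x

theorem swap_rels : HeA.rels.all (fun r => allFrom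
    (fun i => Nat.beq (HeA.table.follow (r.map swapFG) i) i) 2058 0) = true := by decide +kernel

theorem rels_lt : ∀ r ∈ HeA.rels, ∀ x ∈ r.map swapFG, x < 7 := by decide +kernel

theorem exists_tau : ∃ τ : MulAut He, ∀ x < 7, τ (SporHe.gen x) = SporHe.gen (swapFG x) := by
  obtain ⟨φ, hφ⟩ := SporHe.pres.exists_hom (fun x => SporHe.gen (swapFG x))
    (fun x => SporHe.gen_mul_self _) fun r hr => by
      have h := List.all_eq_true.1 swap_rels r hr
      have e := wprod_eq_of_follow (r.map swapFG) [] (rels_lt r hr) (by decide) fun i hi =>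
        Nat.eq_of_beq_eq_true (allFrom_get _ 2058 0 h i (Nat.zero_le _) (by omega))
      simpa [wprod, List.map_map, Function.comp_def] using e
  have h2 : φ.comp φ = MonoidHom.id He := by
    refine MonoidHom.eq_of_eqOn_dense SporHe.closure_gen ?_
    rintro _ ⟨x, hx, rfl⟩
    have hx : x < 7 := hx
    have hs : swapFG x < 7 ∧ swapFG (swapFG x) = x :=
      (by decide : ∀ y < 7, swapFG y < 7 ∧ swapFG (swapFG y) = y) x hx
    show φ (φ (SporHe.gen x)) = SporHe.gen x
    rw [hφ x hx, hφ _ hs.1, hs.2]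
  exact ⟨MonoidHom.toMulEquiv φ φ h2 h2, hφ⟩

theorem cent_a_card_ne :
    Nat.card ↥(Subgroup.centralizer ({SporHe.gen 0} : Set He)) ≠ 21504 := by
  haveI : Finite He := SporHe.card_le.1
  haveI : Fact (Nat.Prime 5) := ⟨by norm_num⟩
  intro hcard
  let x : He := (SporHe.gen 2 * SporHe.gen 3) ^ 2
  have h10 : (SporHe.gen 2 * SporHe.gen 3) ^ 10 = (1 : He) := by
    have e := wprod_eq_of_follow [2, 3, 2, 3, 2, 3, 2, 3, 2, 3, 2, 3, 2, 3, 2, 3, 2, 3, 2, 3] [] (by decide)
      (by decide) (by decide +kernel)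
    simp only [wprod, List.map_cons, List.map_nil, List.prod_cons, List.prod_nil, mul_one] at e
    simpa [pow_succ, mul_assoc] using e
  have hne : x ≠ 1 := fun h => by
    have e : wprod SporHe.gen [2, 3, 2, 3] = (1 : He) := by
      simpa [x, wprod, pow_two, mul_assoc] using h
    have e' := congrArg SporHe.rep (congrArg (·⁻¹) e)
    rw [inv_one, map_one] at e'
    have hp : ∃ i < 2058, HeA.table.follow [2, 3, 2, 3] i ≠ i := by decide +kernel
    obtain ⟨i, hi, hne⟩ := hp
    refine hne ?_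
    have hw := rep_wElt [2, 3, 2, 3] (by decide) ⟨i, hi⟩
    rw [wElt, e'] at hw
    exact hw.symm
  have h02 : Commute (SporHe.gen 0 : He) (SporHe.gen 2) := by
    have e := wprod_eq_of_follow [0, 2] [2, 0] (by decide) (by decide) (by decide +kernel)
    simpa [wprod, Commute, SemiconjBy] using e
  have h03 : Commute (SporHe.gen 0 : He) (SporHe.gen 3) := by
    have e := wprod_eq_of_follow [0, 3] [3, 0] (by decide) (by decide) (by decide +kernel)
    simpa [wprod, Commute, SemiconjBy] using e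
  have hmem : x ∈ Subgroup.centralizer ({SporHe.gen 0} : Set He) :=
    Subgroup.mem_centralizer_singleton_iff.2 ((Commute.mul_right h02 h03).pow_right 2).eq.symm
  have h5 : orderOf (⟨x, hmem⟩ : ↥(Subgroup.centralizer ({SporHe.gen 0} : Set He))) = 5 := by
    rw [← Subgroup.orderOf_coe]
    exact orderOf_eq_prime (by rw [← pow_mul]; exact h10) hne
  have := orderOf_dvd_natCard (⟨x, hmem⟩ : ↥(Subgroup.centralizer ({SporHe.gen 0} : Set He)))
  rw [h5, hcard] at this
  norm_num at this

theorem card_cent_map (α : MulAut He) (g : He) :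
    Nat.card ↥(Subgroup.centralizer ({g} : Set He)) = Nat.card ↥(Subgroup.centralizer ({α g} : Set He)) := by
  refine Nat.card_congr (α.toEquiv.subtypeEquiv fun y => ?_)
  show y ∈ Subgroup.centralizer {g} ↔ α y ∈ Subgroup.centralizer {α g}
  rw [Subgroup.mem_centralizer_singleton_iff, Subgroup.mem_centralizer_singleton_iff, ← map_mul, ← map_mul,
    α.injective.eq_iff]

theorem gen_four_ne : (SporHe.gen 4 : He) ≠ 1 := fun h => by
  have := orderOf_gen_four
  rw [h, orderOf_one] at this
  norm_num at this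

theorem gen_zero_ne : (SporHe.gen 0 : He) ≠ 1 := fun h => by
  have hp : ∃ i < 2058, HeA.table.follow [0] i ≠ i := by decide +kernel
  obtain ⟨i, hi, hne⟩ := hp
  refine hne ?_
  have hw := rep_wElt [0] (by decide) ⟨i, hi⟩
  rw [wElt, show wprod SporHe.gen [0] = (1 : He) by simpa [wprod] using h, inv_one, map_one] at hw
  exact hw.symm

theorem card_cent_conj {g h : He} (hgh : IsConj g h) :
    Nat.card ↥(Subgroup.centralizer ({g} : Set He)) = Nat.card ↥(Subgroup.centralizer ({h} : Set He)) := by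
  obtain ⟨c, rfl⟩ := isConj_iff.1 hgh
  exact card_cent_map (MulAut.conj c) g

/-- An automorphism preserves the two classes of involutions. -/
theorem aut_classes (α : MulAut He) (x : He) (hx : IsConj x (SporHe.gen 0) ∨ IsConj x (SporHe.gen 4)) :
    (IsConj x (SporHe.gen 0) → IsConj (α x) (SporHe.gen 0)) ∧
      (IsConj x (SporHe.gen 4) → IsConj (α x) (SporHe.gen 4)) := by
  have hinv : x * x = 1 ∧ x ≠ 1 := by
    have aux : ∀ y, IsConj x (SporHe.gen y) → (SporHe.gen y : He) ≠ 1 → x * x = 1 ∧ x ≠ 1 := by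
      intro y hy hne
      obtain ⟨c, hc⟩ := isConj_iff.1 hy
      have hx' : x = c⁻¹ * SporHe.gen y * c := by rw [← hc]; group
      refine ⟨?_, fun h1 => hne ?_⟩
      · rw [hx', show c⁻¹ * SporHe.gen y * c * (c⁻¹ * SporHe.gen y * c) =
          c⁻¹ * (SporHe.gen y * SporHe.gen y) * c by group, SporHe.gen_mul_self, mul_one, inv_mul_cancel]
      · rw [← hc, h1, mul_one, mul_inv_cancel]
    rcases hx with h | h
    · exact aux 0 h gen_zero_ne
    · exact aux 4 h gen_four_ne
  have hα := invol_classes (α x) (by rw [← map_mul, hinv.1, map_one])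
    (fun h => hinv.2 (α.injective (h.trans (map_one α).symm)))
  constructor <;> intro h <;> rcases hα with h' | h'
  · exact h'
  · refine absurd ?_ cent_a_card_ne
    rw [← card_cent_conj h, card_cent_map α x, card_cent_conj h', card_centralizer_eq]
  · refine absurd ?_ cent_a_card_ne
    rw [← card_cent_conj h', ← card_cent_map α x, card_cent_conj h, card_centralizer_eq]
  · exact h'

/-- An element of the centraliser is conjugate inside it to the root of its class. -/
theorem conj_root : ∀ (k : ℕ), k < 575 → ∀ g : ↥CE, phiCode g = invCode k →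
    ∃ K : ↥CE, phiCode (K⁻¹ * g * K) = invCode (HeAut.invRoot.getD (invClass k) 0) := by
  intro k
  induction k using Nat.strong_induction_on with
  | _ k ih =>
    intro hk g hg
    have h := allFrom_get chkTree 575 0 tree_ok k (Nat.zero_le _) (by omega)
    rw [chkTree, force_eq, Bool.and_eq_true] at h
    obtain ⟨-, h⟩ := h
    cases hroot : Nat.beq k (HeAut.invRoot.getD (invClass k) 0) with
    | true => exact ⟨1, by rw [inv_one, one_mul, mul_one, hg, ← Nat.eq_of_beq_eq_true hroot]⟩
    | false =>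
      rw [hroot] at h
      simp only [cond_false, force_eq, Bool.and_eq_true] at h
      obtain ⟨⟨⟨h1, h2⟩, h3⟩, h4⟩ := h
      have h1 : field HeAut.invPar 128 20 k >>> 2 < k := Nat.le_of_ble_eq_true h1
      have hj : field HeAut.invPar 128 20 k % 4 < 3 := Nat.le_of_ble_eq_true h2
      let K : ↥CE := ⟨kGen ⟨field HeAut.invPar 128 20 k % 4, hj⟩, kGen_mem _⟩
      have hK : phiCode K = tabCode HeInvol.tab0 [field HeAut.invPar 128 20 k % 4] := by
        rw [phiCode, phi_kGen, code_genPerm]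
      have hKi : phiCode K⁻¹ = HeAut.genInvCode.getD (field HeAut.invPar 128 20 k % 4) 0 := by
        rw [phiCode, map_inv]
        refine code_inv_of_check (fun i hi => ?_) (genInv_ok _ hj).1
        rw [← phiCode, hK]
        exact (genInv_ok _ hj).2 i hi
      have hpar : phiCode (K⁻¹ * g * K) = invCode (field HeAut.invPar 128 20 k >>> 2) := by
        rw [mul_assoc, phiCode_mul, phiCode_mul, hKi, hK, hg]
        exact (Nat.eq_of_beq_eq_true h4).symm
      obtain ⟨K', hK'⟩ := ih _ h1 (by omega) _ hpar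
      rw [Nat.eq_of_beq_eq_true h3] at hK'
      exact ⟨K * K', by rw [show (K * K')⁻¹ * g * (K * K') = K'⁻¹ * (K⁻¹ * g * K) * K' by group]; exact hK'⟩

theorem roots_a : ∀ c < 8, isA c = true →
    HeAut.invRoot.getD c 0 = 533 ∨ HeAut.invRoot.getD c 0 = 435 := by decide +kernel

theorem genC_val : ∀ i < 6, ((genC i : ↥CE) : He) = SporHe.gen (genLetter.getD i 0) :=
  fun i hi => (gen_eq_kElt i hi).symm

/-- The relations among the generators that are used. -/
theorem he_rels :
    (SporHe.gen 0 * SporHe.gen 1) ^ 4 = (1 : He) ∧ (SporHe.gen 1 * SporHe.gen 2) ^ 3 = (1 : He) ∧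
    (SporHe.gen 0 * SporHe.gen 1 * SporHe.gen 2) ^ 3 = (SporHe.gen 4 : He) ∧
    (SporHe.gen 5 * SporHe.gen 6) ^ 2 = (SporHe.gen 4 : He) ∧
    (SporHe.gen 3 * SporHe.gen 4) ^ 3 = (1 : He) ∧ (SporHe.gen 3 * SporHe.gen 5) ^ 3 = (1 : He) ∧
    (SporHe.gen 3 * SporHe.gen 6) ^ 3 = (1 : He) ∧ (SporHe.gen 2 * SporHe.gen 3) ^ 5 = (SporHe.gen 0 : He) := by
  refine ⟨?_, ?_, ?_, ?_, ?_, ?_, ?_, ?_⟩
  · simpa [wprod, pow_succ, mul_assoc] using
      wprod_eq_of_follow [0, 1, 0, 1, 0, 1, 0, 1] [] (by decide) (by decide) (by decide +kernel)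
  · simpa [wprod, pow_succ, mul_assoc] using
      wprod_eq_of_follow [1, 2, 1, 2, 1, 2] [] (by decide) (by decide) (by decide +kernel)
  · simpa [wprod, pow_succ, mul_assoc] using
      wprod_eq_of_follow [0, 1, 2, 0, 1, 2, 0, 1, 2] [4] (by decide) (by decide) (by decide +kernel)
  · simpa [wprod, pow_succ, mul_assoc] using
      wprod_eq_of_follow [5, 6, 5, 6] [4] (by decide) (by decide) (by decide +kernel)
  · simpa [wprod, pow_succ, mul_assoc] using
      wprod_eq_of_follow [3, 4, 3, 4, 3, 4] [] (by decide) (by decide) (by decide +kernel)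
  · simpa [wprod, pow_succ, mul_assoc] using
      wprod_eq_of_follow [3, 5, 3, 5, 3, 5] [] (by decide) (by decide) (by decide +kernel)
  · simpa [wprod, pow_succ, mul_assoc] using
      wprod_eq_of_follow [3, 6, 3, 6, 3, 6] [] (by decide) (by decide) (by decide +kernel)
  · simpa [wprod, pow_succ, mul_assoc] using
      wprod_eq_of_follow [2, 3, 2, 3, 2, 3, 2, 3, 2, 3] [0] (by decide) (by decide) (by decide +kernel)

theorem he_comm : ∀ p ∈ [(0, 2), (0, 5), (0, 6), (1, 5), (1, 6), (2, 5), (2, 6), (0, 3), (1, 3),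
    (0, 4), (1, 4), (2, 4), (5, 4), (6, 4)],
    SporHe.gen p.1 * SporHe.gen p.2 = (SporHe.gen p.2 * SporHe.gen p.1 : He) := by
  intro p hp
  have hf : allFrom (fun i => Nat.beq (HeA.table.follow [p.1, p.2] i) (HeA.table.follow [p.2, p.1] i)) 2058 0 =
      true ∧ p.1 < 7 ∧ p.2 < 7 := by
    revert p hp; decide +kernel
  have e := wprod_eq_of_follow [p.1, p.2] [p.2, p.1] (by simp [hf.2.1, hf.2.2]) (by simp [hf.2.1, hf.2.2])
    fun i hi => Nat.eq_of_beq_eq_true (allFrom_get _ 2058 0 hf.1 i (Nat.zero_le _) (by omega))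
  simpa [wprod] using e

/-- An automorphism fixing `e` is inner up to the exchange of `f` and `g`. -/
theorem fix_six (β : MulAut He) (hβ : β (SporHe.gen 4) = SporHe.gen 4) :
    ∃ h : He, (∀ x ∈ [0, 1, 2, 4], h * β (SporHe.gen x) * h⁻¹ = SporHe.gen x) ∧
      ((h * β (SporHe.gen 5) * h⁻¹ = SporHe.gen 5 ∧ h * β (SporHe.gen 6) * h⁻¹ = SporHe.gen 6) ∨
        (h * β (SporHe.gen 5) * h⁻¹ = SporHe.gen 6 ∧ h * β (SporHe.gen 6) * h⁻¹ = SporHe.gen 5)) := by
  obtain ⟨q1, q2, q3, q4, -, -, -, -⟩ := he_rels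
  have hmem : ∀ x ∈ [0, 1, 2, 5, 6], β (SporHe.gen x) ∈ CE := by
    intro x hx
    rw [Subgroup.mem_centralizer_singleton_iff, ← hβ, ← map_mul, ← map_mul]
    exact congrArg β (he_comm (x, 4) (by revert x; decide))
  let A : ↥CE := ⟨_, hmem 0 (by simp)⟩
  let B : ↥CE := ⟨_, hmem 1 (by simp)⟩
  let C : ↥CE := ⟨_, hmem 2 (by simp)⟩
  let F : ↥CE := ⟨_, hmem 5 (by simp)⟩
  let G : ↥CE := ⟨_, hmem 6 (by simp)⟩
  have hidx : ∀ (X : ↥CE) (x : ℕ), (X : He) = β (SporHe.gen x) →
      (IsConj (SporHe.gen x) (SporHe.gen 0) → ∃ k < 575, phiCode X = invCode k ∧ isA (invClass k) = true) ∧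
      (IsConj (SporHe.gen x) (SporHe.gen 4) → ∃ k < 575, phiCode X = invCode k ∧ isA (invClass k) = false) := by
    intro X x hX
    have hne : (SporHe.gen x : He) ≠ 1 → X ≠ 1 := fun h h1 =>
      h (β.injective (by rw [← hX, h1, map_one, Subgroup.coe_one]))
    have hsq : X * X = 1 := Subtype.ext (by
      rw [Subgroup.coe_mul, hX, ← map_mul, SporHe.gen_mul_self, map_one, Subgroup.coe_one])
    have hcl : ∀ k, k < 575 → phiCode X = invCode k →
        IsConj (β (SporHe.gen x)) (SporHe.gen (target (invClass k))) := fun k hk hkc =>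
      hX ▸ conj_target k hk X hkc
    constructor <;> intro hc
    · have hx1 : (SporHe.gen x : He) ≠ 1 := fun h1 => by
        rw [h1] at hc; exact gen_zero_ne (isConj_one_right.1 hc)
      obtain ⟨k, hk, hkc⟩ := exists_invCode X hsq (hne hx1)
      refine ⟨k, hk, hkc, ?_⟩
      cases hA : isA (invClass k) with
      | true => rfl
      | false =>
        have h := hcl k hk hkc
        rw [target, hA, cond_false] at h
        exact absurd (((aut_classes β _ (Or.inl hc)).1 hc).symm.trans h) not_conj_a_e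
    · have hx1 : (SporHe.gen x : He) ≠ 1 := fun h1 => by
        rw [h1] at hc; exact gen_four_ne (isConj_one_right.1 hc)
      obtain ⟨k, hk, hkc⟩ := exists_invCode X hsq (hne hx1)
      refine ⟨k, hk, hkc, ?_⟩
      cases hA : isA (invClass k) with
      | false => rfl
      | true =>
        have h := hcl k hk hkc
        rw [target, hA, cond_true] at h
        exact absurd (h.symm.trans ((aut_classes β _ (Or.inr hc)).2 hc)) not_conj_a_e
  have hgc : ∀ i < 5, ∃ k < 575, phiCode (genC i) = invCode k ∧ isA (invClass k) = decide (i < 3) ∧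
      IsConj (SporHe.gen (genLetter.getD i 0)) (SporHe.gen (target (invClass k))) := by
    intro i hi
    refine ⟨HeAut.genIdx.getD i 0, (genKWords_code i (by omega)).2, phiCode_genC i (by omega), ?_, ?_⟩
    · revert i; decide +kernel
    · rw [← genC_val i (by omega)]
      exact conj_target _ (genKWords_code i (by omega)).2 _ (phiCode_genC i (by omega))
  have hkind : ∀ i < 5, IsConj (SporHe.gen (genLetter.getD i 0)) (SporHe.gen (if i < 3 then 0 else 4)) := by
    intro i hi
    obtain ⟨k, -, -, hA, hc⟩ := hgc i hi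
    rw [target, hA] at hc
    by_cases h3 : i < 3 <;> simpa [h3] using hc
  obtain ⟨ka, hka, hAc, hAa⟩ := (hidx A 0 rfl).1 (by simpa [genLetter] using hkind 0 (by norm_num))
  obtain ⟨K0, hK0⟩ := conj_root ka hka A hAc
  obtain ⟨cj, hcjdef⟩ : ∃ cj : ↥CE → ↥CE, ∀ X, cj X = K0⁻¹ * X * K0 := ⟨_, fun _ => rfl⟩
  have hcj : ∀ (X : ↥CE) (x : ℕ), (X : He) = β (SporHe.gen x) →
      ((cj X : ↥CE) : He) = (MulAut.conj ((K0 : He)⁻¹) * β) (SporHe.gen x) := by
    intro X x hX
    simp [hcjdef, hX, MulAut.mul_apply]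
  have hcl : ∀ (X : ↥CE) (x : ℕ), (X : He) = β (SporHe.gen x) →
      (IsConj (SporHe.gen x) (SporHe.gen 0) → ∃ k ∈ aList, phiCode (cj X) = invCode k) ∧
      (IsConj (SporHe.gen x) (SporHe.gen 4) → ∃ k ∈ eList, phiCode (cj X) = invCode k) := by
    intro X x hX
    have hx := hcj X x hX
    constructor <;> intro hc
    · obtain ⟨k, hk, hkc⟩ := exists_invCode (cj X) (Subtype.ext (by
        rw [Subgroup.coe_mul, hx, ← map_mul, SporHe.gen_mul_self, map_one, Subgroup.coe_one])) (fun h1 => by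
        have h2 := congrArg Subtype.val h1
        rw [hx, Subgroup.coe_one] at h2
        have h3 : (SporHe.gen x : He) = 1 := (MulAut.conj ((K0 : He)⁻¹) * β).injective (h2.trans (map_one _).symm)
        rw [h3] at hc; exact gen_zero_ne (isConj_one_right.1 hc))
      refine ⟨k, List.mem_filter.2 ⟨List.mem_range.2 hk, ?_⟩, hkc⟩
      cases hA : isA (invClass k) with
      | true => rfl
      | false =>
        have h := conj_target k hk _ hkc
        rw [hx, target, hA, cond_false] at h
        exact absurd (((aut_classes _ _ (Or.inl hc)).1 hc).symm.trans h) not_conj_a_e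
    · obtain ⟨k, hk, hkc⟩ := exists_invCode (cj X) (Subtype.ext (by
        rw [Subgroup.coe_mul, hx, ← map_mul, SporHe.gen_mul_self, map_one, Subgroup.coe_one])) (fun h1 => by
        have h2 := congrArg Subtype.val h1
        rw [hx, Subgroup.coe_one] at h2
        have h3 : (SporHe.gen x : He) = 1 := (MulAut.conj ((K0 : He)⁻¹) * β).injective (h2.trans (map_one _).symm)
        rw [h3] at hc; exact gen_four_ne (isConj_one_right.1 hc))
      refine ⟨k, List.mem_filter.2 ⟨List.mem_range.2 hk, ?_⟩, hkc⟩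
      cases hA : isA (invClass k) with
      | false => rfl
      | true =>
        have h := conj_target k hk _ hkc
        rw [hx, target, hA, cond_true] at h
        exact absurd (h.symm.trans ((aut_classes _ _ (Or.inr hc)).2 hc)) not_conj_a_e
  obtain ⟨kb, hkb, hBc⟩ := (hcl B 1 rfl).1 (by simpa [genLetter] using hkind 1 (by norm_num))
  obtain ⟨kc, hkc, hCc⟩ := (hcl C 2 rfl).1 (by simpa [genLetter] using hkind 2 (by norm_num))
  obtain ⟨kf, hkf, hFc⟩ := (hcl F 5 rfl).2 (by simpa [genLetter] using hkind 3 (by norm_num))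
  obtain ⟨kg, hkg, hGc⟩ := (hcl G 6 rfl).2 (by simpa [genLetter] using hkind 4 (by norm_num))
  have hroot := roots_a (invClass ka) (by
    have h := allFrom_get chkTree 575 0 tree_ok ka (Nat.zero_le _) (by omega)
    rw [chkTree, force_eq, Bool.and_eq_true] at h
    exact Nat.le_of_ble_eq_true h.1) hAa
  let β' : MulAut He := MulAut.conj ((K0 : He)⁻¹) * β
  have hz : β' (SporHe.gen 4) = SporHe.gen 4 := by
    simp only [β', MulAut.mul_apply, hβ, MulAut.conj_apply, inv_inv]
    rw [mul_assoc, ← Subgroup.mem_centralizer_singleton_iff.1 K0.2, inv_mul_cancel_left]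
  have h5 : ((genC 5 : ↥CE) : He) = SporHe.gen 4 := genC_val 5 (by norm_num)
  have ext2 : ∀ (X Y : ↥CE) (x y : ℕ), (X : He) = β (SporHe.gen x) → (Y : He) = β (SporHe.gen y) →
      SporHe.gen x * SporHe.gen y = (SporHe.gen y * SporHe.gen x : He) → cj X * cj Y = cj Y * cj X := by
    intro X Y x y hX hY hxy
    refine Subtype.ext ?_
    rw [Subgroup.coe_mul, Subgroup.coe_mul, hcj X x hX, hcj Y y hY, ← map_mul, ← map_mul, hxy]
  obtain ⟨hA0, K, hKa, hKb, hKc, hKfg⟩ := quad_conj (cj A) (cj B) (cj C) (cj F) (cj G) _ kb kc kf kg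
    (by rw [hcjdef]; exact hK0) hBc hCc hFc hGc hroot hkb hkc hkf hkg
    (Subtype.ext (by
      rw [SubmonoidClass.coe_pow, Subgroup.coe_mul, hcj A 0 rfl, hcj B 1 rfl, ← map_mul, ← map_pow, q1,
        map_one, Subgroup.coe_one]))
    (ext2 A C 0 2 rfl rfl (he_comm (0, 2) (by simp)))
    (Subtype.ext (by
      rw [SubmonoidClass.coe_pow, Subgroup.coe_mul, hcj B 1 rfl, hcj C 2 rfl, ← map_mul, ← map_pow, q2,
        map_one, Subgroup.coe_one]))
    (Subtype.ext (by
      rw [SubmonoidClass.coe_pow, Subgroup.coe_mul, Subgroup.coe_mul, hcj A 0 rfl, hcj B 1 rfl, hcj C 2 rfl,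
        ← map_mul, ← map_mul, ← map_pow, q3, h5]
      exact hz))
    (ext2 A F 0 5 rfl rfl (he_comm (0, 5) (by simp))) (ext2 B F 1 5 rfl rfl (he_comm (1, 5) (by simp)))
    (ext2 C F 2 5 rfl rfl (he_comm (2, 5) (by simp))) (ext2 A G 0 6 rfl rfl (he_comm (0, 6) (by simp)))
    (ext2 B G 1 6 rfl rfl (he_comm (1, 6) (by simp))) (ext2 C G 2 6 rfl rfl (he_comm (2, 6) (by simp)))
    (Subtype.ext (by
      rw [SubmonoidClass.coe_pow, Subgroup.coe_mul, hcj F 5 rfl, hcj G 6 rfl, ← map_mul, ← map_pow, q4, h5]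
      exact hz))
  refine ⟨(K : He)⁻¹ * (K0 : He)⁻¹, ?_⟩
  have conv : ∀ (X : ↥CE) (x : ℕ) (i : ℕ), i < 6 → (X : He) = β (SporHe.gen x) → K⁻¹ * cj X * K = genC i →
      (K : He)⁻¹ * (K0 : He)⁻¹ * β (SporHe.gen x) * ((K : He)⁻¹ * (K0 : He)⁻¹)⁻¹ =
        SporHe.gen (genLetter.getD i 0) := by
    intro X x i hi hX h
    rw [← genC_val i hi, ← h, ← hX, hcjdef]
    simp [mul_assoc]
  refine ⟨fun x hx => ?_, ?_⟩
  · simp only [List.mem_cons, List.not_mem_nil, or_false] at hx
    rcases hx with rfl | rfl | rfl | rfl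
    · exact conv A 0 0 (by norm_num) rfl (by rw [hA0]; exact hKa)
    · exact conv B 1 1 (by norm_num) rfl hKb
    · exact conv C 2 2 (by norm_num) rfl hKc
    · rw [hβ]
      have e := Subgroup.mem_centralizer_singleton_iff.1 (CE.mul_mem (CE.inv_mem K.2) (CE.inv_mem K0.2))
      rw [e, mul_inv_cancel_right]
  · rcases hKfg with ⟨hf, hg⟩ | ⟨hf, hg⟩
    · exact Or.inl ⟨conv F 5 3 (by norm_num) rfl hf, conv G 6 4 (by norm_num) rfl hg⟩
    · exact Or.inr ⟨conv F 5 4 (by norm_num) rfl hf, conv G 6 3 (by norm_num) rfl hg⟩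

/-- An automorphism fixing `a b c e f g` is inner. -/
theorem inner_of_fix (γ : MulAut He) (hγ : ∀ x ∈ [0, 1, 2, 4, 5, 6], γ (SporHe.gen x) = SporHe.gen x) :
    ∃ h : He, γ = MulAut.conj h := by
  obtain ⟨-, -, -, -, q5, q6, q7, q8⟩ := he_rels
  let D : He := MulAut.conj uElt (γ (SporHe.gen 3))
  have hg : ∀ x ∈ [0, 1, 2, 4, 5, 6], cgen x = MulAut.conj uElt (γ (SporHe.gen x)) := fun x hx => by
    rw [cgen_eq, hγ x hx]
  have hd := d_unique D
    (by rw [hg 0 (by simp), ← map_mul, ← map_mul, ← map_mul, ← map_mul, he_comm (0, 3) (by simp)])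
    (by rw [hg 1 (by simp), ← map_mul, ← map_mul, ← map_mul, ← map_mul, he_comm (1, 3) (by simp)])
    (by rw [← map_mul, ← map_mul, SporHe.gen_mul_self, map_one, map_one])
    (by rw [hg 4 (by simp), ← map_mul, ← map_mul, ← map_pow, ← map_pow, q5, map_one, map_one])
    (by rw [hg 5 (by simp), ← map_mul, ← map_mul, ← map_pow, ← map_pow, q6, map_one, map_one])
    (by rw [hg 6 (by simp), ← map_mul, ← map_mul, ← map_pow, ← map_pow, q7, map_one, map_one])
    (by rw [hg 2 (by simp), hg 0 (by simp), ← map_mul, ← map_mul, ← map_pow, ← map_pow, q8])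
  rw [cgen_eq, cgen_eq, ← map_mul, ← map_mul] at hd
  have main : ∀ h : He, h * SporHe.gen 3 * h⁻¹ = γ (SporHe.gen 3) →
      (∀ x ∈ [0, 1, 2, 4, 5, 6], h * SporHe.gen x * h⁻¹ = SporHe.gen x) → γ = MulAut.conj h := by
    intro h h3 hx
    have e : γ.toMonoidHom = (MulAut.conj h).toMonoidHom := by
      refine MonoidHom.eq_of_eqOn_dense SporHe.closure_gen ?_
      rintro _ ⟨x, hx7, rfl⟩
      show γ (SporHe.gen x) = MulAut.conj h (SporHe.gen x)
      rw [MulAut.conj_apply]
      by_cases hx3 : x = 3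
      · rw [hx3, h3]
      · have hm : x ∈ [0, 1, 2, 4, 5, 6] := by
          have hx7 : x < 7 := hx7
          simp only [List.mem_cons, List.not_mem_nil, or_false]
          omega
        rw [hγ x hm, hx x hm]
    exact MulEquiv.ext fun y => DFunLike.congr_fun e y
  rcases hd with hd | hd
  · exact ⟨1, main 1 (by simpa using ((MulAut.conj uElt).injective hd).symm) (fun x _ => by simp)⟩
  · refine ⟨SporHe.gen 4, main _ ?_ fun x hx => ?_⟩
    · rw [inv_eq_of_mul_eq_one_right (SporHe.gen_mul_self 4)]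
      exact ((MulAut.conj uElt).injective hd).symm
    · have e : SporHe.gen x * SporHe.gen 4 = (SporHe.gen 4 * SporHe.gen x : He) := by
        by_cases h4 : x = 4
        · rw [h4]
        · exact he_comm (x, 4) (by revert x; decide)
      rw [← e, mul_inv_cancel_right]

/-- **The outer automorphism group of the Held group has order two.** -/
theorem card_out : Nat.card (Cfsg.Out He) = 2 := by
  obtain ⟨τ, hτ⟩ := exists_tau
  have hnot : τ ∉ Cfsg.Inn He := by
    rintro ⟨h, hh⟩
    have e : ∀ x < 7, h * SporHe.gen x * h⁻¹ = SporHe.gen (swapFG x) := fun x hx => by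
      rw [← hτ x hx, ← hh]; rfl
    have conv : ∀ x y, h * SporHe.gen x * h⁻¹ = SporHe.gen y →
        MulAut.conj uElt h * cgen x = cgen y * MulAut.conj uElt h := fun x y hxy => by
      rw [cgen_eq, cgen_eq, ← map_mul, ← map_mul, ← hxy, inv_mul_cancel_right]
    exact no_swap (MulAut.conj uElt h) (conv 0 0 (e 0 (by norm_num))) (conv 1 1 (e 1 (by norm_num)))
      (conv 2 2 (e 2 (by norm_num))) (conv 5 6 (e 5 (by norm_num)))
  have hall : ∀ α : MulAut He, α ∈ Cfsg.Inn He ∨ τ⁻¹ * α ∈ Cfsg.Inn He := by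
    intro α
    obtain ⟨c, hc⟩ := isConj_iff.1 ((aut_classes α _ (Or.inr (IsConj.refl (SporHe.gen 4)))).2
      (IsConj.refl (SporHe.gen 4)))
    have hβ : (MulAut.conj c * α) (SporHe.gen 4) = SporHe.gen 4 := hc
    obtain ⟨h, hfix, hfg⟩ := fix_six _ hβ
    let γ : MulAut He := MulAut.conj h * (MulAut.conj c * α)
    have hinn : ∀ k : He, MulAut.conj k ∈ Cfsg.Inn He := fun k => ⟨k, rfl⟩
    rcases hfg with ⟨hf, hg⟩ | ⟨hf, hg⟩
    · obtain ⟨k, hk⟩ := inner_of_fix γ (by
        intro x hx
        simp only [List.mem_cons, List.not_mem_nil, or_false] at hx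
        rcases hx with rfl | rfl | rfl | rfl | rfl | rfl
        exacts [hfix 0 (by simp), hfix 1 (by simp), hfix 2 (by simp), hfix 4 (by simp), hf, hg])
      refine Or.inl ?_
      have e : α = (MulAut.conj c)⁻¹ * ((MulAut.conj h)⁻¹ * γ) := by simp [γ]
      rw [e, hk]
      exact mul_mem (inv_mem (hinn c)) (mul_mem (inv_mem (hinn h)) (hinn k))
    · have hτinv : ∀ x < 7, τ (SporHe.gen (swapFG x)) = SporHe.gen x := fun x hx => by
        have hs := (by decide : ∀ y < 7, swapFG y < 7 ∧ swapFG (swapFG y) = y) x hx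
        rw [hτ _ hs.1, hs.2]
      obtain ⟨k, hk⟩ := inner_of_fix (τ * γ) (by
        intro x hx
        simp only [List.mem_cons, List.not_mem_nil, or_false] at hx
        rcases hx with rfl | rfl | rfl | rfl | rfl | rfl
        exacts [(congrArg τ (hfix 0 (by simp))).trans (hτ 0 (by norm_num)),
          (congrArg τ (hfix 1 (by simp))).trans (hτ 1 (by norm_num)),
          (congrArg τ (hfix 2 (by simp))).trans (hτ 2 (by norm_num)),
          (congrArg τ (hfix 4 (by simp))).trans (hτ 4 (by norm_num)),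
          (congrArg τ hf).trans (hτinv 5 (by norm_num)),
          (congrArg τ hg).trans (hτinv 6 (by norm_num))])
      refine Or.inr ?_
      have hττ : τ * τ = 1 := by
        refine MulEquiv.ext fun y => ?_
        have e : (τ * τ).toMonoidHom = (1 : MulAut He).toMonoidHom := by
          refine MonoidHom.eq_of_eqOn_dense SporHe.closure_gen ?_
          rintro _ ⟨x, hx, rfl⟩
          show τ (τ (SporHe.gen x)) = SporHe.gen x
          rw [hτ x hx, hτinv x hx]
        exact DFunLike.congr_fun e y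
      have e : τ⁻¹ * α = (τ⁻¹ * (MulAut.conj c)⁻¹ * τ) * ((τ⁻¹ * (MulAut.conj h)⁻¹ * τ) * (τ * γ)) := by
        have ht : τ⁻¹ = τ := inv_eq_of_mul_eq_one_right hττ
        simp [γ, ht, mul_assoc, ← mul_assoc τ τ, hττ]
      have hN : (Cfsg.Inn He).Normal := Cfsg.innNormal He
      rw [e, hk]
      refine mul_mem ?_ (mul_mem ?_ (hinn k))
      · simpa using hN.conj_mem _ (inv_mem (hinn c)) τ⁻¹
      · simpa using hN.conj_mem _ (inv_mem (hinn h)) τ⁻¹
  rw [Nat.card_eq_two_iff]
  refine ⟨QuotientGroup.mk 1, QuotientGroup.mk τ, fun h => hnot ?_, ?_⟩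
  · have := QuotientGroup.eq.1 h
    simpa using this
  · refine Set.eq_univ_of_forall fun x => ?_
    obtain ⟨α, rfl⟩ := QuotientGroup.mk_surjective x
    rcases hall α with h | h
    · exact Or.inl (QuotientGroup.eq.2 (by simpa using inv_mem h))
    · refine Or.inr ?_
      exact Set.mem_singleton_iff.2 (QuotientGroup.eq.2 (by simpa using inv_mem h))

end CfsgLib.InvChar.SporHeInvol
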