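import Cfsg.Agent.Lib.InvChar.SporHeClasses

/-!
# The possible images of five generators of the Held group inside the centraliser of the sixth
-/

set_option autoImplicit false
set_option maxRecDepth 100000

namespace CfsgLib.InvChar.SporHeInvol

open CfsgLib.InvChar.Coset Cfsg.Spor

/-- The centraliser of `e`. -/
abbrev CE : Subgroup He := Subgroup.centralizer ({SporHe.gen 4} : Set He)

/-- The letters of the generators commuting with `e`: `a b c f g e`. -/
def genLetter : List ℕ := [0, 1, 2, 5, 6, 4]

/-- Their words in the three generators of the centraliser. -/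
def genKWords : List (List ℕ) :=
  [[0, 0, 2, 0, 0, 1, 2, 1, 0, 0, 2, 0, 0], [0, 0, 0, 0, 0, 1, 2, 1, 2, 0],
    [0, 0, 0, 0, 1, 2, 0, 0, 0, 1, 2, 0], [1, 0, 2, 0, 0, 2, 0, 1, 2],
    [0, 0, 1, 0, 2, 0, 0, 2, 0, 1, 2, 0], [0, 0, 0, 0, 0, 0]]

theorem genKWords_follow : allFrom (fun i => allFrom (fun p =>
    Nat.beq (kFollow (genKWords.getD i []) p) (HeA.table.app p (genLetter.getD i 0))) 2058 0) 6 0 = true := by
  decide +kernel

theorem gen_eq_kElt (i : ℕ) (hi : i < 6) :
    SporHe.gen (genLetter.getD i 0) = (kElt (genKWords.getD i []) : He) := by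
  have hx : genLetter.getD i 0 < 7 := by revert i; decide
  refine SporHe.card_eq.2 (Equiv.ext fun p => Fin.ext ?_)
  rw [SporHe.rep_gen _ hx, SporHe.perm, HeA.valid.toPerm_apply HeA.sq hx, rep_kElt]
  have h := allFrom_get _ 2058 0 (allFrom_get _ 6 0 genKWords_follow i (Nat.zero_le _) (by omega)) p
    (Nat.zero_le _) (lt_of_lt_of_eq p.2 (n_eq.trans (Nat.zero_add _).symm))
  exact (Nat.eq_of_beq_eq_true h).symm

theorem genKWords_code : ∀ i < 6, kCode (genKWords.getD i []) = invCode (HeAut.genIdx.getD i 0) ∧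
    HeAut.genIdx.getD i 0 < 575 := by
  decide +kernel

/-- The generator as an element of the centraliser. -/
noncomputable def genC (i : ℕ) : ↥CE := kElt (genKWords.getD i [])

theorem phiCode_genC (i : ℕ) (hi : i < 6) : phiCode (genC i) = invCode (HeAut.genIdx.getD i 0) := by
  rw [genC, phiCode_kElt]; exact (genKWords_code i hi).1

/-- Indices of the conjugates of `a`. -/
noncomputable def aList : List ℕ := (List.range 575).filter fun k => isA (invClass k)

/-- Indices of the conjugates of `e`. -/
noncomputable def eList : List ℕ := (List.range 575).filter fun k => !(isA (invClass k))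

/-- Two codes commute. -/
noncomputable def commC (p q : ℕ) : Bool := Nat.beq (comp16 p q) (comp16 q p)

/-- The test on a second entry. -/
noncomputable def okB (a b : ℕ) : Bool :=
  force (comp16 a b) fun t => force (comp16 t t) fun u => Nat.beq (comp16 u u) idCode

/-- The test on a third entry. -/
noncomputable def okC (a b c z : ℕ) : Bool :=
  force (comp16 b c) fun t => Nat.beq (comp16 t (comp16 t t)) idCode &&
    force (comp16 a t) fun u => Nat.beq (comp16 u (comp16 u u)) z

/-- The test on the last two entries. -/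
noncomputable def okFG (f g z : ℕ) : Bool :=
  force (comp16 f g) fun t => Nat.beq (comp16 t t) z

/-- Pack four indices. -/
noncomputable def pack4 (b c f g : ℕ) : ℕ := b + 2 ^ 10 * c + 2 ^ 20 * f + 2 ^ 30 * g

/-- The quadruples with given candidate lists. -/
noncomputable def searchCore (p z : ℕ) (bs cs fs0 : List ℕ) : List ℕ :=
  bs.flatMap fun b => (cs.filter fun c => okC p (invCode b) (invCode c) z).flatMap fun c =>
    (fun fs : List ℕ => fs.flatMap fun f =>
        (fs.filter fun g => okFG (invCode f) (invCode g) z).map (pack4 b c f))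
      (fs0.filter fun f => commC (invCode b) (invCode f) && commC (invCode c) (invCode f))

/-- The candidates for a second entry. -/
noncomputable def candB (p : ℕ) : List ℕ := aList.filter fun b => okB p (invCode b)

/-- The candidates for a third entry. -/
noncomputable def candC (p : ℕ) : List ℕ := aList.filter fun c => commC p (invCode c)

/-- The candidates for the last entries. -/
noncomputable def candF (p : ℕ) : List ℕ := eList.filter fun f => commC p (invCode f)

/-- All quadruples completing an index of an image of `a`. -/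
noncomputable def search (a : ℕ) : List ℕ :=
  searchCore (invCode a) (invCode 420) (candB (invCode a)) (candC (invCode a)) (candF (invCode a))

theorem search_other : search 435 = [] := by decide +kernel

theorem search_a : search 533 = HeAut.searchOrder.map (fun n => field HeAut.tuples 128 40 n) := by
  decide +kernel

theorem searchOrder_lt : ∀ n ∈ HeAut.searchOrder, n < 512 := by decide +kernel

theorem mem_search {a b c f g : ℕ} (hb : b ∈ aList) (hc : c ∈ aList) (hf : f ∈ eList) (hg : g ∈ eList)
    (h1 : okB (invCode a) (invCode b) = true) (h2 : commC (invCode a) (invCode c) = true)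
    (h3 : okC (invCode a) (invCode b) (invCode c) (invCode 420) = true)
    (h4 : commC (invCode a) (invCode f) = true) (h5 : commC (invCode b) (invCode f) = true)
    (h6 : commC (invCode c) (invCode f) = true) (h7 : commC (invCode a) (invCode g) = true)
    (h8 : commC (invCode b) (invCode g) = true) (h9 : commC (invCode c) (invCode g) = true)
    (h10 : okFG (invCode f) (invCode g) (invCode 420) = true) : pack4 b c f g ∈ search a := by
  simp only [search, searchCore, candB, candC, candF, List.mem_flatMap, List.mem_filter, List.mem_map, Bool.and_eq_true]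
  exact ⟨b, ⟨hb, h1⟩, c, ⟨⟨hc, h2⟩, h3⟩, f, ⟨⟨hf, h4⟩, h5, h6⟩, g, ⟨⟨⟨hg, h7⟩, h8, h9⟩, h10⟩, rfl⟩

theorem unpack4 {b c f g : ℕ} (hb : b < 1024) (hc : c < 1024) (hf : f < 1024) (hg : g < 1024) :
    (pack4 b c f g >>> (10 * 0)) % 1024 = b ∧ (pack4 b c f g >>> (10 * 1)) % 1024 = c ∧
      (pack4 b c f g >>> (10 * 2)) % 1024 = f ∧ (pack4 b c f g >>> (10 * 3)) % 1024 = g := by
  simp only [pack4, Nat.shiftRight_eq_div_pow]
  refine ⟨?_, ?_, ?_, ?_⟩ <;> omega

/-- The `i`-th entry of the `n`-th quadruple. -/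
noncomputable def tget (n i : ℕ) : ℕ := (field HeAut.tuples 128 40 n >>> (10 * i)) % 1024

/-- One quadruple of the tree. -/
noncomputable def chkTuple (n : ℕ) : Bool :=
  bif Nat.ble 2 n then
    force (field HeAut.tuplePar 128 20 n) fun v => force (v >>> 2) fun p => force (v % 4) fun j =>
      Nat.blt p n && Nat.blt j 3 && allFrom (fun i => Nat.beq (invCode (tget p i))
        (comp16 (HeAut.stabInvCode.getD j 0) (comp16 (invCode (tget n i)) (kCode (HeAut.stabWords.getD j [])))))
        4 0
  else bif Nat.beq n 0 then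
    Nat.beq (tget 0 0) (HeAut.genIdx.getD 1 0) && Nat.beq (tget 0 1) (HeAut.genIdx.getD 2 0) &&
      Nat.beq (tget 0 2) (HeAut.genIdx.getD 3 0) && Nat.beq (tget 0 3) (HeAut.genIdx.getD 4 0)
  else
    Nat.beq (tget 1 0) (HeAut.genIdx.getD 1 0) && Nat.beq (tget 1 1) (HeAut.genIdx.getD 2 0) &&
      Nat.beq (tget 1 2) (HeAut.genIdx.getD 4 0) && Nat.beq (tget 1 3) (HeAut.genIdx.getD 3 0)

theorem tuples_ok : allFrom chkTuple 512 0 = true := by decide +kernel

theorem stab_ok : ∀ j < 3,
    commC (kCode (HeAut.stabWords.getD j [])) (invCode (HeAut.genIdx.getD 0 0)) = true ∧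
    HeAut.stabInvCode.getD j 0 = enc16 (fun i => app16 (HeAut.stabInvCode.getD j 0) i) ∧
    ∀ i < 16, app16 (HeAut.stabInvCode.getD j 0) (app16 (kCode (HeAut.stabWords.getD j [])) i) = i := by
  decide +kernel

/-- Every quadruple of the tree is conjugate under the centraliser of `a` and `e` to the generators
`b c f g` or to `b c g f`. -/
theorem tuple_conj : ∀ (n : ℕ), n < 512 → ∀ B C F G : ↥CE,
    phiCode B = invCode (tget n 0) → phiCode C = invCode (tget n 1) →
    phiCode F = invCode (tget n 2) → phiCode G = invCode (tget n 3) →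
    ∃ K : ↥CE, K⁻¹ * genC 0 * K = genC 0 ∧ K⁻¹ * B * K = genC 1 ∧ K⁻¹ * C * K = genC 2 ∧
      ((K⁻¹ * F * K = genC 3 ∧ K⁻¹ * G * K = genC 4) ∨ (K⁻¹ * F * K = genC 4 ∧ K⁻¹ * G * K = genC 3)) := by
  intro n
  induction n using Nat.strong_induction_on with
  | _ n ih =>
    intro hn B C F G hB hC hF hG
    have h := allFrom_get chkTuple 512 0 tuples_ok n (Nat.zero_le _) (by omega)
    rw [chkTuple] at h
    cases h2 : Nat.ble 2 n with
    | false =>
      rw [h2] at h
      simp only [cond_false] at h
      have key : ∀ (X : ↥CE) (i : ℕ) (t : ℕ), i < 6 → phiCode X = invCode t →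
          Nat.beq t (HeAut.genIdx.getD i 0) = true → X = genC i := fun X i t hi hX ht =>
        phiCode_injective (by rw [hX, phiCode_genC i hi, Nat.eq_of_beq_eq_true ht])
      have hn2 : n = 0 ∨ n = 1 := by
        rcases Nat.lt_or_ge n 2 with h' | h'
        · omega
        · rw [Nat.ble_eq_true_of_le h'] at h2; exact absurd h2 (by decide)
      rcases hn2 with rfl | rfl
      · simp only [Nat.beq, cond_true, Bool.and_eq_true] at h
        obtain ⟨⟨⟨e1, e2⟩, e3⟩, e4⟩ := h
        refine ⟨1, by simp, ?_, ?_, Or.inl ⟨?_, ?_⟩⟩ <;> simp only [inv_one, one_mul, mul_one]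
        exacts [key B 1 _ (by norm_num) hB e1, key C 2 _ (by norm_num) hC e2,
          key F 3 _ (by norm_num) hF e3, key G 4 _ (by norm_num) hG e4]
      · simp only [Nat.beq, cond_false, Bool.and_eq_true] at h
        obtain ⟨⟨⟨e1, e2⟩, e3⟩, e4⟩ := h
        refine ⟨1, by simp, ?_, ?_, Or.inr ⟨?_, ?_⟩⟩ <;> simp only [inv_one, one_mul, mul_one]
        exacts [key B 1 _ (by norm_num) hB e1, key C 2 _ (by norm_num) hC e2,
          key F 4 _ (by norm_num) hF e3, key G 3 _ (by norm_num) hG e4]
    | true =>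
      rw [h2] at h
      simp only [cond_true, force_eq, Bool.and_eq_true] at h
      obtain ⟨⟨h1, h3⟩, h4⟩ := h
      have hj : field HeAut.tuplePar 128 20 n % 4 < 3 := Nat.le_of_ble_eq_true h3
      have hp : field HeAut.tuplePar 128 20 n >>> 2 < n := Nat.le_of_ble_eq_true h1
      let K : ↥CE := kElt (HeAut.stabWords.getD (field HeAut.tuplePar 128 20 n % 4) [])
      obtain ⟨hcomm, he, hinv⟩ := stab_ok _ hj
      have hK : phiCode K = kCode (HeAut.stabWords.getD (field HeAut.tuplePar 128 20 n % 4) []) :=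
        phiCode_kElt _
      have hKi : phiCode K⁻¹ = HeAut.stabInvCode.getD (field HeAut.tuplePar 128 20 n % 4) 0 := by
        rw [phiCode, map_inv]
        refine code_inv_of_check (fun i hi => ?_) he
        rw [← phiCode, hK]
        exact hinv i hi
      have hstep : ∀ (X : ↥CE) (i : ℕ), i < 4 → phiCode X = invCode (tget n i) →
          phiCode (K⁻¹ * X * K) = invCode (tget (field HeAut.tuplePar 128 20 n >>> 2) i) := by
        intro X i hi hX
        rw [mul_assoc, phiCode_mul, phiCode_mul, hKi, hK, hX]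
        exact (Nat.eq_of_beq_eq_true (allFrom_get _ 4 0 h4 i (Nat.zero_le _) (by omega))).symm
      have hKa : K⁻¹ * genC 0 * K = genC 0 := by
        have e : K * genC 0 = genC 0 * K := phiCode_injective (by
          rw [phiCode_mul, phiCode_mul, hK, phiCode_genC 0 (by norm_num)]
          exact Nat.eq_of_beq_eq_true hcomm)
        rw [mul_assoc, ← e, inv_mul_cancel_left]
      obtain ⟨K', a', b', c', d'⟩ := ih _ hp (by omega) _ _ _ _ (hstep B 0 (by norm_num) hB)
        (hstep C 1 (by norm_num) hC) (hstep F 2 (by norm_num) hF) (hstep G 3 (by norm_num) hG)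
      have hm : ∀ X : ↥CE, (K * K')⁻¹ * X * (K * K') = K'⁻¹ * (K⁻¹ * X * K) * K' := fun X => by group
      refine ⟨K * K', ?_, ?_, ?_, ?_⟩
      · rw [hm, hKa, a']
      · rw [hm, b']
      · rw [hm, c']
      · rw [hm, hm]; exact d'

/-- **Classification of the completions of an image of `a`.** -/
theorem quad_conj (A B C F G : ↥CE) (ka kb kc kf kg : ℕ)
    (hA : phiCode A = invCode ka) (hB : phiCode B = invCode kb) (hC : phiCode C = invCode kc)
    (hF : phiCode F = invCode kf) (hG : phiCode G = invCode kg) (hka : ka = 533 ∨ ka = 435)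
    (hkb : kb ∈ aList) (hkc : kc ∈ aList) (hkf : kf ∈ eList) (hkg : kg ∈ eList)
    (r1 : (A * B) ^ 4 = 1) (r2 : A * C = C * A) (r3 : (B * C) ^ 3 = 1) (r4 : (A * B * C) ^ 3 = genC 5)
    (r5 : A * F = F * A) (r6 : B * F = F * B) (r7 : C * F = F * C)
    (r8 : A * G = G * A) (r9 : B * G = G * B) (r10 : C * G = G * C) (r11 : (F * G) ^ 2 = genC 5) :
    A = genC 0 ∧ ∃ K : ↥CE, K⁻¹ * genC 0 * K = genC 0 ∧ K⁻¹ * B * K = genC 1 ∧ K⁻¹ * C * K = genC 2 ∧
      ((K⁻¹ * F * K = genC 3 ∧ K⁻¹ * G * K = genC 4) ∨ (K⁻¹ * F * K = genC 4 ∧ K⁻¹ * G * K = genC 3)) := by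
  have g0 : HeAut.genIdx.getD 0 0 = 533 := by decide +kernel
  have g5 : HeAut.genIdx.getD 5 0 = 420 := by decide +kernel
  have hz : phiCode (genC 5) = invCode 420 := by rw [phiCode_genC 5 (by norm_num), g5]
  have hc : ∀ {X Y : ↥CE} {p q : ℕ}, X * Y = Y * X → phiCode X = p → phiCode Y = q → commC p q = true := by
    intro X Y p q h hp hq
    rw [commC, ← hp, ← hq, ← phiCode_mul, ← phiCode_mul, h]
    exact Nat.beq_refl _
  have hmem : pack4 kb kc kf kg ∈ search ka := by
    refine mem_search hkb hkc hkf hkg ?_ (hc r2 hA hC) ?_ (hc r5 hA hF) (hc r6 hB hF) (hc r7 hC hF)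
      (hc r8 hA hG) (hc r9 hB hG) (hc r10 hC hG) ?_
    · rw [okB, force_eq, force_eq, ← hA, ← hB, ← phiCode_mul, ← phiCode_mul, ← phiCode_mul,
        show A * B * (A * B) * (A * B * (A * B)) = (A * B) ^ 4 by simp [pow_succ, mul_assoc], r1, phiCode_one]
      exact Nat.beq_refl _
    · simp only [okC, force_eq, Bool.and_eq_true]
      rw [← hA, ← hB, ← hC, ← hz]
      simp only [← phiCode_mul]
      rw [show B * C * (B * C * (B * C)) = (B * C) ^ 3 by simp [pow_succ, mul_assoc], r3, phiCode_one,
        show A * (B * C) * (A * (B * C) * (A * (B * C))) = (A * B * C) ^ 3 by simp [pow_succ, mul_assoc], r4]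
      exact ⟨Nat.beq_refl _, Nat.beq_refl _⟩
    · rw [okFG, force_eq, ← hF, ← hG, ← phiCode_mul, ← phiCode_mul,
        show F * G * (F * G) = (F * G) ^ 2 by rw [pow_two], r11, hz]
      exact Nat.beq_refl _
  rcases hka with rfl | rfl
  · rw [search_a, List.mem_map] at hmem
    obtain ⟨n, hn, hne⟩ := hmem
    have lt : ∀ {k : ℕ}, k ∈ aList ∨ k ∈ eList → k < 1024 := by
      intro k hk
      rcases hk with hk | hk <;> have := List.mem_range.1 (List.mem_filter.1 hk).1 <;> omega
    obtain ⟨u0, u1, u2, u3⟩ :=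
      unpack4 (lt (Or.inl hkb)) (lt (Or.inl hkc)) (lt (Or.inr hkf)) (lt (Or.inr hkg))
    have ht : ∀ i, tget n i = (pack4 kb kc kf kg >>> (10 * i)) % 1024 := fun i => by rw [tget, hne]
    refine ⟨phiCode_injective (by rw [hA, phiCode_genC 0 (by norm_num), g0]),
      tuple_conj n (searchOrder_lt n hn) B C F G ?_ ?_ ?_ ?_⟩
    · rw [hB, ht, u0]
    · rw [hC, ht, u1]
    · rw [hF, ht, u2]
    · rw [hG, ht, u3]
  · rw [search_other] at hmem
    exact absurd hmem List.not_mem_nil

end CfsgLib.InvChar.SporHeInvol
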