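import Cfsg.Agent.Lib.InvChar.SporJ2

/-!
# Four points with trivial stabiliser for the presented Hall-Janko group
-/

set_option autoImplicit false
set_option maxRecDepth 100000

namespace CfsgLib.InvChar.SporJ2

open CfsgLib.InvChar.Coset CfsgLib.InvChar.Coset.J2A

/-- The four base points. -/
def basePts : List ℕ := [0, 1, 3, 2]

/-- A permutation in the image fixing the four base points is trivial. -/
theorem base_trivial (σ : Equiv.Perm (Fin table.n)) (hσ : σ ∈ rep.range)
    (h : ∀ i : Fin table.n, (i : ℕ) ∈ basePts → σ i = i) : σ = 1 := by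
  let P := fun k (hk : k < 100) => MulAction.stabilizer (Equiv.Perm (Fin table.n)) (⟨k, hk⟩ : Fin table.n)
  let R4 := rep.range ⊓ P 0 (by norm_num) ⊓ P 1 (by norm_num) ⊓ P 3 (by norm_num) ⊓ P 2 (by norm_num)
  have hm : σ ∈ R4 :=
    ⟨⟨⟨⟨hσ, h ⟨0, _⟩ (by decide)⟩, h ⟨1, _⟩ (by decide)⟩, h ⟨3, _⟩ (by decide)⟩, h ⟨2, _⟩ (by decide)⟩
  have hN : Nat.card R4 ≤ Nat.card R4 := le_rfl
  have hmain : 604800 * Nat.card R4 ≤ Nat.card rep.range := by
    let s := gen
    let φ := rep
    have hφ : ∀ x < table.g, φ (s x) = valid.toPerm sq x := rep_gen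
    have r0 := Table.realises_range valid sq s φ hφ
    have r1' := r0.derived table tab1 words1 (by decide) (by decide +kernel) derived1
    have r1 := Table.Realises.inf_stabilizer (T := tab1) r1' (⟨0, by decide +kernel⟩ : Fin table.n) (by intro x hx; have hx : x < 6 := hx; revert x; decide +kernel)
    have r2' := r1.derived tab1 tab2 words2 (by decide) (by decide +kernel) derived2
    have r2 := Table.Realises.inf_stabilizer (T := tab2) r2' (⟨1, by decide +kernel⟩ : Fin table.n) (by intro x hx; have hx : x < 6 := hx; revert x; decide +kernel)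
    have r3' := r2.derived tab2 tab3 words3 (by decide) (by decide +kernel) derived3
    have r3 := Table.Realises.inf_stabilizer (T := tab3) r3' (⟨3, by decide +kernel⟩ : Fin table.n) (by intro x hx; have hx : x < 2 := hx; revert x; decide +kernel)
    have c3 := Table.card_ge_step (T := tab3) (n := table.n) rfl r3 (S := [[0], [1]]) (by decide +kernel) (by decide) orbit3_ok ⟨2, by decide +kernel⟩ base3.symm hN
    have c2 := Table.card_ge_step (T := tab2) (n := table.n) rfl r2 (S := [[0], [1], [2], [3], [4], [5]]) (by decide +kernel) (by decide) orbit2_ok ⟨3, by decide +kernel⟩ base2.symm c3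
    have c1 := Table.card_ge_step (T := tab1) (n := table.n) rfl r1 (S := [[0], [1], [2], [3], [4], [5]]) (by decide +kernel) (by decide) orbit1_ok ⟨1, by decide +kernel⟩ base1.symm c2
    have c0 := Table.card_ge_step (T := table) (n := table.n) rfl r0 (S := [[0], [1], [2], [3], [4]]) (by decide +kernel) (by decide) orbit0_ok ⟨0, by decide +kernel⟩ base0.symm c1
    refine le_trans ?_ c0
    omega
  have hc : Nat.card rep.range = 604800 :=
    (Nat.card_congr (MonoidHom.ofInjective card_eq.2).toEquiv).symm.trans card_eq.1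
  have h1 : Nat.card R4 ≤ 1 := by
    by_contra hlt
    push Not at hlt
    omega
  exact Subgroup.mem_bot.1 (Subgroup.eq_bot_of_card_le R4 h1 ▸ hm)

end CfsgLib.InvChar.SporJ2
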