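import Cfsg.Agent.Lib.InvChar.SporJ2Base
import Cfsg.Agent.Lib.InvChar.SporJ2SpecData
import Mathlib.Dynamics.PeriodicPts.Lemmas

/-!
# Words, cycle lengths and element orders in the presented Hall-Janko group
-/

set_option autoImplicit false
set_option maxRecDepth 100000

namespace CfsgLib.InvChar.SporJ2

open CfsgLib.InvChar.Coset

/-- The possible orders. -/
def orders : List ℕ := [1, 2, 3, 4, 5, 6, 7, 8, 10, 12, 15]

theorem rep_wprod (L : List ℕ) (hL : ∀ x ∈ L, x < 5) (i : Fin J2A.table.n) :
    J2A.table.follow L i = ((rep (wprod gen L))⁻¹ i : Fin J2A.table.n) := by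
  rw [J2A.valid.follow_eq J2A.sq L hL i, map_wprod rep gen perm L fun x hx => rep_gen x (hL x hx)]
  rfl

/-- Entry of a packed permutation. -/
noncomputable def pget (p i : ℕ) : ℕ := (p >>> (8 * i)) % 256

/-- A packed permutation is a word. -/
noncomputable def chkPacked (L : List ℕ) (p : ℕ) : Bool :=
  (L.all fun x => Nat.blt x 5) && (List.range 100).all fun i => Nat.beq (pget p i) (J2A.table.follow L i)

/-- A packed permutation `p` is the word `L`. -/
def IsWord (L : List ℕ) (p : ℕ) : Prop :=
  (∀ x ∈ L, x < 5) ∧ ∀ i < 100, pget p i = J2A.table.follow L i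

theorem isWord_of_chk {L : List ℕ} {p : ℕ} (h : chkPacked L p = true) : IsWord L p := by
  simp only [chkPacked, Bool.and_eq_true, List.all_eq_true, List.mem_range] at h
  exact ⟨fun x hx => by simpa [Nat.blt] using h.1 x hx, fun i hi => Nat.eq_of_beq_eq_true (h.2 i hi)⟩

theorem follow_lt (L : List ℕ) (hL : ∀ x ∈ L, x < 5) (i : ℕ) (hi : i < 100) : J2A.table.follow L i < 100 := by
  have h := rep_wprod L hL ⟨i, hi⟩
  rw [h]
  exact Fin.isLt _

/-- Apply four packed permutations. -/
noncomputable def app4 (a b c d i : ℕ) : ℕ :=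
  force (pget a i) fun j => force (pget b j) fun k => force (pget c k) fun l => pget d l

theorem app4_eq {A B C E : List ℕ} {a b c d : ℕ} (ha : IsWord A a) (hb : IsWord B b) (hc : IsWord C c)
    (hd : IsWord E d) {i : ℕ} (hi : i < 100) :
    app4 a b c d i = J2A.table.follow (A ++ B ++ C ++ E) i := by
  simp only [app4, force_eq, Table.follow_append]
  rw [ha.2 i hi, hb.2 _ (follow_lt A ha.1 i hi), hc.2 _ (follow_lt B hb.1 _ (follow_lt A ha.1 i hi)),
    hd.2 _ (follow_lt C hc.1 _ (follow_lt B hb.1 _ (follow_lt A ha.1 i hi)))]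

/-- The cycle length of `i` when at most `n`. -/
noncomputable def cyc (f : ℕ → ℕ) (i : ℕ) (n : ℕ) : ℕ → ℕ → ℕ :=
  Nat.rec (fun _ _ => 0)
    (fun _ ih j k => force (f j) fun j' => bif Nat.beq j' i then k else force (k + 1) (ih j')) n

theorem cyc_spec (f : ℕ → ℕ) (i : ℕ) : ∀ n j k, 0 < k → f^[k - 1] i = j →
    (∀ m, 0 < m → m < k → f^[m] i ≠ i) → cyc f i n j k ≠ 0 →
    Function.minimalPeriod f i = cyc f i n j k := by
  intro n
  induction n with
  | zero => intro j k _ _ _ h; exact absurd rfl h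
  | succ n ih =>
    intro j k hk hj hmin hne
    have e : cyc f i (n + 1) j k = bif Nat.beq (f j) i then k else cyc f i n (f j) (k + 1) := by
      show force (f j) (fun j' => bif Nat.beq j' i then k else force (k + 1) (cyc f i n j')) = _
      simp only [force_eq]
    have hfj : f^[k] i = f j := by
      conv_lhs => rw [show k = (k - 1) + 1 by omega, Function.iterate_succ_apply', hj]
    cases hb : Nat.beq (f j) i with
    | true =>
      rw [e, hb, cond_true]
      have hper : Function.IsPeriodicPt f k i := hfj.trans (Nat.eq_of_beq_eq_true hb)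
      refine le_antisymm (hper.minimalPeriod_le hk) (Nat.le_of_not_lt fun hlt => ?_)
      exact hmin _ (hper.minimalPeriod_pos hk) hlt (Function.isPeriodicPt_minimalPeriod f i)
    | false =>
      rw [e, hb, cond_false] at hne ⊢
      refine ih (f j) (k + 1) (by omega) (by simpa using hfj) (fun m hm hmk => ?_) hne
      rcases Nat.lt_succ_iff_lt_or_eq.1 hmk with h | rfl
      · exact hmin m hm h
      · rw [hfj]; exact Nat.ne_of_beq_eq_false hb

/-- The order of the element of a function, from its cycles through the four base points. -/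
noncomputable def ordF (f : ℕ → ℕ) : ℕ :=
  force (cyc f 0 15 0 1) fun a => force (cyc f 1 15 1 1) fun b =>
    force (cyc f 3 15 3 1) fun c => force (cyc f 2 15 2 1) fun d =>
      bif Nat.beq a 0 || Nat.beq b 0 || Nat.beq c 0 || Nat.beq d 0 then 0 else Nat.lcm (Nat.lcm a b) (Nat.lcm c d)

theorem minimalPeriod_congr {n : ℕ} {f : ℕ → ℕ} {σ : Equiv.Perm (Fin n)}
    (h : ∀ i : Fin n, f i = (σ i : ℕ)) (i : Fin n) :
    Function.minimalPeriod f i = Function.minimalPeriod σ i := by
  have hit : ∀ m : ℕ, f^[m] (i : ℕ) = ((⇑σ)^[m] i : ℕ) := by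
    intro m
    induction m with
    | zero => rfl
    | succ m ih => rw [Function.iterate_succ_apply', Function.iterate_succ_apply', ih, h]
  refine Function.minimalPeriod_eq_minimalPeriod_iff.2 fun m => ?_
  simp only [Function.IsPeriodicPt, Function.IsFixedPt, hit]
  exact ⟨fun e => Fin.ext e, fun e => congrArg Fin.val e⟩

/-- The order computed from the cycles is the order. -/
theorem orderOf_of_ordF (L : List ℕ) (hL : ∀ x ∈ L, x < 5) (f : ℕ → ℕ)
    (hf : ∀ i < 100, f i = J2A.table.follow L i) (hne : ordF f ≠ 0) :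
    orderOf (wprod gen L) = ordF f := by
  set σ := (rep (wprod gen L))⁻¹ with hσdef
  have hfσ : ∀ i : Fin J2A.table.n, f i = (σ i : ℕ) := fun i => (hf i i.2).trans (rep_wprod L hL i)
  have hord : orderOf σ = orderOf (wprod gen L) := by
    rw [hσdef, orderOf_inv, orderOf_injective rep card_eq.2]
  simp only [ordF, force_eq] at hne ⊢
  cases hb : (Nat.beq (cyc f 0 15 0 1) 0 || Nat.beq (cyc f 1 15 1 1) 0 || Nat.beq (cyc f 3 15 3 1) 0 ||
      Nat.beq (cyc f 2 15 2 1) 0) with
  | true => rw [hb, cond_true] at hne; exact absurd rfl hne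
  | false =>
    rw [cond_false]
    simp only [Bool.or_eq_false_iff] at hb
    obtain ⟨⟨⟨ha, hb'⟩, hc⟩, hd⟩ := hb
    have P : ∀ i : Fin J2A.table.n, Nat.beq (cyc f i 15 i 1) 0 = false →
        Function.minimalPeriod σ i = cyc f i 15 i 1 := fun i hi => by
      rw [← minimalPeriod_congr hfσ i]
      exact cyc_spec f i 15 i 1 one_pos rfl (fun m h1 h2 => by omega) (Nat.ne_of_beq_eq_false hi)
    have h0 : Function.minimalPeriod σ (⟨0, show 0 < 100 by norm_num⟩ : Fin J2A.table.n) = _ := P _ ha
    have h1 : Function.minimalPeriod σ (⟨1, show 1 < 100 by norm_num⟩ : Fin J2A.table.n) = _ := P _ hb'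
    have h3 : Function.minimalPeriod σ (⟨3, show 3 < 100 by norm_num⟩ : Fin J2A.table.n) = _ := P _ hc
    have h2 : Function.minimalPeriod σ (⟨2, show 2 < 100 by norm_num⟩ : Fin J2A.table.n) = _ := P _ hd
    rw [← hord]
    refine Nat.dvd_antisymm (orderOf_dvd_of_pow_eq_one (base_trivial _
      (pow_mem (inv_mem (show rep (wprod gen L) ∈ rep.range from ⟨_, rfl⟩)) _) fun i hi => ?_)) ?_
    · rw [Equiv.Perm.coe_pow]
      refine Function.isPeriodicPt_iff_minimalPeriod_dvd.2 ?_
      obtain ⟨k, hk⟩ := i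
      simp only [basePts, List.mem_cons, List.not_mem_nil, or_false] at hi
      rcases hi with rfl | rfl | rfl | rfl
      · rw [h0]; exact (Nat.dvd_lcm_left _ _).trans (Nat.dvd_lcm_left _ _)
      · rw [h1]; exact (Nat.dvd_lcm_right _ _).trans (Nat.dvd_lcm_left _ _)
      · rw [h3]; exact (Nat.dvd_lcm_left _ _).trans (Nat.dvd_lcm_right _ _)
      · rw [h2]; exact (Nat.dvd_lcm_right _ _).trans (Nat.dvd_lcm_right _ _)
    · have hdiv : ∀ i : Fin J2A.table.n, Function.minimalPeriod σ i ∣ orderOf σ := fun i => by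
        refine Function.isPeriodicPt_iff_minimalPeriod_dvd.1 ?_
        show (⇑σ)^[orderOf σ] i = i
        rw [← Equiv.Perm.coe_pow, pow_orderOf_eq_one]
        rfl
      exact Nat.lcm_dvd (Nat.lcm_dvd (h0 ▸ hdiv _) (h1 ▸ hdiv _)) (Nat.lcm_dvd (h3 ▸ hdiv _) (h2 ▸ hdiv _))

/-- The order of one product of packed permutations is allowed. -/
noncomputable def chkOrd (a b c d : ℕ) : Bool :=
  force (ordF (app4 a b c d)) fun n => orders.any fun m => Nat.beq n m

theorem order_of_chkOrd {A B C E : List ℕ} {a b c d : ℕ} (ha : IsWord A a) (hb : IsWord B b) (hc : IsWord C c)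
    (hd : IsWord E d) (h : chkOrd a b c d = true) : orderOf (wprod gen (A ++ B ++ C ++ E)) ∈ orders := by
  simp only [chkOrd, force_eq, List.any_eq_true] at h
  obtain ⟨m, hm, hm'⟩ := h
  have hL : ∀ x ∈ A ++ B ++ C ++ E, x < 5 := by
    intro x hx
    simp only [List.mem_append] at hx
    rcases hx with ((h | h) | h) | h
    exacts [ha.1 x h, hb.1 x h, hc.1 x h, hd.1 x h]
  have e : ordF (app4 a b c d) = m := Nat.eq_of_beq_eq_true hm'
  rw [orderOf_of_ordF _ hL (app4 a b c d) (fun i hi => app4_eq ha hb hc hd hi), e]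
  · exact hm
  · rw [e]
    exact fun h0 => absurd (h0 ▸ hm) (by decide)

end CfsgLib.InvChar.SporJ2
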