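import Cfsg.Agent.Lib.InvChar.SporJ2Orders

/-! Orders of the elements of one double coset of the point stabiliser. -/

set_option autoImplicit false
set_option maxRecDepth 100000

namespace CfsgLib.InvChar.SporJ2

theorem chk_coset1 : (Data.perms2.all fun c => Data.perms1.all fun b => Data.perms0.all fun a =>
    chkOrd c b a (Data.perms3.getD 1 0)) = true := by decide +kernel

end CfsgLib.InvChar.SporJ2
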