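import Cfsg.Agent.Lib.InvChar.SporJ2Spec0
import Cfsg.Agent.Lib.InvChar.SporJ2Spec1
import Cfsg.Agent.Lib.InvChar.SporJ2Spec2

/-!
# The spectrum of the presented Hall-Janko group
-/

set_option autoImplicit false
set_option maxRecDepth 100000

namespace CfsgLib.InvChar.SporJ2

open CfsgLib.InvChar.Coset

theorem chk_words :
    ((Data.words0.zip Data.perms0).all fun x => chkPacked x.1 x.2 && x.1.all fun y => Nat.blt y 4) = true ∧
    ((Data.words1.zip Data.perms1).all fun x => chkPacked x.1 x.2 && x.1.all fun y => Nat.blt y 4) = true ∧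
    ((Data.words2.zip Data.perms2).all fun x => chkPacked x.1 x.2 && x.1.all fun y => Nat.blt y 4) = true ∧
    ((Data.words3.zip Data.perms3).all fun x => chkPacked x.1 x.2) = true := by
  decide +kernel

theorem lengths : Data.words0.length = 63 ∧ Data.perms0.length = 63 ∧ Data.words1.length = 32 ∧
    Data.perms1.length = 32 ∧ Data.words2.length = 3 ∧ Data.perms2.length = 3 ∧ Data.words3.length = 3 ∧
    Data.perms3.length = 3 := by decide +kernel

/-- The shape of the transversals: images and fixed points. -/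
theorem chk_shape :
    (Data.perms1.all fun p => Nat.beq (pget p 1) 1) = true ∧
    (Data.perms2.all fun p => Nat.beq (pget p 1) 1 && Nat.beq (pget p 3) 3) = true ∧
    (Data.perms0.map fun p => pget p 1).Nodup ∧ (Data.perms1.map fun p => pget p 3).Nodup ∧
    (Data.perms2.map fun p => pget p 2).Nodup ∧ (Data.words3.getD 0 [] = []) := by
  decide +kernel

theorem isWord_getD {W : List (List ℕ)} {P : List ℕ} (h : ((W.zip P).all fun x => chkPacked x.1 x.2) = true)
    (hl : W.length = P.length) {i : ℕ} (hi : i < W.length) : IsWord (W.getD i []) (P.getD i 0) := by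
  refine isWord_of_chk ?_
  have hz : i < (W.zip P).length := by simp [List.length_zip]; omega
  have := List.all_eq_true.1 h _ (List.getElem_mem hz)
  rw [List.getElem_zip] at this
  rwa [List.getD_eq_getElem _ _ hi, List.getD_eq_getElem _ _ (hl ▸ hi)]

theorem isWord_H {W : List (List ℕ)} {P : List ℕ}
    (h : ((W.zip P).all fun x => chkPacked x.1 x.2 && x.1.all fun y => Nat.blt y 4) = true)
    (hl : W.length = P.length) {i : ℕ} (hi : i < W.length) :
    IsWord (W.getD i []) (P.getD i 0) ∧ wprod gen (W.getD i []) ∈ H := by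
  refine ⟨isWord_getD ?_ hl hi, ?_⟩
  · exact List.all_eq_true.2 fun x hx => ((Bool.and_eq_true _ _).mp (List.all_eq_true.1 h x hx)).1
  · have hz : i < (W.zip P).length := by simp [List.length_zip]; omega
    have := ((Bool.and_eq_true _ _).mp (List.all_eq_true.1 h _ (List.getElem_mem hz))).2
    rw [List.getElem_zip] at this
    rw [List.getD_eq_getElem _ _ hi]
    refine Subgroup.list_prod_mem H fun y hy => ?_
    obtain ⟨x, hx, rfl⟩ := List.mem_map.1 hy
    have hx4 : x < 4 := by simpa [Nat.blt] using List.all_eq_true.1 this x hx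
    have hs : [x] ∈ J2A.subs := by interval_cases x <;> decide
    simpa [wprod] using subs_mem [x] hs

/-- The elements of the point stabiliser as products of transversal words. -/
noncomputable def hWord (p : Fin 3 × Fin 32 × Fin 63) : List ℕ :=
  Data.words2.getD p.1 [] ++ Data.words1.getD p.2.1 [] ++ Data.words0.getD p.2.2 []

theorem getD_inj {L : List ℕ} (h : L.Nodup) {i j : ℕ} (hi : i < L.length) (hj : j < L.length)
    (e : L.getD i 0 = L.getD j 0) : i = j := by
  rw [List.getD_eq_getElem _ _ hi, List.getD_eq_getElem _ _ hj] at e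
  exact h.getElem_inj_iff.1 e

theorem map_getD {P : List ℕ} {f : ℕ → ℕ} {i : ℕ} (hi : i < P.length) :
    (P.map f).getD i 0 = f (P.getD i 0) := by
  rw [List.getD_eq_getElem _ _ (by simpa using hi), List.getD_eq_getElem _ _ hi, List.getElem_map]

theorem hWord_bijective : ∀ g ∈ H, ∃ p, wprod gen (hWord p) = g := by
  obtain ⟨w0, w1, w2, -⟩ := chk_words
  obtain ⟨l0, m0, l1, m1, l2, m2, -, -⟩ := lengths
  obtain ⟨f1, f2, n0, n1, n2, -⟩ := chk_shape
  have hmem : ∀ p, wprod gen (hWord p) ∈ H := fun p => by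
    rw [hWord, wprod_append, wprod_append]
    exact mul_mem (mul_mem (isWord_H w2 (l2.trans m2.symm) (l2.symm ▸ p.1.2)).2
      (isWord_H w1 (l1.trans m1.symm) (l1.symm ▸ p.2.1.2)).2) (isWord_H w0 (l0.trans m0.symm) (l0.symm ▸ p.2.2.2)).2
  have hinj : Function.Injective fun p => (⟨wprod gen (hWord p), hmem p⟩ : H) := by
    rintro ⟨a, b, c⟩ ⟨a', b', c'⟩ h
    have h' := congrArg Subtype.val h
    have hC := fun (c : Fin 63) => isWord_H w0 (l0.trans m0.symm) (i := c) (lt_of_lt_of_eq c.2 l0.symm)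
    have hB := fun (b : Fin 32) => isWord_H w1 (l1.trans m1.symm) (i := b) (lt_of_lt_of_eq b.2 l1.symm)
    have hA := fun (a : Fin 3) => isWord_H w2 (l2.trans m2.symm) (i := a) (lt_of_lt_of_eq a.2 l2.symm)
    have hlt : ∀ p : Fin 3 × Fin 32 × Fin 63, ∀ x ∈ hWord p, x < 5 := fun p x hx => by
      simp only [hWord, List.mem_append] at hx
      rcases hx with (hx | hx) | hx
      exacts [(hA p.1).1.1 x hx, (hB p.2.1).1.1 x hx, (hC p.2.2).1.1 x hx]
    have hfol : ∀ i : ℕ, i < 100 → J2A.table.follow (hWord (a, b, c)) i = J2A.table.follow (hWord (a', b', c')) i :=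
      fun i hi => by
        rw [rep_wprod _ (hlt _) ⟨i, hi⟩, rep_wprod _ (hlt _) ⟨i, hi⟩]
        exact congrArg (fun g => (((rep g)⁻¹ ⟨i, hi⟩ : Fin J2A.table.n) : ℕ)) h'
    have fA1 : ∀ a : Fin 3, J2A.table.follow (Data.words2.getD a []) 1 = 1 ∧
        J2A.table.follow (Data.words2.getD a []) 3 = 3 := fun a => by
      have := List.all_eq_true.1 f2 (Data.perms2.getD a 0) (by
        rw [List.getD_eq_getElem _ _ (m2.symm ▸ a.2)]; exact List.getElem_mem _)
      rw [Bool.and_eq_true, (hA a).1.2 1 (by norm_num), (hA a).1.2 3 (by norm_num)] at this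
      exact ⟨Nat.eq_of_beq_eq_true this.1, Nat.eq_of_beq_eq_true this.2⟩
    have fB1 : ∀ b : Fin 32, J2A.table.follow (Data.words1.getD b []) 1 = 1 := fun b => by
      have := List.all_eq_true.1 f1 (Data.perms1.getD b 0) (by
        rw [List.getD_eq_getElem _ _ (m1.symm ▸ b.2)]; exact List.getElem_mem _)
      rw [(hB b).1.2 1 (by norm_num)] at this
      exact Nat.eq_of_beq_eq_true this
    have e1 := hfol 1 (by norm_num)
    simp only [hWord, Table.follow_append, (fA1 a).1, (fA1 a').1, fB1] at e1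
    rw [← (hC c).1.2 1 (by norm_num), ← (hC c').1.2 1 (by norm_num), ← map_getD (f := fun p => pget p 1) (m0.symm ▸ c.2),
      ← map_getD (f := fun p => pget p 1) (m0.symm ▸ c'.2)] at e1
    obtain rfl : c = c' := Fin.ext (getD_inj n0 (by simp [m0]) (by simp [m0]) e1)
    have hcancel : ∀ i j : ℕ, i < 100 → j < 100 →
        J2A.table.follow (Data.words0.getD c []) i = J2A.table.follow (Data.words0.getD c []) j → i = j := by
      intro i j hi hj e
      rw [rep_wprod _ (hC c).1.1 ⟨i, hi⟩, rep_wprod _ (hC c).1.1 ⟨j, hj⟩] at e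
      exact congrArg Fin.val ((rep (wprod gen (Data.words0.getD c [])))⁻¹.injective (Fin.ext e))
    have hBlt : ∀ b : Fin 32, ∀ i < 100, J2A.table.follow (Data.words1.getD b []) i < 100 := fun b i hi =>
      follow_lt _ (hB b).1.1 i hi
    have e3 := hfol 3 (by norm_num)
    simp only [hWord, Table.follow_append, (fA1 a).2, (fA1 a').2] at e3
    have e3' := hcancel _ _ (hBlt b 3 (by norm_num)) (hBlt b' 3 (by norm_num)) e3
    rw [← (hB b).1.2 3 (by norm_num), ← (hB b').1.2 3 (by norm_num), ← map_getD (f := fun p => pget p 3) (m1.symm ▸ b.2),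
      ← map_getD (f := fun p => pget p 3) (m1.symm ▸ b'.2)] at e3'
    obtain rfl : b = b' := Fin.ext (getD_inj n1 (by simp [m1]) (by simp [m1]) e3')
    have hcancelB : ∀ i j : ℕ, i < 100 → j < 100 →
        J2A.table.follow (Data.words1.getD b []) i = J2A.table.follow (Data.words1.getD b []) j → i = j := by
      intro i j hi hj e
      rw [rep_wprod _ (hB b).1.1 ⟨i, hi⟩, rep_wprod _ (hB b).1.1 ⟨j, hj⟩] at e
      exact congrArg Fin.val ((rep (wprod gen (Data.words1.getD b [])))⁻¹.injective (Fin.ext e))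
    have e2 := hfol 2 (by norm_num)
    simp only [hWord, Table.follow_append] at e2
    have hAlt : ∀ a : Fin 3, J2A.table.follow (Data.words2.getD a []) 2 < 100 := fun a =>
      follow_lt _ (hA a).1.1 2 (by norm_num)
    have e2' := hcancelB _ _ (hAlt a) (hAlt a') (hcancel _ _ (hBlt b _ (hAlt a)) (hBlt b _ (hAlt a')) e2)
    rw [← (hA a).1.2 2 (by norm_num), ← (hA a').1.2 2 (by norm_num), ← map_getD (f := fun p => pget p 2) (m2.symm ▸ a.2),
      ← map_getD (f := fun p => pget p 2) (m2.symm ▸ a'.2)] at e2'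
    obtain rfl : a = a' := Fin.ext (getD_inj n2 (by simp [m2]) (by simp [m2]) e2')
    rfl
  have hbij := hinj.bijective_of_nat_card_le (by rw [card_H]; simp)
  intro g hg
  obtain ⟨p, hp⟩ := hbij.2 ⟨g, hg⟩
  exact ⟨p, congrArg Subtype.val hp⟩

/-- Every element is conjugate to a stabiliser element times one of three coset words. -/
theorem exists_conj (g : P) : ∃ x : P, ∃ h ∈ H, ∃ k < 3, x * g * x⁻¹ = h * wprod gen (Data.words3.getD k []) := by
  obtain ⟨-, e, he0, he⟩ := index_H
  have hS : ∀ L ∈ J2A.subs, ∀ x ∈ L, x < J2A.table.g := by decide +kernel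
  have o0 := suborbit_of_cert J2A.table rfl J2A.valid J2A.sq gen rep rep_gen e he hS H H_eq_words (by norm_num)
    J2A.sub0_ok ⟨field J2A.sub0Pts 128 20 0, by decide +kernel⟩ rfl
  have o1 := suborbit_of_cert J2A.table rfl J2A.valid J2A.sq gen rep rep_gen e he hS H H_eq_words (by norm_num)
    J2A.sub1_ok ⟨field J2A.sub1Pts 128 20 0, by decide +kernel⟩ rfl
  have hsplit : ∀ (T : P), (∃ h ∈ H, (g : P ⧸ H) = h • (T : P ⧸ H)) → ∃ x : P, ∃ h ∈ H, x * g * x⁻¹ = h * T := by
    rintro T ⟨h, hh, e⟩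
    have hmem : g⁻¹ * (h * T) ∈ H := QuotientGroup.eq.1 (e.trans (show h • (T : P ⧸ H) = ((h * T : P) : P ⧸ H) from rfl))
    refine ⟨(g⁻¹ * (h * T))⁻¹, (g⁻¹ * (h * T))⁻¹ * h, mul_mem (inv_mem hmem) hh, ?_⟩
    group
  obtain ⟨-, -, -, -, -, hw0⟩ := chk_shape
  obtain ⟨i, hi⟩ := e.surjective (g : P ⧸ H)
  have key : ∀ j < 100, j = 0 ∨
      ((field J2A.sub0Pos 128 20 j - 1 < 63) ∧ field J2A.sub0Pts 128 20 (field J2A.sub0Pos 128 20 j - 1) = j) ∨
      ((field J2A.sub1Pos 128 20 j - 1 < 36) ∧ field J2A.sub1Pts 128 20 (field J2A.sub1Pos 128 20 j - 1) = j) := by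
    decide +kernel
  have hT : ∀ k, ∀ p : Fin J2A.table.n, (∀ x ∈ Data.words3.getD k [], x < 5) →
      J2A.table.follow (Data.words3.getD k []).reverse 0 = p →
      e p = ((wprod gen (Data.words3.getD k []) : P) : P ⧸ H) := by
    intro k p hlt hfol
    have h := rep_wprod _ (fun x hx => hlt x (List.mem_reverse.1 hx)) (⟨0, J2A.covered.hn⟩ : Fin J2A.table.n)
    rw [wprod_reverse gen pres.gen_mul_self, map_inv, inv_inv] at h
    have hp : rep (wprod gen (Data.words3.getD k [])) ⟨0, J2A.covered.hn⟩ = p := Fin.ext (h.symm.trans hfol)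
    rw [← hp, ← he, he0]
    show ((wprod gen (Data.words3.getD k []) * 1 : P) : P ⧸ H) = _
    rw [mul_one]
  rcases key i i.2 with h | h | h
  · have hg : (g : P ⧸ H) = ((1 : P) : P ⧸ H) := by rw [← he0, ← hi]; exact congrArg e (Fin.ext h)
    obtain ⟨x, h', hh', ex⟩ := hsplit 1 ⟨1, one_mem H, by rw [one_smul]; exact hg⟩
    exact ⟨x, h', hh', 0, by norm_num, by rw [ex, hw0]; simp [wprod]⟩
  · obtain ⟨⟨y, hy⟩, hyq⟩ := (o0.2 i).2 ⟨_, h.1, h.2⟩
    rw [hT 1 ⟨field J2A.sub0Pts 128 20 0, by decide +kernel⟩ (by decide +kernel)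
      (show J2A.table.follow (Data.words3.getD 1 []).reverse 0 = field J2A.sub0Pts 128 20 0 by decide +kernel)] at hyq
    obtain ⟨x, h', hh', ex⟩ := hsplit (wprod gen (Data.words3.getD 1 [])) ⟨y, hy, hi.symm.trans hyq.symm⟩
    exact ⟨x, h', hh', 1, by norm_num, ex⟩
  · obtain ⟨⟨y, hy⟩, hyq⟩ := (o1.2 i).2 ⟨_, h.1, h.2⟩
    rw [hT 2 ⟨field J2A.sub1Pts 128 20 0, by decide +kernel⟩ (by decide +kernel)
      (show J2A.table.follow (Data.words3.getD 2 []).reverse 0 = field J2A.sub1Pts 128 20 0 by decide +kernel)] at hyq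
    obtain ⟨x, h', hh', ex⟩ := hsplit (wprod gen (Data.words3.getD 2 [])) ⟨y, hy, hi.symm.trans hyq.symm⟩
    exact ⟨x, h', hh', 2, by norm_num, ex⟩

theorem orderOf_mem (g : P) : orderOf g ∈ orders := by
  obtain ⟨x, h, hh, k, hk, e⟩ := exists_conj g
  obtain ⟨p, rfl⟩ := hWord_bijective h hh
  have hconj : orderOf g = orderOf (wprod gen (hWord p) * wprod gen (Data.words3.getD k [])) := by
    rw [← e]
    exact ((MulAut.conj x).orderOf_eq g).symm
  rw [hconj, ← wprod_append]
  obtain ⟨w0, w1, w2, w3⟩ := chk_words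
  obtain ⟨l0, m0, l1, m1, l2, m2, l3, m3⟩ := lengths
  refine order_of_chkOrd (isWord_H w2 (l2.trans m2.symm) (l2.symm ▸ p.1.2)).1
    (isWord_H w1 (l1.trans m1.symm) (l1.symm ▸ p.2.1.2)).1
    (isWord_H w0 (l0.trans m0.symm) (l0.symm ▸ p.2.2.2)).1
    (isWord_getD w3 (l3.trans m3.symm) (l3.symm ▸ hk)) ?_
  have hc : (Data.perms2.all fun c => Data.perms1.all fun b => Data.perms0.all fun a =>
      chkOrd c b a (Data.perms3.getD k 0)) = true := by
    interval_cases k
    exacts [chk_coset0, chk_coset1, chk_coset2]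
  have hmem : ∀ (P : List ℕ) (i : ℕ), i < P.length → P.getD i 0 ∈ P := fun P i hi => by
    rw [List.getD_eq_getElem _ _ hi]; exact List.getElem_mem _
  exact List.all_eq_true.1 (List.all_eq_true.1 (List.all_eq_true.1 hc _ (hmem _ _ (m2.symm ▸ p.1.2))) _
    (hmem _ _ (m1.symm ▸ p.2.1.2))) _ (hmem _ _ (m0.symm ▸ p.2.2.2))

theorem chk_witnesses : (Data.witnesses.all fun L => L.all fun x => Nat.blt x 5) = true ∧
    Data.witnesses.map (fun L => ordF fun i => J2A.table.follow L i) = orders := by decide +kernel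

/-- **The spectrum.** -/
theorem range_orderOf : Set.range (orderOf : P → ℕ) = {n | n ∈ orders} := by
  ext n
  constructor
  · rintro ⟨g, rfl⟩; exact orderOf_mem g
  · intro hn
    have hn' := hn
    rw [Set.mem_setOf_eq, ← chk_witnesses.2, List.mem_map] at hn'
    obtain ⟨L, hL, rfl⟩ := hn'
    refine ⟨wprod gen L, ?_⟩
    rw [orderOf_of_ordF L (fun x hx => by
      simpa [Nat.blt] using List.all_eq_true.1 (List.all_eq_true.1 chk_witnesses.1 L hL) x hx) _ (fun i _ => rfl)]
    intro h0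
    rw [Set.mem_setOf_eq, h0] at hn
    exact absurd hn (by decide)

end CfsgLib.InvChar.SporJ2
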