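import Cfsg.Agent.Lib.InvChar.SporJ2
import Cfsg.Agent.Lib.InvChar.SporJ2U3Data
import Cfsg.Agent.Lib.Recog.UThreeThree
import Cfsg.Agent.Lib.Classical.SUCenter
import Cfsg.Agent.Lib.Classical.UnitaryGen
import Cfsg.Agent.Lib.Classical.HermOrder

/-!
# The point stabiliser of the Hall-Janko group on 100 points is `PSU(3,3)`

Both are images of the group presented by the relators of the stabiliser certificate: the upper bound
6048 comes from the coset enumerations, surjectivity onto `PSU(3,3)` from 680 distinct images and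
simplicity, since a proper subgroup of index at most eight is impossible.
-/

set_option autoImplicit false
set_option maxRecDepth 100000

namespace CfsgLib.InvChar.SporJ2U3

open CfsgLib.InvChar.Coset CfsgLib.Recog.UThreeThree

/-- The presentation of the stabiliser. -/
def pres : WordPres where
  g := 4
  rels := J2B.rels
  pos := by decide
  lt := by decide +kernel
  sq := by decide +kernel

theorem card_le : Finite pres.Grp ∧ Nat.card pres.Grp ≤ 6048 := by
  have h0 := card_lettersClosure_nil pres.gen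
  have h1 := J2D.covered.chain_step pres.gen pres.gen_mul_self J2D.emb [] rfl
    (pres.rels_subGen _ _ (by decide +kernel)) (by decide) (by decide +kernel) h0.1 h0.2
  have h2 := J2C.covered.chain_step pres.gen pres.gen_mul_self J2C.emb J2D.emb rfl
    (pres.rels_subGen _ _ (by decide +kernel)) (by decide) (by decide +kernel) h1.1 h1.2
  have h3 := J2B.covered.chain_step pres.gen pres.gen_mul_self J2B.emb J2C.emb rfl
    (pres.rels_subGen _ _ (by decide +kernel)) (by decide) (by decide +kernel) h2.1 h2.2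
  exact pres.card_le_of_lettersClosure (emb := J2B.emb) rfl ⟨h3.1, h3.2.trans (le_of_eq rfl)⟩

instance finite_pres : Finite pres.Grp := card_le.1

/-- The stabiliser is the presented group. -/
theorem equiv_H : Nonempty (pres.Grp ≃* SporJ2.H) := by
  obtain ⟨φ, hφ⟩ := pres.exists_hom SporJ2.gen fun r hr => SporJ2.pres.gen_rel r
    ((by decide +kernel : ∀ r ∈ J2B.rels, r ∈ J2A.rels) r hr)
  have hH : φ.range = SporJ2.H := by
    rw [MonoidHom.range_eq_map, ← pres.closure_gen, MonoidHom.map_closure, SporJ2.H, lettersClosure]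
    congr 1
    ext y
    simp only [Set.mem_image, Set.mem_Iio]
    constructor
    · rintro ⟨_, ⟨x, hx, rfl⟩, rfl⟩
      have hx' : x < 4 := hx
      refine ⟨x, hx, ?_⟩
      rw [hφ x hx, subGen, if_pos (show x < J2B.emb.length from hx)]
      interval_cases x <;> rfl
    · rintro ⟨x, hx, rfl⟩
      have hx' : x < 4 := hx
      refine ⟨_, ⟨x, hx, rfl⟩, ?_⟩
      rw [hφ x hx, subGen, if_pos (show x < J2B.emb.length from hx)]
      interval_cases x <;> rfl
  obtain ⟨-, hinj⟩ := card_eq_and_injective φ (by norm_num) card_le (hH ▸ SporJ2.card_H.ge)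
  exact ⟨(MonoidHom.ofInjective hinj).trans (MulEquiv.subgroupCongr hH)⟩

/-- The four involutions. -/
def mgen : ℕ → M3
  | 0 => m0
  | 1 => m1
  | 2 => m2
  | _ => m3

theorem mgen_su : ∀ x, isSU (mgen x) = true
  | 0 => by decide +kernel
  | 1 => by decide +kernel
  | 2 => by decide +kernel
  | _ + 3 => by show isSU m3 = true; decide +kernel

/-- The product of a word. -/
def evalM : List ℕ → M3
  | [] => pw m0 0
  | x :: L => mul (mgen x) (evalM L)

theorem rels_one : ∀ r ∈ J2B.rels, isOne (evalM r) = true := by decide +kernel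

/-- The matrix of a coded word. -/
def evalN : ℕ → ℕ → M3
  | 0, _ => pw m0 0
  | f + 1, w => if w = 0 then pw m0 0 else mul (evalN f (w / 5)) (mgen (w % 5 - 1))

/-- Whether all entries are reduced. -/
def red (m : M3) : Bool :=
  [m.a, m.b, m.c, m.d, m.e, m.f, m.g, m.h, m.i].all fun c => decide (c.re < 3) && decide (c.im < 3)

/-- The code of a matrix. -/
def code (m : M3) : ℕ :=
  [m.a, m.b, m.c, m.d, m.e, m.f, m.g, m.h, m.i].foldl (fun s c => s * 9 + c.re * 3 + c.im) 0

/-- Strictly increasing. -/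
def incr : List ℕ → Bool
  | a :: b :: L => decide (a < b) && incr (b :: L)
  | _ => true

theorem words_ok : incr (words.map fun w => code (evalN 8 w)) = true ∧
    (words.all fun w => red (evalN 8 w)) = true ∧ words.length = 680 := by
  decide +kernel

theorem pairwise_of_incr : ∀ L : List ℕ, incr L = true → L.Pairwise (· < ·) := by
  intro L h
  rw [← List.isChain_iff_pairwise]
  induction L with
  | nil => exact List.IsChain.nil
  | cons a L ih =>
    cases L with
    | nil => exact List.IsChain.singleton a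
    | cons b L =>
      simp only [incr, Bool.and_eq_true, decide_eq_true_eq] at h
      exact List.IsChain.cons_cons h.1 (ih h.2)

variable {F : Type} [Field F] [Fintype F] [CharP F 3] {i : F} (hi : i * i = -1)
include hi

/-- The four involutions in `SU(3,3)`. -/
def sgen (x : ℕ) : Cfsg.SU 3 F 3 := toSU hi (mgen x) (mgen_su x)

theorem coe_sgen (x : ℕ) :
    (((sgen hi x : Cfsg.SU 3 F 3) : Matrix.SpecialLinearGroup (Fin 3) F) : Matrix (Fin 3) (Fin 3) F) =
      toMat i (mgen x) := rfl

omit hi in
theorem toMat_pw_zero : toMat i (pw m0 0) = 1 := isOne_spec _ (by rfl)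

theorem coe_wprod (L : List ℕ) :
    (((wprod (sgen hi) L : Cfsg.SU 3 F 3) : Matrix.SpecialLinearGroup (Fin 3) F) : Matrix (Fin 3) (Fin 3) F) =
      toMat i (evalM L) := by
  induction L with
  | nil => rw [evalM, toMat_pw_zero]; rfl
  | cons x L ih =>
    rw [wprod, List.map_cons, List.prod_cons, Subgroup.coe_mul, Matrix.SpecialLinearGroup.coe_mul,
      coe_sgen, evalM, toMat_mul hi, ← ih]
    rfl

theorem exists_hom_su : ∃ ψ : pres.Grp →* Cfsg.SU 3 F 3, ∀ x < 4, ψ (pres.gen x) = sgen hi x :=
  pres.exists_hom (sgen hi) fun r hr => Subtype.ext (Subtype.ext (by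
    rw [coe_wprod hi, isOne_spec _ (rels_one r hr)]; rfl))

omit hi in
theorem exists_image (ψ : pres.Grp →* Cfsg.SU 3 F 3) (hi : i * i = -1)
    (hψ : ∀ x < 4, ψ (pres.gen x) = sgen hi x) (f w : ℕ) :
    ∃ u, (((ψ u : Cfsg.SU 3 F 3) : Matrix.SpecialLinearGroup (Fin 3) F) : Matrix (Fin 3) (Fin 3) F) =
      toMat i (evalN f w) := by
  induction f generalizing w with
  | zero => exact ⟨1, by rw [map_one, evalN, toMat_pw_zero]; rfl⟩
  | succ f ih =>
    by_cases h : w = 0
    · exact ⟨1, by rw [map_one, evalN, if_pos h, toMat_pw_zero]; rfl⟩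
    · obtain ⟨u, hu⟩ := ih (w / 5)
      refine ⟨u * pres.gen (w % 5 - 1), ?_⟩
      rw [map_mul, hψ _ (by omega), Subgroup.coe_mul, Matrix.SpecialLinearGroup.coe_mul, hu, coe_sgen,
        evalN, if_neg h, toMat_mul hi]

theorem code_inj {A B : M3} (hA : red A = true) (hB : red B = true) (h : toMat i A = toMat i B) :
    code A = code B := by
  simp only [red, List.all_cons, List.all_nil, Bool.and_eq_true, decide_eq_true_eq, Bool.and_true] at hA hB
  obtain ⟨a1, a2, a3, a4, a5, a6, a7, a8, a9⟩ := hA
  obtain ⟨b1, b2, b3, b4, b5, b6, b7, b8, b9⟩ := hB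
  have e := fun r c => congrFun (congrFun h r) c
  simp only [code, phi_inj hi a1 b1 (e 0 0), phi_inj hi a2 b2 (e 0 1), phi_inj hi a3 b3 (e 0 2),
    phi_inj hi a4 b4 (e 1 0), phi_inj hi a5 b5 (e 1 1), phi_inj hi a6 b6 (e 1 2),
    phi_inj hi a7 b7 (e 2 0), phi_inj hi a8 b8 (e 2 1), phi_inj hi a9 b9 (e 2 2)]

theorem card_range_ge (ψ : pres.Grp →* Cfsg.SU 3 F 3) (hψ : ∀ x < 4, ψ (pres.gen x) = sgen hi x) :
    680 ≤ Nat.card ψ.range := by
  obtain ⟨hinc, hred, hlen⟩ := words_ok
  choose u hu using fun k : Fin words.length => exists_image ψ hi hψ 8 words[k]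
  let f : Fin words.length → ψ.range := fun k => ⟨ψ (u k), _, rfl⟩
  have hmono : StrictMono fun k : Fin words.length => code (evalN 8 words[k]) := by
    intro a b hab
    have := (List.pairwise_iff_getElem.1 (pairwise_of_incr _ hinc)) a b (by simp) (by simp) hab
    simpa using this
  have hf : Function.Injective f := fun a b hab => hmono.injective (code_inj hi
    (List.all_eq_true.1 hred _ (List.getElem_mem a.2)) (List.all_eq_true.1 hred _ (List.getElem_mem b.2)) (by
      have h1 : ψ (u a) = ψ (u b) := congrArg Subtype.val hab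
      exact (hu a).symm.trans (h1 ▸ hu b)))
  have := Nat.card_le_card_of_injective f hf
  rwa [Nat.card_fin, hlen] at this

omit hi in
theorem card_su (hF : Fintype.card F = 9) : Nat.card (Cfsg.SU 3 F 3) = 6048 ∧
    Nat.card (Subgroup.center (Cfsg.SU 3 F 3)) = 1 := by
  have hF' : Fintype.card F = 3 ^ 2 := hF
  have hc := CfsgLib.Classical.card_center_su hF' (n := 3) (by norm_num)
  have hp := CfsgLib.Classical.card_psu_mul hF' (n := 3) (by norm_num)
  rw [CfsgLib.Classical.card_gu hF' 3] at hp
  norm_num [Finset.prod_range_succ] at hp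
  rw [show Nat.gcd 3 (3 + 1) = 1 by norm_num] at hc
  refine ⟨?_, hc⟩
  rw [Subgroup.card_eq_card_quotient_mul_card_subgroup (Subgroup.center (Cfsg.SU 3 F 3)), hc, mul_one]
  change Nat.card (Cfsg.PSU 3 F 3) = 6048
  omega

theorem equiv_psu (hF : Fintype.card F = 9) : Nonempty (pres.Grp ≃* Cfsg.PSU 3 F 3) := by
  obtain ⟨hsu, hc⟩ := card_su (F := F) hF
  obtain ⟨ψ, hψ⟩ := exists_hom_su hi
  have : IsSimpleGroup (Cfsg.PSU 3 F 3) :=
    CfsgLib.Classical.isSimpleGroup_psu (q := 3) hF (by norm_num) (by norm_num)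
  have hbot : Subgroup.center (Cfsg.SU 3 F 3) = ⊥ := Subgroup.eq_bot_of_card_eq _ hc
  let e : Cfsg.PSU 3 F 3 ≃* Cfsg.SU 3 F 3 :=
    (QuotientGroup.quotientMulEquivOfEq hbot).trans QuotientGroup.quotientBot
  have : IsSimpleGroup (Cfsg.SU 3 F 3) := e.symm.isSimpleGroup
  have htop : ψ.range = ⊤ := by
    by_contra hne
    have hm := ψ.range.card_mul_index
    rw [hsu] at hm
    have h8 : ψ.range.index ≤ 8 := by
      have := Nat.mul_le_mul_right ψ.range.index (card_range_ge hi ψ hψ)
      omega
    have hker := Subgroup.normalCore_eq_ker ψ.range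
    rcases (MulAction.toPermHom (Cfsg.SU 3 F 3) (Cfsg.SU 3 F 3 ⧸ ψ.range)).normal_ker.eq_bot_or_eq_top
      with h | h
    · have := Subgroup.card_dvd_of_injective _ ((MonoidHom.ker_eq_bot_iff _).1 h)
      rw [hsu, Nat.card_perm, ← Subgroup.index] at this
      generalize ψ.range.index = n at this h8
      interval_cases n <;> revert this <;> decide
    · exact hne (top_le_iff.1 (h ▸ hker ▸ Subgroup.normalCore_le _))
  obtain ⟨hcard, hinj⟩ := card_eq_and_injective ψ (by norm_num) card_le
    (by rw [htop, Subgroup.card_top, hsu])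
  exact ⟨((MonoidHom.ofInjective hinj).trans
    ((MulEquiv.subgroupCongr htop).trans Subgroup.topEquiv)).trans e.symm⟩

omit hi in
/-- **The stabiliser is `PSU(3,3)`.** -/
theorem H_equiv_psu (hF : Fintype.card F = 9) : Nonempty (SporJ2.H ≃* Cfsg.PSU 3 F 3) := by
  obtain ⟨i, hi⟩ : IsSquare (-1 : F) := by
    rw [FiniteField.isSquare_neg_one_iff, hF]
    norm_num
  obtain ⟨a⟩ := equiv_H
  obtain ⟨b⟩ := equiv_psu (i := i) hi.symm hF
  exact ⟨a.symm.trans b⟩

end CfsgLib.InvChar.SporJ2U3
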