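import Cfsg.Prelude.Def_Sporadic
import Cfsg.Agent.Lib.InvChar.SporSuz
import Cfsg.Agent.Lib.InvChar.CosetSimple
import Cfsg.Agent.Lib.InvChar.SporData.SuzA.Suborbits
import Cfsg.Agent.Lib.InvChar.SporData.SuzA.Seeds

/-!
# Simplicity of the presented group Suz
-/

set_option autoImplicit false
set_option maxRecDepth 100000

namespace CfsgLib.InvChar.SporSuz

open CfsgLib.InvChar.Coset Cfsg.Spor

theorem seed_one (L : List ℕ) (h : L ∈ SuzA.seedWords) : wprod gen L = 1 := by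
  have hlt := (by decide +kernel : ∀ L ∈ SuzA.seedWords, ∀ x ∈ L, x < 7) L h
  apply card_eq.2
  rw [map_one, map_wprod rep gen perm L fun x hx => rep_gen x (hlt x hx), ← inv_eq_one]
  ext i
  show ((wprod (SuzA.valid.toPerm SuzA.sq) L)⁻¹ i : ℕ) = _
  rw [← SuzA.valid.follow_eq SuzA.sq L hlt i, SuzA.seeds_fix i i.2 L h, Equiv.Perm.one_apply]

theorem isSimpleGroup : IsSimpleGroup Suz := by
  haveI : Finite Suz := card_le.1
  haveI : Nontrivial Suz := Finite.one_lt_card_iff_nontrivial.1 (by rw [card_eq.1]; norm_num)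
  haveI : Fact (Nat.Prime 11) := ⟨by norm_num⟩
  obtain ⟨hi, e, he0, he⟩ := index_H
  have hS : ∀ L ∈ SuzA.subs, ∀ x ∈ L, x < SuzA.table.g := by decide +kernel
  have o0 := suborbit_of_cert SuzA.table rfl SuzA.valid SuzA.sq gen rep rep_gen e he hS H rfl (by norm_num)
    SuzA.sub0_ok ⟨1, by decide +kernel⟩ SuzA.sub0_root.symm
  have o1 := suborbit_of_cert SuzA.table rfl SuzA.valid SuzA.sq gen rep rep_gen e he hS H rfl (by norm_num)
    SuzA.sub1_ok ⟨47, by decide +kernel⟩ SuzA.sub1_root.symm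
  have hmax := eq_top_or_le_of_suborbits H [1365, 416] ![e ⟨1, by decide +kernel⟩, e ⟨47, by decide +kernel⟩] ?_ ?_ ?_ ?_ ?_
  · refine isSimpleGroup_of_cert H (normalCore_eq_bot rep card_eq.2 e he) hmax 11 1
      (by rw [hi]; norm_num) (by rw [card_eq.1]; norm_num) gen gen_mul_self SuzA.rels pres.gen_rel 7
      closure_gen [0, 3] ?_ (by decide +kernel)
    intro y hy
    simp only [List.mem_cons, List.not_mem_nil, or_false] at hy
    rcases hy with rfl | rfl
    · refine ⟨wprod gen [6, 2, 5, 1, 4, 3], wprod gen [3, 4, 1, 5, 2, 6, 0], ?_, ?_, ?_⟩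
      · have h := seed_one (List.replicate 11 [6, 2, 5, 1, 4, 3]).flatten (by decide +kernel)
        simpa [wprod, pow_succ, mul_assoc] using h
      · have h := seed_one (List.replicate 11 [3, 4, 1, 5, 2, 6, 0]).flatten (by decide +kernel)
        simpa [wprod, pow_succ, mul_assoc] using h
      · rw [show ([3, 4, 1, 5, 2, 6, 0] : List ℕ) = [6, 2, 5, 1, 4, 3].reverse ++ [0] from rfl, wprod_append, wprod_reverse gen gen_mul_self,
          ← mul_assoc, mul_inv_cancel, one_mul]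
        simp [wprod]
    · refine ⟨wprod gen [4, 2, 1, 6, 5, 1, 4, 3, 6, 4, 6, 2, 4, 1, 0, 4], wprod gen [4, 0, 1, 4, 2, 6, 4, 6, 3, 4, 1, 5, 6, 1, 2, 4, 3], ?_, ?_, ?_⟩
      · have h := seed_one (List.replicate 11 [4, 2, 1, 6, 5, 1, 4, 3, 6, 4, 6, 2, 4, 1, 0, 4]).flatten (by decide +kernel)
        simpa [wprod, pow_succ, mul_assoc] using h
      · have h := seed_one (List.replicate 11 [4, 0, 1, 4, 2, 6, 4, 6, 3, 4, 1, 5, 6, 1, 2, 4, 3]).flatten (by decide +kernel)
        simpa [wprod, pow_succ, mul_assoc] using h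
      · rw [show ([4, 0, 1, 4, 2, 6, 4, 6, 3, 4, 1, 5, 6, 1, 2, 4, 3] : List ℕ) = [4, 2, 1, 6, 5, 1, 4, 3, 6, 4, 6, 2, 4, 1, 0, 4].reverse ++ [3] from rfl, wprod_append, wprod_reverse gen gen_mul_self,
          ← mul_assoc, mul_inv_cancel, one_mul]
        simp [wprod]
  · intro i
    fin_cases i
    · exact o0.1
    · exact o1.1
  · intro q
    obtain ⟨i, rfl⟩ := e.surjective q
    have key : ∀ j < 1782, j = 0 ∨ ((field SuzA.sub0Pos 128 20 j - 1 < 1365) ∧ field SuzA.sub0Pts 128 20 (field SuzA.sub0Pos 128 20 j - 1) = j) ∨ ((field SuzA.sub1Pos 128 20 j - 1 < 416) ∧ field SuzA.sub1Pts 128 20 (field SuzA.sub1Pos 128 20 j - 1) = j) := by decide +kernel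
    rcases key i i.2 with h | h | h
    · left
      rw [← he0]; exact congrArg e (Fin.ext h)
    · exact Or.inr ⟨0, (o0.2 i).2 ⟨_, h.1, h.2⟩⟩
    · exact Or.inr ⟨1, (o1.2 i).2 ⟨_, h.1, h.2⟩⟩
  · intro i j hij
    fin_cases i <;> fin_cases j <;> first
      | rfl
      | exact absurd ((o0.2 _).1 hij) (show ¬ ∃ c < 1365, field SuzA.sub0Pts 128 20 c = 47 by decide +kernel)
      | exact absurd ((o1.2 _).1 hij) (show ¬ ∃ c < 416, field SuzA.sub1Pts 128 20 c = 1 by decide +kernel)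
  · intro i hmem
    rw [← he0] at hmem
    fin_cases i
    · exact absurd ((o0.2 _).1 hmem) (show ¬ ∃ c < 1365, field SuzA.sub0Pts 128 20 c = 0 by decide +kernel)
    · exact absurd ((o1.2 _).1 hmem) (show ¬ ∃ c < 416, field SuzA.sub1Pts 128 20 c = 0 by decide +kernel)
  · rw [hi]
    decide +kernel

end CfsgLib.InvChar.SporSuz
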