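import Mathlib
import Cfsg.Prelude.Def_Local
import Cfsg.Prelude.Def_CaseTheorems
import Cfsg.Agent.Lib.Comp.PComponent
import Cfsg.Agent.Lib.Comp.Quasisimple
import Cfsg.Agent.Lib.Coprime.Generation

/-!
# A standard subgroup centralizing the odd core

If some conjugate of the involution `t` centralizing the standard subgroup `P` is a product of `t`-fixed
elements of `P` and of its centralizer, then `P` centralizes the odd core.
-/

set_option autoImplicit false

namespace CfsgLib.InvChar.StandardCore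

open Subgroup
open scoped Pointwise commutatorElement

variable {X : Type*} [Group X] [Finite X]

omit [Finite X] in
theorem conj_mem_centralizer {N : Subgroup X} (hN : N.Normal) {q x : X}
    (hq : q ∈ centralizer (N : Set X)) : x * q * x⁻¹ ∈ centralizer (N : Set X) := by
  refine mem_centralizer_iff.2 fun o ho => ?_
  have h := mem_centralizer_iff.1 hq _ (hN.conj_mem o ho x⁻¹)
  rw [inv_inv] at h
  calc o * (x * q * x⁻¹) = x * (x⁻¹ * o * x * q) * x⁻¹ := by group
    _ = x * (q * (x⁻¹ * o * x)) * x⁻¹ := by rw [h]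
    _ = x * q * x⁻¹ * o := by group

/-- In a two-group of rank one contained in `C`, all involutions are equal. -/
theorem involution_unique {C R : Subgroup X} (hr : Cfsg.PRankLE 2 1 ↥C) (hRC : R ≤ C)
    (hR : IsPGroup 2 ↥R) {a b : X} (ha : a ∈ R) (hb : b ∈ R) (ha2 : a * a = 1) (hb2 : b * b = 1)
    (ha1 : a ≠ 1) (hb1 : b ≠ 1) : a = b := by
  have key : ∀ x y : X, x ∈ C → y ∈ C → x * x = 1 → y * y = 1 → x * y = y * x → x ≠ 1 → y ≠ 1 →
      x = y := by
    intro x y hx hy hx2 hy2 hxy hx1 hy1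
    by_contra hne
    let A : Subgroup ↥C := closure {⟨x, hx⟩, ⟨y, hy⟩}
    haveI hA : IsMulCommutative A := by
      refine Subgroup.isMulCommutative_closure ?_
      rintro u (rfl | rfl) v (rfl | rfl)
      · rfl
      · exact Subtype.ext hxy
      · exact Subtype.ext hxy.symm
      · rfl
    have hexp : ∀ u ∈ A, u ^ 2 = 1 := by
      intro u hu
      induction hu using closure_induction with
      | mem v hv =>
        rcases hv with rfl | rfl
        · exact Subtype.ext (by simpa [pow_two] using hx2)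
        · exact Subtype.ext (by simpa [pow_two] using hy2)
      | one => exact one_pow 2
      | mul u v hu hv ihu ihv =>
        have hc : Commute u v := congrArg Subtype.val
          (hA.is_comm.comm ⟨u, hu⟩ ⟨v, hv⟩)
        rw [hc.mul_pow, ihu, ihv, one_mul]
      | inv u _ ih => rw [inv_pow, ih, inv_one]
    have hcard := hr A hA hexp
    have h3 : 3 ≤ Nat.card ↥A := by
      haveI := Fintype.ofFinite ↥A
      rw [Nat.card_eq_fintype_card]
      let f : Fin 3 → ↥A := ![1, ⟨⟨x, hx⟩, subset_closure (by simp)⟩, ⟨⟨y, hy⟩, subset_closure (by simp)⟩]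
      have hf : Function.Injective f := by
        intro i j hij
        fin_cases i <;> fin_cases j <;>
          first | rfl | (exfalso; simp [f, Subtype.ext_iff] at hij <;>
            first | exact hx1 hij | exact hy1 hij | exact hx1 hij.symm | exact hy1 hij.symm |
              exact hne hij | exact hne hij.symm)
      simpa using Fintype.card_le_of_injective f hf
    omega
  haveI : Fact (Nat.Prime 2) := ⟨Nat.prime_two⟩
  haveI : Nontrivial ↥R := ⟨⟨⟨a, ha⟩, 1, fun e => ha1 (congrArg Subtype.val e)⟩⟩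
  haveI := hR.center_nontrivial
  obtain ⟨c, hc⟩ := exists_prime_orderOf_dvd_card' 2
    ((hR.to_subgroup (center ↥R)).nontrivial_iff_card.1 inferInstance |>.elim fun n hn =>
      hn.2 ▸ dvd_pow_self 2 (by omega))
  have hc1 : ((c : ↥R) : X) ≠ 1 := fun e => by
    rw [orderOf_eq_one_iff.2 (Subtype.ext (Subtype.ext e) : c = 1)] at hc
    omega
  have hc2 : ((c : ↥R) : X) * ((c : ↥R) : X) = 1 := by
    have := pow_orderOf_eq_one c
    rw [hc, pow_two] at this
    exact congrArg (fun z : ↥(center ↥R) => ((z : ↥R) : X)) this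
  have hcc : ∀ z ∈ R, z * ((c : ↥R) : X) = ((c : ↥R) : X) * z := fun z hz =>
    congrArg Subtype.val (mem_center_iff.1 c.2 ⟨z, hz⟩)
  exact (key a _ (hRC ha) (hRC (c : ↥R).2) ha2 hc2 (hcc a ha) ha1 hc1).trans
    (key b _ (hRC hb) (hRC (c : ↥R).2) hb2 hc2 (hcc b hb) hb1 hc1).symm

omit [Finite X] in
/-- Conjugation of a quasisimple subgroup by an element acting trivially modulo the centre is trivial. -/
theorem commute_of_central {P : Subgroup X} (hP : Cfsg.IsQuasisimple ↥P) {d : X}
    (hd : d ∈ normalizer (P : Set X))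
    (h : ∀ (x : X) (hx : x ∈ P), (⟨d * x * d⁻¹ * x⁻¹,
      P.mul_mem ((mem_normalizer_iff.1 hd x).1 hx) (P.inv_mem hx)⟩ : ↥P) ∈ center ↥P) :
    ∀ x ∈ P, d * x = x * d := by
  haveI := hP.1
  let α : ↥P ≃* ↥P :=
    { toFun := fun x => ⟨d * x * d⁻¹, (mem_normalizer_iff.1 hd x).1 x.2⟩
      invFun := fun x => ⟨d⁻¹ * x * d, (mem_normalizer_iff''.1 hd x).1 x.2⟩
      left_inv := fun x => Subtype.ext (by show d⁻¹ * (d * x * d⁻¹) * d = x; group)
      right_inv := fun x => Subtype.ext (by show d * (d⁻¹ * x * d) * d⁻¹ = x; group)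
      map_mul' := fun x y => Subtype.ext (by
        show d * ((x : X) * y) * d⁻¹ = d * x * d⁻¹ * (d * y * d⁻¹); group) }
  intro x hx
  have e := congrArg Subtype.val
    (CfsgLib.Comp.mulEquiv_eq_of_perfect α (fun z => h z.1 z.2) ⟨x, hx⟩)
  exact mul_inv_eq_iff_eq_mul.1 e

/-- The standard subgroup centralizes the odd core. -/
theorem commute_oddCore (P : Subgroup X) (hP : Cfsg.IsStandardSubgroup P)
    (hr : Cfsg.PRankLE 2 1 ↥(centralizer (P : Set X))) (hZ : Odd (Nat.card ↥(center ↥P)))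
    (S : Sylow 2 ↥(normalizer (P : Set X))) (t : X) (ht : orderOf t = 2)
    (htS : t ∈ (S : Subgroup ↥(normalizer (P : Set X))).map (normalizer (P : Set X)).subtype)
    (htP : t ∈ centralizer (P : Set X)) (g : X)
    (hgN : ∀ s ∈ (S : Subgroup ↥(normalizer (P : Set X))).map (normalizer (P : Set X)).subtype,
      g * s * g⁻¹ ∈ (S : Subgroup ↥(normalizer (P : Set X))).map (normalizer (P : Set X)).subtype)
    (hgS : g ∉ (S : Subgroup ↥(normalizer (P : Set X))).map (normalizer (P : Set X)).subtype)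
    (hg2 : g ^ 2 ∈ (S : Subgroup ↥(normalizer (P : Set X))).map (normalizer (P : Set X)).subtype)
    (hgt : g * t * g⁻¹ ∈ P ⊔ centralizer (P : Set X)) :
    (∀ x ∈ P, ∀ o ∈ Cfsg.oddCore X, x * o = o * x) ∧ ∃ p ∈ P, p ≠ 1 ∧ p * p = 1 := by
  classical
  haveI : Fact (Nat.Prime 2) := ⟨Nat.prime_two⟩
  set S1 := (S : Subgroup ↥(normalizer (P : Set X))).map (normalizer (P : Set X)).subtype with hS1
  have hS1N : S1 ≤ normalizer (P : Set X) := map_subtype_le _
  have hS1p : IsPGroup 2 ↥S1 := S.2.map _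
  have htt : t * t = 1 := by rw [← pow_two, ← ht, pow_orderOf_eq_one]
  have ht1 : t ≠ 1 := fun e => by simp [e] at ht
  have hCN : centralizer (P : Set X) ≤ normalizer (P : Set X) := centralizer_le_normalizer _
  -- `C(t)` normalizes `P`
  have hCt : ∀ x, x * t = t * x → x ∈ normalizer (P : Set X) := by
    intro x hx
    rw [hP.2.2.2]
    by_contra hxn
    have hodd := hP.2.1.2 x hxn
    have hmem : t ∈ centralizer (P : Set X) ⊓ (centralizer (P : Set X)).map (MulAut.conj x).toMonoidHom :=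
      ⟨htP, t, htP, by simp [hx]⟩
    have hd := orderOf_dvd_natCard (⟨t, hmem⟩ : ↥(centralizer (P : Set X) ⊓ (centralizer (P : Set X)).map (MulAut.conj x).toMonoidHom))
    rw [← orderOf_coe, ht] at hd
    exact (Nat.not_even_iff_odd.2 hodd) (even_iff_two_dvd.2 hd)
  -- `t` is central in `S`
  have hRp : IsPGroup 2 ↥(S1 ⊓ centralizer (P : Set X)) := hS1p.to_le inf_le_left
  have htR : t ∈ S1 ⊓ centralizer (P : Set X) := ⟨htS, htP⟩
  have huniq : ∀ a ∈ S1, a ∈ centralizer (P : Set X) → a * a = 1 → a ≠ 1 → a = t :=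
    fun a ha haC ha2 ha1 => involution_unique hr inf_le_right hRp ⟨ha, haC⟩ htR ha2 htt ha1 ht1
  have htc : ∀ s ∈ S1, s * t = t * s := by
    intro s hs
    refine mul_inv_eq_iff_eq_mul.1 (huniq (s * t * s⁻¹) (mul_mem (mul_mem hs htS) (inv_mem hs)) ?_ ?_ ?_)
    · refine mem_centralizer_iff.2 fun x hx => ?_
      have h := mem_centralizer_iff.1 htP _ ((mem_normalizer_iff''.1 (hS1N hs) x).1 hx)
      calc x * (s * t * s⁻¹) = s * (s⁻¹ * x * s * t) * s⁻¹ := by group
        _ = s * (t * (s⁻¹ * x * s)) * s⁻¹ := by rw [h]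
        _ = s * t * s⁻¹ * x := by group
    · rw [show s * t * s⁻¹ * (s * t * s⁻¹) = s * (t * t) * s⁻¹ by group, htt]; group
    · exact fun e => ht1 (conj_eq_one_iff.1 e)
  -- the conjugate of `t`
  obtain ⟨u, hu⟩ : ∃ u, u = g * t * g⁻¹ := ⟨_, rfl⟩
  have huS : u ∈ S1 := hu ▸ hgN t htS
  have huu : u * u = 1 := by
    rw [hu, show g * t * g⁻¹ * (g * t * g⁻¹) = g * (t * t) * g⁻¹ by group, htt]; group
  have hu1 : u ≠ 1 := fun e => ht1 (conj_eq_one_iff.1 (hu ▸ e))
  have hgu : g * u * g⁻¹ = t := by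
    calc g * u * g⁻¹ = g ^ 2 * t * (g ^ 2)⁻¹ := by rw [hu, pow_two]; group
      _ = t := by rw [htc _ hg2, mul_inv_cancel_right]
  have hut : u ≠ t := by
    intro e
    have hgN1 : g ∈ normalizer (P : Set X) := hCt g (mul_inv_eq_iff_eq_mul.1 (hu.symm.trans e))
    apply hgS
    set g' : ↥(normalizer (P : Set X)) := ⟨g, hgN1⟩ with hg'
    set T := (S : Subgroup ↥(normalizer (P : Set X))) with hT
    have hg'N : g' ∈ normalizer (T : Set ↥(normalizer (P : Set X))) := by
      have h1 : ∀ n ∈ T, g' * n * g'⁻¹ ∈ T := fun n hn => by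
        obtain ⟨m, hm, e1⟩ := hgN _ ⟨n, hn, rfl⟩
        rwa [show m = g' * n * g'⁻¹ from Subtype.ext e1] at hm
      refine mem_normalizer_iff.2 fun n => ⟨h1 n, fun hn => ?_⟩
      obtain ⟨m, hm, e1⟩ := hg2
      have hgg : g' * g' ∈ T := by
        rwa [show m = g' * g' from Subtype.ext (e1.trans (pow_two g))] at hm
      have := h1 _ hn
      have h2 := mul_mem (mul_mem (inv_mem hgg) this) hgg
      rwa [show (g' * g')⁻¹ * (g' * (g' * n * g'⁻¹) * g'⁻¹) * (g' * g') = n by group] at h2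
    obtain ⟨m, hm, e1⟩ := hg2
    have hgg : g' ^ 2 ∈ T := by rwa [show m = g' ^ 2 from Subtype.ext e1] at hm
    have hp : IsPGroup 2 ↥(zpowers g') := by
      obtain ⟨k, hk⟩ := S.2 ⟨_, hgg⟩
      have hk' : g' ^ 2 ^ (k + 1) = 1 := by
        rw [pow_succ', pow_mul]; exact congrArg Subtype.val hk
      intro z
      refine ⟨k + 1, Subtype.ext ?_⟩
      obtain ⟨i, hi⟩ := mem_zpowers_iff.1 z.2
      rw [SubgroupClass.coe_pow, OneMemClass.coe_one, ← hi, ← zpow_natCast, zpow_comm,
        zpow_natCast, hk', one_zpow]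
    have hle := S.3 (hp.to_sup_of_normal_right' S.2 (zpowers_le.2 hg'N)) le_sup_right
    exact ⟨g', hle ▸ mem_sup_left (mem_zpowers g'), rfl⟩
  have htu : t * u = u * t := (htc u huS).symm
  -- decompose `u`
  rw [← hu] at hgt
  obtain ⟨p, hp, c, hc, hpc⟩ : ∃ p ∈ P, ∃ c ∈ centralizer (P : Set X), p * c = u := by
    haveI : (P.subgroupOf (P ⊔ centralizer (P : Set X))).Normal :=
      normal_subgroupOf_of_le_normalizer (sup_le le_normalizer hCN)
    have h : u ∈ ((P : Set X) * (centralizer (P : Set X) : Set X)) := by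
      rw [← coe_mul_of_right_le_normalizer_left P (centralizer (P : Set X)) hCN]
      exact hgt
    obtain ⟨p, hp, c, hc, e⟩ := Set.mem_mul.1 h
    exact ⟨p, hp, c, hc, e⟩
  have hcp : ∀ {x}, x ∈ P → ∀ {c}, c ∈ centralizer (P : Set X) → x * c = c * x :=
    fun {x} hx {c} hc => mem_centralizer_iff.1 hc _ hx
  -- adjust to involutions
  obtain ⟨p, hp, c, hc, hpc, hpp⟩ : ∃ p ∈ P, ∃ c ∈ centralizer (P : Set X), p * c = u ∧ p * p = 1 := by
    have hppc : p * p = (c * c)⁻¹ := by
      rw [eq_inv_iff_mul_eq_one]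
      calc p * p * (c * c) = p * (p * c) * c := by group
        _ = p * (c * p) * c := by rw [hcp hp hc]
        _ = u * u := by rw [← hpc]; group
        _ = 1 := huu
    have hmem : (⟨p * p, mul_mem hp hp⟩ : ↥P) ∈ center ↥P := mem_center_iff.2 fun y => Subtype.ext (by
      show (y : X) * (p * p) = p * p * y
      rw [hppc]
      exact hcp y.2 (inv_mem (mul_mem hc hc)))
    obtain ⟨j, hj⟩ := hZ
    have hord : (⟨⟨p * p, mul_mem hp hp⟩, hmem⟩ : ↥(center ↥P)) ^ (2 * j + 1) = 1 := by
      rw [← hj]; exact pow_card_eq_one'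
    have hord' : (p * p) ^ (2 * j + 1) = 1 :=
      congrArg (fun z : ↥(center ↥P) => ((z : ↥P) : X)) hord
    have hnc : (p * p) ^ (j + 1) ∈ centralizer (P : Set X) :=
      pow_mem (hppc ▸ inv_mem (mul_mem hc hc)) _
    refine ⟨p * ((p * p) ^ (j + 1))⁻¹, mul_mem hp (inv_mem (pow_mem (mul_mem hp hp) _)),
      (p * p) ^ (j + 1) * c, mul_mem hnc hc, ?_, ?_⟩
    · rw [← hpc]; group
    · have hcm : Commute p ((p * p) ^ (j + 1))⁻¹ := hcp hp (inv_mem hnc)
      rw [hcm.symm.mul_mul_mul_comm, ← _root_.mul_inv_rev, ← pow_add, mul_inv_eq_one,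
        show j + 1 + (j + 1) = 2 * j + 1 + 1 by ring, pow_succ, hord', one_mul]
  have hcc : c * c = 1 := by
    calc c * c = p * p * (c * c) := by rw [hpp, one_mul]
      _ = p * (p * c) * c := by group
      _ = p * (c * p) * c := by rw [hcp hp hc]
      _ = u * u := by rw [← hpc]; group
      _ = 1 := huu
  have htp : t * p = p * t := (hcp hp htP).symm
  have hct : c = 1 ∨ c = t := by
    by_cases hc1 : c = 1
    · exact Or.inl hc1
    right
    have htc' : t * c = c * t := by
      have e : c = p * u := by rw [← hpc, ← mul_assoc, hpp, one_mul]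
      rw [e, ← mul_assoc, htp, mul_assoc, htu, mul_assoc]
    let R : Subgroup X := closure {t, c}
    haveI hR : IsMulCommutative R := by
      refine Subgroup.isMulCommutative_closure ?_
      rintro a (rfl | rfl) b (rfl | rfl)
      · rfl
      · exact htc'
      · exact htc'.symm
      · rfl
    have hRC : R ≤ centralizer (P : Set X) := (closure_le _).2 (by
      rintro a (rfl | rfl); exacts [htP, hc])
    have hR2 : ∀ a ∈ R, a ^ 2 = 1 := by
      intro a ha
      induction ha using closure_induction with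
      | mem v hv => rcases hv with rfl | rfl <;> simp [pow_two, htt, hcc]
      | one => exact one_pow 2
      | mul a b ha hb iha ihb =>
        have hab : Commute a b := congrArg Subtype.val (hR.is_comm.comm ⟨a, ha⟩ ⟨b, hb⟩)
        rw [hab.mul_pow, iha, ihb, one_mul]
      | inv a _ ih => rw [inv_pow, ih, inv_one]
    exact (involution_unique hr hRC (fun a => ⟨1, Subtype.ext (by rw [pow_one]; exact hR2 a a.2)⟩)
      (subset_closure (by simp : t ∈ ({t, c} : Set X))) (subset_closure (by simp : c ∈ ({t, c} : Set X)))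
      htt hcc ht1 hc1).symm
  have hp1 : p ≠ 1 := by
    intro e
    rw [e, one_mul] at hpc
    exact hut (huniq u huS (hpc ▸ hc) huu hu1)
  refine ⟨?_, p, hp, hp1, hpp⟩
  -- the odd core
  set O := Cfsg.oddCore X with hO
  haveI hOn : O.Normal := sSup_normal _ fun N hN => hN.1
  have hOodd : ¬ 2 ∣ Nat.card ↥O := by
    intro h2
    exact absurd (Nat.eq_one_of_dvd_coprimes (CfsgLib.Comp.coprime_card_pPrimeCore 2 X) h2 dvd_rfl)
      (by norm_num)
  have hfix : ∀ d ∈ O, d * t = t * d → ∀ x ∈ P, d * x = x * d := by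
    intro d hd hdt
    have hdN := hCt d hdt
    refine commute_of_central hP.1 hdN fun x hx => ?_
    -- the odd part of `P`
    have hmem : d * x * d⁻¹ * x⁻¹ ∈ P ⊓ O :=
      ⟨P.mul_mem ((mem_normalizer_iff.1 hdN x).1 hx) (P.inv_mem hx), by
        rw [show d * x * d⁻¹ * x⁻¹ = d * (x * d⁻¹ * x⁻¹) by group]
        exact O.mul_mem hd (hOn.conj_mem _ (O.inv_mem hd) x)⟩
    rcases CfsgLib.Comp.normal_eq_top_or_le_center hP.1 (O.subgroupOf P) with h | h
    · exfalso
      have hpO : p ∈ O := mem_subgroupOf.1 (h ▸ mem_top (⟨p, hp⟩ : ↥P))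
      apply hOodd
      rw [← orderOf_eq_prime (p := 2) (by rw [pow_two, hpp]) hp1]
      exact orderOf_dvd_natCard (⟨p, hpO⟩ : ↥O) |> fun h' => by rwa [← orderOf_coe] at h'
    · exact h (mem_subgroupOf.2 hmem.2)
  have hfixu : ∀ d ∈ O, d * u = u * d → d * t = t * d := by
    intro d hd hdu
    have hd' : g⁻¹ * d * g ∈ O := by simpa using hOn.conj_mem d hd g⁻¹
    have hdt : g⁻¹ * d * g * t = t * (g⁻¹ * d * g) := by
      calc g⁻¹ * d * g * t = g⁻¹ * (d * u) * g := by rw [hu]; group
        _ = g⁻¹ * (u * d) * g := by rw [hdu]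
        _ = t * (g⁻¹ * d * g) := by rw [hu]; group
    have h1 := hfix _ hd' hdt p hp
    have e : t = g * p * g⁻¹ * (g * c * g⁻¹) := by
      rw [← hgu, ← hpc]; group
    have h2 : d * (g * p * g⁻¹) = g * p * g⁻¹ * d := by
      calc d * (g * p * g⁻¹) = g * (g⁻¹ * d * g * p) * g⁻¹ := by group
        _ = g * (p * (g⁻¹ * d * g)) * g⁻¹ := by rw [h1]
        _ = g * p * g⁻¹ * d := by group
    rw [e]
    rcases hct with e' | e' <;> rw [e']
    · simpa using h2
    · rw [← hu]; exact (show Commute d (g * p * g⁻¹) from h2).mul_right hdu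
  have hfixt : ∀ d ∈ O, d * t = t * d → d * u = u * d := by
    intro d hd hdt
    have h1 := hfix d hd hdt p hp
    rw [← hpc]
    rcases hct with e' | e' <;> rw [e']
    · simpa using h1
    · exact (show Commute d p from h1).mul_right hdt
  -- the four group
  have htu1 : t * u ≠ 1 := fun e => hut ((eq_inv_of_mul_eq_one_right e).trans (inv_eq_of_mul_eq_one_right htt))
  let A : Subgroup X :=
    { carrier := {a | a = 1 ∨ a = t ∨ a = u ∨ a = t * u}
      one_mem' := Or.inl rfl
      mul_mem' := by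
        have h3 : u * (t * u) = t := by rw [← mul_assoc, ← htu, mul_assoc, huu, mul_one]
        have h4 : t * u * t = u := by rw [htu, mul_assoc, htt, mul_one]
        rintro a b (rfl | rfl | rfl | rfl) (rfl | rfl | rfl | rfl) <;>
          simp [htt, huu, ← htu, h3, h4, mul_assoc] <;> simp [← mul_assoc, htt, huu, h3, h4]
      inv_mem' := by
        have h5 : (t * u)⁻¹ = t * u := by
          rw [_root_.mul_inv_rev, inv_eq_of_mul_eq_one_right huu, inv_eq_of_mul_eq_one_right htt, ← htu]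
        rintro a (rfl | rfl | rfl | rfl)
        · exact Or.inl inv_one
        · exact Or.inr (Or.inl (inv_eq_of_mul_eq_one_right htt))
        · exact Or.inr (Or.inr (Or.inl (inv_eq_of_mul_eq_one_right huu)))
        · exact Or.inr (Or.inr (Or.inr h5)) }
  have hAsq : ∀ a ∈ A, a * a = 1 := by
    rintro a (rfl | rfl | rfl | rfl)
    · exact one_mul 1
    · exact htt
    · exact huu
    · rw [show t * u * (t * u) = t * (u * t) * u by group, ← htu,
        show t * (t * u) * u = t * t * (u * u) by group, htt, huu, one_mul]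
  have hAcomm : IsMulCommutative A := ⟨⟨fun a b => Subtype.ext (by
    have ha := inv_eq_of_mul_eq_one_right (hAsq _ a.2)
    have hb := inv_eq_of_mul_eq_one_right (hAsq _ b.2)
    have hab := inv_eq_of_mul_eq_one_right (hAsq _ (A.mul_mem a.2 b.2))
    rw [_root_.mul_inv_rev, ha, hb] at hab
    exact hab.symm)⟩⟩
  have hA2 : IsPGroup 2 ↥A := fun a => ⟨1, Subtype.ext (by
    rw [pow_one, pow_two]; exact hAsq _ a.2)⟩
  have hnc : ¬ IsCyclic ↥A := by
    rintro ⟨⟨a, ha⟩, hgen⟩
    have hpow : ∀ z : ↥A, (z : X) = 1 ∨ (z : X) = a := fun z => by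
      obtain ⟨i, hi⟩ := mem_zpowers_iff.1 (hgen z)
      have hi' : (z : X) = a ^ i := by rw [← hi]; rfl
      have ha2 : a ^ (2 : ℤ) = 1 := (zpow_two a).trans (hAsq a ha)
      rcases Int.even_or_odd i with ⟨j, rfl⟩ | ⟨j, rfl⟩
      · left; rw [hi', ← two_mul, zpow_mul, ha2, one_zpow]
      · right; rw [hi', zpow_add_one, zpow_mul, ha2, one_zpow, one_mul]
    rcases hpow ⟨t, Or.inr (Or.inl rfl)⟩ with h | h
    · exact ht1 h
    rcases hpow ⟨u, Or.inr (Or.inr (Or.inl rfl))⟩ with h' | h'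
    · exact hu1 h'
    exact hut (h'.trans h.symm)
  have hgen := CfsgLib.Coprime.iSup_centralizer_eq hAcomm hnc
    (G := O) (le_normalizer_of_normal (H := O) (K := A))
    (by
      obtain ⟨n, hn⟩ := hA2.exists_card_eq
      rw [hn]
      exact Nat.Coprime.pow_left _ (Nat.prime_two.coprime_iff_not_dvd.2 hOodd : Nat.Coprime 2 (Nat.card ↥O)))
  have htuO : ∀ d ∈ O, d * (t * u) = t * u * d := by
    have hle : O ≤ centralizer ({t * u} : Set X) := by
      refine hgen.symm.le.trans (iSup_le ?_)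
      rintro ⟨a, ha, ha1⟩ d ⟨hd, hda⟩
      have hda' : d * a = a * d := mem_centralizer_singleton_iff.1 hda
      refine mem_centralizer_singleton_iff.2 ?_
      rcases ha with rfl | rfl | rfl | rfl
      · exact absurd rfl ha1
      · rw [← mul_assoc, hda', mul_assoc, hfixt d hd hda', mul_assoc]
      · rw [← mul_assoc, hfixu d hd hda', mul_assoc, hda', mul_assoc]
      · exact hda'
    exact fun d hd => mem_centralizer_singleton_iff.1 (hle hd)
  -- a non-central element of `P` acting trivially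
  obtain ⟨q, hqO, hqx⟩ : ∃ q, q ∈ centralizer (O : Set X) ∧
      ∀ x ∈ P, p * x * p⁻¹ * x⁻¹ = q * (x * q⁻¹ * x⁻¹) := by
    refine ⟨t * u, mem_centralizer_iff.2 fun d hd => htuO d hd, fun x hx => ?_⟩
    rcases hct with e' | e'
    · rw [e', mul_one] at hpc
      rw [← hpc]
      have hxt : x * t = t * x := hcp hx htP
      calc p * x * p⁻¹ * x⁻¹ = t⁻¹ * (t * (p * x * p⁻¹ * x⁻¹)) := by group
        _ = t⁻¹ * ((p * x * p⁻¹ * x⁻¹) * t) := by
          rw [← hcp (P.mul_mem (P.mul_mem (P.mul_mem hp hx) (P.inv_mem hp)) (P.inv_mem hx)) htP]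
        _ = t⁻¹ * (p * x * p⁻¹ * x⁻¹) * t := by group
        _ = t * p * (x * (t * p)⁻¹ * x⁻¹) := by
          have hi : t⁻¹ = t := inv_eq_of_mul_eq_one_right htt
          rw [_root_.mul_inv_rev, hi]
          have hxi : x⁻¹ * t = t * x⁻¹ := hcp (P.inv_mem hx) htP
          calc t * (p * x * p⁻¹ * x⁻¹) * t = t * p * x * p⁻¹ * (x⁻¹ * t) := by group
            _ = t * p * (x * (p⁻¹ * t) * x⁻¹) := by rw [hxi]; group
    · have e2 : t * u = p := by
        rw [← hpc, e', ← mul_assoc, htp, mul_assoc, htt, mul_one]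
      rw [e2]; group
  intro x hx o ho
  haveI : ((centralizer (O : Set X)).subgroupOf P).Normal :=
    ⟨fun a ha y => mem_subgroupOf.2 (conj_mem_centralizer hOn (mem_subgroupOf.1 ha))⟩
  rcases CfsgLib.Comp.normal_eq_top_or_le_center hP.1 ((centralizer (O : Set X)).subgroupOf P) with h | h
  · exact (mem_centralizer_iff.1 (mem_subgroupOf.1 (h ▸ mem_top (⟨x, hx⟩ : ↥P))) o ho).symm
  · exfalso
    have hcen := commute_of_central hP.1 (le_normalizer hp) fun y hy => h (mem_subgroupOf.2 (by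
      show p * y * p⁻¹ * y⁻¹ ∈ _
      rw [hqx y hy]
      exact mul_mem hqO (conj_mem_centralizer hOn (inv_mem hqO))))
    have hpz : (⟨p, hp⟩ : ↥P) ∈ center ↥P :=
      mem_center_iff.2 fun y => Subtype.ext (hcen y y.2).symm
    have hd := orderOf_dvd_natCard (⟨_, hpz⟩ : ↥(center ↥P))
    rw [← orderOf_coe, ← orderOf_coe, orderOf_eq_prime (p := 2) (by rw [pow_two, hpp]) hp1] at hd
    exact (Nat.not_even_iff_odd.2 hZ) (even_iff_two_dvd.2 hd)

/-- Two-components containing a subgroup that centralizes the odd core are quasisimple. -/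
theorem isQuasisimple_pComponent (P L : Subgroup X) (hL : Cfsg.IsPComponent 2 L) (hPL : P ≤ L)
    (hcomm : ∀ x ∈ P, ∀ o ∈ Cfsg.oddCore X, x * o = o * x) (hP : ⁅P, P⁆ = P)
    (hinv : ∃ p ∈ P, p ≠ 1 ∧ p * p = 1) : Cfsg.IsQuasisimple ↥L := by
  classical
  haveI : Fact (Nat.Prime 2) := ⟨Nat.prime_two⟩
  set O := Cfsg.pPrimeCore 2 X with hO
  haveI hOn : O.Normal := sSup_normal _ fun N hN => hN.1
  haveI hKn : (Cfsg.pPrimeCore 2 ↥L).Normal := sSup_normal _ fun N hN => hN.1
  have hcore : (Cfsg.pPrimeCore 2 ↥L).map L.subtype = L ⊓ O := by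
    rw [CfsgLib.Comp.pPrimeCore_map_subtype hL.1, inf_comm]
  have hmemcore : ∀ z : ↥L, z ∈ Cfsg.pPrimeCore 2 ↥L → (z : X) ∈ O := fun z hz => by
    have : (z : X) ∈ (Cfsg.pPrimeCore 2 ↥L).map L.subtype := ⟨z, hz, rfl⟩
    rw [hcore] at this
    exact this.2
  have hQ := CfsgLib.Comp.isQuasisimple_quotient_core hL
  let π := QuotientGroup.mk' (Cfsg.pPrimeCore 2 ↥L)
  let H : Subgroup ↥L := (centralizer (O : Set X)).subgroupOf L
  haveI hH : H.Normal := ⟨fun a ha y => mem_subgroupOf.2 (conj_mem_centralizer hOn (mem_subgroupOf.1 ha))⟩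
  haveI : (H.map π).Normal := hH.map π (QuotientGroup.mk'_surjective _)
  have hPH : P.subgroupOf L ≤ H := fun a ha => mem_subgroupOf.2
    (mem_centralizer_iff.2 fun o ho => (hcomm _ (mem_subgroupOf.1 ha) o ho).symm)
  have hHL : L ⊓ centralizer (O : Set X) = L := by
    rcases CfsgLib.Comp.normal_eq_top_or_le_center hQ (H.map π) with h | h
    · refine hL.2.2 _ ?_ inf_le_left ?_
      · refine CfsgLib.Comp.isSubnormal_of_le_normalizer inf_le_left hL.1 fun k hk => ?_
        refine mem_normalizer_iff.2 fun n => ⟨fun hn => ⟨L.mul_mem (L.mul_mem hk hn.1) (L.inv_mem hk),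
          conj_mem_centralizer hOn hn.2⟩, fun hn => ?_⟩
        have e : k⁻¹ * (k * n * k⁻¹) * k⁻¹⁻¹ = n := by group
        exact e ▸ ⟨L.mul_mem (L.mul_mem (L.inv_mem hk) hn.1) (L.inv_mem (L.inv_mem hk)),
          conj_mem_centralizer hOn hn.2⟩
      · refine le_antisymm (map_mono inf_le_left) ?_
        rintro _ ⟨a, ha, rfl⟩
        obtain ⟨b, hb, e⟩ := (h ▸ mem_top (π ⟨a, ha⟩) : π ⟨a, ha⟩ ∈ H.map π)
        refine ⟨b, ⟨b.2, mem_subgroupOf.1 hb⟩, ?_⟩
        have e1 := QuotientGroup.eq.1 e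
        exact QuotientGroup.eq.2 (hmemcore _ e1)
    · exfalso
      obtain ⟨p, hp, hp1, hpp⟩ := hinv
      have hab : P ≤ O := by
        rw [← hP, commutator_le]
        intro a ha b hb
        have h1 := mem_center_iff.1 (h (mem_map_of_mem π (hPH (mem_subgroupOf.2 ha :
          (⟨a, hPL ha⟩ : ↥L) ∈ P.subgroupOf L)))) (π ⟨b, hPL hb⟩)
        have h2 : π ⁅(⟨a, hPL ha⟩ : ↥L), ⟨b, hPL hb⟩⁆ = 1 := by
          rw [map_commutatorElement, commutatorElement_eq_one_iff_mul_comm]
          exact h1.symm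
        exact hmemcore _ ((QuotientGroup.eq_one_iff _).1 h2)
      have hd := orderOf_dvd_natCard (⟨p, hab hp⟩ : ↥O)
      rw [← orderOf_coe, orderOf_eq_prime (p := 2) (by rw [pow_two, hpp]) hp1] at hd
      exact absurd (Nat.eq_one_of_dvd_coprimes (CfsgLib.Comp.coprime_card_pPrimeCore 2 X) hd dvd_rfl)
        (by norm_num)
  haveI : Group.IsPerfect ↥L := by
    refine ⟨?_⟩
    apply map_injective L.subtype_injective
    rw [_root_.commutator_def, map_commutator, ← MonoidHom.range_eq_map, range_subtype]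
    exact CfsgLib.Comp.commutator_self_of_isPComponent hL
  refine CfsgLib.Comp.isQuasisimple_of_central_extension (Z := Cfsg.pPrimeCore 2 ↥L) ?_ hQ
  intro z hz
  refine mem_center_iff.2 fun y => Subtype.ext ?_
  have hy : (y : X) ∈ centralizer (O : Set X) := (hHL.ge y.2).2
  exact (mem_centralizer_iff.1 hy _ (hmemcore z hz)).symm

end CfsgLib.InvChar.StandardCore
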