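import Cfsg.Agent.Lib.Comp.LBalance
import Cfsg.Agent.Lib.InvChar.StandardOddCore

/-!
# The normal closure of a standard subgroup with a moved involution

`A` standard, its centralizer with cyclic Sylow 2-subgroups, `t` an involution centralizing `A`, and
an element `r` of the normal closure with `⁅r, t⁆` in `A`: the normal closure is semisimple with
centre of odd order.
-/

set_option autoImplicit false

namespace CfsgLib.InvChar.StandardClosure

open Subgroup
open scoped commutatorElement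

variable {G : Type*} [Group G]

/-- A perfect subgroup whose image modulo `N` is commutative lies in `N`. -/
theorem le_of_perfect_map_commute {X N : Subgroup G} [N.Normal] (hX : ⁅X, X⁆ = X)
    (h : X.map (QuotientGroup.mk' N) ≤ centralizer ((X.map (QuotientGroup.mk' N) : Subgroup _) : Set _)) :
    X ≤ N := by
  have h1 : X.map (QuotientGroup.mk' N) = ⊥ := by
    conv_lhs => rw [← hX]
    rw [map_commutator]
    exact commutator_eq_bot_iff_le_centralizer.2 h
  rwa [Subgroup.map_eq_bot_iff, QuotientGroup.ker_mk'] at h1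

variable [Finite G]

/-- A perfect normal subgroup of the layer is generated by the components inside it. -/
theorem le_components_of_perfect {X : Subgroup G} [hXn : X.Normal] (hperf : ⁅X, X⁆ = X)
    (hX : X ≤ Cfsg.layer G) : X ≤ sSup {L : Subgroup G | Cfsg.IsComponent L ∧ L ≤ X} := by
  set M := sSup {L : Subgroup G | Cfsg.IsComponent L ∧ L ≤ X} with hM
  haveI : M.Normal := CfsgLib.Comp.normal_of_top_le_normalizer (CfsgLib.Comp.le_normalizer_sSup _ fun g _ _ hK =>
    ⟨CfsgLib.Comp.isComponent_map_conj hK.1 g, by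
      rintro _ ⟨y, hy, rfl⟩
      exact hXn.conj_mem y (hK.2 hy) g⟩)
  refine le_of_perfect_map_commute hperf ?_
  refine (map_mono hX).trans (map_le_iff_le_comap.2 (sSup_le fun K hK => map_le_iff_le_comap.1 ?_))
  rcases CfsgLib.Comp.component_le_or_le_centralizer hK hXn.isSubnormal with h | h
  · rintro _ ⟨k, hk, rfl⟩
    rw [show QuotientGroup.mk' M k = 1 from
      (QuotientGroup.eq_one_iff k).2 (le_sSup (s := {L : Subgroup G | Cfsg.IsComponent L ∧ L ≤ X}) ⟨hK, h⟩ hk)]
    exact one_mem _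
  · rintro _ ⟨k, hk, rfl⟩
    refine mem_centralizer_iff.2 ?_
    rintro _ ⟨x, hx, rfl⟩
    rw [← map_mul, ← map_mul, mem_centralizer_iff.1 (h hk) x hx]

theorem layer_eq_top_of_le_layer {X : Subgroup G} [hXn : X.Normal] (hperf : ⁅X, X⁆ = X)
    (hX : X ≤ Cfsg.layer G) : Cfsg.layer ↥X = ⊤ := by
  refine top_le_iff.1 fun x _ => ?_
  have h := le_components_of_perfect hperf hX x.2
  rw [← CfsgLib.Comp.layer_map_subtype hXn.isSubnormal] at h
  obtain ⟨y, hy, e⟩ := h
  exact (Subtype.ext e : y = x) ▸ hy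

/-- A perfect normal subgroup of the 2-layer centralizing the odd core lies in the layer. -/
theorem le_layer_of_centralizes_core {X : Subgroup G} [hXn : X.Normal] (hperf : ⁅X, X⁆ = X)
    (hXL : X ≤ Cfsg.pLayer 2 G) (hXO : X ≤ centralizer (Cfsg.oddCore G : Set G)) :
    X ≤ Cfsg.layer G := by
  haveI : Fact (Nat.Prime 2) := ⟨Nat.prime_two⟩
  haveI hOn : (Cfsg.pPrimeCore 2 G).Normal := Cfsg.pPrimeCore_normal 2 G
  haveI : (X.map (CfsgLib.Comp.toModCore 2 G)).Normal :=
    hXn.map _ CfsgLib.Comp.toModCore_surjective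
  set q := CfsgLib.Comp.toModCore 2 G with hq
  have hXb : X.map q ≤ sSup {L | Cfsg.IsComponent L ∧ L ≤ X.map q} := by
    refine le_components_of_perfect ?_ ?_
    · rw [← map_commutator, hperf]
    · rw [← CfsgLib.Comp.pLayer_map]
      exact map_mono hXL
  have hXb' : X.map q ≤ (Cfsg.layer G).map q := by
    refine hXb.trans (sSup_le ?_)
    rintro L ⟨hL, hLX⟩
    obtain ⟨K, ⟨hK, hKL⟩, -⟩ := CfsgLib.Comp.existsUnique_pComponent hL
    rw [← hKL]
    refine map_mono (CfsgLib.Comp.le_layer ⟨hK.1, ?_⟩)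
    have hKX : K ≤ X := CfsgLib.Comp.isPComponent_le_of_two_elements hK fun x hx h2 =>
      CfsgLib.Comp.mem_comap_image_of_two_element (hLX (hKL ▸ mem_map_of_mem q hx)) h2
    haveI : Group.IsPerfect ↥K :=
      Subgroup.isPerfect_iff.2 (CfsgLib.Comp.commutator_self_of_isPComponent hK)
    haveI : (Cfsg.pPrimeCore 2 ↥K).Normal := Cfsg.pPrimeCore_normal 2 _
    refine CfsgLib.Comp.isQuasisimple_of_central_extension (Z := Cfsg.pPrimeCore 2 ↥K) ?_
      (CfsgLib.Comp.isQuasisimple_quotient_core hK)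
    intro z hz
    have hzO : (z : G) ∈ Cfsg.pPrimeCore 2 G ⊓ K := by
      rw [← CfsgLib.Comp.pPrimeCore_map_subtype hK.1]
      exact mem_map_of_mem K.subtype hz
    refine mem_center_iff.2 fun y => Subtype.ext ?_
    exact (mem_centralizer_iff.1 (hXO (hKX y.2)) _ hzO.1).symm
  haveI := CfsgLib.Comp.layer_normal G
  refine le_of_perfect_map_commute hperf ?_
  rintro _ ⟨x, hx, rfl⟩
  obtain ⟨e, he, h⟩ := hXb' (mem_map_of_mem q hx)
  have ho : e⁻¹ * x ∈ Cfsg.pPrimeCore 2 G := by
    rw [← QuotientGroup.eq_one_iff]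
    show q (e⁻¹ * x) = 1
    rw [map_mul, map_inv, h, inv_mul_cancel]
  refine mem_centralizer_iff.2 ?_
  rintro _ ⟨y, hy, rfl⟩
  have hx' : QuotientGroup.mk' (Cfsg.layer G) x = QuotientGroup.mk' (Cfsg.layer G) (e⁻¹ * x) := by
    rw [map_mul, map_inv, show QuotientGroup.mk' (Cfsg.layer G) e = 1 from
      (QuotientGroup.eq_one_iff e).2 he, inv_one, one_mul]
  rw [hx', ← map_mul, ← map_mul, mem_centralizer_iff.1 (hXO hy) _ ho]

/-- With cyclic Sylow 2-subgroups, commuting involutions are equal. -/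
theorem involution_eq {C : Subgroup G} (hcyc : ∀ S : Sylow 2 ↥C, IsCyclic ↥(S : Subgroup ↥C))
    {a b : G} (ha : a ∈ C) (hb : b ∈ C) (ha2 : a * a = 1) (hb2 : b * b = 1) (hab : a * b = b * a)
    (ha1 : a ≠ 1) (hb1 : b ≠ 1) : a = b := by
  classical
  let Q : Subgroup ↥C := closure {⟨a, ha⟩, ⟨b, hb⟩}
  haveI hQ : IsMulCommutative Q := by
    refine Subgroup.isMulCommutative_closure ?_
    rintro x (rfl | rfl) y (rfl | rfl)
    · rfl
    · exact Subtype.ext hab
    · exact Subtype.ext hab.symm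
    · rfl
  have hexp : ∀ x ∈ Q, x ^ 2 = 1 := by
    intro x hx
    induction hx using closure_induction with
    | mem v hv =>
      rcases hv with rfl | rfl
      · exact Subtype.ext (by simpa [pow_two] using ha2)
      · exact Subtype.ext (by simpa [pow_two] using hb2)
    | one => exact one_pow 2
    | mul x y hx hy ihx ihy =>
      have hc : Commute x y := congrArg Subtype.val (hQ.is_comm.comm ⟨x, hx⟩ ⟨y, hy⟩)
      rw [hc.mul_pow, ihx, ihy, one_mul]
    | inv x _ ih => rw [inv_pow, ih, inv_one]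
  have hQ2 : IsPGroup 2 ↥Q := fun x => ⟨1, Subtype.ext (by rw [pow_one]; exact hexp x x.2)⟩
  obtain ⟨S, hS⟩ := hQ2.exists_le_sylow
  haveI := hcyc S
  haveI := Fintype.ofFinite ↥(S : Subgroup ↥C)
  by_contra hne
  let a' : ↥(S : Subgroup ↥C) := ⟨⟨a, ha⟩, hS (subset_closure (by simp))⟩
  let b' : ↥(S : Subgroup ↥C) := ⟨⟨b, hb⟩, hS (subset_closure (by simp))⟩
  have h1 : ({1, a', b'} : Finset ↥(S : Subgroup ↥C)) ⊆
      Finset.univ.filter (fun x => x ^ 2 = 1) := by
    intro x hx
    simp only [Finset.mem_insert, Finset.mem_singleton] at hx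
    rw [Finset.mem_filter]
    refine ⟨Finset.mem_univ _, ?_⟩
    rcases hx with rfl | rfl | rfl
    · exact one_pow 2
    · exact Subtype.ext (hexp _ (subset_closure (Or.inl rfl)))
    · exact Subtype.ext (hexp _ (subset_closure (Or.inr rfl)))
  have h2 : ({1, a', b'} : Finset ↥(S : Subgroup ↥C)).card = 3 := by
    refine Finset.card_eq_three.2 ⟨1, a', b', ?_, ?_, ?_, rfl⟩
    · exact fun e => ha1 (congrArg (fun z : ↥(S : Subgroup ↥C) => ((z : ↥C) : G)) e).symm
    · exact fun e => hb1 (congrArg (fun z : ↥(S : Subgroup ↥C) => ((z : ↥C) : G)) e).symm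
    · exact fun e => hne (congrArg (fun z : ↥(S : Subgroup ↥C) => ((z : ↥C) : G)) e)
  have h3 := (Finset.card_le_card h1).trans (IsCyclic.card_pow_eq_one_le (by norm_num : 0 < 2))
  omega

variable {A : Subgroup G}

/-- The main statement, for a moved element of the normal closure. -/
theorem semisimple_of_moved (hA : Cfsg.IsStandardSubgroup A)
    (hcyc : ∀ S : Sylow 2 ↥(centralizer (A : Set G)),
      IsCyclic ↥(S : Subgroup ↥(centralizer (A : Set G))))
    {t r : G} (htt : t * t = 1) (ht1 : t ≠ 1) (htA : t ∈ centralizer (A : Set G))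
    (hrX : r ∈ normalClosure (A : Set G)) (hr2 : r * r * t = t * (r * r)) (hrt : r * t ≠ t * r)
    (hu : r * t * r⁻¹ * t⁻¹ ∈ A) :
    Cfsg.layer ↥(normalClosure (A : Set G)) = ⊤ ∧
      Odd (Nat.card ↥(center ↥(normalClosure (A : Set G)))) := by
  classical
  haveI : Fact (Nat.Prime 2) := ⟨Nat.prime_two⟩
  set X := normalClosure (A : Set G) with hXdef
  haveI hXn : X.Normal := normalClosure_normal
  have hAX : A ≤ X := le_normalClosure
  have hti : t⁻¹ = t := inv_eq_of_mul_eq_one_right htt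
  obtain ⟨u, hudef⟩ : ∃ u, u = r * t * r⁻¹ * t⁻¹ := ⟨_, rfl⟩
  rw [← hudef] at hu
  have hu1 : u ≠ 1 := fun e => hrt (by
    rw [hudef, mul_inv_eq_one, mul_inv_eq_iff_eq_mul] at e
    exact e)
  have htu : t * u = u * t := (mem_centralizer_iff.1 htA u hu).symm
  have hv : r * t * r⁻¹ = u * t := by rw [hudef]; group
  have hvv : u * t * (u * t) = 1 := by
    rw [← hv, show r * t * r⁻¹ * (r * t * r⁻¹) = r * (t * t) * r⁻¹ by group, htt]; group
  have huu : u * u = 1 := by
    calc u * u = u * (t * t) * u := by rw [htt, mul_one]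
      _ = u * t * (t * u) := by group
      _ = 1 := by rw [htu, hvv]
  have hrv : r * (u * t) * r⁻¹ = t := by
    rw [← hv, show r * (r * t * r⁻¹) * r⁻¹ = r * r * t * (r * r)⁻¹ by group, hr2,
      mul_inv_cancel_right]
  have hru : r * u * r⁻¹ = u := by
    calc r * u * r⁻¹ = r * (u * t * t⁻¹) * r⁻¹ := by group
      _ = r * (u * t) * r⁻¹ * (r * t * r⁻¹)⁻¹ := by group
      _ = t * (u * t)⁻¹ := by rw [hrv, hv]
      _ = t * (u * t) := by rw [inv_eq_of_mul_eq_one_right hvv]
      _ = u := by rw [← htu, ← mul_assoc, htt, one_mul]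
  have hut : u ≠ t := fun e => by
    rw [e, htt] at hv
    exact ht1 (conj_eq_one_iff.1 hv)
  have huC : u ∉ centralizer (A : Set G) := fun h =>
    hut (involution_eq hcyc h htA huu htt htu.symm hu1 ht1)
  -- `C(t)` normalizes `A`
  have hCt : ∀ x, x * t = t * x → x ∈ normalizer (A : Set G) := by
    intro x hx
    rw [hA.2.2.2]
    by_contra hxn
    have hodd := hA.2.1.2 x hxn
    have hmem : t ∈ centralizer (A : Set G) ⊓
        (centralizer (A : Set G)).map (MulAut.conj x).toMonoidHom :=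
      ⟨htA, t, htA, by simp [hx]⟩
    have hd := orderOf_dvd_natCard (⟨t, hmem⟩ : ↥(centralizer (A : Set G) ⊓
      (centralizer (A : Set G)).map (MulAut.conj x).toMonoidHom))
    rw [← orderOf_coe, orderOf_eq_prime (p := 2) (by rw [pow_two, htt]) ht1] at hd
    exact (Nat.not_even_iff_odd.2 hodd) (even_iff_two_dvd.2 hd)
  -- the odd core
  set O := Cfsg.oddCore G with hO
  haveI hOn : O.Normal := Cfsg.pPrimeCore_normal 2 G
  have hOodd : ¬ 2 ∣ Nat.card ↥O := CfsgLib.Comp.not_dvd_card_pPrimeCore 2 G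
  have hfix : ∀ d ∈ O, d * t = t * d → d * u = u * d := by
    intro d hd hdt
    have hdN := hCt d hdt
    refine StandardCore.commute_of_central hA.1 hdN (fun x hx => ?_) u hu
    have hmem : d * x * d⁻¹ * x⁻¹ ∈ A ⊓ O :=
      ⟨A.mul_mem ((mem_normalizer_iff.1 hdN x).1 hx) (A.inv_mem hx), by
        rw [show d * x * d⁻¹ * x⁻¹ = d * (x * d⁻¹ * x⁻¹) by group]
        exact O.mul_mem hd (hOn.conj_mem _ (O.inv_mem hd) x)⟩
    rcases CfsgLib.Comp.normal_eq_top_or_le_center hA.1 (O.subgroupOf A) with h | h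
    · exfalso
      have huO : u ∈ O := mem_subgroupOf.1 (h ▸ mem_top (⟨u, hu⟩ : ↥A))
      apply hOodd
      rw [← orderOf_eq_prime (p := 2) (by rw [pow_two, huu]) hu1]
      exact Subgroup.orderOf_dvd_natCard O huO
    · exact h (mem_subgroupOf.2 hmem.2)
  have hfixv : ∀ d ∈ O, d * (t * u) = t * u * d → d * u = u * d := by
    intro d hd hdv
    rw [htu] at hdv
    have hd' : r⁻¹ * d * r ∈ O := by simpa using hOn.conj_mem d hd r⁻¹
    have hdt : r⁻¹ * d * r * t = t * (r⁻¹ * d * r) := by
      calc r⁻¹ * d * r * t = r⁻¹ * (d * (r * t * r⁻¹)) * r := by group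
        _ = r⁻¹ * (r * t * r⁻¹ * d) * r := by rw [hv, hdv]
        _ = t * (r⁻¹ * d * r) := by group
    calc d * u = r * (r⁻¹ * d * r * u) * r⁻¹ := by
          rw [show r * (r⁻¹ * d * r * u) * r⁻¹ = d * (r * u * r⁻¹) by group, hru]
      _ = r * (u * (r⁻¹ * d * r)) * r⁻¹ := by rw [hfix _ hd' hdt]
      _ = r * u * r⁻¹ * d := by group
      _ = u * d := by rw [hru]
  -- the four group
  let V : Subgroup G :=
    { carrier := {a | a = 1 ∨ a = t ∨ a = u ∨ a = t * u}
      one_mem' := Or.inl rfl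
      mul_mem' := by
        have h3 : u * (t * u) = t := by rw [← mul_assoc, ← htu, mul_assoc, huu, mul_one]
        have h4 : t * u * t = u := by rw [htu, mul_assoc, htt, mul_one]
        rintro a b (rfl | rfl | rfl | rfl) (rfl | rfl | rfl | rfl) <;>
          simp [htt, huu, ← htu, h3, h4, mul_assoc] <;> simp [← mul_assoc, htt, huu, h3, h4]
      inv_mem' := by
        have h5 : (t * u)⁻¹ = t * u := by
          rw [_root_.mul_inv_rev, inv_eq_of_mul_eq_one_right huu, hti, ← htu]
        rintro a (rfl | rfl | rfl | rfl)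
        · exact Or.inl inv_one
        · exact Or.inr (Or.inl hti)
        · exact Or.inr (Or.inr (Or.inl (inv_eq_of_mul_eq_one_right huu)))
        · exact Or.inr (Or.inr (Or.inr h5)) }
  have hVsq : ∀ a ∈ V, a * a = 1 := by
    rintro a (rfl | rfl | rfl | rfl)
    · exact one_mul 1
    · exact htt
    · exact huu
    · rw [htu]; exact hvv
  have hVcomm : IsMulCommutative V := ⟨⟨fun a b => Subtype.ext (by
    have ha := inv_eq_of_mul_eq_one_right (hVsq _ a.2)
    have hb := inv_eq_of_mul_eq_one_right (hVsq _ b.2)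
    have hab := inv_eq_of_mul_eq_one_right (hVsq _ (V.mul_mem a.2 b.2))
    rw [_root_.mul_inv_rev, ha, hb] at hab
    exact hab.symm)⟩⟩
  have hV2 : IsPGroup 2 ↥V := fun a => ⟨1, Subtype.ext (by
    rw [pow_one, pow_two]; exact hVsq _ a.2)⟩
  have hnc : ¬ IsCyclic ↥V := by
    rintro ⟨⟨a, ha⟩, hgen⟩
    have hpow : ∀ z : ↥V, (z : G) = 1 ∨ (z : G) = a := fun z => by
      obtain ⟨i, hi⟩ := mem_zpowers_iff.1 (hgen z)
      have hi' : (z : G) = a ^ i := by rw [← hi]; rfl
      have ha2 : a ^ (2 : ℤ) = 1 := (zpow_two a).trans (hVsq a ha)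
      rcases Int.even_or_odd i with ⟨j, rfl⟩ | ⟨j, rfl⟩
      · left; rw [hi', ← two_mul, zpow_mul, ha2, one_zpow]
      · right; rw [hi', zpow_add_one, zpow_mul, ha2, one_zpow, one_mul]
    rcases hpow ⟨t, Or.inr (Or.inl rfl)⟩ with h | h
    · exact ht1 h
    rcases hpow ⟨u, Or.inr (Or.inr (Or.inl rfl))⟩ with h' | h'
    · exact hu1 h'
    exact hut (h'.trans h.symm)
  have hgen := CfsgLib.Coprime.iSup_centralizer_eq hVcomm hnc
    (G := O) (le_normalizer_of_normal (H := O) (K := V))
    (by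
      obtain ⟨n, hn⟩ := hV2.exists_card_eq
      rw [hn]
      exact Nat.Coprime.pow_left _ (Nat.prime_two.coprime_iff_not_dvd.2 hOodd : Nat.Coprime 2 (Nat.card ↥O)))
  have hOu : O ≤ centralizer ({u} : Set G) := by
    refine hgen.symm.le.trans (iSup_le ?_)
    rintro ⟨a, ha, ha1⟩ d ⟨hd, hda⟩
    have hda' : d * a = a * d := mem_centralizer_singleton_iff.1 hda
    refine mem_centralizer_singleton_iff.2 ?_
    rcases ha with rfl | rfl | rfl | rfl
    · exact absurd rfl ha1
    · exact hfix d hd hda'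
    · exact hda'
    · exact hfixv d hd hda'
  have hXO : X ≤ centralizer (O : Set G) := by
    refine normalClosure_le_normal fun x hx => ?_
    have hucO : u ∈ centralizer (O : Set G) :=
      mem_centralizer_iff.2 fun d hd => mem_centralizer_singleton_iff.1 (hOu hd)
    rcases CfsgLib.Comp.normal_eq_top_or_le_center hA.1 ((centralizer (O : Set G)).subgroupOf A)
      with h | h
    · exact mem_subgroupOf.1 (h ▸ mem_top (⟨x, hx⟩ : ↥A))
    · exact absurd (mem_centralizer_iff.2 fun y hy => congrArg Subtype.val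
        (mem_center_iff.1 (h (mem_subgroupOf.2 hucO : (⟨u, hu⟩ : ↥A) ∈ _)) ⟨y, hy⟩)) huC
  -- the 2-layer
  have hXL : X ≤ Cfsg.pLayer 2 G := by
    haveI := CfsgLib.Comp.pLayer_normal 2 G
    refine normalClosure_le_normal ?_
    set C := centralizer ((zpowers t : Subgroup G) : Set G) with hC
    have hAC : A ≤ C := fun x hx => mem_centralizer_iff.2 fun y hy => by
      obtain ⟨n, rfl⟩ := mem_zpowers_iff.1 hy
      exact ((show Commute t x from (mem_centralizer_iff.1 htA x hx).symm).zpow_left n).eq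
    have hCN : C ≤ normalizer (A : Set G) := fun x hx =>
      hCt x (mem_centralizer_iff.1 hx t (mem_zpowers t)).symm
    haveI : (A.subgroupOf C).Normal := normal_subgroupOf_of_le_normalizer hCN
    have hcomp : Cfsg.IsComponent (A.subgroupOf C) :=
      ⟨Subgroup.Normal.isSubnormal inferInstance,
        CfsgLib.Comp.isQuasisimple_congr (subgroupOfEquivOfLe hAC).symm hA.1⟩
    have hp : Cfsg.IsPComponent 2 (A.subgroupOf C) := by
      refine CfsgLib.Comp.isPComponent_of_isComponent hcomp fun h => ?_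
      apply CfsgLib.Comp.not_dvd_card_pPrimeCore 2 ↥C
      have h1 : (⟨u, hAC hu⟩ : ↥C) ∈ Cfsg.pPrimeCore 2 ↥C := h (mem_subgroupOf.2 hu)
      have h2 := Subgroup.orderOf_dvd_natCard _ h1
      rwa [orderOf_mk, orderOf_eq_prime (p := 2) (by rw [pow_two, huu]) hu1] at h2
    have ht2 : IsPGroup 2 ↥(zpowers t) := fun y => ⟨1, Subtype.ext (by
      obtain ⟨n, hn⟩ := mem_zpowers_iff.1 y.2
      rw [SubgroupClass.coe_pow, OneMemClass.coe_one, ← hn, ← zpow_natCast, zpow_comm,
        zpow_natCast, pow_one, pow_two, htt, one_zpow])⟩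
    intro x hx
    exact CfsgLib.Comp.pLayer_centralizer_le ht2
      ⟨⟨x, hAC hx⟩, le_sSup (show A.subgroupOf C ∈ _ from hp) (mem_subgroupOf.2 hx), rfl⟩
  have hperf : ⁅X, X⁆ = X := by
    refine le_antisymm (commutator_le_self X) (normalClosure_le_normal fun x hx => ?_)
    have h1 : ⁅A, A⁆ = A := Subgroup.isPerfect_iff.1 hA.1.1
    rw [← h1] at hx
    exact commutator_mono hAX hAX hx
  refine ⟨layer_eq_top_of_le_layer hperf (le_layer_of_centralizes_core hperf hXL hXO), ?_⟩
  -- the centre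
  rw [← Nat.not_even_iff_odd]
  intro hev
  obtain ⟨z, hz⟩ := exists_prime_orderOf_dvd_card' 2 (even_iff_two_dvd.1 hev)
  set w : G := ((z : ↥X) : G) with hw
  have hwc : ∀ y ∈ X, y * w = w * y := fun y hy =>
    congrArg Subtype.val (mem_center_iff.1 z.2 ⟨y, hy⟩)
  have hwX : w ∈ X := (z : ↥X).2
  have hw1 : w ≠ 1 := fun e => by
    rw [show z = 1 from Subtype.ext (Subtype.ext e), orderOf_one] at hz
    omega
  have hww : w * w = 1 := by
    have := pow_orderOf_eq_one z
    rw [hz, pow_two] at this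
    exact congrArg (fun y : ↥(center ↥X) => ((y : ↥X) : G)) this
  have hw'X : t * w * t ∈ X := by simpa [hti] using hXn.conj_mem w hwX t
  have hw'c : ∀ y ∈ X, y * (t * w * t) = t * w * t * y := by
    intro y hy
    have hy' : t * y * t ∈ X := by simpa [hti] using hXn.conj_mem y hy t
    calc y * (t * w * t) = t * (t * y * t * w) * t := by
          simp [mul_assoc, htt, ← mul_assoc t t]
      _ = t * (w * (t * y * t)) * t := by rw [hwc _ hy']
      _ = t * w * t * y := by simp [mul_assoc, htt]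
  have huse : ∀ s ∈ X, (∀ y ∈ X, y * s = s * y) → s * s = 1 → s ≠ 1 → s * t = t * s → False := by
    intro s hs hsc hs2 hs1 hst
    have hsC : s ∈ centralizer (A : Set G) := mem_centralizer_iff.2 fun y hy => hsc y (hAX hy)
    have e := involution_eq hcyc hsC htA hs2 htt hst hs1 ht1
    exact hrt (e ▸ hsc r hrX)
  by_cases hfixed : w * (t * w * t) = 1
  · refine huse w hwX hwc hww hw1 ?_
    have e : t * w * t = w :=
      (inv_eq_of_mul_eq_one_right hfixed).symm.trans (inv_eq_of_mul_eq_one_right hww)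
    calc w * t = t * w * t * t := by rw [e]
      _ = t * w := by rw [mul_assoc, htt, mul_one]
  · have hcom : t * w * t * w = w * (t * w * t) := (hwc _ hw'X)
    refine huse _ (X.mul_mem hwX hw'X) (fun y hy => ?_) ?_ hfixed ?_
    · rw [← mul_assoc, hwc y hy, mul_assoc, hw'c y hy, ← mul_assoc]
    · calc w * (t * w * t) * (w * (t * w * t)) = w * (t * w * t * w) * (t * w * t) := by group
        _ = w * w * (t * w * (t * t) * w * t) := by rw [hcom]; group
        _ = 1 := by rw [hww, htt, mul_one, one_mul, mul_assoc t w w, hww, mul_one, htt]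
    · calc w * (t * w * t) * t = w * (t * w * (t * t)) := by group
        _ = t * t * w * t * w := by rw [htt, mul_one, one_mul]; group
        _ = t * (t * w * t * w) := by group
        _ = t * (w * (t * w * t)) := by rw [hcom]

end CfsgLib.InvChar.StandardClosure
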