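import Mathlib.GroupTheory.Perm.Cycle.Type
import Mathlib.GroupTheory.SpecificGroups.Alternating
import Mathlib.Tactic

/-!
# The element orders of the symmetric and alternating groups of degree eight
-/

set_option autoImplicit false

namespace CfsgLib.InvChar

/-- A cycle type from the numbers of cycles of each length. -/
def ofCounts (a b c d e f g : ℕ) : List ℕ :=
  List.replicate a 2 ++ List.replicate b 3 ++ List.replicate c 4 ++ List.replicate d 5 ++
    List.replicate e 6 ++ List.replicate f 7 ++ List.replicate g 8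

/-- The check for one cycle type. -/
def chkCounts (L : List ℕ) : Bool :=
  !decide (L.sum ≤ 8) || (decide (L.foldr Nat.lcm 1 ∈ [1, 2, 3, 4, 5, 6, 7, 8, 10, 12, 15]) &&
    (!decide ((L.sum + L.length) % 2 = 0) || decide (L.foldr Nat.lcm 1 ∈ [1, 2, 3, 4, 5, 6, 7, 15])))

theorem counts_chk : ((List.range 5).all fun a => (List.range 3).all fun b => (List.range 3).all fun c =>
    (List.range 2).all fun d => (List.range 2).all fun e => (List.range 2).all fun f => (List.range 2).all fun g =>
      chkCounts (ofCounts a b c d e f g)) = true := by decide +kernel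

theorem counts_eight (a : ℕ) (ha : a < 5) (b : ℕ) (hb : b < 3) (c : ℕ) (hc : c < 3) (d : ℕ) (hd : d < 2)
    (e : ℕ) (he : e < 2) (f : ℕ) (hf : f < 2) (g : ℕ) (hg : g < 2) (h : (ofCounts a b c d e f g).sum ≤ 8) :
    (ofCounts a b c d e f g).foldr Nat.lcm 1 ∈ [1, 2, 3, 4, 5, 6, 7, 8, 10, 12, 15] ∧
    (((ofCounts a b c d e f g).sum + (ofCounts a b c d e f g).length) % 2 = 0 →
      (ofCounts a b c d e f g).foldr Nat.lcm 1 ∈ [1, 2, 3, 4, 5, 6, 7, 15]) := by
  have k := counts_chk
  simp only [List.all_eq_true, List.mem_range] at k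
  have k := k a ha b hb c hc d hd e he f hf g hg
  simp only [chkCounts, Bool.or_eq_true, Bool.and_eq_true, Bool.not_eq_true', decide_eq_true_eq,
    decide_eq_false_iff_not] at k
  rcases k with k | ⟨k1, k2⟩
  · exact absurd h k
  · exact ⟨k1, fun hev => k2.resolve_left fun hn => hn hev⟩

theorem orderOf_perm_eight (σ : Equiv.Perm (Fin 8)) :
    orderOf σ ∈ [1, 2, 3, 4, 5, 6, 7, 8, 10, 12, 15] ∧
      (σ ∈ alternatingGroup (Fin 8) → orderOf σ ∈ [1, 2, 3, 4, 5, 6, 7, 15]) := by
  have hsum : σ.cycleType.sum ≤ 8 :=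
    (Equiv.Perm.sum_cycleType σ).le.trans ((σ.support.card_le_univ).trans (le_of_eq (Fintype.card_fin 8)))
  have h2 : ∀ k ∈ σ.cycleType, 2 ≤ k := fun k hk => Equiv.Perm.two_le_of_mem_cycleType hk
  have h8 : ∀ k ∈ σ.cycleType, k ≤ 8 := fun k hk => (Multiset.le_sum_of_mem hk).trans hsum
  set m := σ.cycleType with hm
  have he : m = ((ofCounts (m.count 2) (m.count 3) (m.count 4) (m.count 5) (m.count 6) (m.count 7) (m.count 8) : List ℕ) : Multiset ℕ) := by
    refine Multiset.ext.2 fun k => ?_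
    simp only [Multiset.coe_count, ofCounts, List.count_append, List.count_replicate, beq_iff_eq]
    by_cases hk : k ∈ m
    · have := h2 k hk; have := h8 k hk
      interval_cases k <;> simp
    · rw [Multiset.count_eq_zero.2 hk]
      rcases (by omega : k = 2 ∨ k = 3 ∨ k = 4 ∨ k = 5 ∨ k = 6 ∨ k = 7 ∨ k = 8 ∨ (k < 2 ∨ 8 < k)) with
        rfl | rfl | rfl | rfl | rfl | rfl | rfl | h <;>
        first
          | simp [Multiset.count_eq_zero.2 hk]
          | (repeat rw [if_neg (by omega)])
  have hbound : ∀ k, k * m.count k ≤ 8 := fun k => by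
    have hle : Multiset.replicate (m.count k) k ≤ m := Multiset.le_count_iff_replicate_le.1 le_rfl
    obtain ⟨r, hr⟩ := Multiset.le_iff_exists_add.1 hle
    have := congrArg Multiset.sum hr
    rw [Multiset.sum_add, Multiset.sum_replicate, smul_eq_mul] at this
    rw [mul_comm]; omega
  have b2 := hbound 2; have b3 := hbound 3; have b4 := hbound 4; have b5 := hbound 5
  have b6 := hbound 6; have b7 := hbound 7; have b8 := hbound 8
  have key := counts_eight (m.count 2) (by omega) (m.count 3) (by omega) (m.count 4) (by omega)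
    (m.count 5) (by omega) (m.count 6) (by omega) (m.count 7) (by omega) (m.count 8) (by omega)
  generalize ofCounts (m.count 2) (m.count 3) (m.count 4) (m.count 5) (m.count 6) (m.count 7) (m.count 8) = L at he key
  rw [he, Multiset.sum_coe] at hsum
  obtain ⟨k1, k2⟩ := key hsum
  have hl : L.foldr Nat.lcm 1 = orderOf σ := by
    rw [← Equiv.Perm.lcm_cycleType, ← hm, he]
    rfl
  rw [hl] at k1 k2
  refine ⟨k1, fun hσ => k2 ?_⟩
  have hsgn : Equiv.Perm.sign σ = 1 := Equiv.Perm.mem_alternatingGroup.1 hσ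
  rw [Equiv.Perm.sign_of_cycleType, ← hm, he, Multiset.sum_coe, Multiset.coe_card] at hsgn
  by_contra hodd
  rw [(Nat.odd_iff.2 (by omega) : Odd (L.sum + L.length)).neg_one_pow] at hsgn
  exact absurd hsgn (by decide)

/-- The spectrum of the symmetric group of degree eight. -/
theorem range_orderOf_symEight :
    Set.range (orderOf : Equiv.Perm (Fin 8) → ℕ) = {n | n ∈ [1, 2, 3, 4, 5, 6, 7, 8, 10, 12, 15]} := by
  ext n
  refine ⟨fun ⟨σ, e⟩ => e ▸ (orderOf_perm_eight σ).1, fun hn => ?_⟩
  have w : ∀ L : List (List (Fin 8)), ∀ m, ((L.map List.formPerm).prod).cycleType.lcm = m →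
      m ∈ Set.range (orderOf : Equiv.Perm (Fin 8) → ℕ) := fun L m e =>
    ⟨_, (Equiv.Perm.lcm_cycleType _).symm.trans e⟩
  simp only [Set.mem_setOf_eq, List.mem_cons, List.not_mem_nil, or_false] at hn
  rcases hn with rfl | rfl | rfl | rfl | rfl | rfl | rfl | rfl | rfl | rfl | rfl
  · exact ⟨1, orderOf_one⟩
  · exact w [[0, 1]] _ (by decide +kernel)
  · exact w [[0, 1, 2]] _ (by decide +kernel)
  · exact w [[0, 1, 2, 3]] _ (by decide +kernel)
  · exact w [[0, 1, 2, 3, 4]] _ (by decide +kernel)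
  · exact w [[0, 1, 2], [3, 4]] _ (by decide +kernel)
  · exact w [[0, 1, 2, 3, 4, 5, 6]] _ (by decide +kernel)
  · exact w [[0, 1, 2, 3, 4, 5, 6, 7]] _ (by decide +kernel)
  · exact w [[0, 1, 2, 3, 4], [5, 6]] _ (by decide +kernel)
  · exact w [[0, 1, 2, 3], [4, 5, 6]] _ (by decide +kernel)
  · exact w [[0, 1, 2, 3, 4], [5, 6, 7]] _ (by decide +kernel)

end CfsgLib.InvChar
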