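import Cfsg.Agent.Lib.InvChar.SymSixRecognition
import Cfsg.Agent.Lib.Char.Burnside

/-!
A 2-central involution with centraliser `Z₂ × S₄` and self-centralising commutators.
-/

set_option autoImplicit false

set_option synthInstance.maxSize 4096

namespace CfsgLib.InvChar.SymSix

universe u

open scoped commutatorElement

theorem center_M : ∀ q : M, q * q = 1 → q ≠ 1 → (∀ a : M, q * a = a * q) → q = mt := by decide +kernel

theorem centralizer_or_perm_six {G : Type u} [Group G] [Finite G]
    (t : G) (ht : orderOf t = 2) (T : Sylow 2 G) (htc : ∀ s ∈ (T : Subgroup G), s * t = t * s)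
    (e : ↥(Subgroup.centralizer ({t} : Set G)) ≃* M)
    (h2 : ∀ S : Sylow 2 G, Subgroup.centralizer ((⁅(S : Subgroup G), (S : Subgroup G)⁆ : Subgroup G) : Set G) = (S : Subgroup G)) :
    (Group.IsSolvable G → Subgroup.centralizer ({t} : Set G) = ⊤) ∧
      (¬ Group.IsSolvable G → Nonempty (G ≃* Equiv.Perm (Fin 6))) := by
  classical
  have : Fact (Nat.Prime 2) := ⟨Nat.prime_two⟩
  set C := Subgroup.centralizer ({t} : Set G) with hC
  let ι : M →* G := C.subtype.comp e.symm.toMonoidHom
  have hinj : Function.Injective ι := C.subtype_injective.comp e.symm.injective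
  have hmem : ∀ g : G, g * t = t * g → ∃ m, ι m = g := fun g hg =>
    ⟨e ⟨g, Subgroup.mem_centralizer_singleton_iff.2 hg⟩, by simp [ι]⟩
  have htt : ι mt = t := by
    obtain ⟨m, hm⟩ := hmem t rfl
    have hm' : m = mt := by
      refine center_M m (hinj ?_) (fun h => ?_) (fun a => hinj ?_)
      · rw [map_mul, map_one, hm]; exact CfsgLib.Invol.invol_mul_self ht
      · rw [h, map_one] at hm; exact CfsgLib.Invol.invol_ne_one ht hm.symm
      · rw [map_mul, map_mul, hm]
        exact (Subgroup.mem_centralizer_singleton_iff.1 (e.symm a).2).symm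
    rw [← hm', hm]
  -- all 2-subgroups have order at most sixteen
  have hM48 : Nat.card C = 48 := by
    rw [Nat.card_congr e.toEquiv, Nat.card_eq_fintype_card, card_sets.2.2.2]
  have hbound : ∀ R : Subgroup G, IsPGroup 2 R → Nat.card R ≤ 16 := by
    intro R hR
    obtain ⟨P, hP⟩ := hR.exists_le_sylow
    refine (Subgroup.card_le_of_le hP).trans ?_
    have hTle : (T : Subgroup G) ≤ C := fun s hs => Subgroup.mem_centralizer_singleton_iff.2 (htc s hs)
    obtain ⟨k, hk⟩ := T.2.exists_card_eq
    have hd := Subgroup.card_dvd_of_le hTle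
    rw [hM48, hk] at hd
    have hPT : Nat.card (P : Subgroup G) = Nat.card (T : Subgroup G) := by
      rw [P.card_eq_multiplicity, T.card_eq_multiplicity]
    rw [hPT, hk]
    have : k ≤ 4 := by
      by_contra hlt
      have : 2 ^ 5 ∣ 48 := (pow_dvd_pow 2 (by omega)).trans hd
      norm_num at this
    calc 2 ^ k ≤ 2 ^ 4 := Nat.pow_le_pow_right (by norm_num) this
      _ = 16 := by norm_num
  -- the Sylow subgroup given by the model
  set Q := Tm.map ι with hQ
  have hQc : Nat.card Q = 16 := by rw [hQ, Subgroup.card_map_of_injective hinj, card_Tm]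
  obtain ⟨S, hS⟩ := (IsPGroup.of_card (n := 4) (by rw [hQc]; norm_num) : IsPGroup 2 Q).exists_le_sylow
  have hSQ : (S : Subgroup G) = Q :=
    (Subgroup.eq_of_le_of_card_ge hS (by rw [hQc]; exact hbound _ S.2)).symm
  have hcomm : ∀ g : G, g * ι mz = ι mz * g → ∃ m, inT m ∧ ι m = g := by
    intro g hg
    have hgS : g ∈ (S : Subgroup G) := by
      rw [← h2 S, Subgroup.mem_centralizer_iff]
      intro c hc
      have hle : ⁅(S : Subgroup G), (S : Subgroup G)⁆ ≤ Subgroup.centralizer ({g} : Set G) := by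
        rw [Subgroup.commutator_le, hSQ]
        rintro _ ⟨a, ha, rfl⟩ _ ⟨b, hb, rfl⟩
        rw [commutatorElement_def, Subgroup.mem_centralizer_singleton_iff, ← map_inv, ← map_inv,
          ← map_mul, ← map_mul, ← map_mul]
        rcases commutator_cases a b (mem_Tm.1 ha) (mem_Tm.1 hb) with h | h <;> rw [h]
        · simp
        · exact hg.symm
      exact Subgroup.mem_centralizer_singleton_iff.1 (hle hc)
    rw [hSQ] at hgS
    obtain ⟨m, hm, hme⟩ := hgS
    exact ⟨m, mem_Tm.1 hm, hme⟩
  let d : Setup G := ⟨ι, hinj, fun g hg => hmem g (htt ▸ hg), hcomm, hbound⟩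
  have hperm : ∀ d' : Setup G, d'.Fused → ¬ Group.IsSolvable G ∧ Nonempty (G ≃* Equiv.Perm (Fin 6)) := by
    intro d' hf
    obtain ⟨φ⟩ := d'.nonempty_equiv_perm_six hf
    refine ⟨fun hsol => ?_, ⟨φ⟩⟩
    have : Group.IsSolvable G := hsol
    have h6 : Group.IsSolvable (Equiv.Perm (Fin 6)) :=
      solvable_of_surjective (f := φ.toMonoidHom) φ.surjective
    exact Equiv.Perm.not_solvable (Fin 6) (by simp only [Cardinal.mk_fintype, Fintype.card_fin]; norm_num) h6
  rcases d.isolated_or_fused with h | h | h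
  · have htop : C = ⊤ := eq_top_iff.2 fun g _ => by
      rw [hC, Subgroup.mem_centralizer_singleton_iff, ← htt]
      exact d.centralizer_eq_top h g
    refine ⟨fun _ => htop, fun hns => absurd ?_ hns⟩
    have hcard : Nat.card G = 2 ^ 4 * 3 ^ 1 := by
      rw [← Subgroup.card_top (G := G), ← htop, hM48]
      norm_num
    exact CfsgLib.Char.burnside_pq 2 3 Nat.prime_two Nat.prime_three 4 1 G hcard
  · exact ⟨fun hsol => absurd hsol (hperm _ h).1, fun _ => (hperm _ h).2⟩
  · exact ⟨fun hsol => absurd hsol (hperm _ h).1, fun _ => (hperm _ h).2⟩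

end CfsgLib.InvChar.SymSix
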