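import Mathlib

/-!
Finite facts about the group `Z₂ × S₄` used for the involution centraliser characterisation of `S₆`.
-/

set_option autoImplicit false

set_option synthInstance.maxSize 2048
namespace CfsgLib.InvChar.SymSix

open Equiv

/-- The model centraliser. -/
abbrev M := Multiplicative (ZMod 2) × Perm (Fin 4)

/-- The central involution. -/
def mt : M := (Multiplicative.ofAdd 1, 1)
/-- The commutator involution. -/
def mz : M := (1, swap 0 2 * swap 1 3)
/-- A transposition. -/
def mu : M := (1, swap 0 2)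
/-- The other transposition of the Sylow subgroup. -/
def mu' : M := (1, swap 1 3)
/-- A second double transposition. -/
def mv : M := (1, swap 0 1 * swap 2 3)
/-- An element of order three. -/
def mc : M := (1, swap 0 1 * swap 1 2)

/-- The Sylow subgroup. -/
def inT (q : M) : Prop := q * mz = mz * q
/-- The first elementary abelian subgroup. -/
def inE (q : M) : Prop := q * mz = mz * q ∧ q * mv = mv * q
/-- The second elementary abelian subgroup. -/
def inF (q : M) : Prop := q * mz = mz * q ∧ q * mu = mu * q

instance : DecidablePred inT := fun q => inferInstanceAs (Decidable (q * mz = mz * q))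
instance : DecidablePred inE := fun q => inferInstanceAs (Decidable (q * mz = mz * q ∧ q * mv = mv * q))
instance : DecidablePred inF := fun q => inferInstanceAs (Decidable (q * mz = mz * q ∧ q * mu = mu * q))

theorem elements : mt ≠ 1 ∧ mz ≠ 1 ∧ mu ≠ 1 ∧ mt * mt = 1 ∧ mz * mz = 1 ∧ mu * mu = 1 ∧
    mv * mv = 1 ∧ mc * mc * mc = 1 ∧ mc ≠ 1 := by decide +kernel

theorem mt_central : ∀ q : M, q * mt = mt * q := by decide +kernel

theorem commutator_cases : ∀ a b : M, inT a → inT b → a * b * a⁻¹ * b⁻¹ = 1 ∨ a * b * a⁻¹ * b⁻¹ = mz := by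
  decide +kernel

theorem mz_commutator : ∃ a b : M, inT a ∧ inT b ∧ a * b * a⁻¹ * b⁻¹ = mz := by decide +kernel

theorem invol_cases : ∀ q : M, inT q → q * q = 1 → inE q ∨ inF q := by decide +kernel

theorem not_commute : ∀ a b : M, inE a → ¬ inF a → inF b → ¬ inE b → a * b ≠ b * a := by decide +kernel

theorem elementary : ∀ a : M, inE a ∨ inF a → a * a = 1 := by decide +kernel

theorem abelian : ∀ a b : M, (inE a ∧ inE b) ∨ (inF a ∧ inF b) → a * b = b * a := by decide +kernel

theorem normal_in_T : ∀ a b : M, inT a → (inE b → inE (a * b * a⁻¹)) ∧ (inF b → inF (a * b * a⁻¹)) := by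
  decide +kernel

theorem inF_cases : ∀ q : M, inF q → q = 1 ∨ q = mt ∨ q = mz ∨ q = mt * mz ∨ q = mu ∨ q = mu' ∨
    q = mt * mu ∨ q = mt * mu' := by decide +kernel

theorem inF_mem : inF mt ∧ inF mz ∧ inF (mt * mz) ∧ inF mu ∧ inF mu' ∧ inF (mt * mu) ∧ inF (mt * mu') := by
  decide +kernel

theorem card_sets : (Finset.univ.filter inT).card = 16 ∧ (Finset.univ.filter inE).card = 8 ∧
    (Finset.univ.filter inF).card = 8 ∧ Fintype.card M = 48 := by decide +kernel

theorem mu_conj_mu' : ∃ a : M, inT a ∧ a * mu * a⁻¹ = mu' ∧ a * (mt * mu) * a⁻¹ = mt * mu' := by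
  decide +kernel

theorem center_T : ∀ q : M, inT q → (∀ a : M, inT a → q * a = a * q) →
    q = 1 ∨ q = mt ∨ q = mz ∨ q = mt * mz := by decide +kernel

theorem center_T_mem : ∀ a : M, inT a → mt * a = a * mt ∧ mz * a = a * mz ∧ mt * mz * a = a * (mt * mz) := by
  decide +kernel

/-- Every involution of the model is conjugate to one of five representatives. -/
theorem invol_reps : ∀ q : M, q * q = 1 → q ≠ 1 → ∃ w : M,
    w * q * w⁻¹ = mt ∨ w * q * w⁻¹ = mz ∨ w * q * w⁻¹ = mt * mz ∨ w * q * w⁻¹ = mu ∨
      w * q * w⁻¹ = mt * mu := by decide +kernel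

theorem inE_reps : ∀ q : M, inE q → q ≠ 1 → q = mt ∨
    ∃ w : M, w * q * w⁻¹ = mz ∨ w * q * w⁻¹ = mt * mz := by decide +kernel

theorem mc_not_normalize : ¬ inF (mc * mu * mc⁻¹) := by decide +kernel

/-- The value of the sign twist. -/
def tw (q : M) : M := (q.1 * (if Perm.sign q.2 = 1 then 1 else Multiplicative.ofAdd 1), q.2)

theorem tw_mul : ∀ a b : M, tw (a * b) = tw a * tw b := by decide +kernel

theorem tw_tw : ∀ a : M, tw (tw a) = a := by decide +kernel

theorem tw_values : tw mt = mt ∧ tw mz = mz ∧ tw mu = mt * mu ∧ tw (mt * mu) = mu := by decide +kernel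

/-- The twist as an automorphism. -/
def twist : M ≃* M where
  toFun := tw
  invFun := tw
  left_inv := tw_tw
  right_inv := tw_tw
  map_mul' := tw_mul

/-- The class of `t` inside the model, once `t` is fused to a transposition. -/
def tClass : Finset M :=
  Finset.univ.filter fun q => q = mt ∨ ∃ w : M, w * q * w⁻¹ = mu

/-- The class of `z` inside the model, once `z` is fused to `t` times a transposition. -/
def zClass : Finset M :=
  Finset.univ.filter fun q => ∃ w : M, w * q * w⁻¹ = mz ∨ w * q * w⁻¹ = mt * mu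

/-- Pairs whose product has the given element in its powers. -/
def pairs (A B : Finset M) (w : M) : Finset (M × M) :=
  (A ×ˢ B).filter fun q => ∃ k : Fin 12, (q.1 * q.2) ^ (k : ℕ) = w

theorem exponent : ∀ q : M, q ^ 12 = 1 := by decide +kernel

theorem count_t : (pairs tClass zClass mt).card = 30 := by decide +kernel

theorem count_z : (pairs (tClass.filter inT) (zClass.filter inT) mz).card = 4 := by decide +kernel

theorem count_tz :
    (pairs (tClass.filter inT) (zClass.filter fun q => inT q ∧ inF q) (mt * mz)).card = 3 := by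
  decide +kernel

theorem count_tz_none : ∀ a ∈ tClass.filter inT, ∀ b ∈ zClass.filter inT, ¬ inF b →
    ∀ k : Fin 12, (a * b) ^ (k : ℕ) ≠ mt * mz := by decide +kernel

theorem tClass_inT : ∀ q ∈ tClass, inT q → inF q := by decide +kernel

theorem five_points : ∀ q : Perm (Fin 5), q * q = 1 → Perm.sign q = -1 →
    ∃ c : Perm (Fin 5), c * c * c = 1 ∧ c ≠ 1 ∧ c * q = q * c := by decide +kernel

end CfsgLib.InvChar.SymSix
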