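import Cfsg.Agent.Lib.InvChar.SymSixSetup
import Cfsg.Agent.Lib.Transfer.Thompson
import Cfsg.Agent.S3277
import Cfsg.Agent.S1875

/-!
The fused case: the order of the group is 720.
-/

set_option autoImplicit false

set_option synthInstance.maxSize 4096

namespace CfsgLib.InvChar.SymSix

theorem model_misc : (mt * mz) * (mt * mz) = 1 ∧ mz * (mt * mz) = mt ∧ mz * (mt * mu) = mt * mu' ∧
    (∀ q : M, inT q → inF (q * q)) := by decide +kernel

theorem model_t : (∀ q : M, q * q = 1 → q ≠ 1 → ∀ w : M, w * q * w⁻¹ = mt → q = mt) ∧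
    (∀ q ∈ tClass, q * q = 1 ∧ q ≠ 1) ∧ (∀ q ∈ zClass, q * q = 1 ∧ q ≠ 1) ∧
    (∀ q : M, ∀ w : M, w * q * w⁻¹ = mu → q ∈ tClass) ∧ mt ∈ tClass := by decide +kernel

theorem model_E : (∀ q : M, inE q → q ∈ tClass → q = mt) ∧
    (∀ q : M, inF q → q ∈ zClass → q = mz ∨ q = mt * mu ∨ q = mt * mu') ∧
    (∀ q : M, inF q → q ≠ 1 → q ∉ tClass → q ∉ zClass → q = mt * mz) ∧
    inE mt ∧ inE mv ∧ (∀ q : M, inE q → q * mv = mv * q) := by decide +kernel

theorem model_v : inT mv ∧ inT (mt * mv) ∧ ¬ inF mv ∧ mv * mv = 1 ∧ (mt * mv) * (mt * mv) = 1 ∧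
    mv ∈ zClass ∧ (∃ w : M, w * (mt * mv) * w⁻¹ = mt * mz) ∧
    (∃ w : M, w * (mv * (mt * mz)) * w⁻¹ = mt * mz) ∧ mt * mv ≠ mt * mz ∧
    (∀ k : M, inT k → k * mv * k⁻¹ ≠ mz) := by decide +kernel

theorem model_T : (∀ q : M, inT q → inF q ∨ inF (mv * q)) ∧
    (∀ q : M, inT q → ¬ inF q → q * q ≠ mt * mz) ∧
    (∀ q : M, inT q → ¬ inF q → q * q = 1 → q ∈ zClass ∨ q * (mt * mz) ∈ zClass) ∧
    (∀ q : M, q * mt = mt * q → q * (mt * mz) = (mt * mz) * q → inT q) := by decide +kernel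

theorem model_W : inF (mt * mz) ∧ inF (mt * mu) ∧ mt * mu * mz = mt * mu' ∧
    (∀ q : M, inF q → q = 1 ∨ q = mt * mz ∨ q = mz ∨ q = mt ∨ q = mt * mu ∨ q = mt * mu' ∨
      q = mu ∨ q = mu') ∧ mt * (mt * mu) = mu ∧ mt * (mt * mu') = mu' := by decide +kernel

/-- The set `{1, z, tu, tu'}`. -/
def Wm : Subgroup M where
  carrier := {q | inF q ∧ (q = 1 ∨ q = mz ∨ q = mt * mu ∨ q = mt * mu')}
  one_mem' := ⟨(show inF 1 by decide +kernel), Or.inl rfl⟩
  mul_mem' := fun {a b} ha hb => by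
    have : ∀ a b : M, (inF a ∧ (a = 1 ∨ a = mz ∨ a = mt * mu ∨ a = mt * mu')) →
        (inF b ∧ (b = 1 ∨ b = mz ∨ b = mt * mu ∨ b = mt * mu')) →
        (inF (a * b) ∧ (a * b = 1 ∨ a * b = mz ∨ a * b = mt * mu ∨ a * b = mt * mu')) := by
      decide +kernel
    exact this a b ha hb
  inv_mem' := fun {a} ha => by
    have : ∀ a : M, (inF a ∧ (a = 1 ∨ a = mz ∨ a = mt * mu ∨ a = mt * mu')) → a⁻¹ = a := by
      decide +kernel
    simpa [this a ha] using ha

theorem card_Wm : Nat.card Wm = 4 := by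
  show Nat.card {q : M // inF q ∧ (q = 1 ∨ q = mz ∨ q = mt * mu ∨ q = mt * mu')} = 4
  rw [Nat.card_eq_fintype_card]
  decide +kernel

theorem not_mem_Wm : mt * mz ∉ Wm := by
  have : ¬ (inF (mt * mz) ∧ (mt * mz = 1 ∨ mt * mz = mz ∨ mt * mz = mt * mu ∨ mt * mz = mt * mu')) := by
    decide +kernel
  exact this

/-- Thompson transfer inside a subgroup, with the resulting subgroup taken in the whole group. -/
theorem index_two_in {G : Type*} [Group G] [Finite G] (H R Q : Subgroup G) (hRH : R ≤ H) (hQR : Q ≤ R)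
    (hR : IsPGroup 2 R)
    (hmax : ∀ R' : Subgroup G, R' ≤ H → IsPGroup 2 R' → Nat.card R' ≤ Nat.card R)
    (hQi : Nat.card R = 2 * Nat.card Q) {u : G} (hu : u ∈ R) (hu2 : u * u = 1)
    (hconj : ∀ h ∈ H, h * u * h⁻¹ ∉ Q) :
    ∃ M : Subgroup G, M ≤ H ∧ Nat.card H = 2 * Nat.card M ∧ u ∉ M ∧
      (∀ a ∈ H, ∀ b ∈ H, (a * b ∈ M ↔ (a ∈ M ↔ b ∈ M))) := by
  have : Fact (Nat.Prime 2) := ⟨Nat.prime_two⟩
  obtain ⟨P, hP⟩ := (hR.comap_of_injective H.subtype H.subtype_injective :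
    IsPGroup 2 (R.subgroupOf H)).exists_le_sylow
  have hcR : Nat.card (R.subgroupOf H) = Nat.card R :=
    Nat.card_congr (Subgroup.subgroupOfEquivOfLe hRH).toEquiv
  have hPR : R.subgroupOf H = (P : Subgroup H) := Subgroup.eq_of_le_of_card_ge hP (by
    rw [hcR]
    have := hmax _ (Subgroup.map_subtype_le (P : Subgroup H)) (P.2.map _)
    rwa [Subgroup.card_map_of_injective H.subtype_injective] at this)
  have hQP : Q.subgroupOf H ≤ (P : Subgroup H) := hPR ▸ fun x hx => hQR hx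
  have hrel : (Q.subgroupOf H).relIndex (P : Subgroup H) = 2 := by
    have h := ((Q.subgroupOf H).subgroupOf (P : Subgroup H)).card_mul_index
    rw [Nat.card_congr (Subgroup.subgroupOfEquivOfLe hQP).toEquiv,
      Nat.card_congr (Subgroup.subgroupOfEquivOfLe (hQR.trans hRH)).toEquiv, ← hPR, hcR, hQi] at h
    rw [Subgroup.relIndex, ← hPR]
    exact Nat.eq_of_mul_eq_mul_left Nat.card_pos (h.trans (mul_comm _ _))
  rcases CfsgLib.Transfer.thompson_transfer_involution P hQP hrel (u := ⟨u, hRH hu⟩)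
    (Subtype.ext (by rw [SubmonoidClass.coe_pow, pow_two]; exact hu2)) (hPR ▸ (hu : _)) with
    ⟨M, -, hMi, hMu⟩ | ⟨g, hg⟩
  · refine ⟨M.map H.subtype, Subgroup.map_subtype_le M, ?_, ?_, ?_⟩
    · rw [Subgroup.card_map_of_injective H.subtype_injective, ← M.card_mul_index, hMi, mul_comm]
    · rintro ⟨x, hx, e⟩
      exact hMu ((show x = (⟨u, hRH hu⟩ : H) from Subtype.ext e) ▸ hx)
    · intro a ha b hb
      have hmem : ∀ x : H, (x : G) ∈ M.map H.subtype ↔ x ∈ M := fun x =>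
        Subgroup.mem_map_iff_mem H.subtype_injective
      have h := (hmem (⟨a, ha⟩ * ⟨b, hb⟩)).trans (Subgroup.mul_mem_iff_of_index_two hMi)
      rw [← hmem ⟨a, ha⟩, ← hmem ⟨b, hb⟩] at h
      exact h
  · exact absurd (Subgroup.mem_subgroupOf.1 hg) (hconj g g.2)

theorem mem_tClass {q : M} : q ∈ tClass ↔ (q = mt ∨ ∃ w : M, w * q * w⁻¹ = mu) := by
  unfold tClass
  rw [Finset.mem_filter, and_iff_right (Finset.mem_univ q)]

theorem mem_zClass {q : M} : q ∈ zClass ↔ ∃ w : M, w * q * w⁻¹ = mz ∨ w * q * w⁻¹ = mt * mu := by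
  unfold zClass
  rw [Finset.mem_filter, and_iff_right (Finset.mem_univ q)]

theorem mem_pairs {A B : Finset M} {w : M} {q : M × M} :
    q ∈ pairs A B w ↔ (q.1 ∈ A ∧ q.2 ∈ B) ∧ ∃ k : Fin 12, (q.1 * q.2) ^ (k : ℕ) = w := by
  unfold pairs
  rw [Finset.mem_filter, Finset.mem_product]

theorem mem_filter_M {A : Finset M} {P : M → Prop} [DecidablePred P] {q : M} :
    q ∈ A.filter P ↔ q ∈ A ∧ P q := Finset.mem_filter

attribute [local irreducible] tClass zClass pairs

namespace Setup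

variable {G : Type*} [Group G] [Finite G] (d : Setup G)

theorem tClass_iff (hf : d.Fused) (m : M) : IsConj (d.ι mt) (d.ι m) ↔ m ∈ tClass := by
  constructor
  · intro h
    have hm2 : m * m = 1 := d.inj (by
      rw [map_mul, map_one]
      exact CfsgLib.Invol.invol_mul_self ((CfsgLib.Invol.orderOf_eq_of_isConj h).trans
        (d.orderOf_two elements.2.2.2.1 elements.1)))
    have hm1 : m ≠ 1 := fun e => d.ι_ne_one elements.1 (isConj_one_left.1 (by
      rw [e, map_one] at h; exact h))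
    obtain ⟨w, hw⟩ := invol_reps m hm2 hm1
    rcases hw with hw | hw | hw | hw | hw
    · rw [model_t.1 m hm2 hm1 w hw]; exact model_t.2.2.2.2
    · exact absurd (d.central_not_conj (Or.inl rfl) (Or.inr (Or.inl rfl)) (h.trans (d.conj_ι w hw)))
        central_ne.1
    · exact absurd (d.central_not_conj (Or.inl rfl) (Or.inr (Or.inr rfl)) (h.trans (d.conj_ι w hw)))
        central_ne.2.2.1
    · exact model_t.2.2.2.1 m w hw
    · exact absurd (d.central_not_conj (Or.inl rfl) (Or.inr (Or.inl rfl))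
        ((h.trans (d.conj_ι w hw)).trans hf.z_tu.symm)) central_ne.1
  · intro h
    rcases (mem_tClass.1 h) with rfl | ⟨w, hw⟩
    · exact IsConj.refl _
    · exact hf.t_u.trans (d.conj_ι w hw).symm

theorem zClass_iff (hf : d.Fused) (m : M) : IsConj (d.ι mz) (d.ι m) ↔ m ∈ zClass := by
  constructor
  · intro h
    have hm2 : m * m = 1 := d.inj (by
      rw [map_mul, map_one]
      exact CfsgLib.Invol.invol_mul_self ((CfsgLib.Invol.orderOf_eq_of_isConj h).trans
        (d.orderOf_two elements.2.2.2.2.1 elements.2.1)))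
    have hm1 : m ≠ 1 := fun e => d.ι_ne_one elements.2.1 (isConj_one_left.1 (by
      rw [e, map_one] at h; exact h))
    obtain ⟨w, hw⟩ := invol_reps m hm2 hm1
    rcases hw with hw | hw | hw | hw | hw
    · exact absurd (d.central_not_conj (Or.inr (Or.inl rfl)) (Or.inl rfl) (h.trans (d.conj_ι w hw)))
        central_ne.2.1
    · exact mem_zClass.2 ⟨w, Or.inl hw⟩
    · exact absurd (d.central_not_conj (Or.inr (Or.inl rfl)) (Or.inr (Or.inr rfl))
        (h.trans (d.conj_ι w hw))) central_ne.2.2.2.1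
    · exact absurd (d.central_not_conj (Or.inr (Or.inl rfl)) (Or.inl rfl)
        ((h.trans (d.conj_ι w hw)).trans hf.t_u.symm)) central_ne.2.1
    · exact mem_zClass.2 ⟨w, Or.inr hw⟩
  · intro h
    obtain ⟨w, hw | hw⟩ := mem_zClass.1 h
    · exact (d.conj_ι w hw).symm
    · exact hf.z_tu.trans (d.conj_ι w hw).symm

/-- Nontrivial elements of `F` other than `tz` are moved to `t` or `z` by `N(F)`. -/
theorem move_F (hf : d.Fused) {m : M} (hm : inF m) (h1 : m ≠ 1) (h2 : m ≠ mt * mz) :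
    ∃ n ∈ Subgroup.normalizer (d.F : Set G),
      n * d.ι m * n⁻¹ = d.ι mz ∨ n * d.ι m * n⁻¹ = d.ι mt := by
  by_cases ht : m ∈ tClass
  · obtain ⟨g, hg⟩ := isConj_iff.1 ((d.tClass_iff hf m).2 ht).symm
    obtain ⟨n, hn, e⟩ := d.fuse_F hm (Or.inl rfl) hg
    exact ⟨n, hn, Or.inr e⟩
  · have hz : m ∈ zClass := by
      by_contra hz
      exact h2 (model_E.2.2.1 m hm h1 ht hz)
    obtain ⟨g, hg⟩ := isConj_iff.1 ((d.zClass_iff hf m).2 hz).symm
    obtain ⟨n, hn, e⟩ := d.fuse_F hm (Or.inr (Or.inl rfl)) hg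
    exact ⟨n, hn, Or.inl e⟩

/-- An element centralising both `tz` and `s` lies in a conjugate of `T`. -/
theorem cent_small (hf : d.Fused) {s : G}
    (hs : IsConj (d.ι mz) s ∨
      ∃ n ∈ Subgroup.normalizer (d.F : Set G), n * s * n⁻¹ = d.ι mt) :
    ∃ a : G, ∀ g : G, g * d.ι (mt * mz) = d.ι (mt * mz) * g → g * s = s * g → a * g * a⁻¹ ∈ d.T := by
  rcases hs with hs | ⟨n, hn, e⟩
  · obtain ⟨b, rfl⟩ := isConj_iff.1 hs
    refine ⟨b⁻¹, fun g _ hgs => ?_⟩
    obtain ⟨k, hk, e⟩ := d.cenz (b⁻¹ * g * b) (by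
      calc b⁻¹ * g * b * d.ι mz = b⁻¹ * (g * (b * d.ι mz * b⁻¹)) * b := by group
        _ = b⁻¹ * (b * d.ι mz * b⁻¹ * g) * b := by rw [hgs]
        _ = _ := by group)
    rw [inv_inv]
    exact d.mem_T.2 ⟨k, hk, e⟩
  · refine ⟨n, fun g hgx hgs => ?_⟩
    have hgt : n * g * n⁻¹ * d.ι mt = d.ι mt * (n * g * n⁻¹) := by
      rw [← e]
      calc n * g * n⁻¹ * (n * s * n⁻¹) = n * (g * s) * n⁻¹ := by group
        _ = n * (s * g) * n⁻¹ := by rw [hgs]
        _ = _ := by group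
    have hgx' : n * g * n⁻¹ * d.ι (mt * mz) = d.ι (mt * mz) * (n * g * n⁻¹) := by
      have h1 : n * d.ι (mt * mz) * n⁻¹ = d.ι (mt * mz) := by
        rw [hf.le_cent n hn, mul_inv_cancel_right]
      rw [← h1]
      calc n * g * n⁻¹ * (n * d.ι (mt * mz) * n⁻¹) = n * (g * d.ι (mt * mz)) * n⁻¹ := by group
        _ = n * (d.ι (mt * mz) * g) * n⁻¹ := by rw [hgx]
        _ = _ := by group
    obtain ⟨k, hk⟩ := d.cen _ hgt
    rw [← hk, ← map_mul, ← map_mul, d.ι_eq] at hgx'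
    exact d.mem_T.2 ⟨k, model_T.2.2.2 k (mt_central k) hgx', hk⟩

/-- The centraliser of `tz`. -/
def X : Subgroup G := Subgroup.centralizer ({d.ι (mt * mz)} : Set G)

theorem mem_X {g : G} : g ∈ d.X ↔ g * d.ι (mt * mz) = d.ι (mt * mz) * g :=
  Subgroup.mem_centralizer_singleton_iff

theorem T_le_X : d.T ≤ d.X := fun x hx => by
  obtain ⟨m, hm, rfl⟩ := d.mem_T.1 hx
  rw [d.mem_X, ← map_mul, ← map_mul, central_commute (Or.inr (Or.inr rfl)) hm]

theorem F_le_T : d.F ≤ d.T := fun x hx => by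
  obtain ⟨m, hm, rfl⟩ := d.mem_F.1 hx
  exact d.mem_T.2 ⟨m, hm.1, rfl⟩

theorem mv_not_fused (hf : d.Fused) {x : G} (hx : x ∈ d.X) :
    x * d.ι mv * x⁻¹ ∉ d.F ∧ x * d.ι (mt * mv) * x⁻¹ ∉ d.F := by
  constructor
  · intro hmem
    obtain ⟨m, hm, e⟩ := d.mem_F.1 hmem
    have hc : IsConj (d.ι mz) (d.ι m) :=
      ((d.zClass_iff hf mv).2 model_v.2.2.2.2.2.1).trans (isConj_iff.2 ⟨x, e.symm⟩)
    obtain ⟨g, hg⟩ := isConj_iff.1 hc.symm
    obtain ⟨n, hn, hne⟩ := d.fuse_F hm (Or.inr (Or.inl rfl)) hg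
    set y := n * x with hy
    have hyv : y * d.ι mv * y⁻¹ = d.ι mz := by
      rw [← hne, e, hy]; group
    have hyX : y ∈ d.X := mul_mem (d.mem_X.2 (hf.le_cent n hn)) hx
    have hwc := d.weakly_closed (Or.inl rfl) (g := y) (fun a ha => by
      obtain ⟨k, hk, rfl⟩ := d.mem_E.1 ha
      obtain ⟨k', hk', e'⟩ := d.cenz (y * d.ι k * y⁻¹) (by
        rw [← hyv]
        have hkv : d.ι k * d.ι mv = d.ι mv * d.ι k := by
          rw [← map_mul, ← map_mul, model_E.2.2.2.2.2 k hk]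
        calc y * d.ι k * y⁻¹ * (y * d.ι mv * y⁻¹) = y * (d.ι k * d.ι mv) * y⁻¹ := by group
          _ = y * (d.ι mv * d.ι k) * y⁻¹ := by rw [hkv]
          _ = _ := by group)
      exact d.mem_T.2 ⟨k', hk', e'⟩)
    obtain ⟨k, hk, ek⟩ := d.mem_E.1 (hwc _ (d.mem_E.2 ⟨mt, model_E.2.2.2.1, rfl⟩))
    have hkt : k = mt := model_E.1 k hk ((d.tClass_iff hf k).1 (isConj_iff.2 ⟨y, ek.symm⟩))
    subst hkt
    obtain ⟨j, hj⟩ := d.cen y (mul_inv_eq_iff_eq_mul.1 ek.symm)
    have hjX := d.mem_X.1 hyX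
    rw [← hj, ← map_mul, ← map_mul, d.ι_eq] at hjX
    rw [← hj, ← map_inv, ← map_mul, ← map_mul, d.ι_eq] at hyv
    exact model_v.2.2.2.2.2.2.2.2.2 j (model_T.2.2.2 j (mt_central j) hjX) hyv
  · intro hmem
    obtain ⟨m, hm, e⟩ := d.mem_F.1 hmem
    obtain ⟨w, hw⟩ := model_v.2.2.2.2.2.2.1
    have hc : IsConj (d.ι (mt * mz)) (d.ι m) :=
      (d.conj_ι w hw).symm.trans (isConj_iff.2 ⟨x, e.symm⟩)
    have hm1 : m ≠ 1 := fun h => d.ι_ne_one central_ne.2.2.2.2.1 (isConj_one_left.1 (by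
      rw [h, map_one] at hc; exact hc))
    have hm' : m = mt * mz := model_E.2.2.1 m hm hm1
      (fun h => central_ne.2.2.1 (d.central_not_conj (Or.inl rfl) (Or.inr (Or.inr rfl))
        (((d.tClass_iff hf m).2 h).trans hc.symm)))
      (fun h => central_ne.2.2.2.1 (d.central_not_conj (Or.inr (Or.inl rfl)) (Or.inr (Or.inr rfl))
        (((d.zClass_iff hf m).2 h).trans hc.symm)))
    subst hm'
    refine model_v.2.2.2.2.2.2.2.2.1 (d.inj ?_)
    refine mul_left_cancel (a := x) (mul_right_cancel (b := x⁻¹) ?_)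
    rw [← e, d.mem_X.1 hx, mul_inv_cancel_right]

/-- The index two subgroup of `C(tz)` meeting `T` in `F`. -/
theorem exists_Y (hf : d.Fused) : ∃ Y : Subgroup G, Y ≤ d.X ∧ Nat.card d.X = 2 * Nat.card Y ∧
    (∀ a ∈ d.X, ∀ b ∈ d.X, (a * b ∈ Y ↔ (a ∈ Y ↔ b ∈ Y))) ∧ d.F ≤ Y ∧ d.ι mv ∉ Y := by
  have hmax : ∀ R' : Subgroup G, R' ≤ d.X → IsPGroup 2 R' → Nat.card R' ≤ Nat.card d.T :=
    fun R' _ h => d.card_T ▸ d.bound R' h
  have h16 : Nat.card d.T = 2 * Nat.card d.F := by rw [d.card_T, d.card_F]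
  have hvT : d.ι mv ∈ d.T := d.mem_T.2 ⟨mv, model_v.1, rfl⟩
  have htvT : d.ι (mt * mv) ∈ d.T := d.mem_T.2 ⟨mt * mv, model_v.2.1, rfl⟩
  obtain ⟨M1, h1le, h1c, h1v, h1m⟩ := index_two_in d.X d.T d.F d.T_le_X d.F_le_T d.isPGroup_T hmax
    h16 hvT (by rw [← map_mul, model_v.2.2.2.1, map_one]) (fun h hh => (d.mv_not_fused hf hh).1)
  obtain ⟨M2, h2le, h2c, h2v, h2m⟩ := index_two_in d.X d.T d.F d.T_le_X d.F_le_T d.isPGroup_T hmax
    h16 htvT (by rw [← map_mul, model_v.2.2.2.2.1, map_one]) (fun h hh => (d.mv_not_fused hf hh).2)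
  have htX : d.ι mt ∈ d.X := d.T_le_X (d.mem_T.2 ⟨mt, central_mem_Tm (Or.inl rfl), rfl⟩)
  have hvX : d.ι mv ∈ d.X := d.T_le_X hvT
  have hgen : ∀ M : Subgroup G, (∀ a ∈ d.X, ∀ b ∈ d.X, (a * b ∈ M ↔ (a ∈ M ↔ b ∈ M))) →
      d.ι mt ∈ M → d.F ≤ M := by
    intro M hM ht
    have hconj : ∀ x ∈ d.X, ∀ a ∈ d.X, (x * a * x⁻¹ ∈ M ↔ a ∈ M) := by
      intro x hx a ha
      rw [hM _ (mul_mem hx ha) _ (inv_mem hx), hM x hx a ha, inv_mem_iff]
      tauto
    have hz : d.ι mz ∈ M := by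
      obtain ⟨a, b, ha, hb, hab⟩ := mz_commutator
      have haX := d.T_le_X (d.mem_T.2 ⟨a, ha, rfl⟩)
      have hbX := d.T_le_X (d.mem_T.2 ⟨b, hb, rfl⟩)
      rw [← hab, map_mul, map_mul, map_mul, map_inv, map_inv,
        hM _ (mul_mem (mul_mem haX hbX) (inv_mem haX)) _ (inv_mem hbX), hconj _ haX _ hbX, inv_mem_iff]
    have htu : d.ι (mt * mu) ∈ M := by
      obtain ⟨g, hg⟩ := isConj_iff.1 hf.z_tu.symm
      obtain ⟨n, hn, e⟩ := d.fuse_F inF_mem.2.2.2.2.2.1 (Or.inr (Or.inl rfl)) hg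
      rw [← hconj n (d.mem_X.2 (hf.le_cent n hn)) _
        (d.T_le_X (d.F_le_T (d.mem_F.2 ⟨_, inF_mem.2.2.2.2.2.1, rfl⟩))), e]
      exact hz
    have htu' : d.ι (mt * mu') ∈ M := by
      rw [← model_W.2.2.1, map_mul]; exact mul_mem htu hz
    intro x hx
    obtain ⟨m, hm, rfl⟩ := d.mem_F.1 hx
    rcases model_W.2.2.2.1 m hm with rfl | rfl | rfl | rfl | rfl | rfl | rfl | rfl
    · rw [map_one]; exact one_mem _
    · rw [map_mul]; exact mul_mem ht hz
    · exact hz
    · exact ht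
    · exact htu
    · exact htu'
    · rw [← model_W.2.2.2.2.1, map_mul]; exact mul_mem ht htu
    · rw [← model_W.2.2.2.2.2, map_mul]; exact mul_mem ht htu'
  by_cases ht1 : d.ι mt ∈ M1
  · exact ⟨M1, h1le, h1c, h1m, hgen M1 h1m ht1, h1v⟩
  have hv2 : d.ι mv ∈ M2 ↔ d.ι mt ∉ M2 := by
    have h := h2m _ htX _ hvX
    rw [← map_mul] at h
    tauto
  by_cases ht2 : d.ι mt ∈ M2
  · exact ⟨M2, h2le, h2c, h2m, hgen M2 h2m ht2, fun h => hv2.1 h ht2⟩
  let Y : Subgroup G :=
    { carrier := {x | x ∈ d.X ∧ (x ∈ M1 ↔ x ∈ M2)}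
      one_mem' := ⟨one_mem _, iff_of_true (one_mem _) (one_mem _)⟩
      mul_mem' := fun {a b} ha hb => ⟨mul_mem ha.1 hb.1, by
        rw [h1m a ha.1 b hb.1, h2m a ha.1 b hb.1, ha.2, hb.2]⟩
      inv_mem' := fun {a} ha => ⟨inv_mem ha.1, by rw [inv_mem_iff, inv_mem_iff]; exact ha.2⟩ }
  have hYmem : ∀ x, x ∈ Y ↔ x ∈ d.X ∧ (x ∈ M1 ↔ x ∈ M2) := fun x => Iff.rfl
  have hYm : ∀ a ∈ d.X, ∀ b ∈ d.X, (a * b ∈ Y ↔ (a ∈ Y ↔ b ∈ Y)) := by
    intro a ha b hb
    rw [hYmem, hYmem, hYmem, h1m a ha b hb, h2m a ha b hb]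
    simp only [ha, hb, mul_mem ha hb, true_and]
    tauto
  have htY : d.ι mt ∈ Y := ⟨htX, iff_of_false ht1 ht2⟩
  have hvY : d.ι mv ∉ Y := fun h => h1v (h.2.2 (hv2.2 ht2))
  refine ⟨Y, fun x hx => hx.1, ?_, hYm, hgen Y hYm htY, hvY⟩
  have hi : (Y.subgroupOf d.X).index = 2 := by
    rw [Subgroup.index_eq_two_iff]
    refine ⟨⟨_, hvX⟩, fun a => ?_⟩
    rw [Subgroup.mem_subgroupOf, Subgroup.mem_subgroupOf, Subgroup.coe_mul]
    by_cases ha : (a : G) ∈ Y
    · exact Or.inr ⟨ha, fun h => hvY (((hYm _ a.2 _ hvX).1 h).1 ha)⟩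
    · exact Or.inl ⟨(hYm _ a.2 _ hvX).2 (iff_of_false ha hvY), ha⟩
  rw [← (Y.subgroupOf d.X).card_mul_index, hi, mul_comm,
    Nat.card_congr (Subgroup.subgroupOfEquivOfLe (fun x hx => hx.1 : Y ≤ d.X)).toEquiv]

/-- The centraliser of `tz` is the normaliser of `F`. -/
theorem X_eq (hf : d.Fused) : d.X = Subgroup.normalizer (d.F : Set G) := by
  classical
  have : Fact (Nat.Prime 2) := ⟨Nat.prime_two⟩
  set N := Subgroup.normalizer (d.F : Set G) with hN
  have hNX : N ≤ d.X := fun n hn => d.mem_X.2 (hf.le_cent n hn)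
  refine le_antisymm ?_ hNX
  obtain ⟨Y, hYX, hYc, hYm, hFY, hvY⟩ := d.exists_Y hf
  set c := d.ι (mt * mz) with hc
  have hcF : c ∈ d.F := d.mem_F.2 ⟨_, model_W.1, rfl⟩
  have hcc : c * c = 1 := by rw [hc, ← map_mul, model_misc.1, map_one]
  have hvT : d.ι mv ∈ d.T := d.mem_T.2 ⟨mv, model_v.1, rfl⟩
  have hTY : ∀ x ∈ d.T, x ∈ Y → x ∈ d.F := by
    intro x hx hxY
    obtain ⟨m, hm, rfl⟩ := d.mem_T.1 hx
    rcases model_T.1 m hm with h | h
    · exact d.mem_F.2 ⟨m, h, rfl⟩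
    · have h' : d.ι mv * d.ι m ∈ Y := hFY (d.mem_F.2 ⟨_, h, by rw [map_mul]⟩)
      exact absurd ((hYm _ (d.T_le_X hvT) _ (d.T_le_X hx)).1 h' |>.2 hxY) hvY
  -- two-subgroups of `Y`
  have hY8 : ∀ R' : Subgroup G, R' ≤ Y → IsPGroup 2 R' → Nat.card R' ≤ Nat.card d.F := by
    intro R' hR' hp
    obtain ⟨k, hk⟩ := hp.exists_card_eq
    have hdvd : 2 ^ (k + 1) ∣ Nat.card d.X := by
      rw [hYc, pow_succ', ← hk]
      exact Nat.mul_dvd_mul_left 2 (Subgroup.card_dvd_of_le hR')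
    obtain ⟨Q, hQ⟩ := Sylow.exists_subgroup_card_pow_prime 2 hdvd
    have h := d.bound (Q.map d.X.subtype) ((IsPGroup.of_card hQ).map _)
    rw [Subgroup.card_map_of_injective d.X.subtype_injective, hQ, pow_succ] at h
    rw [hk, d.card_F]
    omega
  -- transfer in `Y`
  set W := Wm.map d.ι with hW
  have hWF : W ≤ d.F := by
    rintro _ ⟨m, hm, rfl⟩
    exact d.mem_F.2 ⟨m, hm.1, rfl⟩
  obtain ⟨M3, h3le, h3c, h3u, h3m⟩ := index_two_in Y d.F W hFY hWF
    (IsPGroup.of_card (n := 3) (by rw [d.card_F]; norm_num)) hY8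
    (by rw [d.card_F, hW, Subgroup.card_map_of_injective d.inj, card_Wm]) hcF hcc (fun h hh hmem => by
      rw [d.mem_X.1 (hYX hh), mul_inv_cancel_right] at hmem
      obtain ⟨m, hm, e⟩ := hmem
      exact not_mem_Wm (d.inj e ▸ hm))
  have hcY : c ∈ Y := hFY hcF
  have hmove : ∀ y ∈ Y, y ∉ M3 → y * c ∈ M3 := fun y hy h =>
    (h3m y hy c hcY).2 (iff_of_false h h3u)
  -- the Sylow subgroup of `M3`
  set R3 := M3 ⊓ d.F with hR3
  have hR3c : Nat.card R3 = 4 := by
    have hi : (M3.subgroupOf d.F).index = 2 := by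
      rw [Subgroup.index_eq_two_iff]
      refine ⟨⟨c, hcF⟩, fun a => ?_⟩
      rw [Subgroup.mem_subgroupOf, Subgroup.mem_subgroupOf, Subgroup.coe_mul]
      by_cases ha : (a : G) ∈ M3
      · exact Or.inr ⟨ha, fun h => h3u ((mul_mem_cancel_left ha).1 h)⟩
      · exact Or.inl ⟨hmove _ (hFY a.2) ha, ha⟩
    have h := (M3.subgroupOf d.F).card_mul_index
    rw [hi, d.card_F] at h
    have e : Nat.card (M3.subgroupOf d.F) = Nat.card R3 := by
      rw [hR3, ← Subgroup.inf_subgroupOf_right M3 d.F,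
        Nat.card_congr (Subgroup.subgroupOfEquivOfLe inf_le_right).toEquiv]
    omega
  have h4 : ∀ R' : Subgroup G, R' ≤ M3 → IsPGroup 2 R' → Nat.card R' ≤ 4 := by
    intro R' hR' hp
    obtain ⟨k, hk⟩ := hp.exists_card_eq
    have hdvd : 2 ^ (k + 1) ∣ Nat.card Y := by
      rw [h3c, pow_succ', ← hk]
      exact Nat.mul_dvd_mul_left 2 (Subgroup.card_dvd_of_le hR')
    obtain ⟨Q, hQ⟩ := Sylow.exists_subgroup_card_pow_prime 2 hdvd
    have h := hY8 _ (Subgroup.map_subtype_le Q) ((IsPGroup.of_card hQ).map _)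
    rw [Subgroup.card_map_of_injective Y.subtype_injective, hQ, pow_succ, d.card_F] at h
    rw [hk]
    omega
  have hX48 : 48 ≤ Nat.card d.X := hf.card_norm ▸ Subgroup.card_le_of_le hNX
  have hM3big : 4 < Nat.card M3 := by
    have : Nat.card d.X = 4 * Nat.card M3 := by rw [hYc, h3c]; ring
    omega
  -- the element `s₀`
  obtain ⟨s₀, hs₀, hs₀F, hs₀1⟩ : ∃ s₀, (s₀ = mz ∨ s₀ = mt) ∧ d.ι s₀ ∈ M3 ∧ s₀ ≠ 1 := by
    by_cases hz : d.ι mz ∈ M3
    · exact ⟨mz, Or.inl rfl, hz, elements.2.1⟩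
    · refine ⟨mt, Or.inr rfl, ?_, elements.1⟩
      have h := hmove _ (hFY (d.mem_F.2 ⟨mz, inF_mem.2.1, rfl⟩)) hz
      rw [hc, ← map_mul, model_misc.2.1] at h
      exact h
  have hs₀cent : ∀ g ∈ d.X, g * d.ι s₀ = d.ι s₀ * g → g ∈ d.T := by
    intro g hg h
    rcases hs₀ with rfl | rfl
    · obtain ⟨m, hm, e⟩ := d.cenz g h
      exact d.mem_T.2 ⟨m, hm, e⟩
    · obtain ⟨m, rfl⟩ := d.cen g h
      have hgX := d.mem_X.1 hg
      rw [← map_mul, ← map_mul, d.ι_eq] at hgX
      exact d.mem_T.2 ⟨m, model_T.2.2.2 m (mt_central m) hgX, rfl⟩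
  have hs₀o : s₀ * s₀ = 1 := by rcases hs₀ with rfl | rfl <;> [exact elements.2.2.2.2.1; exact elements.2.2.2.1]
  let x₀ : M3 := ⟨d.ι s₀, hs₀F⟩
  have hC : ∀ g : M3, g ∈ Subgroup.centralizer ({x₀} : Set M3) ↔ (g : G) ∈ R3 := by
    intro g
    rw [Subgroup.mem_centralizer_singleton_iff, Subtype.ext_iff, hR3, Subgroup.mem_inf]
    refine ⟨fun h => ⟨g.2, hTY _ (hs₀cent _ (hYX (h3le g.2)) h) (h3le g.2)⟩, fun h => ?_⟩
    obtain ⟨m, hm, e⟩ := d.mem_F.1 h.2
    show (g : G) * d.ι s₀ = d.ι s₀ * g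
    rw [← e, ← map_mul, ← map_mul, abelian m s₀ (Or.inr ⟨hm, ?_⟩)]
    rcases hs₀ with rfl | rfl <;> [exact inF_mem.2.1; exact inF_mem.1]
  -- no element other than `1`, `tz` can be normalised by `M3`
  have hsmall : ∀ s ∈ R3, s ≠ 1 → ¬ ∀ g ∈ M3, g * s = s * g := by
    intro s hs hs1 hcent
    obtain ⟨m, hm, rfl⟩ := d.mem_F.1 hs.2
    obtain ⟨n, hn, hne⟩ := d.move_F hf hm (fun h => hs1 (by rw [h, map_one]))
      (fun h => h3u (by rw [hc, ← h]; exact hs.1))
    obtain ⟨a, ha⟩ := d.cent_small hf (s := d.ι m)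
      (hne.imp (fun e => (isConj_iff.2 ⟨n, e⟩ : IsConj (d.ι m) (d.ι mz)).symm) fun e => ⟨n, hn, e⟩)
    have hp : IsPGroup 2 M3 := by
      refine (d.isPGroup_T.comap_of_injective (MulAut.conj a).toMonoidHom (MulEquiv.injective _)).to_le ?_
      exact fun g hg => ha g (d.mem_X.1 (hYX (h3le hg))) (hcent g hg)
    exact absurd (h4 M3 le_rfl hp) (not_le.2 hM3big)
  by_contra hXN
  have key : Nonempty (M3 ≃* alternatingGroup (Fin 5)) := by
    refine Cfsg.Agent.S3277.result x₀ ?_ ?_ ?_ ?_ ?_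
    · exact orderOf_eq_prime (by
        rw [pow_two]; exact Subtype.ext (by simp [x₀, ← map_mul, hs₀o]))
        fun h => d.ι_ne_one hs₀1 (congrArg Subtype.val h)
    · rw [← hR3c]
      exact Nat.card_congr ⟨fun g => ⟨g.1, (hC g.1).1 g.2⟩,
        fun g => ⟨⟨g.1, g.2.1⟩, (hC _).2 g.2⟩, fun g => rfl, fun g => rfl⟩
    · intro g hg
      obtain ⟨m, hm, e⟩ := d.mem_F.1 ((hC g).1 hg).2
      refine Subtype.ext ?_
      rw [SubmonoidClass.coe_pow, ← e, pow_two, ← map_mul, elementary m (Or.inr hm), map_one]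
      rfl
    · rintro ⟨P, K, hK, hPK⟩
      have hcard := hPK.card_mul
      have hP4 : Nat.card (P : Subgroup M3) ≤ 4 := by
        have := h4 _ (Subgroup.map_subtype_le (P : Subgroup M3)) (P.2.map _)
        rwa [Subgroup.card_map_of_injective M3.subtype_injective] at this
      have hKi : K.index = Nat.card (P : Subgroup M3) := Subgroup.IsComplement'.index_eq_card (Subgroup.IsComplement'.symm hPK)
      have hodd : ∀ k : G, ∀ hk : k ∈ d.X, Odd (orderOf k) → k ∈ M3 := by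
        intro k hk ho
        have h1 : ∀ (H M : Subgroup G), M ≤ H → (∀ a ∈ H, ∀ b ∈ H, (a * b ∈ M ↔ (a ∈ M ↔ b ∈ M))) →
            k ∈ H → k ∈ M := by
          intro H M hMH hm hkH
          by_contra hkM
          obtain ⟨j, hj⟩ := ho
          have h2 : k * k ∈ M := (hm k hkH k hkH).2 Iff.rfl
          have h3 : k ^ (2 * j) ∈ M := by rw [pow_mul, pow_two]; exact pow_mem h2 j
          have h4 : k ^ (2 * j + 1) = 1 := by rw [← hj, pow_orderOf_eq_one]
          rw [pow_succ] at h4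
          exact hkM ((hm _ (hMH h3) k hkH).1 (h4 ▸ one_mem M) |>.1 h3)
        exact h1 Y M3 h3le h3m (h1 d.X Y hYX hYm hk)
      have hmemK : ∀ k : M3, k ∈ K ↔ Odd (orderOf k) := by
        obtain ⟨i, hi⟩ := P.2.exists_card_eq
        have hco : (Nat.card K).Coprime 2 := by
          rw [Nat.coprime_two_right, Nat.odd_iff]
          by_contra hne
          have := P.not_dvd_index
          rw [show (P : Subgroup M3).index = Nat.card K from hPK.index_eq_card] at this
          omega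
        intro k
        constructor
        · intro hk
          exact (Nat.coprime_two_right.1 hco).of_dvd_nat (Subgroup.orderOf_dvd_natCard K hk)
        · intro ho
          refine mem_of_pow_mem_of_coprime' ho (i := i) ?_
          have := K.pow_index_mem k
          rwa [hKi, hi] at this
      let K' : Subgroup d.X := (K.map M3.subtype).subgroupOf d.X
      have : K'.Normal := ⟨fun k hk g => by
        obtain ⟨k', hk', e⟩ := Subgroup.mem_subgroupOf.1 hk
        have ho : Odd (orderOf ((g : G) * (k : G) * (g : G)⁻¹)) := by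
          rw [CfsgLib.Invol.orderOf_conj_eq, ← e]
          simpa using (hmemK k').1 hk'
        have hmem := hodd _ (mul_mem (mul_mem g.2 k.2) (inv_mem g.2)) ho
        refine Subgroup.mem_subgroupOf.2 ⟨⟨_, hmem⟩, (hmemK _).2 ?_, rfl⟩
        rwa [← Subgroup.orderOf_coe]⟩
      have hK'o : Odd (Nat.card K') := by
        have e : Nat.card K' = Nat.card K := by
          rw [Nat.card_congr (Subgroup.subgroupOfEquivOfLe
            ((Subgroup.map_subtype_le K).trans (h3le.trans hYX))).toEquiv,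
            Subgroup.card_map_of_injective M3.subtype_injective]
        rw [e, Nat.odd_iff]
        by_contra hne
        have := P.not_dvd_index
        rw [show (P : Subgroup M3).index = Nat.card K from hPK.index_eq_card] at this
        omega
      have hzX : ∀ m : M, inT m → d.ι m ∈ d.X := fun m hm => d.T_le_X (d.mem_T.2 ⟨m, hm, rfl⟩)
      have hbot := eq_bot_of_four_group K' ⟨_, hzX mz (central_mem_Tm (Or.inr (Or.inl rfl)))⟩
        ⟨_, hzX (mt * mu) model_W.2.1.1⟩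
        (Subtype.ext (by rw [Subgroup.coe_mul, ← map_mul, elements.2.2.2.2.1, map_one]; rfl))
        (Subtype.ext (by
          rw [Subgroup.coe_mul, ← map_mul, elementary _ (Or.inr model_W.2.1), map_one]; rfl))
        (Subtype.ext (by
          rw [Subgroup.coe_mul, Subgroup.coe_mul, ← map_mul, ← map_mul,
            abelian mz (mt * mu) (Or.inr ⟨inF_mem.2.1, model_W.2.1⟩)])) hK'o
        (fun k hk h => fix_trivial hK'o k hk (IsConj.refl _) (congrArg Subtype.val h))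
        (fun k hk h => fix_trivial hK'o k hk hf.z_tu (congrArg Subtype.val h))
        (fun k hk h => fix_trivial hK'o k hk (hf.z_tu.trans d.mu'_conj.2) (by
          have h' := congrArg Subtype.val h
          simp only [Subgroup.coe_mul, ← map_mul] at h'
          rwa [model_misc.2.2.1] at h'))
      have hK1 : Nat.card K = 1 := by
        rw [Subgroup.card_eq_one, eq_bot_iff]
        intro k hk
        have : (⟨(k : G), hYX (h3le k.2)⟩ : d.X) ∈ K' := Subgroup.mem_subgroupOf.2 ⟨k, hk, rfl⟩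
        rw [hbot, Subgroup.mem_bot] at this
        exact Subgroup.mem_bot.2 (Subtype.ext (congrArg Subtype.val this : (k : G) = 1))
      rw [hK1, one_mul] at hcard
      omega
    · intro U hU hUe
      refine ⟨fun hU2 => ?_, fun hU4 => ?_⟩
      · obtain ⟨⟨s, hs⟩, hs1⟩ : ∃ s : U, s ≠ 1 :=
          @exists_ne U (Finite.one_lt_card_iff_nontrivial.1 (by omega)) 1
        have hcent : ∀ g : M3, g * s = s * g := fun g => by
          have hmem := hU.conj_mem s hs g
          rw [Nat.card_eq_two_iff' (1 : U)] at hU2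
          obtain ⟨a, -, huniq⟩ := hU2
          by_cases h1 : g * s * g⁻¹ = 1
          · exact absurd (Subtype.ext (conj_eq_one_iff.1 h1) : (⟨s, hs⟩ : U) = 1) hs1
          · have := (huniq ⟨s, hs⟩ hs1).trans (huniq ⟨_, hmem⟩ (fun e => h1 (congrArg Subtype.val e))).symm
            exact mul_inv_eq_iff_eq_mul.1 (congrArg Subtype.val this).symm
        have hsR : (s : G) ∈ R3 := (hC s).1 (Subgroup.mem_centralizer_singleton_iff.2 (hcent x₀).symm)
        exact hsmall _ hsR (fun e => hs1 (Subtype.ext (Subtype.ext e))) fun g hg =>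
          congrArg Subtype.val (hcent ⟨g, hg⟩)
      · have hUp : IsPGroup 2 U := IsPGroup.of_card (n := 2) (by rw [hU4]; norm_num)
        set R := R3.subgroupOf M3 with hR
        have hRc : Nat.card R = 4 := by
          rw [hR, Nat.card_congr (Subgroup.subgroupOfEquivOfLe inf_le_left).toEquiv, hR3c]
        have hRp : IsPGroup 2 R := IsPGroup.of_card (n := 2) (by rw [hRc]; norm_num)
        have hsup : IsPGroup 2 (R ⊔ U : Subgroup M3) := hRp.to_sup_of_normal_right hUp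
        have hle := h4 _ (Subgroup.map_subtype_le _) (hsup.map _)
        rw [Subgroup.card_map_of_injective M3.subtype_injective] at hle
        have e1 : R = R ⊔ U := Subgroup.eq_of_le_of_card_ge le_sup_left (by rw [hRc]; exact hle)
        have e2 : U = R ⊔ U := Subgroup.eq_of_le_of_card_ge le_sup_right (by rw [hU4]; exact hle)
        have hUR : U = R := e2.trans e1.symm
        -- `M3` normalises `F`
        have hMN : M3 ≤ N := by
          have key : ∀ g ∈ M3, ∀ f ∈ d.F, g * f * g⁻¹ ∈ d.F := by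
            intro g hg f hf'
            have hr : ∀ r ∈ R3, g * r * g⁻¹ ∈ d.F := fun r hr => by
              have := hU.conj_mem ⟨r, hr.1⟩ (by rw [hUR]; exact Subgroup.mem_subgroupOf.2 hr) ⟨g, hg⟩
              rw [hUR, hR, Subgroup.mem_subgroupOf] at this
              exact this.2
            by_cases hfM : f ∈ M3
            · exact hr f ⟨hfM, hf'⟩
            · have h1 := hr (f * c) ⟨hmove f (hFY hf') hfM, mul_mem hf' hcF⟩
              have h2 : g * c * g⁻¹ = c := by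
                rw [d.mem_X.1 (hYX (h3le hg)), mul_inv_cancel_right]
              have h3 : g * f * g⁻¹ = g * (f * c) * g⁻¹ * (g * c * g⁻¹) := by
                calc g * f * g⁻¹ = g * (f * (c * c)) * g⁻¹ := by rw [hcc, mul_one]
                  _ = _ := by group
              rw [h3, h2]
              exact mul_mem h1 hcF
          refine fun g hg => Subgroup.mem_normalizer_iff.2 fun f => ⟨key g hg f, fun h => ?_⟩
          simpa [mul_assoc] using key g⁻¹ (inv_mem hg) _ h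
        have hcN : c ∈ N := d.T_le_normalizer_F (d.F_le_T hcF)
        have hvN : d.ι mv ∈ N := d.T_le_normalizer_F hvT
        have hYN : Y ≤ N := fun y hy => by
          by_cases h : y ∈ M3
          · exact hMN h
          · exact (mul_mem_cancel_right hcN).1 (hMN (hmove y hy h))
        refine hXN fun x hx => ?_
        by_cases h : x ∈ Y
        · exact hYN h
        · exact (mul_mem_cancel_right hvN).1
            (hYN ((hYm x hx _ (d.T_le_X hvT)).2 (iff_of_false h hvY)))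
  -- the alternating case is impossible
  obtain ⟨φ⟩ := key
  have hM60 : Nat.card M3 = 60 := by
    rw [Nat.card_congr φ.toEquiv, nat_card_alternatingGroup, Nat.card_fin]
    rfl
  have hX240 : Nat.card d.X = 240 := by rw [hYc, h3c, hM60]
  set NX := N.subgroupOf d.X with hNX'
  have hidx : NX.index = 5 := by
    have h := NX.card_mul_index
    have hN48 : Nat.card NX = 48 := by
      rw [hNX', Nat.card_congr (Subgroup.subgroupOfEquivOfLe hNX).toEquiv, hf.card_norm]
    rw [hN48, hX240] at h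
    omega
  have h5 : Nat.card (d.X ⧸ NX) = 5 := by rw [← Subgroup.index_eq_card, hidx]
  let ε : (d.X ⧸ NX) ≃ Fin 5 := (Finite.equivFin _).trans (finCongr h5)
  let π : d.X →* Equiv.Perm (Fin 5) :=
    ε.permCongrHom.toMonoidHom.comp (MulAction.toPermHom d.X (d.X ⧸ NX))
  have hker : π.ker = NX.normalCore := by
    rw [Subgroup.normalCore_eq_ker, MonoidHom.ker_comp_of_injective]
    exact ε.permCongrHom.injective
  set M3' := M3.subgroupOf d.X with hM3'
  have hM3X : M3 ≤ d.X := h3le.trans hYX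
  have hM3'c : Nat.card M3' = 60 := by
    rw [hM3', Nat.card_congr (Subgroup.subgroupOfEquivOfLe hM3X).toEquiv, hM60]
  let ψ : M3' ≃* alternatingGroup (Fin 5) := (Subgroup.subgroupOfEquivOfLe hM3X).trans φ
  have hsimple : IsSimpleGroup (alternatingGroup (Fin 5)) := alternatingGroup.isSimpleGroup_five
  have : Nontrivial M3' := Finite.one_lt_card_iff_nontrivial.1 (by omega)
  have hsimple' : IsSimpleGroup M3' :=
    IsSimpleGroup.isSimpleGroup_of_surjective ψ.symm.toMonoidHom ψ.symm.surjective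
  have hcap : π.ker ⊓ M3' = ⊥ := by
    rcases (Subgroup.Normal.subgroupOf (H := π.ker) inferInstance M3').eq_bot_or_eq_top with h | h
    · exact disjoint_iff.1 (Subgroup.subgroupOf_eq_bot.1 h)
    · exfalso
      have hle : M3' ≤ π.ker := Subgroup.subgroupOf_eq_top.1 h
      have h48 := Subgroup.card_le_of_le (hle.trans (hker ▸ NX.normalCore_le))
      rw [hM3'c, hNX', Nat.card_congr (Subgroup.subgroupOfEquivOfLe hNX).toEquiv, hf.card_norm] at h48
      omega
  have hkcard : Nat.card π.ker ≤ 4 := by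
    have hi : M3'.index = 4 := by
      have h := M3'.card_mul_index
      rw [hM3'c, hX240] at h
      omega
    rw [← hi, Subgroup.index_eq_card]
    refine Nat.card_le_card_of_injective (fun k : π.ker => ((k : d.X) : d.X ⧸ M3')) fun a b e => ?_
    have h : (a : d.X)⁻¹ * b ∈ π.ker ⊓ M3' :=
      Subgroup.mem_inf.2 ⟨π.ker.mul_mem (π.ker.inv_mem a.2) b.2, QuotientGroup.eq.1 e⟩
    rw [hcap, Subgroup.mem_bot] at h
    exact Subtype.ext (inv_mul_eq_one.1 h)
  set cX : d.X := ⟨c, d.T_le_X (d.F_le_T hcF)⟩ with hcX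
  have hcker : cX ∈ π.ker := by
    rw [hker]
    show ∀ g : d.X, g * cX * g⁻¹ ∈ NX
    refine fun g => ?_
    rw [Subgroup.mem_subgroupOf, show ((g * cX * g⁻¹ : d.X) : G) = c by
      show (g : G) * c * (g : G)⁻¹ = c
      rw [d.mem_X.1 g.2, mul_inv_cancel_right]]
    exact d.T_le_normalizer_F (d.F_le_T hcF)
  -- every kernel element is `1` or `c`
  have hkey : ∀ s : d.X, s ∈ π.ker → (s : G) ∈ d.T → s = 1 ∨ s = cX := by
    intro s hs hsT
    by_contra hne
    rw [not_or] at hne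
    obtain ⟨m, hm, hme⟩ := d.mem_T.1 hsT
    obtain ⟨r, hr, hr1, a, ha⟩ : ∃ r : d.X, r ∈ π.ker ∧ r ≠ 1 ∧
        ∃ a : G, ∀ g : G, g * c = c * g → g * (r : G) = r * g → a * g * a⁻¹ ∈ d.T := by
      have hmne : m ≠ 1 ∧ m ≠ mt * mz :=
        ⟨fun h => hne.1 (Subtype.ext (by rw [← hme, h, map_one]; rfl)),
          fun h => hne.2 (Subtype.ext (by rw [← hme, h]))⟩
      by_cases hmF : inF m
      · obtain ⟨n, hn, hne'⟩ := d.move_F hf hmF hmne.1 hmne.2
        exact ⟨s, hs, hne.1, d.cent_small hf (hme ▸ hne'.imp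
          (fun e => (isConj_iff.2 ⟨n, e⟩ : IsConj (d.ι m) (d.ι mz)).symm) fun e => ⟨n, hn, e⟩)⟩
      · have hsq : s * s ∈ π.ker := mul_mem hs hs
        by_cases hm2 : m * m = 1
        · rcases model_T.2.2.1 m hm hmF hm2 with h | h
          · exact ⟨s, hs, hne.1, d.cent_small hf (Or.inl (hme ▸ (d.zClass_iff hf m).2 h))⟩
          · refine ⟨s * cX, mul_mem hs hcker, fun e => hne.2 ?_, d.cent_small hf (Or.inl ?_)⟩
            · have : cX⁻¹ = cX := Subtype.ext (by
                simpa [cX] using inv_eq_of_mul_eq_one_right hcc)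
              rw [eq_inv_of_mul_eq_one_left e, this]
            · rw [Subgroup.coe_mul, ← hme]
              show IsConj (d.ι mz) (d.ι m * d.ι (mt * mz))
              rw [← map_mul]
              exact (d.zClass_iff hf _).2 h
        · have hmF2 : inF (m * m) := model_misc.2.2.2 m hm
          obtain ⟨n, hn, hne'⟩ := d.move_F hf hmF2 hm2 (model_T.2.1 m hm hmF)
          refine ⟨s * s, hsq, fun e => hm2 (d.inj ?_), d.cent_small hf ?_⟩
          · rw [map_mul, map_one, hme]; exact congrArg Subtype.val e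
          · rw [Subgroup.coe_mul, ← hme, ← map_mul]
            exact hne'.imp (fun e => (isConj_iff.2 ⟨n, e⟩ : IsConj _ (d.ι mz)).symm) fun e => ⟨n, hn, e⟩
    have hpC : IsPGroup 2 (Subgroup.centralizer ({r} : Set d.X)) := by
      refine (d.isPGroup_T.comap_of_injective ((MulAut.conj a).toMonoidHom.comp d.X.subtype)
        ((MulAut.conj a).injective.comp d.X.subtype_injective)).to_le fun g hg => ?_
      exact ha g (d.mem_X.1 g.2) (congrArg Subtype.val (Subgroup.mem_centralizer_singleton_iff.1 hg))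
    have hb := d.bound _ (hpC.map d.X.subtype)
    rw [Subgroup.card_map_of_injective d.X.subtype_injective] at hb
    have horb := (MulAction.stabilizer (ConjAct d.X) r).index_mul_card
    rw [MulAction.index_stabilizer, ← Subgroup.nat_card_centralizer_nat_card_stabilizer,
      show Nat.card (ConjAct d.X) = 240 from hX240] at horb
    have hsub : MulAction.orbit (ConjAct d.X) r ⊆ (π.ker : Set d.X) := by
      rintro _ ⟨g, rfl⟩
      show g • r ∈ π.ker
      rw [ConjAct.smul_def]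
      exact (inferInstance : π.ker.Normal).conj_mem r hr _
    have horb4 : (MulAction.orbit (ConjAct d.X) r).ncard ≤ 4 :=
      ((Set.ncard_le_ncard hsub).trans (le_of_eq (Nat.card_coe_set_eq _).symm)).trans hkcard
    nlinarith
  have hker2 : Nat.card π.ker = 2 := by
    rw [Nat.card_eq_two_iff' (1 : π.ker)]
    refine ⟨⟨cX, hcker⟩, fun e => h3u ?_, fun k hk => ?_⟩
    · have : c = 1 := congrArg (fun k : π.ker => ((k : d.X) : G)) e
      rw [this]; exact one_mem _
    · have hk2 : IsPGroup 2 π.ker := by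
        intro x
        obtain ⟨i, m, ho, hoe⟩ := Nat.exists_eq_two_pow_mul_odd (orderOf_pos x).ne'
        refine ⟨i, ?_⟩
        have h1 : orderOf (x ^ 2 ^ i) = m := by
          rw [orderOf_pow, hoe, Nat.gcd_mul_right_left, Nat.mul_div_cancel_left _ (pow_pos two_pos i)]
        set y : d.X := ((x ^ 2 ^ i : π.ker) : d.X) with hy
        have hyo : Odd (orderOf y) := by rw [hy, Subgroup.orderOf_coe, h1]; exact ho
        have h2 : y ^ 2 ∈ π.ker ⊓ M3' := by
          refine ⟨pow_mem (x ^ 2 ^ i).2 _, Subgroup.mem_subgroupOf.2 ?_⟩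
          rw [SubmonoidClass.coe_pow, pow_two]
          have hy2Y : ((y : G) * y) ∈ Y := (hYm _ y.2 _ y.2).2 Iff.rfl
          by_contra hny
          have hyY : (y : G) ∈ Y := by
            by_contra h
            obtain ⟨j, hj⟩ := hyo
            have h4 : (y : G) ^ (2 * j) * y = 1 := by
              rw [← pow_succ, ← hj, Subgroup.orderOf_coe y |>.symm, pow_orderOf_eq_one]
            have h5 : (y : G) ^ (2 * j) ∈ Y := by rw [pow_mul, pow_two]; exact pow_mem hy2Y j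
            exact h ((hYm _ (hYX h5) _ y.2).1 (h4 ▸ one_mem Y) |>.1 h5)
          exact hny ((h3m _ hyY _ hyY).2 Iff.rfl)
        rw [hcap, Subgroup.mem_bot] at h2
        have h3 : orderOf y ∣ 2 := orderOf_dvd_of_pow_eq_one h2
        have : y = 1 := by
          rcases (Nat.dvd_prime Nat.prime_two).1 h3 with e | e
          · exact orderOf_eq_one_iff.1 e
          · rw [e] at hyo; exact absurd hyo (by decide)
        exact Subtype.ext this
      obtain ⟨P, hP⟩ := d.exists_sylow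
      have hPX : (P : Subgroup G) ≤ d.X := hP ▸ d.T_le_X
      have hle := hk2.le_sylow_of_normal (P.subtype hPX)
      rcases hkey k k.2 (by rw [← hP]; exact Subgroup.mem_subgroupOf.1 (hle k.2)) with h | h
      · exact absurd (Subtype.ext h) hk
      · exact Subtype.ext h
  have hsurj : Function.Surjective π := by
    rw [← MonoidHom.range_eq_top]
    apply Subgroup.eq_top_of_card_eq
    have h := π.ker.card_mul_index
    rw [Subgroup.index_ker, hker2, hX240] at h
    rw [Nat.card_perm, Nat.card_fin, Nat.factorial]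
    simp only [Nat.factorial]
    omega
  -- the image of `v` is odd
  set vX : d.X := ⟨d.ι mv, d.T_le_X hvT⟩ with hvX
  have hvodd : Equiv.Perm.sign (π vX) = -1 := by
    refine (Int.units_eq_one_or _).resolve_left fun h => ?_
    set A := (alternatingGroup (Fin 5)).comap π
    have hAi : A.index = 2 := by
      rw [Subgroup.index_comap_of_surjective _ hsurj, alternatingGroup.index_eq_two]
    have hA : M3' ≤ A := by
      rcases (MonoidHom.normal_ker ((Equiv.Perm.sign.comp π).comp M3'.subtype)).eq_bot_or_eq_top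
        with e | e
      · have := Nat.card_le_card_of_injective _ ((MonoidHom.ker_eq_bot_iff _).1 e)
        rw [hM3'c, Nat.card_eq_fintype_card, Fintype.card_units_int] at this
        omega
      · intro x hx
        exact (MonoidHom.mem_ker).1 (e ▸ Subgroup.mem_top (⟨x, hx⟩ : M3') :
          (⟨x, hx⟩ : M3') ∈ ((Equiv.Perm.sign.comp π).comp M3'.subtype).ker)
    have hcA : cX ∈ A := by
      rw [Subgroup.mem_comap, MonoidHom.mem_ker.1 hcker]; exact one_mem _
    have hYA : Y.subgroupOf d.X ≤ A := fun y hy => by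
      by_cases hm : (y : G) ∈ M3
      · exact hA hm
      · exact (mul_mem_cancel_right hcA).1 (hA (show ((y * cX : d.X) : G) ∈ M3 from hmove _ hy hm))
    have heq : Y.subgroupOf d.X = A := Subgroup.eq_of_le_of_card_ge hYA (by
      rw [Nat.card_congr (Subgroup.subgroupOfEquivOfLe hYX).toEquiv]
      have h1 := A.card_mul_index
      rw [hAi, hYc] at h1
      omega)
    exact hvY (Subgroup.mem_subgroupOf.1 (heq.symm.le (Equiv.Perm.mem_alternatingGroup.2 h : vX ∈ A)))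
  obtain ⟨q, hq3, hq1, hqc⟩ := five_points (π vX)
    (by rw [← map_mul, show vX * vX = 1 from Subtype.ext (by
      simp [hvX, ← map_mul, model_v.2.2.2.1]), map_one]) hvodd
  obtain ⟨g, rfl⟩ := hsurj q
  set e : d.X := vX⁻¹ * (g * vX * g⁻¹) with he
  have hek : e ∈ π.ker := by
    rw [MonoidHom.mem_ker, he, map_mul, map_inv, map_mul, map_mul, map_inv, hqc,
      mul_inv_cancel_right, inv_mul_cancel]
  have hcase : g * vX * g⁻¹ = vX ∨ g * vX * g⁻¹ = vX * cX := by
    rw [Nat.card_eq_two_iff' (1 : π.ker)] at hker2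
    obtain ⟨w, -, hw⟩ := hker2
    by_cases h1 : e = 1
    · exact Or.inl (inv_mul_eq_one.1 h1).symm
    · right
      have := (hw ⟨e, hek⟩ fun h => h1 (congrArg Subtype.val h)).trans
        (hw ⟨cX, hcker⟩ fun h => h3u (by
          rw [show c = 1 from congrArg (fun k : π.ker => ((k : d.X) : G)) h]; exact one_mem _)).symm
      have h' : e = cX := congrArg Subtype.val this
      rw [← h', he, mul_inv_cancel_left]
  have hvz : IsConj (d.ι mz) (d.ι mv) := (d.zClass_iff hf mv).2 model_v.2.2.2.2.2.1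
  rcases hcase with h | h
  · obtain ⟨b, hb⟩ := isConj_iff.1 hvz
    obtain ⟨i, hi⟩ := d.pow_of_commute_conj (k := (g : G)) (g := b) (by
      rw [hb]
      exact mul_inv_eq_iff_eq_mul.1 (congrArg Subtype.val h))
    have h1 : g ^ 2 ^ i = 1 := Subtype.ext (by rw [SubmonoidClass.coe_pow, hi]; rfl)
    have h2 : orderOf (π g) ∣ 2 ^ i := orderOf_dvd_of_pow_eq_one (by rw [← map_pow, h1, map_one])
    have h3 : orderOf (π g) ∣ 3 := orderOf_dvd_of_pow_eq_one (by rw [pow_succ, pow_two, hq3])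
    exact hq1 (orderOf_eq_one_iff.1 (Nat.eq_one_of_dvd_coprimes
      ((by norm_num : Nat.Coprime 2 3).pow_left i) h2 h3))
  · obtain ⟨w, hw⟩ := model_v.2.2.2.2.2.2.2.1
    have hh : (g : G) * d.ι mv * (g : G)⁻¹ = d.ι (mv * (mt * mz)) := by
      rw [map_mul]
      exact congrArg Subtype.val h
    exact central_ne.2.2.2.1 (d.central_not_conj (Or.inr (Or.inl rfl)) (Or.inr (Or.inr rfl))
      (hvz.trans ((isConj_iff.2 ⟨_, hh⟩ : IsConj (d.ι mv) _).trans (d.conj_ι w hw))))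
where
  mem_of_pow_mem_of_coprime' {H : Type _} [Group H] {K : Subgroup H} {k : H} (ho : Odd (orderOf k))
      {i : ℕ} (h : k ^ 2 ^ i ∈ K) : k ∈ K := by
    have hco : (2 ^ i).gcd (orderOf k) = 1 := (Nat.coprime_two_left.2 ho).pow_left i
    exact (Subgroup.zpowers_le.2 h) (mem_zpowers_pow_iff.2 hco)
  fix_trivial {K : Subgroup d.X} (hK : Odd (Nat.card K)) (k : d.X) (hk : k ∈ K) {a : G}
      (ha : IsConj (d.ι mz) a) (h : (k : G) * a = a * k) : k = 1 := by
    obtain ⟨b, rfl⟩ := isConj_iff.1 ha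
    obtain ⟨i, hi⟩ := d.pow_of_commute_conj h
    have h1 : k ^ 2 ^ i = 1 := Subtype.ext (by rw [SubmonoidClass.coe_pow, hi]; rfl)
    exact orderOf_eq_one_iff.1 (Nat.eq_one_of_dvd_coprimes
      ((Nat.coprime_two_left.2 hK).pow_left i) (orderOf_dvd_of_pow_eq_one h1)
      (Subgroup.orderOf_dvd_natCard K hk))

/-- In the fused case the group has order `720`. -/
theorem card_eq (hf : d.Fused) : Nat.card G = 720 := by
  classical
  set t := d.ι mt with ht
  set z := d.ι mz with hz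
  set c := d.ι (mt * mz) with hc
  have hto : orderOf t = 2 := d.orderOf_two elements.2.2.2.1 elements.1
  have hzo : orderOf z = 2 := d.orderOf_two elements.2.2.2.2.1 elements.2.1
  have hco : orderOf c = 2 := d.orderOf_two (by decide +kernel) central_ne.2.2.2.2.1
  obtain ⟨P, hP⟩ := d.exists_sylow
  have hne : ∀ w w' : M, IsCentralRep w → IsCentralRep w' → IsConj (d.ι w) (d.ι w') → w = w' :=
    fun w w' hw hw' => d.central_not_conj hw hw'
  have hreps : ∀ s : G, orderOf s = 2 → ∃ w, IsCentralRep w ∧ IsConj s (d.ι w) := by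
    intro s hs
    obtain ⟨g, hg⟩ := CfsgLib.Invol.exists_conj_invol_mem_sylow P hs
    replace hg : g * s * g⁻¹ ∈ (P : Subgroup G) := hg
    rw [hP] at hg
    obtain ⟨m, hm, e⟩ := d.mem_T.1 hg
    have hgs : IsConj s (d.ι m) := isConj_iff.2 ⟨g, e.symm⟩
    have ho : orderOf (d.ι m) = 2 := (CfsgLib.Invol.orderOf_eq_of_isConj hgs).trans hs
    obtain ⟨w, hw⟩ := invol_reps m (d.inj (by
      rw [map_mul, map_one]; exact CfsgLib.Invol.invol_mul_self ho))
      (fun h => CfsgLib.Invol.invol_ne_one ho (by rw [h, map_one]))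
    rcases hw with hw | hw | hw | hw | hw
    · exact ⟨_, Or.inl rfl, hgs.trans (d.conj_ι w hw)⟩
    · exact ⟨_, Or.inr (Or.inl rfl), hgs.trans (d.conj_ι w hw)⟩
    · exact ⟨_, Or.inr (Or.inr rfl), hgs.trans (d.conj_ι w hw)⟩
    · exact ⟨_, Or.inl rfl, (hgs.trans (d.conj_ι w hw)).trans hf.t_u.symm⟩
    · exact ⟨_, Or.inr (Or.inl rfl), (hgs.trans (d.conj_ι w hw)).trans hf.z_tu.symm⟩
  have hcon : ¬ IsConj t z := fun h => central_ne.1 (hne _ _ (Or.inl rfl) (Or.inr (Or.inl rfl)) h)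
  have hW2 : ∀ w ∈ ({t, z, c} : Finset G), orderOf w = 2 := by
    intro w hw
    simp only [Finset.mem_insert, Finset.mem_singleton] at hw
    rcases hw with rfl | rfl | rfl <;> assumption
  have hWrep : ∀ s : G, orderOf s = 2 → ∃ w ∈ ({t, z, c} : Finset G),
      IsConj s w ∧ ∀ w' ∈ ({t, z, c} : Finset G), IsConj s w' → w' = w := by
    intro s hs
    obtain ⟨w, hw, hsw⟩ := hreps s hs
    refine ⟨d.ι w, ?_, hsw, fun w' hw' hsw' => ?_⟩
    · simp only [Finset.mem_insert, Finset.mem_singleton]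
      rcases hw with rfl | rfl | rfl <;> simp [t, z, c]
    · simp only [Finset.mem_insert, Finset.mem_singleton] at hw'
      obtain ⟨u, hu, rfl⟩ : ∃ u, IsCentralRep u ∧ w' = d.ι u := by
        rcases hw' with rfl | rfl | rfl
        exacts [⟨_, Or.inl rfl, rfl⟩, ⟨_, Or.inr (Or.inl rfl), rfl⟩, ⟨_, Or.inr (Or.inr rfl), rfl⟩]
      rw [hne u w hu hw (hsw'.symm.trans hsw)]
  have hsum := Cfsg.Agent.S1875.result t z hto hzo hcon {t, z, c} hW2 hWrep
  -- centralisers
  have hct : Nat.card (Subgroup.centralizer ({t} : Set G)) = 48 := by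
    have : Subgroup.centralizer ({t} : Set G) = d.ι.range := by
      ext g
      rw [Subgroup.mem_centralizer_singleton_iff]
      refine ⟨fun h => d.cen g h, ?_⟩
      rintro ⟨m, rfl⟩
      rw [ht, ← map_mul, ← map_mul, mt_central]
    rw [this, Nat.card_congr (MonoidHom.ofInjective d.inj).toEquiv.symm, Nat.card_eq_fintype_card,
      card_sets.2.2.2]
  have hcz : Nat.card (Subgroup.centralizer ({z} : Set G)) = 16 := by
    have : Subgroup.centralizer ({z} : Set G) = d.T := by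
      ext g
      rw [Subgroup.mem_centralizer_singleton_iff, d.mem_T]
      refine ⟨fun h => d.cenz g h, ?_⟩
      rintro ⟨m, hm, rfl⟩
      rw [hz, ← map_mul, ← map_mul, hm]
    rw [this, d.card_T]
  have hcc : Nat.card (Subgroup.centralizer ({c} : Set G)) = 48 := by
    rw [show Subgroup.centralizer ({c} : Set G) = d.X from rfl, d.X_eq hf, hf.card_norm]
  -- the factors of a pair centralise the powers of their product
  have hcomm : ∀ (q : G × G) (w : G), orderOf q.1 = 2 → orderOf q.2 = 2 → orderOf w = 2 →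
      w ∈ Subgroup.zpowers (q.1 * q.2) → q.1 * w = w * q.1 ∧ q.2 * w = w * q.2 := by
    rintro ⟨a, b⟩ w ha hb hw ⟨k, rfl⟩
    have hk : ((a * b) ^ k)⁻¹ = (a * b) ^ k := CfsgLib.Invol.invol_inv hw
    have hainv : a * (a * b) * a⁻¹ = (a * b)⁻¹ := by
      rw [mul_inv_rev, CfsgLib.Invol.invol_inv ha, CfsgLib.Invol.invol_inv hb, ← mul_assoc,
        CfsgLib.Invol.invol_mul_self ha, one_mul]
    have h1 : a * (a * b) ^ k * a⁻¹ = (a * b) ^ k := by
      rw [CfsgLib.Invol.conj_zpow_inv hainv, hk]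
    have h1' : Commute a ((a * b) ^ k) := mul_inv_eq_iff_eq_mul.1 h1
    refine ⟨h1'.eq, ?_⟩
    have h2 := h1'.mul_left ((Commute.refl (a * b)).zpow_right k)
    rw [← mul_assoc, CfsgLib.Invol.invol_mul_self ha, one_mul] at h2
    exact h2.eq
  have horder : ∀ (s g : G), IsConj s g → orderOf s = 2 → orderOf g = 2 := fun s g h hs =>
    (CfsgLib.Invol.orderOf_eq_of_isConj h).trans hs
  have hpow : ∀ a b w : M, (d.ι w ∈ Subgroup.zpowers (d.ι a * d.ι b) ↔
      ∃ k : Fin 12, (a * b) ^ (k : ℕ) = w) := by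
    intro a b w
    rw [← map_mul, ← mem_powers_iff_mem_zpowers, Submonoid.mem_powers_iff]
    constructor
    · rintro ⟨n, hn⟩
      refine ⟨⟨n % 12, Nat.mod_lt _ (by norm_num)⟩, d.inj ?_⟩
      rw [map_pow, ← hn, ← map_pow, ← map_pow]
      congr 1
      conv_rhs => rw [← Nat.mod_add_div n 12, pow_add, pow_mul, exponent, one_pow, mul_one]
    · rintro ⟨k, hk⟩
      exact ⟨k, by rw [← map_pow, hk]⟩
  have ht_count : Nat.card {q : G × G // IsConj t q.1 ∧ IsConj z q.2 ∧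
      t ∈ Subgroup.zpowers (q.1 * q.2)} = 30 := by
    rw [← count_t, ← Nat.card_eq_finsetCard]
    symm
    refine Nat.card_eq_of_bijective (fun p => ⟨(d.ι p.1.1, d.ι p.1.2), ?_⟩) ⟨fun p p' h => ?_, fun q => ?_⟩
    · obtain ⟨hp, hp'⟩ := mem_pairs.1 p.2
      exact ⟨(d.tClass_iff hf _).2 hp.1, (d.zClass_iff hf _).2 hp.2, (hpow _ _ _).2 hp'⟩
    · simp only [Subtype.mk.injEq, Prod.mk.injEq, d.ι_eq] at h
      exact Subtype.ext (Prod.ext h.1 h.2)
    · obtain ⟨⟨q1, q2⟩, h1, h2, h3⟩ := q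
      obtain ⟨e1, e2⟩ := hcomm (q1, q2) t (horder _ _ h1 hto) (horder _ _ h2 hzo) hto h3
      obtain ⟨a, rfl⟩ := d.cen q1 e1
      obtain ⟨b, rfl⟩ := d.cen q2 e2
      exact ⟨⟨(a, b), mem_pairs.2 ⟨
        ⟨(d.tClass_iff hf a).1 h1, (d.zClass_iff hf b).1 h2⟩, (hpow _ _ _).1 h3⟩⟩, rfl⟩
  have hz_count : Nat.card {q : G × G // IsConj t q.1 ∧ IsConj z q.2 ∧
      z ∈ Subgroup.zpowers (q.1 * q.2)} = 4 := by
    rw [← count_z, ← Nat.card_eq_finsetCard]
    symm
    refine Nat.card_eq_of_bijective (fun p => ⟨(d.ι p.1.1, d.ι p.1.2), ?_⟩) ⟨fun p p' h => ?_, fun q => ?_⟩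
    · obtain ⟨hp, hp'⟩ := mem_pairs.1 p.2
      rw [mem_filter_M, mem_filter_M] at hp
      exact ⟨(d.tClass_iff hf _).2 hp.1.1, (d.zClass_iff hf _).2 hp.2.1, (hpow _ _ _).2 hp'⟩
    · simp only [Subtype.mk.injEq, Prod.mk.injEq, d.ι_eq] at h
      exact Subtype.ext (Prod.ext h.1 h.2)
    · obtain ⟨⟨q1, q2⟩, h1, h2, h3⟩ := q
      obtain ⟨e1, e2⟩ := hcomm (q1, q2) z (horder _ _ h1 hto) (horder _ _ h2 hzo) hzo h3
      obtain ⟨a, ha, rfl⟩ := d.cenz q1 e1
      obtain ⟨b, hb, rfl⟩ := d.cenz q2 e2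
      exact ⟨⟨(a, b), mem_pairs.2 ⟨
        ⟨mem_filter_M.2 ⟨(d.tClass_iff hf a).1 h1, ha⟩,
          mem_filter_M.2 ⟨(d.zClass_iff hf b).1 h2, hb⟩⟩, (hpow _ _ _).1 h3⟩⟩, rfl⟩
  have hc_count : Nat.card {q : G × G // IsConj t q.1 ∧ IsConj z q.2 ∧
      c ∈ Subgroup.zpowers (q.1 * q.2)} = 3 := by
    rw [← count_tz, ← Nat.card_eq_finsetCard]
    symm
    refine Nat.card_eq_of_bijective (fun p => ⟨(d.ι p.1.1, d.ι p.1.2), ?_⟩) ⟨fun p p' h => ?_, fun q => ?_⟩
    · obtain ⟨hp, hp'⟩ := mem_pairs.1 p.2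
      rw [mem_filter_M, mem_filter_M] at hp
      exact ⟨(d.tClass_iff hf _).2 hp.1.1, (d.zClass_iff hf _).2 hp.2.1, (hpow _ _ _).2 hp'⟩
    · simp only [Subtype.mk.injEq, Prod.mk.injEq, d.ι_eq] at h
      exact Subtype.ext (Prod.ext h.1 h.2)
    · obtain ⟨⟨q1, q2⟩, h1, h2, h3⟩ := q
      obtain ⟨e1, e2⟩ := hcomm (q1, q2) c (horder _ _ h1 hto) (horder _ _ h2 hzo) hco h3
      have hPN : (P : Subgroup G) ≤ Subgroup.normalizer (d.F : Set G) := hP ▸ d.T_le_normalizer_F
      have hin : ∀ x : G, orderOf x = 2 → x * c = c * x →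
          ∃ h ∈ Subgroup.normalizer (d.F : Set G), ∃ m, inT m ∧ d.ι m = h * x * h⁻¹ := by
        intro x hx hxc
        have hxN : x ∈ Subgroup.normalizer (d.F : Set G) := d.X_eq hf ▸ d.mem_X.2 hxc
        obtain ⟨h, hh⟩ := CfsgLib.Invol.exists_conj_invol_mem_sylow (P.subtype hPN)
          (x := ⟨x, hxN⟩) (by rw [← Subgroup.orderOf_coe]; exact hx)
        replace hh : (h : G) * x * (h : G)⁻¹ ∈ (P : Subgroup G) := hh
        rw [hP] at hh
        exact ⟨h, h.2, d.mem_T.1 hh⟩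
      obtain ⟨g1, hg1, a', ha', ea⟩ := hin q1 (horder _ _ h1 hto) e1
      have haF' : inF a' := tClass_inT a' ((d.tClass_iff hf a').1
        (h1.trans (isConj_iff.2 ⟨g1, ea.symm⟩))) ha'
      obtain ⟨a, haF, hea⟩ := d.mem_F.1 ((Subgroup.mem_normalizer_iff.1 hg1 q1).2
        (ea ▸ d.mem_F.2 ⟨a', haF', rfl⟩))
      subst hea
      obtain ⟨g2, hg2, b', hb', eb⟩ := hin q2 (horder _ _ h2 hzo) e2
      by_cases hbF : inF b'
      · obtain ⟨b, hbF', heb⟩ := d.mem_F.1 ((Subgroup.mem_normalizer_iff.1 hg2 q2).2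
          (eb ▸ d.mem_F.2 ⟨b', hbF, rfl⟩))
        subst heb
        exact ⟨⟨(a, b), mem_pairs.2 ⟨
          ⟨mem_filter_M.2 ⟨(d.tClass_iff hf a).1 h1, haF.1⟩,
            mem_filter_M.2 ⟨(d.zClass_iff hf b).1 h2, hbF'.1, hbF'⟩⟩, (hpow _ _ _).1 h3⟩⟩, rfl⟩
      · exfalso
        obtain ⟨a₂, ha₂, ea₂⟩ := d.mem_F.1
          ((Subgroup.mem_normalizer_iff.1 hg2 _).1 (d.mem_F.2 ⟨a, haF, rfl⟩))
        have h3' : c ∈ Subgroup.zpowers (d.ι a₂ * d.ι b') := by
          rw [ea₂, eb]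
          have hcg : g2 * c * g2⁻¹ = c := by rw [hc, hf.le_cent g2 hg2, mul_inv_cancel_right]
          obtain ⟨k, hk⟩ := h3
          refine ⟨k, ?_⟩
          calc (g2 * d.ι a * g2⁻¹ * (g2 * q2 * g2⁻¹)) ^ k = (g2 * (d.ι a * q2) * g2⁻¹) ^ k := by
                group
            _ = g2 * (d.ι a * q2) ^ k * g2⁻¹ := conj_zpow
            _ = c := by rw [← hcg]; exact congrArg (fun y => g2 * y * g2⁻¹) hk
        obtain ⟨k, hk⟩ := (hpow _ _ _).1 h3'
        exact count_tz_none a₂ (mem_filter_M.2 ⟨(d.tClass_iff hf a₂).1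
            (h1.trans (isConj_iff.2 ⟨g2, ea₂.symm⟩)), ha₂.1⟩) b'
          (mem_filter_M.2 ⟨(d.zClass_iff hf b').1 (h2.trans (isConj_iff.2 ⟨g2, eb.symm⟩)), hb'⟩)
          hbF k hk
  have htz : t ∉ ({z, c} : Finset G) := by
    simp only [Finset.mem_insert, Finset.mem_singleton, t, z, c, d.ι_eq]
    exact fun h => h.elim central_ne.1 central_ne.2.2.1
  have hzc : z ∉ ({c} : Finset G) := by
    simp only [Finset.mem_singleton, z, c, d.ι_eq]
    exact central_ne.2.2.2.1
  rw [hct, hcz, Finset.sum_insert htz, Finset.sum_insert hzc, Finset.sum_singleton, hct, hcz, hcc,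
    ht_count, hz_count, hc_count] at hsum
  norm_num at hsum
  exact_mod_cast hsum

end Setup

end CfsgLib.InvChar.SymSix
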