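import Cfsg.Agent.Lib.InvChar.SymSixOrder
import Cfsg.Agent.Lib.InvChar.AltPreservingAut
import Cfsg.Agent.Lib.InvChar.AltSixCentralizer
import Cfsg.Agent.Lib.InvChar.DihedralSylow
import Cfsg.Agent.Lib.InvChar.Basic
import Cfsg.Agent.S0848
import Cfsg.Agent.S0497

/-!
The fused case of the `Z₂ × S₄` characterisation: the group is `S₆`.
-/

set_option autoImplicit false
set_option synthInstance.maxSize 4096

namespace CfsgLib.InvChar.SymSix

open Equiv

/-- Membership in the index two subgroup of the model Sylow group. -/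
abbrev inQ (q : M) : Prop := inT q ∧ (tw q).1 = 1

/-- The dihedral generator of order four. -/
def mr : M := (Multiplicative.ofAdd 1, swap 0 3 * swap 0 2 * swap 0 1)

/-- The dihedral group in the model. -/
def dmodel : DihedralGroup 4 → M
  | .r i => mr ^ i.val
  | .sr i => mv * mr ^ i.val

theorem dmodel_mul : ∀ x y : DihedralGroup 4, dmodel (x * y) = dmodel x * dmodel y := by decide +kernel

theorem dmodel_props : (∀ x, inQ (dmodel x)) ∧ (∀ x y, dmodel x = dmodel y → x = y) ∧
    (∀ q : M, inQ q → ∃ x, dmodel x = q) := by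
  refine ⟨by decide +kernel, by decide +kernel, by decide +kernel⟩

theorem model_Q : (∀ q ∈ tClass, inT q → (tw q).1 ≠ 1) ∧
    (∀ q : M, inT q → (tw q).1 ≠ 1 → inQ (q * mt)) ∧
    (∀ q : M, inQ q → q = 1 ∨ q = mz ∨ q = mv ∨ q = mz * mv ∨ q = mt * mu ∨ q = mt * mu * mz ∨
      q = mt * mu * mv ∨ q = mt * mu * mz * mv) ∧
    inQ mz ∧ inQ mv ∧ inQ (mt * mu) ∧
    (∃ a b : M, inQ a ∧ inQ b ∧ a * b * a⁻¹ * b⁻¹ = mz) ∧
    (∃ w : M, w * w * w = 1 ∧ w * mz * w⁻¹ = mv) ∧ mc * mt = mt * mc ∧ mt ≠ 1 := by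
  refine ⟨by decide +kernel, by decide +kernel, by decide +kernel, by decide +kernel,
    by decide +kernel, by decide +kernel, by decide +kernel, by decide +kernel, by decide +kernel,
    elements.1⟩

/-- The index two subgroup of the model Sylow group. -/
def Qm : Subgroup M where
  carrier := {q | inQ q}
  one_mem' := (show inQ 1 by decide +kernel)
  mul_mem' := fun {a b} ha hb => by
    have : ∀ a b : M, inQ a → inQ b → inQ (a * b) := by decide +kernel
    exact this a b ha hb
  inv_mem' := fun {a} ha => by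
    have : ∀ a : M, inQ a → inQ a⁻¹ := by decide +kernel
    exact this a ha

theorem card_Qm : Nat.card Qm = 8 := by
  show Nat.card {q : M // inQ q} = 8
  rw [Nat.card_eq_fintype_card]
  decide +kernel

theorem double_odd_centralizer :
    ∀ y : Perm (Fin 6), y = (swap 0 1 * swap 1 2) * (swap 3 4 * swap 4 5) →
      ∃ s : Perm (Fin 6), s * y = y * s ∧ Perm.sign s = -1 :=
  fun y hy => ⟨swap 0 3 * swap 1 4 * swap 2 5, by subst hy; decide +kernel, by decide +kernel⟩

theorem double_cycleType : ((swap 0 1 * swap 1 2) * (swap 3 4 * swap 4 5) : Perm (Fin 6)).cycleType = {3, 3} := by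
  decide +kernel

/-- The two kinds of elements of order three of `A₆`. -/
theorem three_cases {x : ↥(alternatingGroup (Fin 6))} (hx : orderOf x = 3) :
    (x : Perm (Fin 6)).IsThreeCycle ∨ (x : Perm (Fin 6)).cycleType = {3, 3} := by
  have ho : orderOf (x : Perm (Fin 6)) = 3 := by rw [Subgroup.orderOf_coe, hx]
  obtain ⟨n, hn⟩ := Perm.cycleType_prime_order (σ := (x : Perm (Fin 6))) (by rw [ho]; exact Nat.prime_three)
  rw [ho] at hn
  have hs := (x : Perm (Fin 6)).sum_cycleType
  rw [hn, Multiset.sum_replicate, smul_eq_mul] at hs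
  have hle := Finset.card_le_univ (x : Perm (Fin 6)).support
  rw [Fintype.card_fin] at hle
  rcases (by omega : n = 0 ∨ n = 1) with rfl | rfl
  · exact Or.inl (by rw [Perm.IsThreeCycle, hn]; rfl)
  · exact Or.inr (by rw [hn]; rfl)

theorem double_isConj {x y : ↥(alternatingGroup (Fin 6))} (hx : (x : Perm (Fin 6)).cycleType = {3, 3})
    (hy : (y : Perm (Fin 6)).cycleType = {3, 3}) : IsConj x y := by
  obtain ⟨p, hp⟩ := isConj_iff.1 (Perm.isConj_iff_cycleType_eq.2 (hx.trans hy.symm))
  rcases Int.units_eq_one_or (Perm.sign p) with h | h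
  · exact isConj_iff.2 ⟨⟨p, Perm.mem_alternatingGroup.2 h⟩, Subtype.ext (by simpa using hp)⟩
  obtain ⟨c, hc⟩ := isConj_iff.1 (Perm.isConj_iff_cycleType_eq.2 (double_cycleType.trans hx.symm))
  obtain ⟨s, hs, hs1⟩ := double_odd_centralizer _ rfl
  refine isConj_iff.2 ⟨⟨p * (c * s * c⁻¹), Perm.mem_alternatingGroup.2 ?_⟩, Subtype.ext ?_⟩
  · simp only [map_mul, map_inv, h, hs1]
    rw [mul_comm (Perm.sign c), mul_assoc (-1 : ℤˣ), mul_inv_cancel, mul_one]
    rfl
  · show p * (c * s * c⁻¹) * (x : Perm (Fin 6)) * (p * (c * s * c⁻¹))⁻¹ = (y : Perm (Fin 6))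
    rw [← hp, ← hc]
    set y₀ : Perm (Fin 6) := (swap 0 1 * swap 1 2) * (swap 3 4 * swap 4 5)
    calc p * (c * s * c⁻¹) * (c * y₀ * c⁻¹) * (p * (c * s * c⁻¹))⁻¹
        = p * c * (s * y₀) * s⁻¹ * c⁻¹ * p⁻¹ := by group
      _ = p * c * (y₀ * s) * s⁻¹ * c⁻¹ * p⁻¹ := by rw [hs]
      _ = _ := by group

namespace Setup

variable {G : Type*} [Group G] [Finite G] (d : Setup G)

/-- The index two subgroup not containing `t`. -/
theorem exists_N (hf : d.Fused) : ∃ N : Subgroup G, N.index = 2 ∧ d.ι mt ∉ N ∧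
    ∀ m : M, inQ m → d.ι m ∈ N := by
  set Q := Qm.map d.ι with hQ
  have hQT : Q ≤ d.T := by
    rintro _ ⟨m, hm, rfl⟩
    exact d.mem_T.2 ⟨m, hm.1, rfl⟩
  obtain ⟨N, -, hNc, hNt, hNm⟩ := index_two_in (⊤ : Subgroup G) d.T Q le_top hQT d.isPGroup_T
    (fun R _ hR => d.card_T ▸ d.bound R hR)
    (by rw [d.card_T, hQ, Subgroup.card_map_of_injective d.inj, card_Qm])
    (d.mem_T.2 ⟨mt, central_mem_Tm (Or.inl rfl), rfl⟩)
    (by rw [← map_mul, elements.2.2.2.1, map_one]) (fun h _ hmem => by
      obtain ⟨m, hm, e⟩ := hmem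
      exact model_Q.1 m ((d.tClass_iff hf m).1 (isConj_iff.2 ⟨h, e.symm⟩)) hm.1 hm.2)
  have hi : N.index = 2 := by
    have h := N.card_mul_index
    rw [Subgroup.card_top] at hNc
    rw [hNc, mul_comm 2] at h
    exact Nat.eq_of_mul_eq_mul_left Nat.card_pos h
  have := Subgroup.normal_of_index_eq_two hi
  refine ⟨N, hi, hNt, ?_⟩
  have hz : d.ι mz ∈ N := by
    obtain ⟨a, b, -, -, hab⟩ := model_Q.2.2.2.2.2.2.1
    rw [← hab, map_mul, map_mul, map_mul, map_inv, map_inv,
      Subgroup.mul_mem_iff_of_index_two hi, Subgroup.mul_mem_iff_of_index_two hi,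
      Subgroup.mul_mem_iff_of_index_two hi, inv_mem_iff, inv_mem_iff]
    tauto
  have hv : d.ι mv ∈ N := by
    obtain ⟨w, -, hw⟩ := model_Q.2.2.2.2.2.2.2.1
    rw [← hw, map_mul, map_mul, map_inv]
    exact Subgroup.Normal.conj_mem inferInstance _ hz _
  have htu : d.ι (mt * mu) ∈ N := by
    obtain ⟨g, hg⟩ := isConj_iff.1 hf.z_tu
    rw [← hg]
    exact Subgroup.Normal.conj_mem inferInstance _ hz _
  intro m hm
  rcases model_Q.2.2.1 m hm with rfl | rfl | rfl | rfl | rfl | rfl | rfl | rfl
  · rw [map_one]; exact one_mem _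
  · exact hz
  · exact hv
  · rw [map_mul]; exact mul_mem hz hv
  · exact htu
  · rw [map_mul]; exact mul_mem htu hz
  · rw [map_mul]; exact mul_mem htu hv
  · rw [map_mul, map_mul]; exact mul_mem (mul_mem htu hz) hv

set_option maxHeartbeats 1000000 in
theorem nonempty_equiv_perm_six (hf : d.Fused) : Nonempty (G ≃* Perm (Fin 6)) := by
  classical
  have : Fact (Nat.Prime 2) := ⟨Nat.prime_two⟩
  obtain ⟨N, hNi, hNt, hNQ⟩ := d.exists_N hf
  have := Subgroup.normal_of_index_eq_two hNi
  have hG := d.card_eq hf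
  have hN360 : Nat.card N = 360 := by
    have h := N.card_mul_index
    rw [hNi, hG] at h
    omega
  let z' : N := ⟨d.ι mz, hNQ mz model_Q.2.2.2.1⟩
  set C := Subgroup.centralizer ({z'} : Set N)
  -- the centraliser of `z` in `N`
  let f : DihedralGroup 4 →* N :=
    MonoidHom.mk' (fun x => ⟨d.ι (dmodel x), hNQ _ (dmodel_props.1 x)⟩)
      (fun x y => Subtype.ext (by
        show d.ι (dmodel (x * y)) = d.ι (dmodel x) * d.ι (dmodel y)
        rw [dmodel_mul, map_mul]))
  have hfC : ∀ x, f x ∈ C := fun x => by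
    refine Subgroup.mem_centralizer_singleton_iff.2 (Subtype.ext ?_)
    show d.ι (dmodel x) * d.ι mz = d.ι mz * d.ι (dmodel x)
    rw [← map_mul, ← map_mul, (dmodel_props.1 x).1]
  let e : C ≃* DihedralGroup 4 := (MulEquiv.ofBijective (f.codRestrict C hfC) ⟨fun x y h => by
      exact dmodel_props.2.1 x y (d.inj (congrArg (fun c : C => ((c : N) : G)) h)),
    fun c => by
      have hc : ((c : N) : G) * d.ι mz = d.ι mz * ((c : N) : G) :=
        congrArg Subtype.val (Subgroup.mem_centralizer_singleton_iff.1 c.2)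
      obtain ⟨m, hm, hme⟩ := d.cenz _ hc
      have hmQ : inQ m := by
        refine ⟨hm, ?_⟩
        by_contra hne
        refine hNt ?_
        have h1 := hNQ _ (model_Q.2.1 m hm hne)
        rw [map_mul, hme] at h1
        exact (mul_mem_cancel_left (c : N).2).1 h1
      obtain ⟨x, hx⟩ := dmodel_props.2.2 m hmQ
      exact ⟨x, Subtype.ext (Subtype.ext (by show d.ι (dmodel x) = _; rw [hx, hme]))⟩⟩).symm
  have hz2 : orderOf z' = 2 := by
    rw [← Subgroup.orderOf_coe]
    exact d.orderOf_two elements.2.2.2.2.1 elements.2.1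
  have hperf : commutator N = ⊤ := by
    have hno : ∀ L : Subgroup N, L.index ≠ 2 := by
      intro L hL
      have := Subgroup.normal_of_index_eq_two hL
      have hz : z' ∈ L := by
        obtain ⟨a, b, ha, hb, hab⟩ := model_Q.2.2.2.2.2.2.1
        have : z' = (⟨d.ι a, hNQ a ha⟩ : N) * ⟨d.ι b, hNQ b hb⟩ * (⟨d.ι a, hNQ a ha⟩ : N)⁻¹ *
            (⟨d.ι b, hNQ b hb⟩ : N)⁻¹ := Subtype.ext (by
          show d.ι mz = d.ι a * d.ι b * (d.ι a)⁻¹ * (d.ι b)⁻¹
          rw [← hab]; simp)
        rw [this, Subgroup.mul_mem_iff_of_index_two hL, Subgroup.mul_mem_iff_of_index_two hL,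
          Subgroup.mul_mem_iff_of_index_two hL, inv_mem_iff, inv_mem_iff]
        tauto
      have hv : (⟨d.ι mv, hNQ mv model_Q.2.2.2.2.1⟩ : N) ∈ L := by
        obtain ⟨w, hw3, hw⟩ := model_Q.2.2.2.2.2.2.2.1
        have hwN : d.ι w ∈ N := by
          have h4 : d.ι w = (d.ι w ^ 2) ^ 2 := by
            rw [← map_pow, ← map_pow]
            congr 1
            rw [pow_two, pow_two, ← mul_assoc, hw3, one_mul]
          rw [h4]
          exact pow_mem (Subgroup.sq_mem_of_index_two hNi _) 2
        convert Subgroup.Normal.conj_mem inferInstance z' hz ⟨d.ι w, hwN⟩ using 1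
        exact Subtype.ext (by show d.ι mv = d.ι w * d.ι mz * (d.ι w)⁻¹; rw [← hw]; simp)
      have htu : (⟨d.ι (mt * mu), hNQ _ model_Q.2.2.2.2.2.1⟩ : N) ∈ L := by
        obtain ⟨g, hg⟩ := isConj_iff.1 hf.z_tu
        by_cases hgN : g ∈ N
        · convert Subgroup.Normal.conj_mem inferInstance z' hz ⟨g, hgN⟩ using 1
          exact Subtype.ext hg.symm
        · have hgt : g * d.ι mt ∈ N :=
            (Subgroup.mul_mem_iff_of_index_two hNi).2 (iff_of_false hgN hNt)
          convert Subgroup.Normal.conj_mem inferInstance z' hz ⟨_, hgt⟩ using 1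
          refine Subtype.ext ?_
          show d.ι (mt * mu) = g * d.ι mt * d.ι mz * (g * d.ι mt)⁻¹
          have h1 : d.ι mt * d.ι mz = d.ι mz * d.ι mt := by
            rw [← map_mul, ← map_mul, mt_central mz]
          rw [← hg, mul_assoc g (d.ι mt), h1]
          group
      have hQL : ∀ m : M, ∀ hm : inQ m, (⟨d.ι m, hNQ m hm⟩ : N) ∈ L := by
        intro m hm
        rcases model_Q.2.2.1 m hm with rfl | rfl | rfl | rfl | rfl | rfl | rfl | rfl
        · convert one_mem L using 1; exact Subtype.ext (map_one _)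
        · exact hz
        · exact hv
        · convert mul_mem hz hv using 1; exact Subtype.ext (map_mul _ _ _)
        · exact htu
        · convert mul_mem htu hz using 1; exact Subtype.ext (map_mul _ _ _)
        · convert mul_mem htu hv using 1; exact Subtype.ext (map_mul _ _ _)
        · convert mul_mem (mul_mem htu hz) hv using 1; exact Subtype.ext (by simp [map_mul, z'])
      have hCL : C ≤ L := fun c hc => by
        obtain ⟨x, hx⟩ := e.symm.surjective ⟨c, hc⟩
        have : c = f x := (congrArg Subtype.val hx).symm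
        rw [this]
        exact hQL _ (dmodel_props.1 x)
      have h8 : 8 ∣ Nat.card L := by
        have := Subgroup.card_dvd_of_le hCL
        rwa [Nat.card_congr e.toEquiv, DihedralGroup.nat_card] at this
      have h := L.card_mul_index
      rw [hL, hN360] at h
      omega
    have hcodd : Nat.Coprime 2 (commutator N).index := by
      rw [Nat.prime_two.coprime_iff_not_dvd]
      intro h
      obtain ⟨L, hL⟩ := CfsgLib.InvChar.DihedralSylow.exists_index_two_of_even h
      exact hno L hL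
    have hCp : IsPGroup 2 C := IsPGroup.of_card (n := 3) (by
      rw [Nat.card_congr e.toEquiv, DihedralGroup.nat_card]; norm_num)
    obtain ⟨S, hS⟩ := hCp.exists_le_sylow
    have hS8 : (S : Subgroup N) = C := (Subgroup.eq_of_le_of_card_ge hS (by
      rw [Nat.card_congr e.toEquiv, DihedralGroup.nat_card]
      obtain ⟨k, hk⟩ := S.2.exists_card_eq
      have hd := Subgroup.card_subgroup_dvd_card (S : Subgroup N)
      rw [hN360, hk] at hd
      rw [hk]
      have : k ≤ 3 := by
        by_contra hlt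
        have : 2 ^ 4 ∣ 360 := (pow_dvd_pow 2 (by omega)).trans hd
        norm_num at this
      exact Nat.pow_le_pow_right (by norm_num) this)).symm
    have hSle : (S : Subgroup N) ≤ commutator N := fun s hs => by
      obtain ⟨k, hk⟩ := S.2 ⟨s, hs⟩
      exact CfsgLib.InvChar.mem_of_normal_of_coprime_index (by simpa using congrArg Subtype.val hk) hcodd
    have hfr : Subgroup.normalizer ((S : Subgroup N) : Set N) ⊔ commutator N = ⊤ := by
      have h := Sylow.normalizer_sup_eq_top (S.subtype hSle)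
      rwa [Sylow.coe_subtype, Subgroup.map_subgroupOf_eq_of_le hSle] at h
    have hnorm : Subgroup.normalizer ((S : Subgroup N) : Set N) ≤ (S : Subgroup N) := by
      intro n hn
      rw [hS8, Subgroup.mem_centralizer_singleton_iff]
      exact CfsgLib.InvChar.DihedralSylow.fixes_center e (Subgroup.mem_centralizer_singleton_iff.2 rfl)
        hz2 (by rw [hS8] at hn; exact hn)
    exact top_le_iff.1 (hfr ▸ sup_le (hnorm.trans hSle) le_rfl)
  have hsimple := CfsgLib.InvChar.DihedralSylow.isSimpleGroup_of_centralizer hperf z' hz2 e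
    (Or.inr hN360)
  obtain ⟨φ⟩ := Cfsg.Agent.S0497.result hN360
  -- the action on `A₆`
  let θ : G →* MulAut ↥(alternatingGroup (Fin 6)) :=
    (MulAut.congr φ).toMonoidHom.comp MulAut.conjNormal
  have hθ : ∀ (g : G) (n : N), θ g (φ n) = φ (MulAut.conjNormal g n) := fun g n => by
    simp [θ, MulAut.congr]
  let P : Perm (Fin 6) →* MulAut ↥(alternatingGroup (Fin 6)) := MulAut.conjNormal
  have hPinj : Function.Injective P := CfsgLib.InvChar.conjNormal_injective (by norm_num)
  have hθN : ∀ n : N, θ (n : G) = P (φ n : Perm (Fin 6)) := fun n => by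
    refine MulEquiv.ext fun x => ?_
    obtain ⟨k, rfl⟩ := φ.surjective x
    rw [hθ]
    refine Subtype.ext ?_
    have hk : MulAut.conjNormal (n : G) k = n * k * n⁻¹ := Subtype.ext (by simp)
    rw [hk, map_mul, map_mul, map_inv]
    simp [P]
  -- the action of `t`
  obtain ⟨σ, hσ⟩ : ∃ σ, P σ = θ (d.ι mt) := by
    refine CfsgLib.InvChar.exists_perm_of_preserves_threeCycles (by norm_num) _ fun x hx => ?_
    have hcN : d.ι mc ∈ N := by
      have h4 : d.ι mc = (d.ι mc ^ 2) ^ 2 := by
        rw [← map_pow, ← map_pow]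
        congr 1
        rw [pow_two, pow_two, ← mul_assoc, elements.2.2.2.2.2.2.2.1, one_mul]
      rw [h4]
      exact pow_mem (Subgroup.sq_mem_of_index_two hNi _) 2
    set c₀ := φ ⟨d.ι mc, hcN⟩ with hc₀
    have hfix : θ (d.ι mt) c₀ = c₀ := by
      rw [hc₀, hθ]
      congr 1
      refine Subtype.ext ?_
      rw [MulAut.conjNormal_apply]
      show d.ι mt * d.ι mc * (d.ι mt)⁻¹ = d.ι mc
      rw [← map_mul, ← model_Q.2.2.2.2.2.2.2.2.1, map_mul, mul_inv_cancel_right]
    have hc3 : orderOf c₀ = 3 := by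
      rw [hc₀, MulEquiv.orderOf_eq, ← Subgroup.orderOf_coe, orderOf_injective d.ι d.inj]
      exact orderOf_eq_prime (by rw [pow_succ, pow_two]; exact elements.2.2.2.2.2.2.2.1)
        elements.2.2.2.2.2.2.2.2
    set τ := θ (d.ι mt) with hτ
    have hτx : orderOf (τ x) = 3 := by
      rw [MulEquiv.orderOf_eq, ← Subgroup.orderOf_coe, hx.orderOf]
    rcases three_cases hc3 with hc | hc
    · obtain ⟨a, ha⟩ := isConj_iff.1 (alternatingGroup.isThreeCycle_isConj (by simp) hc hx)
      have h1 : τ x = τ a * c₀ * (τ a)⁻¹ := by rw [← ha, map_mul, map_mul, map_inv, hfix]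
      rw [h1, Perm.IsThreeCycle]
      show ((τ a : Perm (Fin 6)) * (c₀ : Perm (Fin 6)) * (τ a : Perm (Fin 6))⁻¹).cycleType = {3}
      rw [Perm.cycleType_conj]
      exact hc
    · rcases three_cases hτx with h | h
      · exact h
      · exfalso
        obtain ⟨a, ha⟩ := isConj_iff.1 (double_isConj hc h)
        have h1 : x = τ.symm a * c₀ * (τ.symm a)⁻¹ := by
          have h2 := congrArg τ.symm ha
          rw [MulEquiv.symm_apply_apply, map_mul, map_mul, map_inv] at h2
          rw [← h2]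
          congr 2
          exact τ.injective (by rw [MulEquiv.apply_symm_apply, hfix])
        have hx' : (x : Perm (Fin 6)).cycleType = {3, 3} := by
          rw [h1]
          show ((τ.symm a : Perm (Fin 6)) * (c₀ : Perm (Fin 6)) * (τ.symm a : Perm (Fin 6))⁻¹).cycleType = _
          rw [Perm.cycleType_conj]
          exact hc
        rw [hx.cycleType] at hx'
        exact absurd hx' (by decide)
  have hrange : ∀ g : G, θ g ∈ P.range := by
    intro g
    by_cases hg : g ∈ N
    · exact ⟨_, (hθN ⟨g, hg⟩).symm⟩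
    · have hgt : g * d.ι mt ∈ N := (Subgroup.mul_mem_iff_of_index_two hNi).2 (iff_of_false hg hNt)
      refine ⟨(φ ⟨_, hgt⟩ : Perm (Fin 6)) * σ⁻¹, ?_⟩
      rw [map_mul, map_inv, hσ, ← hθN ⟨_, hgt⟩, map_mul, mul_inv_cancel_right]
  let Ψ : G →* Perm (Fin 6) :=
    (MonoidHom.ofInjective hPinj).symm.toMonoidHom.comp (θ.codRestrict P.range hrange)
  have hker : θ.ker = ⊥ := by
    have hcap : ∀ n : N, (n : G) ∈ θ.ker → n = 1 := fun n hn => by
      rw [MonoidHom.mem_ker, hθN] at hn
      have h1 : (φ n : Perm (Fin 6)) = 1 := hPinj (hn.trans (map_one P).symm)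
      exact φ.injective ((Subtype.ext h1).trans (map_one φ).symm)
    rw [eq_bot_iff]
    intro k hk
    rw [Subgroup.mem_bot]
    by_contra hk1
    have hkN : k ∉ N := fun h => hk1 (congrArg Subtype.val (hcap ⟨k, h⟩ hk))
    have hkc : ∀ g : G, g * k = k * g := by
      intro g
      have h1 : g * k * g⁻¹ * k⁻¹ ∈ θ.ker :=
        mul_mem ((MonoidHom.normal_ker θ).conj_mem k hk g) (inv_mem hk)
      have h2 : g * k * g⁻¹ * k⁻¹ ∈ N := by
        rw [Subgroup.mul_mem_iff_of_index_two hNi, Subgroup.mul_mem_iff_of_index_two hNi,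
          Subgroup.mul_mem_iff_of_index_two hNi, inv_mem_iff, inv_mem_iff]
        tauto
      have h3 : g * k * g⁻¹ = k := mul_inv_eq_one.1 (congrArg Subtype.val (hcap ⟨_, h2⟩ h1))
      exact mul_inv_eq_iff_eq_mul.1 h3
    obtain ⟨m, hm, rfl⟩ := d.cenz k (hkc (d.ι mz)).symm
    rcases center_T m hm (fun a ha => d.inj (by rw [map_mul, map_mul, ← hkc (d.ι a)])) with
      rfl | rfl | rfl | rfl
    · exact hk1 (map_one _)
    · have h48 := Nat.card_le_card_of_surjective d.ι fun g => d.cen g (hkc g)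
      rw [hG, Nat.card_eq_fintype_card, card_sets.2.2.2] at h48
      omega
    · have hle : (⊤ : Subgroup G) ≤ d.T := fun g _ => by
        obtain ⟨m, hm, e⟩ := d.cenz g (hkc g)
        exact d.mem_T.2 ⟨m, hm, e⟩
      have := Subgroup.card_le_of_le hle
      rw [Subgroup.card_top, hG, d.card_T] at this
      omega
    · have hle : (⊤ : Subgroup G) ≤ d.X := fun g _ => d.mem_X.2 (hkc g)
      have := Subgroup.card_le_of_le hle
      rw [Subgroup.card_top, hG, d.X_eq hf, hf.card_norm] at this
      omega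
  have hinj : Function.Injective Ψ := by
    refine (MonoidHom.ofInjective hPinj).symm.injective.comp fun a b h => ?_
    exact (MonoidHom.ker_eq_bot_iff θ).1 hker (congrArg Subtype.val h)
  exact ⟨MulEquiv.ofBijective Ψ (hinj.bijective_of_nat_card_le (by
    rw [hG, Nat.card_perm, Nat.card_fin]; rfl))⟩

end Setup

end CfsgLib.InvChar.SymSix
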