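import Cfsg.Agent.Lib.InvChar.SymSixModel
import Cfsg.Agent.Lib.Invol.BrauerSuzuki
import Cfsg.Agent.Lib.Invol.Isolated
import Cfsg.Agent.Lib.Solvable.PCore

/-!
Fusion of involutions in a group with a 2-central involution whose centraliser is `Z₂ × S₄`.
-/

set_option autoImplicit false

namespace CfsgLib.InvChar.SymSix

/-- The configuration: an embedded copy of the model as the centraliser of the image of `mt`. -/
structure Setup (G : Type*) [Group G] where
  ι : M →* G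
  inj : Function.Injective ι
  cen : ∀ g : G, g * ι mt = ι mt * g → ∃ m : M, ι m = g
  cenz : ∀ g : G, g * ι mz = ι mz * g → ∃ m : M, inT m ∧ ι m = g
  bound : ∀ R : Subgroup G, IsPGroup 2 R → Nat.card R ≤ 16

/-- The model Sylow subgroup. -/
def Tm : Subgroup M := Subgroup.centralizer {mz}
/-- The model `E`. -/
def Em : Subgroup M := Subgroup.centralizer {mz, mv}
/-- The model `F`. -/
def Fm : Subgroup M := Subgroup.centralizer {mz, mu}

theorem mem_Tm {q : M} : q ∈ Tm ↔ inT q := Subgroup.mem_centralizer_singleton_iff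

theorem mem_pair {q a b : M} :
    q ∈ Subgroup.centralizer ({a, b} : Set M) ↔ q * a = a * q ∧ q * b = b * q := by
  rw [Subgroup.mem_centralizer_iff]
  constructor
  · intro h
    exact ⟨(h a (by simp)).symm, (h b (by simp)).symm⟩
  · rintro ⟨h1, h2⟩ x (rfl | rfl)
    · exact h1.symm
    · exact h2.symm

theorem mem_Em {q : M} : q ∈ Em ↔ inE q := mem_pair
theorem mem_Fm {q : M} : q ∈ Fm ↔ inF q := mem_pair

theorem card_Tm : Nat.card Tm = 16 := by
  rw [Nat.card_congr (Equiv.subtypeEquivRight fun q => mem_Tm), Nat.card_eq_fintype_card,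
    Fintype.card_subtype, card_sets.1]

theorem card_Em : Nat.card Em = 8 := by
  rw [Nat.card_congr (Equiv.subtypeEquivRight fun q => mem_Em), Nat.card_eq_fintype_card,
    Fintype.card_subtype, card_sets.2.1]

theorem card_Fm : Nat.card Fm = 8 := by
  rw [Nat.card_congr (Equiv.subtypeEquivRight fun q => mem_Fm), Nat.card_eq_fintype_card,
    Fintype.card_subtype, card_sets.2.2.1]

/-- The three central involutions of the model Sylow subgroup. -/
def IsCentralRep (w : M) : Prop := w = mt ∨ w = mz ∨ w = mt * mz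

theorem central_commute {w a : M} (hw : IsCentralRep w) (ha : inT a) : w * a = a * w := by
  obtain ⟨h1, h2, h3⟩ := center_T_mem a ha
  rcases hw with rfl | rfl | rfl <;> assumption

theorem central_mem_Tm {w : M} (hw : IsCentralRep w) : inT w := by
  rcases hw with rfl | rfl | rfl <;> decide +kernel

/-- If two commuting involutions and their product are fixed-point-free on an odd group it is trivial. -/
theorem eq_bot_of_four_group {G : Type*} [Group G] [Finite G] (K : Subgroup G) [K.Normal] (a b : G)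
    (ha : a * a = 1) (hb : b * b = 1) (hab : a * b = b * a) (hK : Odd (Nat.card K))
    (h1 : ∀ k ∈ K, k * a = a * k → k = 1) (h2 : ∀ k ∈ K, k * b = b * k → k = 1)
    (h3 : ∀ k ∈ K, k * (a * b) = a * b * k → k = 1) : K = ⊥ := by
  have hinv : ∀ c : G, c * c = 1 → (∀ k ∈ K, k * c = c * k → k = 1) → ∀ k ∈ K, c * k * c = k⁻¹ := by
    intro c hc hfix k hk
    have hci : c⁻¹ = c := inv_eq_of_mul_eq_one_right hc
    have hcl : ∀ x : K, c * (x : G) * c ∈ K := fun x => by
      have := Subgroup.Normal.conj_mem (H := K) inferInstance (x : G) x.2 c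
      rwa [hci] at this
    let f : K → K := fun x => ⟨(x : G)⁻¹ * (c * x * c), mul_mem (inv_mem x.2) (hcl x)⟩
    have hf : Function.Injective f := by
      intro x y hxy
      have h : (x : G)⁻¹ * (c * x * c) = (y : G)⁻¹ * (c * y * c) := congrArg Subtype.val hxy
      have h' : (y : G) * (x : G)⁻¹ * c * x = c * y := by
        refine mul_right_cancel (b := c) ?_
        calc (y : G) * (x : G)⁻¹ * c * x * c = y * ((x : G)⁻¹ * (c * x * c)) := by group
          _ = y * ((y : G)⁻¹ * (c * y * c)) := by rw [h]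
          _ = c * y * c := by group
      refine Subtype.ext (mul_inv_eq_one.1 (hfix _ (mul_mem y.2 (inv_mem x.2)) ?_)).symm
      rw [← mul_assoc c, ← h', mul_inv_cancel_right]
    obtain ⟨y, hy⟩ := Finite.surjective_of_injective hf ⟨k, hk⟩
    have hy' : (y : G)⁻¹ * (c * y * c) = k := congrArg Subtype.val hy
    rw [← hy']
    simp only [mul_inv_rev, inv_inv, hci, mul_assoc, ← mul_assoc c c, hc, one_mul, mul_one]
  rw [eq_bot_iff]
  intro k hk
  rw [Subgroup.mem_bot]
  refine h3 k hk ?_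
  have e1 := hinv a ha h1
  have e2 := hinv b hb h2 k hk
  have e3 : a * (b * k * b) * a = k := by
    rw [e2, e1 _ (inv_mem hk), inv_inv]
  calc k * (a * b) = a * (b * k * b) * a * (a * b) := by rw [e3]
    _ = a * b * k := by
        simp only [mul_assoc, ← mul_assoc a a, ha, one_mul, hb, mul_one]

theorem ne_facts : mz ≠ mt * mu ∧ mz ≠ mt * mu' ∧ mt * mu ≠ mt * mu' ∧ mz ≠ mu ∧ mz ≠ mu' ∧
    mu ≠ mu' ∧ mu ≠ mt * mu ∧ mu ≠ mt * mu' ∧ mu' ≠ mt * mu ∧ mu' ≠ mt * mu' := by decide +kernel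

theorem central_ne : mt ≠ mz ∧ mz ≠ mt ∧ mt ≠ mt * mz ∧ mz ≠ mt * mz ∧ mt * mz ≠ 1 ∧
    mt * mz ≠ mt ∧ mt * mz ≠ mz := by decide +kernel

theorem tw_inF : ∀ m : M, inF m → inF (tw m) := by decide +kernel

namespace Setup

variable {G : Type*} [Group G] (d : Setup G)

/-- The Sylow subgroup. -/
def T : Subgroup G := Tm.map d.ι
/-- The subgroup `E`. -/
def E : Subgroup G := Em.map d.ι
/-- The subgroup `F`. -/
def F : Subgroup G := Fm.map d.ι

theorem mem_T {g : G} : g ∈ d.T ↔ ∃ m, inT m ∧ d.ι m = g := by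
  simp [T, Subgroup.mem_map, mem_Tm]

theorem mem_E {g : G} : g ∈ d.E ↔ ∃ m, inE m ∧ d.ι m = g := by
  simp [E, Subgroup.mem_map, mem_Em]

theorem mem_F {g : G} : g ∈ d.F ↔ ∃ m, inF m ∧ d.ι m = g := by
  simp [F, Subgroup.mem_map, mem_Fm]

theorem card_T : Nat.card d.T = 16 := by
  rw [T, Subgroup.card_map_of_injective d.inj, card_Tm]

theorem card_E : Nat.card d.E = 8 := by
  rw [E, Subgroup.card_map_of_injective d.inj, card_Em]

theorem card_F : Nat.card d.F = 8 := by
  rw [F, Subgroup.card_map_of_injective d.inj, card_Fm]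

theorem isPGroup_T : IsPGroup 2 d.T := IsPGroup.of_card (n := 4) (by rw [d.card_T]; norm_num)

theorem ι_eq {a b : M} : d.ι a = d.ι b ↔ a = b := d.inj.eq_iff

theorem ι_ne_one {a : M} (h : a ≠ 1) : d.ι a ≠ 1 := fun e => h (d.inj (e.trans (map_one _).symm))

theorem orderOf_two {a : M} (h : a * a = 1) (h1 : a ≠ 1) : orderOf (d.ι a) = 2 :=
  CfsgLib.Invol.invol_of_mul_self (by rw [← map_mul, h, map_one]) (d.ι_ne_one h1)

theorem conj_ι {a b : M} (w : M) (h : w * a * w⁻¹ = b) : IsConj (d.ι a) (d.ι b) :=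
  isConj_iff.2 ⟨d.ι w, by rw [← map_inv, ← map_mul, ← map_mul, h]⟩

variable [Finite G]

/-- The Sylow subgroup as a Sylow subgroup. -/
theorem exists_sylow : ∃ P : Sylow 2 G, (P : Subgroup G) = d.T := by
  have : Fact (Nat.Prime 2) := ⟨Nat.prime_two⟩
  obtain ⟨P, hP⟩ := d.isPGroup_T.exists_le_sylow
  exact ⟨P, (Subgroup.eq_of_le_of_card_ge hP (by rw [d.card_T]; exact d.bound _ P.2)).symm⟩

theorem normalizer_T {n : G} (hn : ∀ x ∈ d.T, n * x * n⁻¹ ∈ d.T) : n ∈ d.T := by
  obtain ⟨a, b, ha, hb, hab⟩ := mz_commutator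
  obtain ⟨a', ha', ea⟩ := d.mem_T.1 (hn _ (d.mem_T.2 ⟨a, ha, rfl⟩))
  obtain ⟨b', hb', eb⟩ := d.mem_T.1 (hn _ (d.mem_T.2 ⟨b, hb, rfl⟩))
  have h : n * d.ι mz * n⁻¹ = d.ι (a' * b' * a'⁻¹ * b'⁻¹) := by
    rw [← hab]
    simp only [map_mul, map_inv, ea, eb]
    group
  rcases commutator_cases a' b' ha' hb' with e | e <;> rw [e] at h
  · rw [map_one] at h
    exact absurd (conj_eq_one_iff.1 h) (d.ι_ne_one elements.2.1)
  · obtain ⟨m, hm, rfl⟩ := d.cenz n (mul_inv_eq_iff_eq_mul.1 h)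
    exact d.mem_T.2 ⟨m, hm, rfl⟩

/-- A 2-subgroup centralising a central involution of `T` is moved into `T` inside that centraliser. -/
theorem conj_into {w : M} (hw : IsCentralRep w) {R : Subgroup G} (hR : IsPGroup 2 R)
    (hc : ∀ r ∈ R, r * d.ι w = d.ι w * r) :
    ∃ c : G, c * d.ι w = d.ι w * c ∧ ∀ r ∈ R, c * r * c⁻¹ ∈ d.T := by
  have : Fact (Nat.Prime 2) := ⟨Nat.prime_two⟩
  set C := Subgroup.centralizer ({d.ι w} : Set G)
  have hTC : d.T ≤ C := fun x hx => by
    obtain ⟨m, hm, rfl⟩ := d.mem_T.1 hx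
    rw [Subgroup.mem_centralizer_singleton_iff, ← map_mul, ← map_mul, central_commute hw hm]
  have hRC : R ≤ C := fun r hr => Subgroup.mem_centralizer_singleton_iff.2 (hc r hr)
  obtain ⟨P, hP⟩ := d.exists_sylow
  have hPC : (P : Subgroup G) ≤ C := hP ▸ hTC
  obtain ⟨c, hc'⟩ := CfsgLib.Invol.exists_conj_mem_sylow (P.subtype hPC)
    (H := R.subgroupOf C) (hR.comap_of_injective C.subtype C.subtype_injective)
  refine ⟨c, Subgroup.mem_centralizer_singleton_iff.1 c.2, fun r hr => ?_⟩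
  have := hc' ⟨r, hRC hr⟩ (Subgroup.mem_subgroupOf.2 hr)
  rw [← hP]
  exact Subgroup.mem_subgroupOf.1 this

/-- The two elementary abelian subgroups of order eight are weakly closed. -/
theorem weakly_closed {X : Subgroup G} (hX : X = d.E ∨ X = d.F) {g : G}
    (hg : ∀ x ∈ X, g * x * g⁻¹ ∈ d.T) : ∀ x ∈ X, g * x * g⁻¹ ∈ X := by
  classical
  have : Fact (Nat.Prime 2) := ⟨Nat.prime_two⟩
  set Y := X.map (MulAut.conj g).toMonoidHom with hY
  have hYT : Y ≤ d.T := by
    rintro _ ⟨x, hx, rfl⟩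
    exact hg x hx
  have hX8 : Nat.card X = 8 := by rcases hX with rfl | rfl <;> [exact d.card_E; exact d.card_F]
  have hY8 : Nat.card Y = 8 := by rw [hY, Subgroup.card_map_of_injective (MulEquiv.injective _), hX8]
  have hXm : ∀ x ∈ X, ∃ m, (inE m ∨ inF m) ∧ (X = d.E → inE m) ∧ (X = d.F → inF m) ∧ d.ι m = x := by
    intro x hx
    by_cases he : X = d.E
    · by_cases hf : X = d.F
      · obtain ⟨m, hm, e⟩ := d.mem_E.1 (he ▸ hx)
        obtain ⟨m', hm', e'⟩ := d.mem_F.1 (hf ▸ hx)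
        obtain rfl : m = m' := d.inj (e.trans e'.symm)
        exact ⟨m, Or.inl hm, fun _ => hm, fun _ => hm', e⟩
      · obtain ⟨m, hm, e⟩ := d.mem_E.1 (he ▸ hx)
        exact ⟨m, Or.inl hm, fun _ => hm, fun h => absurd h hf, e⟩
    · have hf := hX.resolve_left he
      obtain ⟨m, hm, e⟩ := d.mem_F.1 (hf ▸ hx)
      exact ⟨m, Or.inr hm, fun h => absurd h he, fun _ => hm, e⟩
  have hab : ∀ a ∈ X, ∀ b ∈ X, a * b = b * a := by
    intro a ha b hb
    obtain ⟨m, -, h1, h2, rfl⟩ := hXm a ha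
    obtain ⟨m', -, h1', h2', rfl⟩ := hXm b hb
    rw [← map_mul, ← map_mul, abelian m m' ?_]
    rcases hX with e | e
    · exact Or.inl ⟨h1 e, h1' e⟩
    · exact Or.inr ⟨h2 e, h2' e⟩
  have hYe : ∀ y ∈ Y, ∃ m, inT m ∧ m * m = 1 ∧ d.ι m = y := by
    intro y hy
    obtain ⟨m, hm, rfl⟩ := d.mem_T.1 (hYT hy)
    obtain ⟨x, hx, hxe⟩ := hy
    obtain ⟨m', hm', -, -, rfl⟩ := hXm x hx
    refine ⟨m, hm, d.inj ?_, rfl⟩
    rw [map_mul, map_one, ← hxe, ← map_mul, ← map_mul, elementary m' hm', map_one, map_one]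
  have hcases : Y ≤ d.E ∨ Y ≤ d.F := by
    by_contra hne
    rw [not_or, SetLike.not_le_iff_exists, SetLike.not_le_iff_exists] at hne
    obtain ⟨⟨a, ha, haE⟩, b, hb, hbF⟩ := hne
    obtain ⟨ma, hma, hma2, rfl⟩ := hYe a ha
    obtain ⟨mb, hmb, hmb2, rfl⟩ := hYe b hb
    have ha' : ¬ inE ma := fun h => haE (d.mem_E.2 ⟨ma, h, rfl⟩)
    have hb' : ¬ inF mb := fun h => hbF (d.mem_F.2 ⟨mb, h, rfl⟩)
    obtain ⟨x, hx, hxe⟩ := ha
    obtain ⟨x', hx', hxe'⟩ := hb
    have hc : ma * mb = mb * ma := d.inj (by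
      rw [map_mul, map_mul, ← hxe, ← hxe', ← map_mul, ← map_mul, hab x hx x' hx'])
    exact not_commute mb ma ((invol_cases mb hmb hmb2).resolve_right hb') hb'
      ((invol_cases ma hma hma2).resolve_left ha') ha' hc.symm
  suffices hYX : Y = X from fun x hx => hYX.le ⟨x, hx, rfl⟩
  by_contra hYne
  have hYX : Y = d.E ∨ Y = d.F := hcases.imp
    (fun h => Subgroup.eq_of_le_of_card_ge h (by rw [hY8, d.card_E]))
    (fun h => Subgroup.eq_of_le_of_card_ge h (by rw [hY8, d.card_F]))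
  have hnorm : ∀ Z : Subgroup G, (Z = d.E ∨ Z = d.F) →
      d.T ≤ Subgroup.normalizer (Z : Set G) := by
    intro Z hZ
    refine fun a ha => Subgroup.mem_normalizer_iff.2 fun b => ?_
    have key : ∀ a ∈ d.T, ∀ b ∈ Z, a * b * a⁻¹ ∈ Z := by
      intro a ha b hb
      obtain ⟨m, hm, rfl⟩ := d.mem_T.1 ha
      rcases hZ with rfl | rfl
      · obtain ⟨m', hm', rfl⟩ := d.mem_E.1 hb
        exact d.mem_E.2 ⟨_, (normal_in_T m m' hm).1 hm', by simp⟩
      · obtain ⟨m', hm', rfl⟩ := d.mem_F.1 hb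
        exact d.mem_F.2 ⟨_, (normal_in_T m m' hm).2 hm', by simp⟩
    refine ⟨key a ha b, fun h => ?_⟩
    have := key a⁻¹ (inv_mem ha) _ h
    simpa [mul_assoc] using this
  -- both `T` and its conjugate normalise `Y`
  set N := Subgroup.normalizer (Y : Set G)
  obtain ⟨P, hP⟩ := d.exists_sylow
  have hPN : (P : Subgroup G) ≤ N := hP ▸ hnorm Y hYX
  have hgTN : d.T.map (MulAut.conj g).toMonoidHom ≤ N := by
    rintro _ ⟨a, ha, rfl⟩
    have h1 := Subgroup.mem_normalizer_iff.1 (hnorm X hX ha)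
    refine Subgroup.mem_normalizer_iff.2 fun b => ?_
    change b ∈ Y ↔ g * a * g⁻¹ * b * (g * a * g⁻¹)⁻¹ ∈ Y
    have hmem : ∀ b : G, b ∈ Y ↔ g⁻¹ * b * g ∈ X := by
      intro b
      constructor
      · rintro ⟨x, hx, rfl⟩
        simpa [mul_assoc] using hx
      · intro h
        exact ⟨g⁻¹ * b * g, h, by simp [mul_assoc]⟩
    rw [hmem, hmem, SetLike.mem_coe.symm]
    refine (h1 (g⁻¹ * b * g)).trans ?_
    rw [show a * (g⁻¹ * b * g) * a⁻¹ = g⁻¹ * (g * a * g⁻¹ * b * (g * a * g⁻¹)⁻¹) * g by group]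
  obtain ⟨c, hc⟩ := CfsgLib.Invol.exists_conj_mem_sylow (P.subtype hPN)
    (H := (d.T.map (MulAut.conj g).toMonoidHom).subgroupOf N)
    ((d.isPGroup_T.map _).comap_of_injective N.subtype N.subtype_injective)
  have hcg : (c : G) * g ∈ d.T := d.normalizer_T fun x hx => by
    have := hc ⟨_, hgTN ⟨x, hx, rfl⟩⟩ (Subgroup.mem_subgroupOf.2 ⟨x, hx, rfl⟩)
    rw [← hP]
    convert Subgroup.mem_subgroupOf.1 this using 1
    simp [mul_assoc]
  apply hYne
  refine Subgroup.eq_of_le_of_card_ge (fun y hy => ?_) (by rw [hX8, hY8])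
  obtain ⟨x, hx, rfl⟩ := hy
  have h2 := (Subgroup.mem_normalizer_iff.1 (hnorm X hX hcg) x).1 hx
  -- `c` normalises `Y`
  have h3 : g * x * g⁻¹ ∈ Y := ⟨x, hx, rfl⟩
  have h4 : Y ≤ X := by
    intro y hy
    have hy' := (Subgroup.mem_normalizer_iff.1 (inv_mem c.2) y).1 hy
    obtain ⟨x', hx', e⟩ := hy'
    have h5 := (Subgroup.mem_normalizer_iff.1 (hnorm X hX hcg) x').1 hx'
    convert h5 using 1
    calc y = (c : G) * ((c : G)⁻¹ * y * (c : G)⁻¹⁻¹) * (c : G)⁻¹ := by group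
      _ = (c : G) * (g * x' * g⁻¹) * (c : G)⁻¹ := by rw [← e]; rfl
      _ = _ := by group
  exact h4 h3

/-- The central involutions of `T` are pairwise non-conjugate. -/
theorem central_not_conj {w w' : M} (hw : IsCentralRep w) (hw' : IsCentralRep w')
    (h : IsConj (d.ι w) (d.ι w')) : w = w' := by
  obtain ⟨g, hg⟩ := isConj_iff.1 h
  obtain ⟨c, hc, hcT⟩ := d.conj_into hw' (R := d.T.map (MulAut.conj g).toMonoidHom)
    (d.isPGroup_T.map _) (by
      rintro _ ⟨a, ha, rfl⟩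
      obtain ⟨m, hm, rfl⟩ := d.mem_T.1 ha
      change g * d.ι m * g⁻¹ * d.ι w' = d.ι w' * (g * d.ι m * g⁻¹)
      rw [← hg]
      simp only [mul_assoc, inv_mul_cancel_left]
      rw [← mul_assoc (d.ι m), ← map_mul, ← central_commute hw hm, map_mul, mul_assoc])
  have hn : c * g ∈ d.T := d.normalizer_T fun x hx => by
    convert hcT _ ⟨x, hx, rfl⟩ using 1
    simp [mul_assoc]
  obtain ⟨m, hm, e⟩ := d.mem_T.1 hn
  refine d.inj ?_
  calc d.ι w = (c * g) * d.ι w * (c * g)⁻¹ := by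
        rw [← e, ← map_mul, ← central_commute hw hm, map_mul, mul_inv_cancel_right]
    _ = c * (g * d.ι w * g⁻¹) * c⁻¹ := by group
    _ = d.ι w' := by rw [hg, hc, mul_inv_cancel_right]

/-- An element of `F` conjugate to a central involution is moved there by `N(F)`. -/
theorem fuse_F {m w : M} (hm : inF m) (hw : IsCentralRep w) {g : G} (hg : g * d.ι m * g⁻¹ = d.ι w) :
    ∃ n ∈ Subgroup.normalizer (d.F : Set G), n * d.ι m * n⁻¹ = d.ι w := by
  obtain ⟨c, hc, hcT⟩ := d.conj_into hw (R := d.F.map (MulAut.conj g).toMonoidHom)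
    ((IsPGroup.of_card (n := 3) (by rw [d.card_F]; norm_num) : IsPGroup 2 d.F).map _) (by
      rintro _ ⟨a, ha, rfl⟩
      obtain ⟨m', hm', rfl⟩ := d.mem_F.1 ha
      change g * d.ι m' * g⁻¹ * d.ι w = d.ι w * (g * d.ι m' * g⁻¹)
      rw [← hg]
      simp only [mul_assoc, inv_mul_cancel_left]
      rw [← mul_assoc (d.ι m'), ← map_mul, abelian m' m (Or.inr ⟨hm', hm⟩), map_mul, mul_assoc])
  have hwc := d.weakly_closed (Or.inr rfl) (g := c * g) fun x hx => by
    convert hcT _ ⟨x, hx, rfl⟩ using 1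
    simp [mul_assoc]
  refine ⟨c * g, ?_, ?_⟩
  · refine Subgroup.mem_normalizer_iff.2 fun x => ⟨hwc x, fun hx => ?_⟩
    have hsurj : Function.Surjective fun y : d.F => (⟨_, hwc y y.2⟩ : d.F) :=
      Finite.surjective_of_injective fun a b e => Subtype.ext
        (mul_left_cancel (mul_right_cancel (congrArg Subtype.val e : _ = _)))
    obtain ⟨y, hy⟩ := hsurj ⟨_, hx⟩
    rw [← mul_left_cancel (mul_right_cancel (congrArg Subtype.val hy : _ = _))]
    exact y.2
  · calc c * g * d.ι m * (c * g)⁻¹ = c * (g * d.ι m * g⁻¹) * c⁻¹ := by group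
      _ = d.ι w := by rw [hg, hc, mul_inv_cancel_right]

omit [Finite G] in
/-- Centralisers of conjugates of `z` are 2-groups. -/
theorem pow_of_commute_conj {k g : G} (hk : k * (g * d.ι mz * g⁻¹) = g * d.ι mz * g⁻¹ * k) :
    ∃ i, k ^ 2 ^ i = 1 := by
  obtain ⟨m, hm, e⟩ := d.cenz (g⁻¹ * k * g) (by
    calc g⁻¹ * k * g * d.ι mz = g⁻¹ * (k * (g * d.ι mz * g⁻¹)) * g := by group
      _ = g⁻¹ * (g * d.ι mz * g⁻¹ * k) * g := by rw [hk]
      _ = _ := by group)
  obtain ⟨i, hi⟩ := d.isPGroup_T ⟨_, d.mem_T.2 ⟨m, hm, e⟩⟩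
  refine ⟨i, ?_⟩
  have h := congrArg Subtype.val hi
  simp only [SubmonoidClass.coe_pow, OneMemClass.coe_one] at h
  calc k ^ 2 ^ i = (g * (g⁻¹ * k * g) * g⁻¹) ^ 2 ^ i := by group
    _ = g * (g⁻¹ * k * g) ^ 2 ^ i * g⁻¹ := conj_pow
    _ = 1 := by rw [h]; group

theorem eq_one_of_commute_conj {K : Subgroup G} (hK : Odd (Nat.card K)) {k a : G} (hk : k ∈ K)
    (ha : IsConj (d.ι mz) a) (hc : k * a = a * k) : k = 1 := by
  obtain ⟨g, rfl⟩ := isConj_iff.1 ha
  obtain ⟨i, hi⟩ := d.pow_of_commute_conj hc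
  have h1 : orderOf k ∣ 2 ^ i := orderOf_dvd_of_pow_eq_one hi
  have h2 := Subgroup.orderOf_dvd_natCard K hk
  exact orderOf_eq_one_iff.1 (Nat.eq_one_of_dvd_coprimes
    ((Nat.coprime_two_left.2 hK).pow_left i) h1 h2)

include d in
theorem oddCore_eq_bot : Cfsg.oddCore G = ⊥ := by
  have hv : ∃ w : M, w * mz * w⁻¹ = mv := by decide +kernel
  have hv' : ∃ w : M, w * mz * w⁻¹ = mz * mv := by decide +kernel
  have hodd : Odd (Nat.card (Cfsg.oddCore G)) :=
    Nat.coprime_two_right.1 (CfsgLib.Solvable.pPrimeCore_coprime 2)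
  have : (Cfsg.oddCore G).Normal := inferInstanceAs (Cfsg.pPrimeCore 2 G).Normal
  refine eq_bot_of_four_group _ (d.ι mz) (d.ι mv) ?_ ?_ ?_ hodd ?_ ?_ ?_
  · rw [← map_mul, elements.2.2.2.2.1, map_one]
  · rw [← map_mul, elements.2.2.2.2.2.2.1, map_one]
  · rw [← map_mul, ← map_mul, show mz * mv = mv * mz by decide +kernel]
  · exact fun k hk => d.eq_one_of_commute_conj hodd hk (IsConj.refl _)
  · obtain ⟨w, hw⟩ := hv
    exact fun k hk => d.eq_one_of_commute_conj hodd hk (d.conj_ι w hw)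
  · obtain ⟨w, hw⟩ := hv'
    rw [← map_mul]
    exact fun k hk => d.eq_one_of_commute_conj hodd hk (d.conj_ι w hw)

/-- The twisted configuration. -/
def twisted : Setup G where
  ι := d.ι.comp twist.toMonoidHom
  inj := d.inj.comp twist.injective
  cen g hg := by
    obtain ⟨m, hm⟩ := d.cen g (by
      simpa [twist, tw_values.1] using hg)
    exact ⟨twist m, by simp [twist, tw_tw, hm]⟩
  cenz g hg := by
    obtain ⟨m, hm, e⟩ := d.cenz g (by
      simpa [twist, tw_values.2.1] using hg)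
    refine ⟨twist m, ?_, by simp [twist, tw_tw, e]⟩
    show tw m * mz = mz * tw m
    rw [← tw_values.2.1, ← tw_mul, ← tw_mul, hm]
  bound := d.bound

/-- `t` is fused to a transposition and `z` to its partner. -/
structure Fused : Prop where
  z_tu : IsConj (d.ι mz) (d.ι (mt * mu))
  t_u : IsConj (d.ι mt) (d.ι mu)
  le_cent : ∀ n ∈ Subgroup.normalizer (d.F : Set G), n * d.ι (mt * mz) = d.ι (mt * mz) * n
  card_norm : Nat.card (Subgroup.normalizer (d.F : Set G)) = 48

theorem mu'_conj : IsConj (d.ι mu) (d.ι mu') ∧ IsConj (d.ι (mt * mu)) (d.ι (mt * mu')) := by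
  obtain ⟨a, -, h1, h2⟩ := mu_conj_mu'
  exact ⟨d.conj_ι a h1, d.conj_ι a h2⟩

theorem T_le_normalizer_F : d.T ≤ Subgroup.normalizer (d.F : Set G) := by
  have key : ∀ a ∈ d.T, ∀ b ∈ d.F, a * b * a⁻¹ ∈ d.F := by
    intro a ha b hb
    obtain ⟨m, hm, rfl⟩ := d.mem_T.1 ha
    obtain ⟨m', hm', rfl⟩ := d.mem_F.1 hb
    exact d.mem_F.2 ⟨_, (normal_in_T m m' hm).2 hm', by simp⟩
  refine fun a ha => Subgroup.mem_normalizer_iff.2 fun b => ⟨key a ha b, fun h => ?_⟩
  simpa [mul_assoc] using key a⁻¹ (inv_mem ha) _ h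

open scoped Classical in
theorem fused_of_move {n : G} (hn : n ∈ Subgroup.normalizer (d.F : Set G))
    (hnz : n * d.ι mz * n⁻¹ = d.ι (mt * mu) ∨ n * d.ι mz * n⁻¹ = d.ι (mt * mu')) : d.Fused := by
  have : Fact (Nat.Prime 2) := ⟨Nat.prime_two⟩
  set N := Subgroup.normalizer (d.F : Set G) with hN
  set z := d.ι mz with hz
  have hz_tu : IsConj z (d.ι (mt * mu)) := by
    rcases hnz with e | e
    · exact isConj_iff.2 ⟨n, e⟩
    · exact (isConj_iff.2 ⟨n, e⟩ : IsConj z _).trans d.mu'_conj.2.symm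
  have hz_tu' := hz_tu.trans d.mu'_conj.2
  let _ : MulAction N G :=
    { smul := fun a x => (a : G) * x * (a : G)⁻¹
      one_smul := fun x => by
        show ((1 : N) : G) * x * ((1 : N) : G)⁻¹ = x
        simp
      mul_smul := fun a b x => by
        show ((a * b : N) : G) * x * ((a * b : N) : G)⁻¹ =
          (a : G) * ((b : G) * x * (b : G)⁻¹) * (a : G)⁻¹
        simp [mul_assoc] }
  have hsmul : ∀ (a : N) (x : G), a • x = (a : G) * x * (a : G)⁻¹ := fun a x => rfl
  set O := MulAction.orbit N z with hO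
  have hstab : Nat.card (MulAction.stabilizer N z) = 16 := by
    rw [← d.card_T]
    refine Nat.card_congr ⟨fun a => ⟨(a : N), ?_⟩, fun a => ⟨⟨a, d.T_le_normalizer_F a.2⟩, ?_⟩,
      fun a => rfl, fun a => rfl⟩
    · obtain ⟨m, hm, e⟩ := d.cenz ((a : N) : G) (mul_inv_eq_iff_eq_mul.1 ((hsmul _ _).symm.trans a.2))
      exact d.mem_T.2 ⟨m, hm, e⟩
    · obtain ⟨m, hm, e⟩ := d.mem_T.1 a.2
      rw [MulAction.mem_stabilizer_iff, hsmul, ← e, hz, ← map_inv, ← map_mul, ← map_mul, hm]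
      simp
  have hcard : O.ncard * 16 = Nat.card N := by
    rw [← hstab, hO, ← MulAction.index_stabilizer, Subgroup.index_mul_card]
  have hodd : Odd O.ncard := by
    rw [Nat.odd_iff]
    obtain ⟨P, hP⟩ := d.exists_sylow
    have h := (P.subtype (hP ▸ d.T_le_normalizer_F : (P : Subgroup G) ≤ N)).card_eq_multiplicity
    rw [Sylow.coe_subtype, Nat.card_congr (Subgroup.subgroupOfEquivOfLe (hP ▸ d.T_le_normalizer_F)).toEquiv,
      hP, d.card_T, ← hcard] at h
    by_contra hne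
    have h2 : 2 ^ 5 ∣ O.ncard * 16 := by
      obtain ⟨j, hj⟩ : 2 ∣ O.ncard := by omega
      exact ⟨j, by rw [hj]; ring⟩
    have h0 : O.ncard * 16 ≠ 0 := by rw [hcard]; exact Nat.card_pos.ne'
    have h5 := (Nat.prime_two.pow_dvd_iff_le_factorization h0).1 h2
    have : (2 : ℕ) ^ 4 < 2 ^ ((O.ncard * 16).factorization 2) :=
      Nat.pow_lt_pow_right (by norm_num) (by omega)
    omega
  set cand : Finset G := {z, d.ι mu, d.ι mu', d.ι (mt * mu), d.ι (mt * mu')} with hcand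
  have hImage : ∀ a ∈ N, ∀ m, inF m → ∃ m', inF m' ∧ d.ι m' = a * d.ι m * a⁻¹ := fun a ha m hm =>
    d.mem_F.1 ((Subgroup.mem_normalizer_iff.1 ha _).1 (d.mem_F.2 ⟨m, hm, rfl⟩))
  have hOsub : O ⊆ (cand : Set G) := by
    rintro _ ⟨a, rfl⟩
    obtain ⟨m, hm, e⟩ := hImage a a.2 mz inF_mem.2.1
    have hc : IsConj z (d.ι m) := isConj_iff.2 ⟨a, e.symm⟩
    show a • z ∈ _
    rw [hsmul, hz, ← e]
    simp only [hcand, Finset.coe_insert, Finset.coe_singleton, Set.mem_insert_iff,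
      Set.mem_singleton_iff]
    rcases inF_cases m hm with rfl | rfl | rfl | rfl | rfl | rfl | rfl | rfl
    · rw [map_one] at hc; exact absurd (isConj_one_left.1 hc) (d.ι_ne_one elements.2.1)
    · exact absurd (d.central_not_conj (Or.inr (Or.inl rfl)) (Or.inl rfl) hc) (by decide +kernel)
    · exact Or.inl rfl
    · exact absurd (d.central_not_conj (Or.inr (Or.inl rfl)) (Or.inr (Or.inr rfl)) hc)
        (by decide +kernel)
    · exact Or.inr (Or.inl rfl)
    · exact Or.inr (Or.inr (Or.inl rfl))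
    · exact Or.inr (Or.inr (Or.inr (Or.inl rfl)))
    · exact Or.inr (Or.inr (Or.inr (Or.inr rfl)))
  have hmemT : ∀ a : M, inT a → ∀ x ∈ O, d.ι a * x * (d.ι a)⁻¹ ∈ O := by
    intro a ha x hx
    have := (MulAction.smul_orbit (⟨d.ι a, d.T_le_normalizer_F (d.mem_T.2 ⟨a, ha, rfl⟩)⟩ : N) z).subset
      (Set.smul_mem_smul_set hx)
    exact this
  obtain ⟨a₀, ha₀, ha₁, ha₂⟩ := mu_conj_mu'
  have hfwd : ∀ p q : M, a₀ * p * a₀⁻¹ = q → d.ι p ∈ O → d.ι q ∈ O := fun p q h hp => by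
    have := hmemT a₀ ha₀ _ hp
    rwa [← map_inv, ← map_mul, ← map_mul, h] at this
  have hbwd : ∀ p q : M, a₀ * p * a₀⁻¹ = q → d.ι q ∈ O → d.ι p ∈ O := fun p q h hp => by
    have := hmemT a₀⁻¹ (by
      show a₀⁻¹ * mz = mz * a₀⁻¹
      exact (Commute.inv_left (ha₀ : Commute a₀ mz)).eq) _ hp
    rwa [← map_inv, ← map_mul, ← map_mul, ← h,
      show a₀⁻¹ * (a₀ * p * a₀⁻¹) * a₀⁻¹⁻¹ = p by group] at this
  have htu : d.ι (mt * mu) ∈ O ∧ d.ι (mt * mu') ∈ O := by
    have h1 : n * z * n⁻¹ ∈ O := ⟨⟨n, hn⟩, rfl⟩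
    rcases hnz with e | e <;> rw [e] at h1
    · exact ⟨h1, hfwd _ _ ha₂ h1⟩
    · exact ⟨hbwd _ _ ha₂ h1, h1⟩
  obtain ⟨e1, e2, e3, e4, e5, e6, e7, e8, e9, e10⟩ := ne_facts
  -- the transposition is not in the orbit
  have hu : d.ι mu ∉ O := by
    intro hu
    have hall : O = (cand : Set G) := by
      refine Set.Subset.antisymm hOsub ?_
      intro x hx
      simp only [hcand, Finset.coe_insert, Finset.coe_singleton, Set.mem_insert_iff,
        Set.mem_singleton_iff] at hx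
      rcases hx with rfl | rfl | rfl | rfl | rfl
      · exact MulAction.mem_orbit_self z
      · exact hu
      · exact hfwd _ _ ha₁ hu
      · exact htu.1
      · exact htu.2
    have h5 : O.ncard = 5 := by
      rw [hall, Set.ncard_coe_finset, hcand]
      simp [hz, d.ι_eq, e1, e2, e3, e4, e5, e6, e7, e8, e9, e10, Finset.card_insert_of_notMem, -map_mul]
    have hle : N ≤ d.ι.range := by
      intro a ha
      obtain ⟨m, hm, e⟩ := hImage a ha mt inF_mem.1
      have hc : IsConj (d.ι mt) (d.ι m) := isConj_iff.2 ⟨a, e.symm⟩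
      have hzc : d.ι m ∈ cand → False := by
        intro h
        rw [← Finset.mem_coe, ← hall] at h
        obtain ⟨b, hb⟩ := h
        exact absurd (d.central_not_conj (Or.inl rfl) (Or.inr (Or.inl rfl))
          (hc.trans (isConj_iff.2 ⟨_, hb⟩ : IsConj z (d.ι m)).symm)) (by decide +kernel)
      rcases inF_cases m hm with rfl | rfl | rfl | rfl | rfl | rfl | rfl | rfl
      · rw [map_one] at hc; exact absurd (isConj_one_left.1 hc) (d.ι_ne_one elements.1)
      · exact d.cen a (mul_inv_eq_iff_eq_mul.1 e.symm)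
      · exact absurd (d.central_not_conj (Or.inl rfl) (Or.inr (Or.inl rfl)) hc) (by decide +kernel)
      · exact absurd (d.central_not_conj (Or.inl rfl) (Or.inr (Or.inr rfl)) hc) (by decide +kernel)
      all_goals exact (hzc (by simp [hcand])).elim
    have h48 := Subgroup.card_le_of_le (K := d.ι.range) hle
    rw [← hcard, h5, Nat.card_congr (MonoidHom.ofInjective d.inj).toEquiv.symm,
      Nat.card_eq_fintype_card, card_sets.2.2.2] at h48
    omega
  have hu' : d.ι mu' ∉ O := fun h => hu (hbwd _ _ ha₁ h)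
  have hO3 : O = ({z, d.ι (mt * mu), d.ι (mt * mu')} : Finset G) := by
    ext x
    simp only [Finset.coe_insert, Finset.coe_singleton, Set.mem_insert_iff, Set.mem_singleton_iff]
    constructor
    · intro hx
      have := hOsub hx
      simp only [hcand, Finset.coe_insert, Finset.coe_singleton, Set.mem_insert_iff,
        Set.mem_singleton_iff] at this
      rcases this with rfl | rfl | rfl | rfl | rfl
      · exact Or.inl rfl
      · exact absurd hx hu
      · exact absurd hx hu'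
      · exact Or.inr (Or.inl rfl)
      · exact Or.inr (Or.inr rfl)
    · rintro (rfl | rfl | rfl)
      · exact MulAction.mem_orbit_self z
      · exact htu.1
      · exact htu.2
  have h48 : Nat.card N = 48 := by
    rw [← hcard, hO3, Set.ncard_coe_finset]
    simp [hz, d.ι_eq, e1, e2, e3, e4, e5, e6, e7, e8, e9, e10, Finset.card_insert_of_notMem, -map_mul]
  -- `t` is moved
  obtain ⟨b, hbN, hb⟩ : ∃ b ∈ N, b * d.ι mt * b⁻¹ ≠ d.ι mt := by
    by_contra! hall
    have hle : N ≤ d.ι.range := fun a ha => d.cen a (mul_inv_eq_iff_eq_mul.1 (hall a ha))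
    have heq := Subgroup.eq_of_le_of_card_ge hle (by
      rw [h48, Nat.card_congr (MonoidHom.ofInjective d.inj).toEquiv.symm, Nat.card_eq_fintype_card,
        card_sets.2.2.2])
    have hmem := (Subgroup.mem_normalizer_iff.1 (heq.symm ▸ ⟨mc, rfl⟩ : d.ι mc ∈ N) (d.ι mu)).1
      (d.mem_F.2 ⟨mu, inF_mem.2.2.2.1, rfl⟩)
    obtain ⟨m, hm, e⟩ := d.mem_F.1 hmem
    rw [← map_inv, ← map_mul, ← map_mul, d.ι_eq] at e
    exact mc_not_normalize (e ▸ hm)
  have ht_u : IsConj (d.ι mt) (d.ι mu) := by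
    obtain ⟨m, hm, e⟩ := hImage b hbN mt inF_mem.1
    have hc : IsConj (d.ι mt) (d.ι m) := isConj_iff.2 ⟨b, e.symm⟩
    rcases inF_cases m hm with rfl | rfl | rfl | rfl | rfl | rfl | rfl | rfl
    · rw [map_one] at hc; exact absurd (isConj_one_left.1 hc) (d.ι_ne_one elements.1)
    · exact absurd e.symm hb
    · exact absurd (d.central_not_conj (Or.inl rfl) (Or.inr (Or.inl rfl)) hc) (by decide +kernel)
    · exact absurd (d.central_not_conj (Or.inl rfl) (Or.inr (Or.inr rfl)) hc) (by decide +kernel)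
    · exact hc
    · exact hc.trans d.mu'_conj.1.symm
    · exact absurd (d.central_not_conj (Or.inl rfl) (Or.inr (Or.inl rfl)) (hc.trans hz_tu.symm))
        (by decide +kernel)
    · exact absurd (d.central_not_conj (Or.inl rfl) (Or.inr (Or.inl rfl)) (hc.trans hz_tu'.symm))
        (by decide +kernel)
  refine ⟨hz_tu, ht_u, fun a ha => ?_, h48⟩
  obtain ⟨m, hm, e⟩ := hImage a ha (mt * mz) inF_mem.2.2.1
  have hc : IsConj (d.ι (mt * mz)) (d.ι m) := isConj_iff.2 ⟨a, e.symm⟩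
  have hbad : ∀ w, IsCentralRep w → IsConj (d.ι w) (d.ι m) → w = mt * mz := fun w hw h =>
    d.central_not_conj hw (Or.inr (Or.inr rfl)) (h.trans hc.symm)
  rcases inF_cases m hm with rfl | rfl | rfl | rfl | rfl | rfl | rfl | rfl
  · rw [map_one] at hc
    exact absurd (isConj_one_left.1 hc) (d.ι_ne_one central_ne.2.2.2.2.1)
  · exact absurd (hbad mt (Or.inl rfl) (IsConj.refl _)) central_ne.2.2.1
  · exact absurd (hbad mz (Or.inr (Or.inl rfl)) (IsConj.refl _)) central_ne.2.2.2.1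
  · exact mul_inv_eq_iff_eq_mul.1 e.symm
  · exact absurd (hbad mt (Or.inl rfl) ht_u) central_ne.2.2.1
  · exact absurd (hbad mt (Or.inl rfl) (ht_u.trans d.mu'_conj.1)) central_ne.2.2.1
  · exact absurd (hbad mz (Or.inr (Or.inl rfl)) hz_tu) central_ne.2.2.2.1
  · exact absurd (hbad mz (Or.inr (Or.inl rfl)) hz_tu') central_ne.2.2.2.1

theorem twisted_F : d.twisted.F = d.F := by
  refine Subgroup.eq_of_le_of_card_ge (fun x hx => ?_) (le_of_eq (d.card_F.trans d.twisted.card_F.symm))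
  obtain ⟨m, hm, rfl⟩ := d.twisted.mem_F.1 hx
  exact d.mem_F.2 ⟨tw m, tw_inF m hm, rfl⟩

theorem isolated_or_fused :
    Cfsg.IsIsolatedInvolution (d.ι mt) ∨ d.Fused ∨ d.twisted.Fused := by
  by_cases h : ∀ n ∈ Subgroup.normalizer (d.F : Set G), n * d.ι mz = d.ι mz * n
  · left
    obtain ⟨P, hP⟩ := d.exists_sylow
    refine CfsgLib.Invol.isolated_of_sylow P (d.orderOf_two elements.2.2.2.1 elements.1)
      (by show d.ι mt ∈ (P : Subgroup G); rw [hP]; exact d.mem_T.2 ⟨mt, central_mem_Tm (Or.inl rfl), rfl⟩)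
      fun g hg => ?_
    replace hg : g * d.ι mt * g⁻¹ ∈ (P : Subgroup G) := hg
    rw [hP] at hg
    obtain ⟨m, hm, e⟩ := d.mem_T.1 hg
    have hc : IsConj (d.ι mt) (d.ι m) := isConj_iff.2 ⟨g, e.symm⟩
    have hm2 : m * m = 1 := d.inj (by
      rw [map_mul, map_one, e]
      exact CfsgLib.Invol.invol_mul_self (by
        rw [CfsgLib.Invol.orderOf_conj_eq, d.orderOf_two elements.2.2.2.1 elements.1]))
    have hm1 : m ≠ 1 := fun h1 => d.ι_ne_one elements.1 (isConj_one_left.1 (by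
      rw [h1, map_one] at hc; exact hc))
    rcases invol_cases m hm hm2 with hE | hF
    · rcases inE_reps m hE hm1 with rfl | ⟨w, hw | hw⟩
      · exact e.symm
      · exact absurd (d.central_not_conj (Or.inl rfl) (Or.inr (Or.inl rfl))
          (hc.trans (d.conj_ι w hw))) (by decide +kernel)
      · exact absurd (d.central_not_conj (Or.inl rfl) (Or.inr (Or.inr rfl))
          (hc.trans (d.conj_ι w hw))) (by decide +kernel)
    · obtain ⟨g', hg'⟩ := isConj_iff.1 hc.symm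
      obtain ⟨n, hn, hne⟩ := d.fuse_F hF (Or.inl rfl) hg'
      obtain ⟨k, hk, rfl⟩ := d.cenz n (h n hn)
      rw [← map_inv, ← map_mul, ← map_mul, d.ι_eq] at hne
      have : m = mt := by
        have h1 : k * mt * k⁻¹ = mt := by rw [mt_central k, mul_inv_cancel_right]
        exact mul_left_cancel (mul_right_cancel (hne.trans h1.symm))
      rw [← e, this]
  · right
    push Not at h
    obtain ⟨n, hn, hne⟩ := h
    obtain ⟨m, hm, e⟩ := d.mem_F.1 ((Subgroup.mem_normalizer_iff.1 hn _).1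
      (d.mem_F.2 ⟨mz, inF_mem.2.1, rfl⟩))
    have hc : IsConj (d.ι mz) (d.ι m) := isConj_iff.2 ⟨n, e.symm⟩
    have htw : ∀ q : M, d.twisted.ι q = d.ι (tw q) := fun q => rfl
    rcases inF_cases m hm with rfl | rfl | rfl | rfl | rfl | rfl | rfl | rfl
    · rw [map_one] at hc; exact absurd (isConj_one_left.1 hc) (d.ι_ne_one elements.2.1)
    · exact absurd (d.central_not_conj (Or.inr (Or.inl rfl)) (Or.inl rfl) hc) (by decide +kernel)
    · exact absurd (mul_inv_eq_iff_eq_mul.1 e.symm) hne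
    · exact absurd (d.central_not_conj (Or.inr (Or.inl rfl)) (Or.inr (Or.inr rfl)) hc)
        (by decide +kernel)
    · refine Or.inr (d.twisted.fused_of_move (n := n) (by rw [d.twisted_F]; exact hn) (Or.inl ?_))
      rw [htw, htw, tw_values.2.1, tw_values.2.2.2, e]
    · refine Or.inr (d.twisted.fused_of_move (n := n) (by rw [d.twisted_F]; exact hn) (Or.inr ?_))
      rw [htw, htw, tw_values.2.1, show tw (mt * mu') = mu' by decide +kernel, e]
    · exact Or.inl (d.fused_of_move hn (Or.inl e.symm))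
    · exact Or.inl (d.fused_of_move hn (Or.inr e.symm))

/-- In the isolated case the group is the centraliser. -/
theorem centralizer_eq_top (h : Cfsg.IsIsolatedInvolution (d.ι mt)) :
    ∀ g : G, g * d.ι mt = d.ι mt * g := by
  intro g
  have h1 := CfsgLib.Invol.zstar G h g
  rw [d.oddCore_eq_bot, Subgroup.mem_bot] at h1
  have h2 : d.ι mt * g * (d.ι mt)⁻¹ = g := mul_inv_eq_one.1 h1
  exact (mul_inv_eq_iff_eq_mul.1 h2).symm

end Setup

end CfsgLib.InvChar.SymSix
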