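import Cfsg.Agent.Lib.Suzuki.Basic

/-!
# The field with eight elements on numbers below eight, and four by four matrices over it
-/

set_option autoImplicit false
set_option linter.unusedSectionVars false

namespace CfsgLib.InvChar.SzEight

open Matrix

variable {F : Type*} [Field F] [CharP F 2]

/-- A bit as a field element. -/
def bitF (b : Bool) : F := if b then 1 else 0

/-- The element coded by the low three bits. -/
def rf (w : F) (n : ℕ) : F :=
  bitF (n.testBit 0) + bitF (n.testBit 1) * w + bitF (n.testBit 2) * w ^ 2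

/-- Multiplication by the root. -/
def xt (a : ℕ) : ℕ :=
  (if a.testBit 2 then 3 else 0) ^^^ (if a.testBit 0 then 2 else 0) ^^^ (if a.testBit 1 then 4 else 0)

/-- Product of codes. -/
def mulC (a b : ℕ) : ℕ :=
  (if b.testBit 0 then a else 0) ^^^ (if b.testBit 1 then xt a else 0) ^^^ (if b.testBit 2 then xt (xt a) else 0)

/-- The automorphism on codes. -/
def thC (a : ℕ) : ℕ := mulC (mulC a a) (mulC a a)

theorem rf_xor (w : F) (a b : ℕ) : rf w (a ^^^ b) = rf w a + rf w b := by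
  have h : ∀ x y : Bool, (bitF (x ^^ y) : F) = bitF x + bitF y := fun x y => by
    cases x <;> cases y <;> simp [bitF, CharTwo.add_self_eq_zero]
  simp only [rf, Nat.testBit_xor, h]
  ring

theorem rf_zero (w : F) : rf w 0 = 0 := by simp [rf, bitF]

theorem rf_ite (w : F) (c : Bool) (n : ℕ) : rf w (if c then n else 0) = bitF c * rf w n := by
  cases c <;> simp [bitF, rf_zero]

variable {w : F} (hw : w ^ 3 + w + 1 = 0)
include hw

theorem rf_xt (a : ℕ) : rf w (xt a) = rf w a * w := by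
  simp only [xt, rf_xor, rf_ite]
  have h2 : rf w 2 = w := by simp [rf, bitF, Nat.testBit]
  have h3 : rf w 3 = 1 + w := by simp [rf, bitF, Nat.testBit]
  have h4 : rf w 4 = w ^ 2 := by simp [rf, bitF, Nat.testBit]
  rw [h2, h3, h4, rf]
  linear_combination (-(bitF (a.testBit 2) : F)) * hw + (bitF (a.testBit 2) * (1 + w)) * (CharTwo.two_eq_zero (R := F))

theorem rf_mulC (a b : ℕ) : rf w (mulC a b) = rf w a * rf w b := by
  simp only [mulC, rf_xor, rf_ite, rf_xt hw]
  simp only [rf]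
  ring

theorem rf_thC (a : ℕ) : rf w (thC a) = rf w a ^ 4 := by
  simp only [thC, rf_mulC hw]
  ring

omit hw in
theorem exists_root [Fintype F] (hF : Fintype.card F = 8) : ∃ w : F, w ^ 3 + w + 1 = 0 := by
  classical
  obtain ⟨x, hx⟩ : ∃ x : F, x ∉ ({0, 1} : Finset F) := by
    by_contra! h
    have h1 := Finset.card_le_card (show (Finset.univ : Finset F) ⊆ {0, 1} from fun x _ => h x)
    have h2 := Finset.card_le_two (a := (0 : F)) (b := 1)
    rw [Finset.card_univ, hF] at h1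
    omega
  simp only [Finset.mem_insert, Finset.mem_singleton, not_or] at hx
  have h7 : x ^ 7 = 1 := by
    have := FiniteField.pow_card_sub_one_eq_one x hx.1
    rwa [hF] at this
  have h : (x + 1) * ((x ^ 3 + x + 1) * (x ^ 3 + x ^ 2 + 1)) = 0 := by
    linear_combination h7 + (x ^ 6 + x ^ 5 + 2 * x ^ 4 + 2 * x ^ 3 + x ^ 2 + x + 1) * (CharTwo.two_eq_zero (R := F))
  rcases mul_eq_zero.1 h with h | h
  · exact absurd (by linear_combination h - CharTwo.two_eq_zero (R := F)) hx.2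
  rcases mul_eq_zero.1 h with h | h
  · exact ⟨x, h⟩
  · refine ⟨x⁻¹, ?_⟩
    have hx0 := hx.1
    field_simp
    linear_combination h

theorem rf_one : rf w 1 = 1 := by simp [rf, bitF, Nat.testBit]

theorem rf_ne_zero (n : ℕ) (hn : n < 8) (h0 : n ≠ 0) : rf w n ≠ 0 := by
  have hinv : ∀ n < 8, n ≠ 0 → ∃ k < 8, mulC n k = 1 := by decide
  obtain ⟨k, -, hk⟩ := hinv n hn h0
  intro h
  have := congrArg (rf w) hk
  rw [rf_mulC hw, h, zero_mul, rf_one hw] at this
  exact zero_ne_one this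

theorem rf_inj {a b : ℕ} (ha : a < 8) (hb : b < 8) (h : rf w a = rf w b) : a = b := by
  by_contra hne
  refine rf_ne_zero hw (a ^^^ b) (Nat.xor_lt_two_pow (n := 3) ha hb) ?_ ?_
  · intro h0; exact hne (Nat.xor_eq_zero_iff.1 h0)
  · rw [rf_xor, h, CharTwo.add_self_eq_zero]

theorem exists_rf [Fintype F] (hF : Fintype.card F = 8) (x : F) : ∃ n < 8, rf w n = x := by
  obtain ⟨n, hn⟩ := ((Fintype.bijective_iff_injective_and_card fun n : Fin 8 => rf w n.val).2
    ⟨fun a b h => Fin.ext (rf_inj hw a.2 b.2 h), by rw [Fintype.card_fin, hF]⟩).2 x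
  exact ⟨n, n.2, hn⟩

omit hw in
/-- A matrix read over the field. -/
def toM (w : F) (L : List ℕ) : Matrix (Fin 4) (Fin 4) F :=
  Matrix.of fun i j => rf w (L.getD (4 * i.val + j.val) 0)

omit hw in
/-- One entry of a product. -/
def entryC (A B : List ℕ) (k : ℕ) : ℕ :=
  mulC (A.getD (4 * (k / 4)) 0) (B.getD (k % 4) 0) ^^^ mulC (A.getD (4 * (k / 4) + 1) 0) (B.getD (4 + k % 4) 0) ^^^
    mulC (A.getD (4 * (k / 4) + 2) 0) (B.getD (8 + k % 4) 0) ^^^ mulC (A.getD (4 * (k / 4) + 3) 0) (B.getD (12 + k % 4) 0)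

omit hw in
/-- Product of coded matrices. -/
def mulM (A B : List ℕ) : List ℕ := (List.range 16).map (entryC A B)

theorem toM_mulM (A B : List ℕ) : toM w (mulM A B) = toM w A * toM w B := by
  ext i j
  have hk : 4 * i.val + j.val < 16 := by omega
  have e : (mulM A B).getD (4 * i.val + j.val) 0 = entryC A B (4 * i.val + j.val) := by
    rw [mulM, List.getD_eq_getElem _ _ (by simpa using hk)]
    simp
  have hd : (4 * i.val + j.val) / 4 = i.val ∧ (4 * i.val + j.val) % 4 = j.val := by omega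
  show rf w ((mulM A B).getD (4 * i.val + j.val) 0) = _
  rw [e, entryC, hd.1, hd.2, rf_xor, rf_xor, rf_xor, rf_mulC hw, rf_mulC hw, rf_mulC hw, rf_mulC hw,
    Matrix.mul_apply, Fin.sum_univ_four]
  simp [toM]

omit hw in
/-- The identity. -/
def idM : List ℕ := [1, 0, 0, 0, 0, 1, 0, 0, 0, 0, 1, 0, 0, 0, 0, 1]

theorem toM_idM : toM w idM = 1 := by
  ext i j
  fin_cases i <;> fin_cases j <;> simp [toM, idM, rf_zero, rf_one hw]

omit hw in
/-- The Weyl element. -/
def wM : List ℕ := [0, 0, 0, 1, 0, 0, 1, 0, 0, 1, 0, 0, 1, 0, 0, 0]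

omit hw in
/-- A unipotent element. -/
def tM (a b : ℕ) : List ℕ :=
  [1, a, b ^^^ mulC (thC a) a, mulC a b ^^^ mulC (thC a) (mulC a a) ^^^ thC b,
   0, 1, thC a, b, 0, 0, 1, a, 0, 0, 0, 1]

omit hw in
/-- The torus element of the root. -/
def hM : List ℕ :=
  [mulC (thC 2) 2, 0, 0, 0, 0, 2, 0, 0, 0, 0, 5, 0, 0, 0, 0,
    ((List.range 8).filter fun k => mulC (mulC (thC 2) 2) k == 1).getD 0 0]

theorem toM_wM : toM w wM = (CfsgLib.Suzuki.wSL F).1 := by
  ext i j
  fin_cases i <;> fin_cases j <;> simp [toM, wM, CfsgLib.Suzuki.wSL, rf_zero, rf_one hw]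

theorem th_one (x : F) : CfsgLib.Suzuki.th 1 x = x ^ 4 := by rw [CfsgLib.Suzuki.th_def]; norm_num

theorem toM_tM (a b : ℕ) : toM w (tM a b) = CfsgLib.Suzuki.tMat 1 (rf w a) (rf w b) := by
  ext i j
  fin_cases i <;> fin_cases j <;>
    simp [toM, tM, CfsgLib.Suzuki.tMat, rf_zero, rf_one hw, rf_xor, rf_mulC hw, rf_thC hw, th_one hw] <;> ring_nf <;> simp

theorem toM_hM : toM w hM = CfsgLib.Suzuki.hMat 1 w := by
  have h2 : rf w 2 = w := by simp [rf, bitF, Nat.testBit]
  have hw0 : w ≠ 0 := fun h => by simp [h] at hw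
  have h5 : rf w 5 = w⁻¹ := by
    refine eq_inv_of_mul_eq_one_left ?_
    have := congrArg (rf w) (show mulC 5 2 = 1 by decide)
    rwa [rf_mulC hw, h2, rf_one hw] at this
  have hlast : ((List.range 8).filter fun k => mulC (mulC (thC 2) 2) k == 1).getD 0 0 = 4 := by decide
  have h4 : rf w 4 = (w ^ 4 * w)⁻¹ := by
    refine eq_inv_of_mul_eq_one_left ?_
    have := congrArg (rf w) (show mulC 4 (mulC (thC 2) 2) = 1 by decide)
    rwa [rf_mulC hw, rf_mulC hw, rf_thC hw, h2, rf_one hw] at this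
  ext i j
  rw [hM, hlast]
  fin_cases i <;> fin_cases j <;>
    simp [toM, CfsgLib.Suzuki.hMat, th_one hw, rf_zero, rf_mulC hw, rf_thC hw, h2, h5, h4]

end CfsgLib.InvChar.SzEight
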