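import Cfsg.Agent.Lib.InvChar.SzEightUnipotent
import Cfsg.Agent.Lib.InvChar.SzEightField
import Cfsg.Agent.Lib.InvChar.SchurTwoGen

/-!
# Stem extensions of `Sz(8)`: the kernel is an image of a four-group

The commutator of the centre with `U` gives an additive map from the field onto the kernel; conjugating a
commutator of two elements of `U` by a third shows that it kills one.
-/

set_option autoImplicit false
set_option linter.unusedSectionVars false
set_option maxHeartbeats 1000000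

namespace CfsgLib.InvChar.SzEight

open Matrix Cfsg CfsgLib.Suzuki
open scoped commutatorElement

variable {F : Type*} [Field F] [CharP F 2] [Fintype F]
variable {Γ : Type*} [Group Γ] [Finite Γ] {σ : Γ →* Cfsg.Sz F 1}

theorem card_eight (hF : Fintype.card F = 8) : Fintype.card F = 2 ^ (2 * 1 + 1) := by rw [hF]; norm_num

theorem card_sz_eight (hF : Fintype.card F = 8) : Nat.card (Cfsg.Sz F 1) = 29120 := by
  rw [card_sz le_rfl (card_eight hF), hF] <;> norm_num

theorem ker_pow_sixtyFour (hF : Fintype.card F = 8) (hσ : Cfsg.IsStemExtension σ) {z : Γ}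
    (hz : z ∈ σ.ker) : z ^ 64 = 1 := by
  have key : ∀ g : Cfsg.Sz F 1, z ^ (29120 / orderOf g) = 1 := fun g => by
    have h := SchurTwoGen.pow_index_zpowers hσ g hz
    have hc := (Subgroup.zpowers g).card_mul_index
    rw [Nat.card_zpowers, card_sz_eight hF] at hc
    rwa [← hc, Nat.mul_div_cancel_left _ (orderOf_pos g)]
  have hp : ∀ p : ℕ, p.Prime → p ∣ 29120 → z ^ (29120 / p) = 1 := fun p hp hd => by
    have : Fact p.Prime := ⟨hp⟩
    obtain ⟨g, hg⟩ := exists_prime_orderOf_dvd_card' (G := Cfsg.Sz F 1) p (by rw [card_sz_eight hF]; exact hd)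
    have := key g
    rwa [hg] at this
  have h5 := hp 5 (by norm_num) (by norm_num)
  have h7 := hp 7 (by norm_num) (by norm_num)
  have h13 := hp 13 (by norm_num) (by norm_num)
  have := pow_gcd_eq_one.2 ⟨pow_gcd_eq_one.2 ⟨h5, h7⟩, h13⟩
  rwa [show Nat.gcd (Nat.gcd (29120 / 5) (29120 / 7)) (29120 / 13) = 64 by decide +kernel] at this

/-- **The kernel of a stem extension of `Sz(8)`.** -/
theorem bound (hF : Fintype.card F = 8) (hσ : Cfsg.IsStemExtension σ) :
    ∃ π : Multiplicative (ZMod 2 × ZMod 2) →* σ.ker, Function.Surjective π := by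
  have hF' := card_eight hF
  set h := thSq_of_card (m := 1) hF'
  obtain ⟨w, hw⟩ := exists_root hF
  choose sec hsec using hσ.1
  have cen : ∀ z : Γ, σ z = 1 → ∀ g : Γ, g * z = z * g := fun z hz g =>
    Subgroup.mem_center_iff.1 (hσ.2.1 hz) g
  have hlift : ∀ {x x' : Γ}, σ x = σ x' → ∃ z, σ z = 1 ∧ x = x' * z := fun {x x'} e =>
    ⟨x'⁻¹ * x, by rw [map_mul, map_inv, e, inv_mul_cancel], by group⟩
  have hwell : ∀ {x x' y y' : Γ}, σ x = σ x' → σ y = σ y' → ⁅x, y⁆ = ⁅x', y'⁆ := by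
    intro x x' y y' ex ey
    obtain ⟨z, hz, rfl⟩ := hlift ex
    obtain ⟨u, hu, rfl⟩ := hlift ey
    exact (CfsgLib.Schur.commutatorElement_congr
      (show x'⁻¹ * (x' * z) ∈ Subgroup.center Γ by rw [inv_mul_cancel_left]; exact hσ.2.1 hz)
      (show y'⁻¹ * (y' * u) ∈ Subgroup.center Γ by rw [inv_mul_cancel_left]; exact hσ.2.1 hu)).symm
  have hconjc : ∀ (T x y : Γ), σ ⁅x, y⁆ = 1 → ⁅T * x * T⁻¹, T * y * T⁻¹⁆ = ⁅x, y⁆ := by
    intro T x y e
    calc ⁅T * x * T⁻¹, T * y * T⁻¹⁆ = T * ⁅x, y⁆ * T⁻¹ := by simp only [commutatorElement_def]; group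
      _ = ⁅x, y⁆ := by rw [cen _ e T, mul_inv_cancel_right]
  have hmulL : ∀ (x x' y : Γ), σ ⁅x', y⁆ = 1 → ⁅x * x', y⁆ = ⁅x, y⁆ * ⁅x', y⁆ := by
    intro x x' y e
    calc ⁅x * x', y⁆ = x * ⁅x', y⁆ * x⁻¹ * ⁅x, y⁆ := by simp only [commutatorElement_def]; group
      _ = ⁅x', y⁆ * ⁅x, y⁆ := by rw [cen _ e x, mul_inv_cancel_right]
      _ = ⁅x, y⁆ * ⁅x', y⁆ := (cen _ e _).symm
  have hmulR : ∀ (x y y' : Γ), σ ⁅x, y'⁆ = 1 → ⁅x, y * y'⁆ = ⁅x, y⁆ * ⁅x, y'⁆ := by
    intro x y y' e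
    calc ⁅x, y * y'⁆ = ⁅x, y⁆ * (y * ⁅x, y'⁆ * y⁻¹) := by simp only [commutatorElement_def]; group
      _ = ⁅x, y⁆ * ⁅x, y'⁆ := by rw [cen _ e y, mul_inv_cancel_right]
  let Z : F → Γ := fun b => sec (tG h 0 b)
  let A : F → Γ := fun a => sec (tG h a 0)
  let T : Fˣ → Γ := fun s => sec (hG h s)
  have hσZ : ∀ b, σ (Z b) = tG h 0 b := fun b => hsec _
  have hσA : ∀ a, σ (A a) = tG h a 0 := fun a => hsec _
  have hσT : ∀ s, σ (T s) = hG h s := fun s => hsec _
  have hTZ : ∀ s b, σ (T s * Z b * (T s)⁻¹) = tG h 0 (th 1 (s : F) * (s : F) ^ 2 * b) := fun s b => by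
    rw [map_mul, map_mul, map_inv, hσT, hσZ, hG_conj_zero]
  have hTA : ∀ s a, σ (T s * A a * (T s)⁻¹) = tG h (th 1 (s : F) * a) 0 := fun s a => by
    rw [map_mul, map_mul, map_inv, hσT, hσA, hG_conj, mul_zero]
  have hZadd : ∀ b b', σ (Z b * Z b') = tG h 0 (b + b') := fun b b' => by
    rw [map_mul, hσZ, hσZ, tG_mul, map_zero, zero_mul, add_zero, add_zero, add_comm]
  have hZkerU : ∀ b u, u ∈ uSub h → ∀ x, σ x = u → σ ⁅Z b, x⁆ = 1 := fun b u hu x hx => by
    rw [map_commutatorElement, hσZ, hx, commutatorElement_eq_one_iff_mul_comm]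
    exact (zSub_comm_uSub ⟨b, rfl⟩ hu).symm
  have kA : ∀ b a, σ ⁅Z b, A a⁆ = 1 := fun b a => hZkerU b _ ⟨_, _, rfl⟩ _ (hσA a)
  obtain ⟨t, ht0, ht1, ht3⟩ := exists_no_cube_root hF' le_rfl
  have hZZ : ∀ b b', ⁅Z b, Z b'⁆ = 1 := by
    refine pairing_self_eq_one (fun b b' => ⁅Z b, Z b'⁆) ?_ ?_ ?_ ht0 ht1 ht3
    · intro a a' b
      rw [← hmulL _ _ _ (hZkerU a' _ ⟨_, _, rfl⟩ _ (hσZ b))]
      exact hwell (by rw [hσZ, hZadd]) rfl
    · intro a b b'
      rw [← hmulR _ _ _ (hZkerU a _ ⟨_, _, rfl⟩ _ (hσZ b'))]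
      exact hwell rfl (by rw [hσZ, hZadd])
    · intro μ a b hμ
      obtain ⟨s, hs⟩ := exists_th_sq h hμ
      rw [← hconjc (T s) (Z a) (Z b) (hZkerU a _ ⟨_, _, rfl⟩ _ (hσZ b))]
      exact hwell (by rw [hσZ, hTZ, hs]) (by rw [hσZ, hTZ, hs])
  let β : F → F → Γ := fun b a => ⁅Z b, A a⁆
  have hl : ∀ b b' a, β (b + b') a = β b a * β b' a := fun b b' a => by
    show _ = ⁅Z b, A a⁆ * ⁅Z b', A a⁆
    rw [← hmulL _ _ _ (kA b' a)]
    exact hwell (by rw [hσZ, hZadd]) rfl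
  have hAsum : ∀ a a', σ (A a * A a' * Z (th 1 a * a')) = σ (A (a + a')) := fun a a' => by
    rw [map_mul, map_mul, hσA, hσA, hσA, hσZ, tG_mul, tG_mul, mul_zero, add_zero]
    congr 1
    · rw [zero_add, add_comm]
    · linear_combination (th 1 a * a') * (CharTwo.two_eq_zero (R := F))
  have hr : ∀ b a a', β b (a + a') = β b a * β b a' := fun b a a' => by
    show ⁅Z b, A (a + a')⁆ = ⁅Z b, A a⁆ * ⁅Z b, A a'⁆
    rw [← hwell (x := Z b) rfl (hAsum a a'), hmulR _ _ _ (hZkerU b _ ⟨_, _, rfl⟩ _ (hσZ _)), hZZ, mul_one,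
      hmulR _ _ _ (kA b a')]
  have hinv : ∀ μ b a, μ ≠ 0 → β (μ * th 1 μ * b) (μ * a) = β b a := by
    intro μ b a hμ
    obtain ⟨s₀, rfl⟩ := th_surjective h μ
    have hs₀ : s₀ ≠ 0 := fun e => hμ (by rw [e, map_zero])
    show ⁅_, _⁆ = ⁅Z b, A a⁆
    rw [← hconjc (T (Units.mk0 s₀ hs₀)) (Z b) (A a) (kA b a)]
    exact hwell (by rw [hσZ, hTZ, Units.val_mk0, h s₀]) (by rw [hσA, hTA, Units.val_mk0])
  -- everything is an image of `β 1`
  have hphi : ∀ b a, β b a = β 1 (a * b ^ 4) := by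
    intro b a
    rcases eq_or_ne b 0 with rfl | hb
    · have h0 := hl 0 0 a
      have h0' := hr 1 0 0
      rw [add_zero, left_eq_mul] at h0 h0'
      rw [h0, zero_pow (by norm_num), mul_zero, h0']
    · have h7 : b ^ 7 = 1 := by
        have := FiniteField.pow_card_sub_one_eq_one b hb
        rwa [hF] at this
      have hμ : b ^ 3 ≠ 0 := pow_ne_zero 3 hb
      have e1 : b ^ 3 * th 1 (b ^ 3) * 1 = b := by
        rw [th_one hw]; linear_combination (b * (b ^ 7 + 1)) * h7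
      have e2 : b ^ 3 * (a * b ^ 4) = a := by linear_combination a * h7
      conv_lhs => rw [← e1, ← e2]
      exact hinv _ 1 _ hμ
  -- one is killed
  have hconjA : ∀ g a, σ (A g * A a * (A g)⁻¹) = σ (A a * Z (th 1 g * a + th 1 a * g)) := fun g a => by
    have e : A g * A a * (A g)⁻¹ = A a * ((A a)⁻¹ * ⁅A g, A a⁆ * A a) := by
      simp only [commutatorElement_def]; group
    rw [e, map_mul, map_mul σ (A a) (Z _)]
    congr 1
    rw [map_mul, map_mul, map_inv, map_commutatorElement, hσA, hσA, hσZ, commutatorElement_def,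
      tG_commutator, mul_assoc, ← zSub_comm_uSub (h := h) ⟨_, rfl⟩ ⟨a, 0, rfl⟩, inv_mul_cancel_left]
  have hexp : ∀ x, β 1 x * β 1 x = 1 := fun x => by
    have h0 := hr 1 0 0
    rw [add_zero, left_eq_mul] at h0
    rw [← hr, CharTwo.add_self_eq_zero, h0]
  let f : F → F → F := fun a b => th 1 a * b + th 1 b * a
  have hjac : ∀ a a' g : F, β (f a a') g * (β (f g a') a * β (f g a) a') = 1 := by
    intro a a' g
    set c := ⁅A a, A a'⁆ with hc
    have hσc : σ c = σ (Z (f a a')) := by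
      rw [hc, map_commutatorElement, hσA, hσA, hσZ, commutatorElement_def, tG_commutator]
    have hcβ : β (f a a') g = ⁅c, A g⁆ := hwell hσc.symm rfl
    have hswap : ∀ x y, σ ⁅Z x, y⁆ = 1 → ⁅Z x, y⁆ * ⁅Z x, y⁆ = 1 → ⁅y, Z x⁆ = ⁅Z x, y⁆ := fun x y _ e => by
      rw [← commutatorElement_inv]; exact inv_eq_of_mul_eq_one_right e
    have hsq : ∀ x y, β x y * β x y = 1 := fun x y => by rw [hphi]; exact hexp _
    have e1 : A g * c * (A g)⁻¹ = ⁅A a * Z (f g a), A a' * Z (f g a')⁆ := by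
      rw [hc, ← hwell (hconjA g a) (hconjA g a')]
      simp only [commutatorElement_def]; group
    have kR : σ ⁅A a, Z (f g a')⁆ = 1 := by
      rw [← commutatorElement_inv, map_inv, kA, inv_one]
    have e2 : ⁅A a * Z (f g a), A a' * Z (f g a')⁆ = c * (β (f g a') a * β (f g a) a') := by
      rw [hmulL _ _ _ (hZkerU (f g a) _ (mul_mem (⟨_, _, rfl⟩ : tG h a' 0 ∈ uSub h) ⟨0, f g a', rfl⟩) _
          (by rw [map_mul, hσA, hσZ])),
        hmulR _ _ _ kR, hmulR _ _ _ (hZkerU (f g a) _ ⟨_, _, rfl⟩ _ (hσZ _)), hZZ, mul_one,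
        hswap _ _ (kA _ _) (hsq _ _), mul_assoc]
    have e3 : A g * c * (A g)⁻¹ = c * ⁅c, A g⁆ := by
      have k : σ ⁅c, A g⁆ = 1 := by rw [← hcβ]; exact kA _ _
      have : ⁅c, A g⁆ * ⁅c, A g⁆ = 1 := by rw [← hcβ]; exact hsq _ _
      rw [← inv_eq_of_mul_eq_one_right this, commutatorElement_inv, cen ⁅A g, c⁆ (by
        rw [← commutatorElement_inv, map_inv, k, inv_one]) c]
      simp only [commutatorElement_def]; group
    have e4 : ⁅c, A g⁆ = β (f g a') a * β (f g a) a' := mul_left_cancel (e3.symm.trans (e1.trans e2))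
    rw [← hcβ] at e4
    rw [← e4]
    exact hsq _ _
  have hone : β 1 1 = 1 := by
    have := hjac 1 w (w ^ 2)
    rw [hphi (f 1 w), hphi (f (w ^ 2) w), hphi (f (w ^ 2) 1), ← hr 1, ← hr 1] at this
    have h2 := CharTwo.two_eq_zero (R := F)
    have c4 : ∀ x y : F, (x + y) ^ 4 = x ^ 4 + y ^ 4 := fun x y => by
      rw [show (4 : ℕ) = 2 * 2 from rfl, pow_mul, pow_mul, pow_mul, CharTwo.add_sq, CharTwo.add_sq]
    have hw7 : w ^ 7 = 1 := by linear_combination (w ^ 4 - w ^ 2 - w + 1) * hw + (w ^ 2 - 1) * h2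
    have red : ∀ k r, w ^ (7 * k + r) = w ^ r := fun k r => by
      rw [pow_add, pow_mul, hw7, one_pow, one_mul]
    have hS : w ^ 2 * f 1 w ^ 4 + (1 * f (w ^ 2) w ^ 4 + w * f (w ^ 2) 1 ^ 4) =
        w ^ 6 + w ^ 18 + w ^ 36 + w ^ 24 + w ^ 33 + w ^ 9 := by
      simp only [f, th_one hw, c4, mul_pow, one_pow, ← pow_mul]
      ring
    rw [hS, show w ^ 18 = w ^ 4 from red 2 4, show w ^ 36 = w ^ 1 from red 5 1,
      show w ^ 24 = w ^ 3 from red 3 3, show w ^ 33 = w ^ 5 from red 4 5,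
      show w ^ 9 = w ^ 2 from red 1 2] at this
    rw [← this]
    congr 1
    linear_combination (-(w ^ 3 + w ^ 2 + 1)) * hw + (w ^ 3 + 1) * h2
  let D : Subgroup Γ := Subgroup.closure (Set.range fun x => β 1 x)
  have hDk : D ≤ σ.ker := (Subgroup.closure_le _).2 (by rintro _ ⟨x, rfl⟩; exact kA 1 x)
  have hDn : D.Normal := ⟨fun x hx g => by rwa [cen x (hDk hx) g, mul_inv_cancel_right]⟩
  have hβD : ∀ b a, β b a ∈ D := fun b a => by
    rw [hphi]; exact Subgroup.subset_closure ⟨_, rfl⟩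
  let τ := QuotientGroup.lift D σ hDk
  have hτ : Cfsg.IsStemExtension τ := by
    refine ⟨fun g => ?_, fun x hx => ?_, fun x hx => ?_⟩
    · obtain ⟨y, hy⟩ := hσ.1 g; exact ⟨(y : Γ ⧸ D), hy⟩
    · obtain ⟨y, rfl⟩ := QuotientGroup.mk'_surjective D x
      refine Subgroup.mem_center_iff.mpr fun g => ?_
      obtain ⟨y', rfl⟩ := QuotientGroup.mk'_surjective D g
      rw [← map_mul, ← map_mul, Subgroup.mem_center_iff.mp (hσ.2.1 hx) y']
    · obtain ⟨y, rfl⟩ := QuotientGroup.mk'_surjective D x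
      have := Subgroup.mem_map_of_mem (QuotientGroup.mk' D) (hσ.2.2 hx)
      rw [_root_.commutator_def, Subgroup.map_commutator] at this
      exact Subgroup.commutator_mono le_top le_top this
  have hcentral : ∀ x y : Γ ⧸ D, τ x ∈ zSub h → τ y ∈ uSub h → x * y = y * x := by
    intro x y hx hy
    obtain ⟨x, rfl⟩ := QuotientGroup.mk'_surjective D x
    obtain ⟨y, rfl⟩ := QuotientGroup.mk'_surjective D y
    obtain ⟨b, hb⟩ := (hx : σ x ∈ zSub h)
    obtain ⟨a, b', hy'⟩ := (hy : σ y ∈ uSub h)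
    rw [← commutatorElement_eq_one_iff_mul_comm, ← map_commutatorElement, QuotientGroup.mk'_apply,
      QuotientGroup.eq_one_iff,
      hwell (x' := Z b) (y' := A a * Z b') ((show σ x = _ from hb).trans (hσZ b).symm)
        ((show σ y = _ from hy').trans (by rw [map_mul, hσA, hσZ, tG_mul, mul_zero, add_zero, add_zero, zero_add])),
      hmulR _ _ _ (hZkerU b _ ⟨_, _, rfl⟩ _ (hσZ b')), hZZ, mul_one]
    exact hβD b a
  have hker : σ.ker ≤ D := by
    intro z hz
    have h64 := ker_pow_sixtyFour hF hσ hz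
    have hidx := CfsgLib.KnownA.stem_pow_index_eq_one hτ (uSub h)
      (stem_uSub_of_central le_rfl hF' hτ hcentral) (QuotientGroup.mk' D z) (show σ z = 1 from hz)
    have h64' : (QuotientGroup.mk' D z) ^ 64 = 1 := by rw [← map_pow, h64, map_one]
    have := pow_gcd_eq_one.2 ⟨h64', hidx⟩
    have hi : (uSub h).index = 455 := by
      have := (uSub h).card_mul_index
      rw [card_uSub, Nat.card_eq_fintype_card, hF, card_sz_eight hF] at this
      omega
    rw [hi, show Nat.gcd 64 455 = 1 by decide, pow_one, QuotientGroup.mk'_apply, QuotientGroup.eq_one_iff] at this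
    exact this
  -- the four-group
  let e : ZMod 2 × ZMod 2 → F := fun p => bitF (p.1 == 1) * w + bitF (p.2 == 1) * w ^ 2
  have headd : ∀ p q, e (p + q) = e p + e q := by
    have hb : ∀ x y : ZMod 2, ((x + y) == 1) = ((x == 1) ^^ (y == 1)) := by decide
    have hx : ∀ x y : Bool, (bitF (x ^^ y) : F) = bitF x + bitF y := fun x y => by
      cases x <;> cases y <;> simp [bitF, CharTwo.add_self_eq_zero]
    intro p q
    simp only [e, Prod.fst_add, Prod.snd_add, hb, hx]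
    ring
  let π : Multiplicative (ZMod 2 × ZMod 2) →* σ.ker :=
    MonoidHom.mk' (fun p => ⟨β 1 (e p.toAdd), kA _ _⟩) fun p q => Subtype.ext (by
      show β 1 (e (p.toAdd + q.toAdd)) = β 1 (e p.toAdd) * β 1 (e q.toAdd)
      rw [headd, hr])
  refine ⟨π, fun ⟨z, hz⟩ => ?_⟩
  have hgen : D ≤ (σ.ker.subtype.comp π).range := by
    refine (Subgroup.closure_le _).2 ?_
    rintro _ ⟨x, rfl⟩
    obtain ⟨n, hn, rfl⟩ := exists_rf hw hF x
    refine ⟨Multiplicative.ofAdd ((if n.testBit 1 then 1 else 0), (if n.testBit 2 then 1 else 0)), ?_⟩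
    show β 1 (e _) = β 1 (rf w n)
    have h1 : rf w n = bitF (n.testBit 0) + e ((if n.testBit 1 then 1 else 0), (if n.testBit 2 then 1 else 0)) := by
      cases h1 : n.testBit 1 <;> cases h2 : n.testBit 2 <;> simp [rf, e, h1, h2, bitF, add_assoc]
    rw [h1, toAdd_ofAdd]
    cases n.testBit 0
    · rw [show (bitF false : F) = 0 from rfl, zero_add]
    · rw [show (bitF true : F) = 1 from rfl, hr 1 1 (e _), hone, one_mul]
  obtain ⟨p, hp⟩ := hgen (hker hz)
  exact ⟨p, Subtype.ext hp⟩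

end CfsgLib.InvChar.SzEight
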