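import Mathlib.Tactic

/-! Words in the three generators of the cover of the Suzuki group on eight field elements. -/

set_option autoImplicit false

namespace CfsgLib.InvChar.SzEight

/-- Parameters of the second and third generator. -/
def gB : List ℕ := [7, 2, 1]
/-- Parameters of the third generator. -/
def gC : List ℕ := [7, 2, 4]
/-- Words for the unipotent elements with second coordinate zero. -/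
def wordsA : List (List ℕ) := [[], [0, 1, 0, 1, 2, 0, 2, 0, 1, 0, 2, 0, 1, 0, 1, 0, 2, 0, 1, 2, 0], [0, 1, 0, 1, 2, 0, 1, 0, 2, 0, 1, 2, 0, 1, 0, 1, 0, 2, 0], [2, 0, 1, 2, 0, 1, 0, 2, 0, 2, 0, 1, 0, 1, 0, 2, 0, 1, 2, 0], [1, 2, 0, 2, 0, 1, 0, 1, 0, 1, 2, 0, 1, 0, 1], [2, 0, 1, 0, 2, 0, 1, 2, 0, 1, 2, 0, 2, 0, 1, 0, 1, 0, 2, 0, 2, 0], [1, 0, 1, 2, 0, 1, 0, 2, 0, 2, 0, 1, 0, 2, 0, 1, 0, 1, 0], [0, 2, 0, 1, 2, 0, 1, 0, 1, 0, 1, 0, 1, 2, 0, 1, 0, 2, 0]]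
/-- Words for the central unipotent elements. -/
def wordsZ : List (List ℕ) := [[], [0, 1, 2, 0, 1, 0, 1, 0, 1, 0, 2, 0, 2, 0, 1, 0, 1, 2, 0, 1, 0, 1], [1, 2, 0, 1, 0, 1, 0, 1, 0, 2, 0, 2, 0, 1, 0, 1, 0, 1, 0, 1, 2], [0, 1, 0, 1, 0, 2, 0, 2, 0, 1, 0, 1, 2, 0, 1, 0, 1, 0, 1, 2, 0, 1], [0, 2, 0, 1, 0, 1, 0, 2, 0, 1, 0, 1, 0, 2, 0, 1, 0, 1, 0, 2, 0], [0, 2, 0, 1, 2, 0, 2, 0, 1, 0, 2, 0, 1, 0, 2, 0, 1, 2, 0, 2, 0], [0, 1, 0, 1, 0, 1, 0, 2, 0, 1, 0, 2, 0, 1, 0, 2, 0, 1, 2], [1, 2, 0, 1, 0, 2, 0, 1, 2, 0, 1, 2, 0, 2, 0, 1, 0, 1, 2]]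
/-- Word for the torus generator. -/
def wordH : List ℕ := [1, 2, 0, 1, 0, 2, 0, 1, 2, 0, 1, 2, 0, 1, 0, 2, 0, 1, 0, 1, 0, 1]
/-- First central word. -/
def z1 : List ℕ := [2, 0, 1, 2, 0, 1, 0, 1, 2, 0, 1, 2, 0, 1, 0, 1, 0, 2, 0, 1, 0, 2, 1, 0, 1, 0, 2, 1, 0, 2, 1, 0, 2, 0]
/-- Second central word. -/
def z2 : List ℕ := [0, 1, 0, 1, 0, 1, 0, 1, 0, 1, 2, 0, 1, 2, 0, 1, 0, 1, 0, 1, 0, 1, 0, 2, 1, 0, 1, 0, 2, 1, 0, 1, 0, 2, 1]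

end CfsgLib.InvChar.SzEight
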