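import Cfsg.Agent.Lib.InvChar.SzEightBound
import Cfsg.Agent.Lib.InvChar.SzEightData
import Cfsg.Agent.Lib.InvChar.CosetWordGroup
import Cfsg.Agent.Lib.InvChar.SporData.SzA.Main
import Cfsg.Agent.Lib.InvChar.SporData.SzA.Points
import Cfsg.Agent.Lib.InvChar.SporData.SzB.Main

/-!
# The cover `2².Sz(8)` and the multiplier of `Sz(8)`

The cover is presented on three involutions; coset enumerations bound its order by 116480, the action on
4480 cosets separates four central elements, and matrices give the projection.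
-/

set_option autoImplicit false
set_option maxRecDepth 100000
set_option linter.unusedSectionVars false

namespace CfsgLib.InvChar.SzEight

open Matrix Cfsg CfsgLib.Suzuki CfsgLib.InvChar.Coset
open scoped commutatorElement

/-- The presentation of the cover. -/
def pres : WordPres where
  g := 3
  rels := SzA.rels
  pos := by decide
  lt := by decide +kernel
  sq := by decide +kernel

theorem card_le : Finite pres.Grp ∧ Nat.card pres.Grp ≤ 116480 := by
  have h0 := card_lettersClosure_nil pres.gen
  have h1 := SzB.covered.chain_step pres.gen pres.gen_mul_self SzB.emb [] rfl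
    (pres.rels_subGen _ _ (by decide +kernel)) (by decide) (by decide +kernel) h0.1 h0.2
  have h2 := SzA.covered.chain_step pres.gen pres.gen_mul_self SzA.emb SzB.emb rfl
    (pres.rels_subGen _ _ (by decide +kernel)) (by decide) (by decide +kernel) h1.1 h1.2
  exact pres.card_le_of_lettersClosure (emb := SzA.emb) rfl ⟨h2.1, h2.2.trans (le_of_eq rfl)⟩

instance finite_pres : Finite pres.Grp := card_le.1

theorem sq_rels : ∀ x < SzA.table.g, [x, x] ∈ SzA.rels := by
  intro x hx
  have hx : x < 3 := hx
  revert x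
  decide +kernel

/-- The value of a word. -/
noncomputable abbrev val (L : List ℕ) : pres.Grp := wprod pres.gen L

theorem val_append (L M : List ℕ) : val (L ++ M) = val L * val M := by
  simp [val, wprod]

theorem z_ne : val z1 ≠ 1 ∧ val z2 ≠ 1 ∧ val (z1 ++ z2) ≠ 1 := by
  obtain ⟨φ, hφ⟩ := pres.exists_hom (K := Equiv.Perm (Fin SzA.table.n)) (SzA.valid.toPerm sq_rels)
    fun r hr => SzA.valid.wprod_eq_one sq_rels hr (pres.lt r hr)
  have key : ∀ L : List ℕ, (∀ x ∈ L, x < 3) → SzA.table.follow L 0 ≠ 0 → val L ≠ 1 := by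
    intro L hL hne h
    apply hne
    have hp : wprod (SzA.valid.toPerm sq_rels) L = 1 := by
      rw [← map_wprod φ pres.gen (SzA.valid.toPerm sq_rels) L fun x hx => hφ x (hL x hx), show wprod pres.gen L = 1 from h, map_one]
    have := SzA.valid.follow_eq sq_rels L hL ⟨0, by decide +kernel⟩
    rw [hp, inv_one, Equiv.Perm.one_apply] at this
    exact this
  exact ⟨key _ (by decide +kernel) (by decide +kernel), key _ (by decide +kernel) (by decide +kernel),
    key _ (by decide +kernel) (by decide +kernel)⟩

theorem z_comm : ∀ z : List ℕ, z = z1 ∨ z = z2 → val z ∈ Subgroup.center pres.Grp ∧ val z * val z = 1 := by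
  intro z hz
  have hz2 : val z * val z = 1 := by
    rw [← val_append]
    refine pres.gen_rel _ ?_
    rcases hz with rfl | rfl <;> decide +kernel
  refine ⟨?_, hz2⟩
  have hgen : ∀ x < 3, pres.gen x * val z = val z * pres.gen x := by
    intro x hx
    have hr : z ++ [x] ++ z.reverse ++ [x] ∈ pres.rels := by
      rcases hz with rfl | rfl <;> revert x <;> decide +kernel
    have := pres.gen_rel _ hr
    rw [show wprod pres.gen (z ++ [x] ++ z.reverse ++ [x]) = val z * pres.gen x * val z.reverse * pres.gen x by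
      simp [val, wprod, mul_assoc]] at this
    have hrev : ∀ L : List ℕ, val L * val L.reverse = 1 := by
      intro L
      induction L with
      | nil => simp [val, wprod]
      | cons a L ih =>
        rw [show val (a :: L).reverse = val L.reverse * pres.gen a by simp [val, wprod],
          show val (a :: L) = pres.gen a * val L by simp [val, wprod], mul_assoc, ← mul_assoc (val L), ih, one_mul,
          pres.gen_mul_self]
    have hr' : val z.reverse = val z := mul_left_cancel ((hrev z).trans hz2.symm)
    rw [hr'] at this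
    calc pres.gen x * val z = (val z * pres.gen x * val z * pres.gen x) * (pres.gen x * val z) := by rw [this, one_mul]
      _ = val z * pres.gen x * val z * (pres.gen x * pres.gen x) * val z := by group
      _ = val z * pres.gen x * (val z * val z) := by rw [pres.gen_mul_self, mul_one]; group
      _ = _ := by rw [hz2, mul_one]
  rw [Subgroup.mem_center_iff]
  intro g
  have hg : g ∈ Subgroup.closure (pres.gen '' Set.Iio pres.g) := pres.closure_gen ▸ Subgroup.mem_top g
  induction hg using Subgroup.closure_induction with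
  | mem y hy => obtain ⟨x, hx, rfl⟩ := hy; exact hgen x hx
  | one => rw [one_mul, mul_one]
  | mul a b _ _ ha hb => rw [mul_assoc, hb, ← mul_assoc, ha, mul_assoc]
  | inv a _ ha => exact inv_mul_eq_iff_eq_mul.2 (by rw [← mul_assoc, ha, mul_inv_cancel_right])

/-- The cover has trivial abelianisation. -/
theorem perfect : commutator pres.Grp = ⊤ := by
  let f : pres.Grp →* Abelianization pres.Grp := Abelianization.of
  have hsq : ∀ x, f (pres.gen x) * f (pres.gen x) = 1 := fun x => by
    rw [← map_mul, pres.gen_mul_self, map_one]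
  have key : ∀ L : List ℕ, (∀ x ∈ L, x < 3) →
      f (val L) = f (pres.gen 0) ^ L.count 0 * f (pres.gen 1) ^ L.count 1 * f (pres.gen 2) ^ L.count 2 := by
    intro L
    induction L with
    | nil => intro _; simp [val, wprod]
    | cons a L ih =>
      intro h
      have ha := h a List.mem_cons_self
      rw [show val (a :: L) = pres.gen a * val L by simp [val, wprod], map_mul,
        ih fun x hx => h x (List.mem_cons_of_mem _ hx)]
      interval_cases a <;> simp [List.count_cons, pow_succ, mul_comm, mul_left_comm, mul_assoc]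
  have hpar : ∀ (x : ℕ) (n : ℕ), f (pres.gen x) ^ n = f (pres.gen x) ^ (n % 2) := fun x n => by
    conv_lhs => rw [← Nat.div_add_mod n 2, pow_add, pow_mul, sq, hsq, one_pow, one_mul]
  have hrel : ∀ a b c : ℕ, (∃ r ∈ pres.rels, r.count 0 % 2 = a ∧ r.count 1 % 2 = b ∧ r.count 2 % 2 = c) →
      f (pres.gen 0) ^ a * f (pres.gen 1) ^ b * f (pres.gen 2) ^ c = 1 := by
    rintro a b c ⟨r, hr, rfl, rfl, rfl⟩
    rw [← hpar, ← hpar, ← hpar, ← key r (pres.lt r hr), show val r = 1 from pres.gen_rel r hr, map_one]
  have h0 : f (pres.gen 0) = 1 := by simpa using hrel 1 0 0 (by decide +kernel)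
  have h1 : f (pres.gen 1) = 1 := by simpa [h0] using hrel 1 1 0 (by decide +kernel)
  have h2 : f (pres.gen 2) = 1 := by simpa [h0] using hrel 1 0 1 (by decide +kernel)
  rw [eq_top_iff, ← pres.closure_gen, Subgroup.closure_le]
  rintro _ ⟨x, hx, rfl⟩
  have hx' : x < 3 := hx
  rw [SetLike.mem_coe, ← Abelianization.ker_of, MonoidHom.mem_ker]
  interval_cases x <;> assumption

/-- The matrix codes of the generators. -/
def gcode : ℕ → List ℕ
  | 0 => wM
  | x => let p := if x == 1 then gB else gC
    let a := p.getD 0 0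
    let b := p.getD 1 0
    mulM (mulM (mulM (mulM (tM a b) wM) (tM 0 (p.getD 2 0))) wM) (tM a (b ^^^ mulC (thC a) a))

/-- The matrix code of a word. -/
def evalL : List ℕ → List ℕ
  | [] => idM
  | x :: L => mulM (gcode x) (evalL L)

theorem rels_eval : ∀ r ∈ SzA.rels, evalL r = idM := by decide +kernel

theorem words_eval : (∀ a < 8, evalL (wordsA.getD a []) = tM a 0) ∧ (∀ b < 8, evalL (wordsZ.getD b []) = tM 0 b) ∧
    evalL wordH = hM ∧ evalL [0] = wM := by decide +kernel

theorem words_lt : (∀ a < 8, ∀ x ∈ wordsA.getD a [], x < 3) ∧ (∀ b < 8, ∀ x ∈ wordsZ.getD b [], x < 3) ∧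
    ∀ x ∈ wordH, x < 3 := by decide +kernel

theorem central_eval : evalL z1 = idM ∧ evalL z2 = idM := by decide +kernel

variable {F : Type*} [Field F] [CharP F 2] [Fintype F]

/-- The generators in the Suzuki group. -/
noncomputable def gSz (h : ThSq F 1) (w : F) : ℕ → Cfsg.Sz F 1
  | 0 => wG h
  | x => let p := if x == 1 then gB else gC
    let a := p.getD 0 0
    let b := p.getD 1 0
    tG h (rf w a) (rf w b) * wG h * tG h (rf w 0) (rf w (p.getD 2 0)) * wG h *
      tG h (rf w a) (rf w (b ^^^ mulC (thC a) a))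

variable {w : F} (hw : w ^ 3 + w + 1 = 0)
include hw

theorem coe_gSz (h : ThSq F 1) : ∀ x, ((gSz h w x : Cfsg.Sz F 1) : Matrix.SpecialLinearGroup (Fin 4) F).1 = toM w (gcode x)
  | 0 => (toM_wM hw).symm
  | x + 1 => by
    simp only [gcode, gSz, toM_mulM hw, toM_tM hw, toM_wM hw]
    rfl

theorem coe_wprod (h : ThSq F 1) (L : List ℕ) :
    ((wprod (gSz h w) L : Cfsg.Sz F 1) : Matrix.SpecialLinearGroup (Fin 4) F).1 = toM w (evalL L) := by
  induction L with
  | nil => rw [evalL, toM_idM hw]; rfl
  | cons x L ih =>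
    rw [evalL, toM_mulM hw, ← coe_gSz hw h, ← ih]
    simp [wprod]

theorem exists_cover (hF : Fintype.card F = 8) :
    ∃ τ : pres.Grp →* Cfsg.Sz F 1, Cfsg.IsStemExtension τ ∧ Nat.card τ.ker = 4 := by
  have hF' := card_eight hF
  set h := thSq_of_card (m := 1) hF'
  obtain ⟨τ, hτ⟩ := pres.exists_hom (gSz h w) fun r hr => Subtype.ext (Subtype.ext (by
    rw [coe_wprod hw, rels_eval r hr, toM_idM hw]; rfl))
  have hval : ∀ L : List ℕ, (∀ x ∈ L, x < 3) → ((τ (val L) : Cfsg.Sz F 1) : Matrix.SpecialLinearGroup (Fin 4) F).1 =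
      toM w (evalL L) := fun L hL => by
    rw [map_wprod τ pres.gen (gSz h w) L fun x hx => hτ x (hL x hx), coe_wprod hw]
  obtain ⟨hA, hZ, hH, hW⟩ := words_eval
  obtain ⟨lA, lZ, lH⟩ := words_lt
  have tA : ∀ a, ∃ g, τ g = tG h a 0 := fun x => by
    obtain ⟨n, hn, rfl⟩ := exists_rf hw hF x
    refine ⟨val (wordsA.getD n []), Subtype.ext (Subtype.ext ?_)⟩
    rw [hval _ (lA n hn), hA n hn, toM_tM hw, rf_zero]
    rfl
  have tZ : ∀ b, ∃ g, τ g = tG h 0 b := fun x => by
    obtain ⟨n, hn, rfl⟩ := exists_rf hw hF x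
    refine ⟨val (wordsZ.getD n []), Subtype.ext (Subtype.ext ?_)⟩
    rw [hval _ (lZ n hn), hZ n hn, toM_tM hw, rf_zero]
    rfl
  have hw0 : w ≠ 0 := fun e => by simp [e] at hw
  have hsurj : Function.Surjective τ := by
    intro g
    refine induction_on_sz (S := τ.range) le_rfl hF' (fun a b => ?_) (fun s => ?_) ?_ g
    · obtain ⟨g1, h1⟩ := tZ b
      obtain ⟨g2, h2⟩ := tA a
      refine ⟨g1 * g2, ?_⟩
      rw [map_mul, h1, h2, tG_mul, map_zero, zero_mul, add_zero, add_zero, zero_add]
    · have htop : Subgroup.zpowers (Units.mk0 w hw0) = ⊤ := by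
        refine Subgroup.eq_top_of_le_card _ ?_
        have : Fact (Nat.Prime 7) := ⟨by norm_num⟩
        have h7 : orderOf (Units.mk0 w hw0) = 7 := by
          refine orderOf_eq_prime (Units.ext ?_) fun e => ?_
          · have := FiniteField.pow_card_sub_one_eq_one w hw0
            rw [hF] at this
            simpa using this
          · have e' : w = 1 := by simpa using congrArg Units.val e
            subst e'
            rw [one_pow, CharTwo.add_self_eq_zero, zero_add] at hw
            exact one_ne_zero hw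
        rw [Nat.card_zpowers, h7, Nat.card_units, Nat.card_eq_fintype_card, hF]
      obtain ⟨k, rfl⟩ := Subgroup.mem_zpowers_iff.1 (htop ▸ Subgroup.mem_top s)
      rw [map_zpow]
      suffices hm : hG h (Units.mk0 w hw0) ∈ τ.range from zpow_mem hm k
      refine ⟨val wordH, Subtype.ext (Subtype.ext ?_)⟩
      rw [hval _ lH, hH, toM_hM hw]
      rfl
    · refine ⟨val [0], Subtype.ext (Subtype.ext ?_)⟩
      rw [hval _ (by simp), hW, toM_wM hw]
      rfl
  have hk : ∀ z, z = z1 ∨ z = z2 → val z ∈ τ.ker := by
    intro z hz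
    refine MonoidHom.mem_ker.2 (Subtype.ext (Subtype.ext ?_))
    rw [hval z (by rcases hz with rfl | rfl <;> decide +kernel)]
    rcases hz with rfl | rfl <;> simp only [central_eval.1, central_eval.2, toM_idM hw] <;> rfl
  obtain ⟨n1, n2, n12⟩ := z_ne
  rw [val_append] at n12
  obtain ⟨c1, s1⟩ := z_comm z1 (Or.inl rfl)
  obtain ⟨c2, s2⟩ := z_comm z2 (Or.inr rfl)
  let f : Fin 4 → τ.ker := ![1, ⟨_, hk z1 (Or.inl rfl)⟩, ⟨_, hk z2 (Or.inr rfl)⟩,
    ⟨_, mul_mem (hk z1 (Or.inl rfl)) (hk z2 (Or.inr rfl))⟩]
  have hne : val z1 ≠ val z2 := fun e => n12 (by rw [e]; exact s2)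
  have hf : Function.Injective f := by
    intro i j e
    have e' := congrArg Subtype.val e
    fin_cases i <;> fin_cases j <;> simp [f] at e' ⊢ <;>
      first | exact absurd e' n1 | exact absurd e'.symm n1 | exact absurd e' n2 | exact absurd e'.symm n2 |
        exact absurd e' n12 | exact absurd e'.symm n12 | exact absurd e' hne | exact absurd e'.symm hne |
        exact absurd e' n1.symm | exact absurd e' n2.symm
  have h4 : 4 ≤ Nat.card τ.ker := by
    have := Nat.card_le_card_of_injective f hf
    rwa [Nat.card_fin] at this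
  have hcard : Nat.card τ.ker = 4 := by
    have h1 := τ.ker.card_mul_index
    rw [Subgroup.index_ker, MonoidHom.range_eq_top.2 hsurj, Subgroup.card_top, card_sz_eight hF] at h1
    have := card_le.2
    omega
  refine ⟨τ, ⟨hsurj, fun x hx => ?_, by rw [perfect]; exact le_top⟩, hcard⟩
  obtain ⟨i, hi⟩ := ((Nat.bijective_iff_injective_and_card f).2 ⟨hf, by rw [Nat.card_fin, hcard]⟩).2 ⟨x, hx⟩
  rw [show x = (f i : pres.Grp) from (congrArg Subtype.val hi).symm]
  fin_cases i
  · exact one_mem _
  · exact c1
  · exact c2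
  · exact mul_mem c1 c2

end CfsgLib.InvChar.SzEight
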