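import Cfsg.Agent.Lib.Suzuki.Schur

/-!
# Stem extensions of Suzuki groups: the Sylow 2-subgroup when the preimage of its centre is central

The argument of `CfsgLib.Suzuki.stem_uSub`, with the centrality as a hypothesis (it fails for eight elements).
-/

set_option autoImplicit false
set_option linter.unusedSectionVars false

namespace CfsgLib.InvChar.SzEight

open Matrix Cfsg CfsgLib.Suzuki
open scoped commutatorElement

variable {F : Type*} [Field F] [CharP F 2] [Fintype F] {m : ℕ}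
variable {Γ : Type*} [Group Γ] [Finite Γ] {σ : Γ →* Cfsg.Sz F m}

/-- The kernel meets the derived subgroup of the preimage of `U` trivially. -/
theorem stem_uSub_of_central (hm1 : 1 ≤ m) (hF : Fintype.card F = 2 ^ (2 * m + 1))
    (hσ : Cfsg.IsStemExtension σ)
    (hcentral : ∀ x y : Γ, σ x ∈ zSub (thSq_of_card hF) → σ y ∈ uSub (thSq_of_card hF) → x * y = y * x) :
    ∀ x ∈ σ.ker, x ∈ ⁅(uSub (thSq_of_card hF)).comap σ, (uSub (thSq_of_card hF)).comap σ⁆ → x = 1 := by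
  set h := thSq_of_card hF
  choose sec hsec using hσ.1
  have cen : ∀ z : Γ, σ z = 1 → ∀ g : Γ, g * z = z * g := fun z hz g =>
    Subgroup.mem_center_iff.1 (hσ.2.1 hz) g
  have hlift : ∀ {x x' : Γ}, σ x = σ x' → ∃ z, σ z = 1 ∧ x = x' * z := fun {x x'} e =>
    ⟨x'⁻¹ * x, by rw [map_mul, map_inv, e, inv_mul_cancel], by group⟩
  -- commutators only depend on images
  have hwell : ∀ {x x' y y' : Γ}, σ x = σ x' → σ y = σ y' → ⁅x, y⁆ = ⁅x', y'⁆ := by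
    intro x x' y y' ex ey
    obtain ⟨z, hz, rfl⟩ := hlift ex
    obtain ⟨w, hw, rfl⟩ := hlift ey
    simp only [commutatorElement_def, _root_.mul_inv_rev]
    calc x' * z * (y' * w) * (z⁻¹ * x'⁻¹) * (w⁻¹ * y'⁻¹)
        = x' * (z * (y' * w)) * z⁻¹ * x'⁻¹ * w⁻¹ * y'⁻¹ := by group
      _ = x' * y' * (w * x'⁻¹) * w⁻¹ * y'⁻¹ := by rw [← cen z hz (y' * w)]; group
      _ = x' * y' * x'⁻¹ * y'⁻¹ := by rw [← cen w hw x'⁻¹]; group
  have hconjc : ∀ (T x y : Γ), σ ⁅x, y⁆ = 1 → ⁅T * x * T⁻¹, T * y * T⁻¹⁆ = ⁅x, y⁆ := by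
    intro T x y e
    calc ⁅T * x * T⁻¹, T * y * T⁻¹⁆ = T * ⁅x, y⁆ * T⁻¹ := by simp only [commutatorElement_def]; group
      _ = ⁅x, y⁆ := by rw [cen _ e T, mul_inv_cancel_right]
  have hmulL : ∀ (x x' y : Γ), σ ⁅x', y⁆ = 1 → ⁅x * x', y⁆ = ⁅x, y⁆ * ⁅x', y⁆ := by
    intro x x' y e
    calc ⁅x * x', y⁆ = x * ⁅x', y⁆ * x⁻¹ * ⁅x, y⁆ := by simp only [commutatorElement_def]; group
      _ = ⁅x', y⁆ * ⁅x, y⁆ := by rw [cen _ e x, mul_inv_cancel_right]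
      _ = ⁅x, y⁆ * ⁅x', y⁆ := (cen _ e _).symm
  have hmulR : ∀ (x y y' : Γ), σ ⁅x, y'⁆ = 1 → ⁅x, y * y'⁆ = ⁅x, y⁆ * ⁅x, y'⁆ := by
    intro x y y' e
    calc ⁅x, y * y'⁆ = ⁅x, y⁆ * (y * ⁅x, y'⁆ * y⁻¹) := by simp only [commutatorElement_def]; group
      _ = ⁅x, y⁆ * ⁅x, y'⁆ := by rw [cen _ e y, mul_inv_cancel_right]
  let Z : F → Γ := fun b => sec (tG h 0 b)
  let A : F → Γ := fun a => sec (tG h a 0)
  let T : Fˣ → Γ := fun s => sec (hG h s)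
  have hσZ : ∀ b, σ (Z b) = tG h 0 b := fun b => hsec _
  have hσA : ∀ a, σ (A a) = tG h a 0 := fun a => hsec _
  have hσT : ∀ s, σ (T s) = hG h s := fun s => hsec _
  have hTZ : ∀ s b, σ (T s * Z b * (T s)⁻¹) = tG h 0 (th m (s : F) * (s : F) ^ 2 * b) := fun s b => by
    rw [map_mul, map_mul, map_inv, hσT, hσZ, hG_conj_zero]
  have hTA : ∀ s a, σ (T s * A a * (T s)⁻¹) = tG h (th m (s : F) * a) 0 := fun s a => by
    rw [map_mul, map_mul, map_inv, hσT, hσA, hG_conj, mul_zero]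
  have hZadd : ∀ b b', σ (Z b * Z b') = tG h 0 (b + b') := fun b b' => by
    rw [map_mul, hσZ, hσZ, tG_mul, map_zero, zero_mul, add_zero, add_zero, add_comm]
  -- the preimage of the centre is abelian
  have hZkerU : ∀ b u, u ∈ uSub h → ∀ x, σ x = u → σ ⁅Z b, x⁆ = 1 := fun b u hu x hx => by
    rw [map_commutatorElement, hσZ, hx, commutatorElement_eq_one_iff_mul_comm]
    exact (zSub_comm_uSub ⟨b, rfl⟩ hu).symm
  obtain ⟨t, ht0, ht1, ht3⟩ := exists_no_cube_root hF hm1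
  have hZZ : ∀ b b', ⁅Z b, Z b'⁆ = 1 := by
    refine pairing_self_eq_one (fun b b' => ⁅Z b, Z b'⁆) ?_ ?_ ?_ ht0 ht1 ht3
    · intro a a' b
      rw [← hmulL _ _ _ (hZkerU a' _ ⟨_, _, rfl⟩ _ (hσZ b))]
      exact hwell (by rw [hσZ, hZadd]) rfl
    · intro a b b'
      rw [← hmulR _ _ _ (hZkerU a _ ⟨_, _, rfl⟩ _ (hσZ b'))]
      exact hwell rfl (by rw [hσZ, hZadd])
    · intro μ a b hμ
      obtain ⟨s, hs⟩ := exists_th_sq h hμ
      rw [← hconjc (T s) (Z a) (Z b) (hZkerU a _ ⟨_, _, rfl⟩ _ (hσZ b))]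
      exact hwell (by rw [hσZ, hTZ, hs]) (by rw [hσZ, hTZ, hs])
  -- and central in the preimage of `U`
  have hZA : ∀ b a, ⁅Z b, A a⁆ = 1 := fun b a => commutatorElement_eq_one_iff_mul_comm.2
    (hcentral _ _ (by rw [hσZ]; exact ⟨_, rfl⟩) (by rw [hσA]; exact ⟨_, _, rfl⟩))
  set P := (uSub h).comap σ
  set P₀ := (zSub h).comap σ
  have hdecomp : ∀ x ∈ P, ∃ a b, σ x = σ (A a * Z b) := fun x hx => by
    obtain ⟨a, b, e⟩ := (Subgroup.mem_comap.1 hx : σ x ∈ uSub h)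
    exact ⟨a, b, by rw [map_mul, hσA, hσZ, e, tG_mul, mul_zero, add_zero, add_zero, zero_add]⟩
  have hP₀P : ∀ v ∈ P₀, ∀ x ∈ P, v * x = x * v := by
    intro v hv x hx
    obtain ⟨b, hb⟩ := (Subgroup.mem_comap.1 hv : σ v ∈ zSub h)
    obtain ⟨a, b', e⟩ := hdecomp x hx
    rw [← commutatorElement_eq_one_iff_mul_comm, hwell (x' := Z b) (by rw [hb, hσZ]) e,
      hmulR _ _ _ (hZkerU b _ ⟨_, _, rfl⟩ _ (hσZ b')), hZA, hZZ, one_mul]
  -- the complement in the preimage of the centre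
  obtain ⟨s₀, hs₀⟩ := exists_unit_ne_one hm1 hF
  have hT₀ : ∀ v ∈ P₀, T s₀ * v * (T s₀)⁻¹ * v⁻¹ ∈ P₀ := by
    intro v hv
    obtain ⟨b, hb⟩ := (Subgroup.mem_comap.1 hv : σ v ∈ zSub h)
    refine Subgroup.mem_comap.2 ?_
    rw [map_mul, map_mul, map_mul, map_inv, map_inv, hσT, hb, hG_conj_zero]
    exact mul_mem ⟨_, rfl⟩ (inv_mem ⟨_, rfl⟩)
  let ψ : P₀ →* Γ :=
    { toFun := fun v => T s₀ * v.1 * (T s₀)⁻¹ * v.1⁻¹
      map_one' := by simp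
      map_mul' := fun v w => by
        have hPP : ∀ {u}, u ∈ P₀ → u ∈ P := fun {u} hu => zSub_le h hu
        calc T s₀ * (v.1 * w.1) * (T s₀)⁻¹ * (v.1 * w.1)⁻¹
            = T s₀ * v.1 * (T s₀)⁻¹ * ((T s₀ * w.1 * (T s₀)⁻¹ * w.1⁻¹) * v.1⁻¹) := by group
          _ = T s₀ * v.1 * (T s₀)⁻¹ * (v.1⁻¹ * (T s₀ * w.1 * (T s₀)⁻¹ * w.1⁻¹)) := by
              rw [hP₀P _ (hT₀ _ w.2) _ (hPP (inv_mem v.2))]
          _ = T s₀ * v.1 * (T s₀)⁻¹ * v.1⁻¹ * (T s₀ * w.1 * (T s₀)⁻¹ * w.1⁻¹) := by group }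
  set W := ψ.range
  have hψ : ∀ v : P₀, ψ v = T s₀ * v.1 * (T s₀)⁻¹ * v.1⁻¹ := fun v => rfl
  have hWP₀ : W ≤ P₀ := by rintro _ ⟨v, rfl⟩; exact hT₀ _ v.2
  have hWker : ∀ x ∈ W, σ x = 1 → x = 1 := by
    rintro _ ⟨v, rfl⟩ hx
    obtain ⟨b, hb⟩ := (Subgroup.mem_comap.1 v.2 : σ v.1 ∈ zSub h)
    have e : tG h 0 (th m (s₀ : F) * (s₀ : F) ^ 2 * b) = tG h 0 b := by
      rw [← hG_conj_zero, ← mul_inv_eq_one, ← hb, ← hσT, ← map_inv, ← map_inv, ← map_mul,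
        ← map_mul, ← map_mul]
      exact hx
    have hb0 : b = 0 := by
      by_contra hb0
      exact th_sq_ne_one h hs₀ (mul_right_cancel₀ hb0 (by rw [one_mul]; exact (tG_inj h e).2))
    have hv : σ v.1 = 1 := by rw [hb, hb0, tG_zero]
    rw [hψ, cen _ hv (T s₀), mul_inv_cancel_right, mul_inv_cancel]
  have hWnorm : ∀ s x, x ∈ W → T s * x * (T s)⁻¹ ∈ W := by
    rintro s _ ⟨v, rfl⟩
    obtain ⟨b, hb⟩ := (Subgroup.mem_comap.1 v.2 : σ v.1 ∈ zSub h)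
    obtain ⟨z, hz, e⟩ := hlift (show σ (T s * T s₀) = σ (T s₀ * T s) by
      rw [map_mul, map_mul, hσT, hσT, ← map_mul, ← map_mul, mul_comm])
    refine ⟨⟨T s * v.1 * (T s)⁻¹, Subgroup.mem_comap.2 ?_⟩, ?_⟩
    · rw [map_mul, map_mul, map_inv, hσT, hb, hG_conj_zero]; exact ⟨_, rfl⟩
    · rw [hψ, hψ]
      symm
      calc T s * (T s₀ * v.1 * (T s₀)⁻¹ * v.1⁻¹) * (T s)⁻¹
          = (T s * T s₀) * v.1 * (T s * T s₀)⁻¹ * (T s * v.1 * (T s)⁻¹)⁻¹ := by group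
        _ = T s₀ * T s * (z * v.1) * z⁻¹ * (T s₀ * T s)⁻¹ * (T s * v.1 * (T s)⁻¹)⁻¹ := by
            rw [e]; group
        _ = _ := by rw [← cen z hz v.1]; group
  have hWcover : ∀ v ∈ P₀, ∃ w ∈ W, σ w = σ v := by
    intro v hv
    obtain ⟨b, hb⟩ := (Subgroup.mem_comap.1 hv : σ v ∈ zSub h)
    have hne : th m (s₀ : F) * (s₀ : F) ^ 2 + 1 ≠ 0 := fun e => th_sq_ne_one h hs₀
      (by linear_combination e - CharTwo.two_eq_zero (R := F))
    refine ⟨_, ⟨⟨Z (b / (th m (s₀ : F) * (s₀ : F) ^ 2 + 1)),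
      Subgroup.mem_comap.2 (by rw [hσZ]; exact ⟨_, rfl⟩)⟩, rfl⟩, ?_⟩
    rw [hψ, map_mul, map_inv, hTZ, hσZ, hb, tG_inv, tG_mul, map_zero, zero_mul, add_zero, add_zero,
      add_zero]
    congr 1
    field_simp
    ring
  -- conjugation acts trivially modulo `W`
  have hmod : ∀ s, ∀ v ∈ P₀, T s * v * (T s)⁻¹ * v⁻¹ ∈ W := by
    intro s v hv
    obtain ⟨w, hw, e⟩ := hWcover v hv
    obtain ⟨z, hz, rfl⟩ := hlift e.symm
    rw [show T s * (w * z) * (T s)⁻¹ * (w * z)⁻¹ =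
      T s * w * (z * (T s)⁻¹) * z⁻¹ * w⁻¹ by group, ← cen z hz,
      show T s * w * ((T s)⁻¹ * z) * z⁻¹ * w⁻¹ = T s * w * (T s)⁻¹ * w⁻¹ by group]
    exact mul_mem (hWnorm s w hw) (inv_mem hw)
  have hAAmem : ∀ a a', ⁅A a, A a'⁆ ∈ P₀ := fun a a' => by
    refine Subgroup.mem_comap.2 ?_
    rw [map_commutatorElement, hσA, hσA, commutatorElement_def, tG_commutator]
    exact ⟨_, rfl⟩
  have hP₀comm : ∀ v w : P₀, v * w = w * v := fun v w =>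
    Subtype.ext (hP₀P _ v.2 _ (zSub_le h w.2))
  have hnormal : (W.subgroupOf P₀).Normal := ⟨fun w hw v => by
    rwa [hP₀comm v w, mul_inv_cancel_right]⟩
  have hAsum : ∀ a a', σ (A a * A a' * Z (th m a * a')) = σ (A (a + a')) := fun a a' => by
    rw [map_mul, map_mul, hσA, hσA, hσA, hσZ, tG_mul, tG_mul, mul_zero, add_zero]
    congr 1
    · rw [zero_add, add_comm]
    · linear_combination (th m a * a') * (CharTwo.two_eq_zero (R := F))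
  have hAA : ∀ a a', ⁅A a, A a'⁆ ∈ W := by
    have hcenP : ∀ {c}, c ∈ P₀ → ∀ a, A a * c * (A a)⁻¹ = c := fun {c} hc a => by
      rw [← hP₀P c hc (A a) (Subgroup.mem_comap.2 (by rw [hσA]; exact ⟨_, _, rfl⟩)), mul_inv_cancel_right]
    have hL : ∀ a a' b, ⁅A (a + a'), A b⁆ = ⁅A a, A b⁆ * ⁅A a', A b⁆ := fun a a' b => by
      have hZ1 : ⁅Z (th m a * a'), A b⁆ = 1 := hZA _ _
      rw [← hwell (hAsum a a') rfl, hmulL _ _ _ (by rw [hZ1, map_one]), hZ1, mul_one]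
      calc ⁅A a * A a', A b⁆ = A a * ⁅A a', A b⁆ * (A a)⁻¹ * ⁅A a, A b⁆ := by
            simp only [commutatorElement_def]; group
        _ = ⁅A a', A b⁆ * ⁅A a, A b⁆ := by rw [hcenP (hAAmem a' b)]
        _ = _ := hP₀P _ (hAAmem a' b) _ (zSub_le h (hAAmem a b))
    have hR : ∀ a b b', ⁅A a, A (b + b')⁆ = ⁅A a, A b⁆ * ⁅A a, A b'⁆ := fun a b b' => by
      rw [← commutatorElement_inv, hL b b' a, _root_.mul_inv_rev, commutatorElement_inv, commutatorElement_inv]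
      exact hP₀P _ (hAAmem a b') _ (zSub_le h (hAAmem a b))
    intro a a'
    have key := pairing_self_eq_one (K := P₀ ⧸ W.subgroupOf P₀)
      (fun a a' => QuotientGroup.mk' _ (⟨⁅A a, A a'⁆, hAAmem a a'⟩ : P₀)) ?_ ?_ ?_ ht0 ht1 ht3 a a'
    · rw [QuotientGroup.mk'_apply, QuotientGroup.eq_one_iff] at key
      exact key
    · intro a a' b
      rw [← map_mul]
      exact congrArg _ (Subtype.ext (hL a a' b))
    · intro a b b'
      rw [← map_mul]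
      exact congrArg _ (Subtype.ext (hR a b b'))
    · intro μ a b hμ
      obtain ⟨s₁, rfl⟩ := th_surjective h μ
      have hs₁ : s₁ ≠ 0 := fun e => hμ (by rw [e, map_zero])
      refine ((QuotientGroup.eq_iff_div_mem).2 ?_)
      rw [Subgroup.mem_subgroupOf]
      show ⁅A (th m s₁ * a), A (th m s₁ * b)⁆ / ⁅A a, A b⁆ ∈ W
      have e1 : ⁅A (th m s₁ * a), A (th m s₁ * b)⁆ =
          T (Units.mk0 s₁ hs₁) * ⁅A a, A b⁆ * (T (Units.mk0 s₁ hs₁))⁻¹ := by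
        calc ⁅A (th m s₁ * a), A (th m s₁ * b)⁆
            = ⁅T (Units.mk0 s₁ hs₁) * A a * (T (Units.mk0 s₁ hs₁))⁻¹,
                T (Units.mk0 s₁ hs₁) * A b * (T (Units.mk0 s₁ hs₁))⁻¹⁆ :=
              hwell (by rw [hσA, hTA, Units.val_mk0]) (by rw [hσA, hTA, Units.val_mk0])
          _ = _ := by simp only [commutatorElement_def]; group
      rw [e1, div_eq_mul_inv]
      exact hmod _ _ (hAAmem a b)
  intro x hx hxP
  refine hWker x ?_ hx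
  refine (Subgroup.commutator_le.2 fun y hy y' hy' => ?_) hxP
  obtain ⟨a, b, e⟩ := hdecomp y hy
  obtain ⟨a', b', e'⟩ := hdecomp y' hy'
  rw [hwell e e']
  have hPA : ∀ a, A a ∈ P := fun a => Subgroup.mem_comap.2 (by rw [hσA]; exact ⟨_, _, rfl⟩)
  have hZP₀ : ∀ b, Z b ∈ P₀ := fun b => Subgroup.mem_comap.2 (by rw [hσZ]; exact ⟨_, rfl⟩)
  have c1 := hP₀P _ (hZP₀ b) _ (mul_mem (hPA a') (zSub_le h (hZP₀ b')))
  have c2 := hP₀P _ (hZP₀ b') _ (hPA a)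
  rw [show ⁅A a * Z b, A a' * Z b'⁆ =
      A a * (Z b * (A a' * Z b')) * (Z b)⁻¹ * (A a)⁻¹ * (A a' * Z b')⁻¹ by
    simp only [commutatorElement_def]; group, c1,
    show A a * (A a' * Z b' * Z b) * (Z b)⁻¹ * (A a)⁻¹ * (A a' * Z b')⁻¹ =
      A a * A a' * (Z b' * (A a)⁻¹) * (Z b')⁻¹ * (A a')⁻¹ by group,
    hP₀P _ (hZP₀ b') _ (inv_mem (hPA a)),
    show A a * A a' * ((A a)⁻¹ * Z b') * (Z b')⁻¹ * (A a')⁻¹ = ⁅A a, A a'⁆ by
      simp only [commutatorElement_def]; group]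
  exact hAA a a'

end CfsgLib.InvChar.SzEight
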