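import Cfsg.Agent.Lib.InvChar.TripleAltData
import Cfsg.Agent.Lib.InvChar.SchurTwoGen
import Cfsg.Agent.Lib.Clifford.AltSchur
import Cfsg.Agent.Lib.Clifford.AltCover

/-!
# The triple covers of `A₆`, `A₇` on 45 points and the multipliers of `A₆`, `A₇`

The triple cover is generated by pairs of a three cycle and a permutation of 45 points; Carmichael's
bound shows that the projection to the alternating group has kernel of order three.
-/

set_option autoImplicit false
set_option maxRecDepth 100000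

namespace CfsgLib.InvChar.TripleAlt

open Equiv Subgroup CfsgLib.Clifford.AltSchur
open scoped commutatorElement

/-- A table as a map of 45 points. -/
def fn (t : List Nat) (i : Fin 45) : Fin 45 := ⟨t.getD i.val 0 % 45, Nat.mod_lt _ (by norm_num)⟩

/-- The five generators. -/
def X : Fin 5 → Perm (Fin 45) :=
  ![⟨fn X0Tab, fn X0Inv, by decide +kernel, by decide +kernel⟩,
    ⟨fn X1Tab, fn X1Inv, by decide +kernel, by decide +kernel⟩,
    ⟨fn X2Tab, fn X2Inv, by decide +kernel, by decide +kernel⟩,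
    ⟨fn X3Tab, fn X3Inv, by decide +kernel, by decide +kernel⟩,
    ⟨fn X4Tab, fn X4Inv, by decide +kernel, by decide +kernel⟩]

/-- The central element. -/
def zc : Perm (Fin 45) := ⟨fn ZcTab, fn ZcInv, by decide +kernel, by decide +kernel⟩

theorem X_facts : (∀ i, X i * zc = zc * X i) ∧ (∀ i, X i ^ 3 = 1) ∧ zc ^ 3 = 1 ∧ zc ≠ 1 ∧
    (∀ i j, i ≠ j → X i * X j * (X i * X j) ∈ [1, zc, zc * zc]) ∧
    ⁅X 1, X 0 * X 2 * X 3 * X 0 * X 2⁆ = zc := by
  refine ⟨?_, ?_, ?_, ?_, ?_, ?_⟩ <;> decide +kernel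

/-- The three cycles `(0 1 i+2)`. -/
def a (m : ℕ) (i : Fin m) : ↥(alternatingGroup (Fin (m + 2))) :=
  ⟨c3 0 1 ⟨i.val + 2, by omega⟩, c3_mem (by simp [Fin.ext_iff]) (by simp [Fin.ext_iff])⟩

theorem a_closure (m : ℕ) : Subgroup.closure (Set.range (a m)) = ⊤ := by
  refine Subgroup.map_injective (alternatingGroup (Fin (m + 2))).subtype_injective ?_
  rw [← MonoidHom.range_eq_map, Subgroup.range_subtype]
  refine le_antisymm (Subgroup.map_subtype_le _) ?_
  rw [MonoidHom.map_closure]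
  refine three_cycle_mem_of_gens (a := (0 : Fin (m + 2))) (b := 1) (by simp [Fin.ext_iff]) fun i h0 h1 => ?_
  have h0' : i.val ≠ 0 := fun e => h0 (Fin.ext e)
  have h1' : i.val ≠ 1 := fun e => h1 (Fin.ext (by simpa using e))
  refine Subgroup.subset_closure ⟨a m ⟨i.val - 2, by omega⟩, ⟨_, rfl⟩, ?_⟩
  show c3 0 1 _ = c3 0 1 i
  congr 1
  exact Fin.ext (show i.val - 2 + 2 = i.val by omega)

theorem a_facts (m : ℕ) (hm : m = 4 ∨ m = 5) : (∀ i, a m i ^ 3 = 1) ∧
    (∀ i j, i ≠ j → a m i * a m j * (a m i * a m j) = 1) ∧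
    (∀ h : 4 ≤ m, ⁅a m ⟨1, by omega⟩,
      a m ⟨0, by omega⟩ * a m ⟨2, by omega⟩ * a m ⟨3, by omega⟩ * a m ⟨0, by omega⟩ * a m ⟨2, by omega⟩⁆ = 1) := by
  rcases hm with rfl | rfl <;> refine ⟨?_, ?_, ?_⟩ <;> decide +kernel

/-- **The triple cover.** -/
theorem exists_triple (m : ℕ) (hm : m = 4 ∨ m = 5) :
    ∃ (C : Subgroup (↥(alternatingGroup (Fin (m + 2))) × Perm (Fin 45)))
      (τ : C →* ↥(alternatingGroup (Fin (m + 2)))), Cfsg.IsStemExtension τ ∧ Nat.card τ.ker = 3 := by
  obtain ⟨hcm, hX3, hz3, hz1, hrel, hcom⟩ := X_facts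
  obtain ⟨ha3, harel, hacom⟩ := a_facts m hm
  have hm4 : 4 ≤ m := by omega
  have hm5 : m ≤ 5 := by omega
  let g : Fin m → ↥(alternatingGroup (Fin (m + 2))) × Perm (Fin 45) := fun i =>
    (a m i, X (Fin.castLE hm5 i))
  let C := Subgroup.closure (Set.range g)
  let τ : C →* ↥(alternatingGroup (Fin (m + 2))) := (MonoidHom.fst _ _).comp C.subtype
  let x : Fin m → C := fun i => ⟨g i, Subgroup.subset_closure ⟨i, rfl⟩⟩
  have hsurj : Function.Surjective τ := by
    rw [← MonoidHom.range_eq_top, eq_top_iff, ← a_closure m, Subgroup.closure_le]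
    rintro _ ⟨i, rfl⟩
    exact ⟨x i, rfl⟩
  have hcom' : ((⁅x ⟨1, by omega⟩,
      x ⟨0, by omega⟩ * x ⟨2, by omega⟩ * x ⟨3, by omega⟩ * x ⟨0, by omega⟩ * x ⟨2, by omega⟩⁆ : C) :
      ↥(alternatingGroup (Fin (m + 2))) × Perm (Fin 45)) = (1, zc) := by
    refine Prod.ext ?_ ?_
    · exact hacom hm4
    · exact hcom
  set z : C := ⁅x ⟨1, by omega⟩,
    x ⟨0, by omega⟩ * x ⟨2, by omega⟩ * x ⟨3, by omega⟩ * x ⟨0, by omega⟩ * x ⟨2, by omega⟩⁆ with hz
  have hzc : z ∈ center C := by
    refine mem_center_iff.2 fun y => Subtype.ext ?_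
    rw [Subgroup.coe_mul, Subgroup.coe_mul, hcom']
    have hy : (y : ↥(alternatingGroup (Fin (m + 2))) × Perm (Fin 45)) ∈
        Subgroup.centralizer {((1, zc) : ↥(alternatingGroup (Fin (m + 2))) × Perm (Fin 45))} := by
      refine (Subgroup.closure_le _).2 ?_ y.2
      rintro _ ⟨i, rfl⟩
      rw [SetLike.mem_coe, Subgroup.mem_centralizer_singleton_iff]
      exact Prod.ext (by simp [g]) (hcm _)
    exact Subgroup.mem_centralizer_singleton_iff.1 hy
  have hzo : orderOf z = 3 := by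
    have : Fact (Nat.Prime 3) := ⟨Nat.prime_three⟩
    refine orderOf_eq_prime (Subtype.ext ?_) fun h => hz1 ?_
    · rw [SubgroupClass.coe_pow, hcom', Prod.pow_mk, one_pow, hz3]; rfl
    · exact (congrArg Prod.snd hcom').symm.trans (congrArg (fun c : C => c.1.2) h)
  set Z := Subgroup.zpowers z with hZ
  have hZn : Z.Normal := ⟨fun y hy q => by
    rwa [mem_center_iff.1 ((Subgroup.zpowers_le.2 hzc) hy) q, mul_inv_cancel_right]⟩
  have hZk : Z ≤ τ.ker := Subgroup.zpowers_le.2 (by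
    show (z : ↥(alternatingGroup (Fin (m + 2))) × Perm (Fin 45)).1 = 1
    rw [hcom'])
  have hQ : 2 * Nat.card (C ⧸ Z) ≤ (m + 2).factorial := by
    have h1 : Subgroup.closure (Set.range fun i => QuotientGroup.mk' Z (x i)) = ⊤ := by
      rw [show (fun i => QuotientGroup.mk' Z (x i)) = QuotientGroup.mk' Z ∘ x from rfl, Set.range_comp,
        ← MonoidHom.map_closure]
      have : Subgroup.closure (Set.range x) = ⊤ := by
        refine Subgroup.map_injective C.subtype_injective ?_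
        rw [MonoidHom.map_closure, ← MonoidHom.range_eq_map, Subgroup.range_subtype, ← Set.range_comp]
        rfl
      rw [this, Subgroup.map_top_of_surjective _ (QuotientGroup.mk'_surjective Z)]
    have h := carmichael_bound m (fun i => QuotientGroup.mk' Z (x i)) (fun i => ?_) (fun i j hij => ?_)
    · rwa [h1, Subgroup.card_top] at h
    · rw [← map_pow]
      refine (QuotientGroup.eq_one_iff _).2 ?_
      rw [show x i ^ 3 = 1 from Subtype.ext (Prod.ext (ha3 i) (hX3 _))]
      exact one_mem _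
    · simp only [← map_mul]
      refine (QuotientGroup.eq_one_iff _).2 ?_
      have h := hrel (Fin.castLE hm5 i) (Fin.castLE hm5 j) fun e => hij (Fin.castLE_injective _ e)
      simp only [List.mem_cons, List.not_mem_nil, or_false] at h
      have key : ∀ k : ℕ, X (Fin.castLE hm5 i) * X (Fin.castLE hm5 j) *
          (X (Fin.castLE hm5 i) * X (Fin.castLE hm5 j)) = zc ^ k → x i * x j * (x i * x j) ∈ Z := fun k hk => by
        rw [show x i * x j * (x i * x j) = z ^ k from Subtype.ext (by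
          rw [SubgroupClass.coe_pow, hcom', Prod.pow_mk, one_pow]
          exact Prod.ext (harel i j hij) hk)]
        exact pow_mem (Subgroup.mem_zpowers z) k
      rcases h with h | h | h
      · exact key 0 (by rw [h, pow_zero])
      · exact key 1 (by rw [h, pow_one])
      · exact key 2 (by rw [h, sq])
  have hA : 2 * Nat.card ↥(alternatingGroup (Fin (m + 2))) = (m + 2).factorial := by
    rw [Nat.card_eq_fintype_card, two_mul_card_alternatingGroup, Fintype.card_perm, Fintype.card_fin]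
  have hker : Nat.card τ.ker ≤ 3 := by
    have h1 := τ.ker.card_mul_index
    rw [Subgroup.index_ker, MonoidHom.range_eq_top.2 hsurj, Subgroup.card_top] at h1
    have h2 := Z.card_mul_index
    rw [hZ, Nat.card_zpowers, hzo, ← hZ] at h2
    have hpos : 0 < Nat.card ↥(alternatingGroup (Fin (m + 2))) := Nat.card_pos
    have h3 : Nat.card τ.ker * Nat.card ↥(alternatingGroup (Fin (m + 2))) ≤
        3 * Nat.card ↥(alternatingGroup (Fin (m + 2))) := by
      rw [h1, ← h2]
      refine Nat.mul_le_mul_left _ ?_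
      show Nat.card (C ⧸ Z) ≤ _
      omega
    exact Nat.le_of_mul_le_mul_right h3 hpos
  have heq : Z = τ.ker := Subgroup.eq_of_le_of_card_ge hZk (by rw [hZ, Nat.card_zpowers, hzo]; exact hker)
  refine ⟨C, τ, ⟨hsurj, ?_, ?_⟩, ?_⟩
  · exact heq ▸ Subgroup.zpowers_le.2 hzc
  · exact heq ▸ Subgroup.zpowers_le.2 (hz ▸ Subgroup.commutator_mem_commutator (Subgroup.mem_top _) (Subgroup.mem_top _))
  · rw [← heq, hZ, Nat.card_zpowers, hzo]

/-- The double cover as a stem extension. -/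
theorem exists_double (n : ℕ) (hn : 4 ≤ n) :
    ∃ (Γ : Type) (_ : Group Γ) (_ : Finite Γ) (τ : Γ →* ↥(alternatingGroup (Fin n))),
      Cfsg.IsStemExtension τ ∧ Nat.card τ.ker = 2 := by
  obtain ⟨Γ, i1, i2, z, hz, hzo, hzc, hn', ⟨e⟩⟩ := CfsgLib.Clifford.AltCover.main n hn
  let τ : Γ →* ↥(alternatingGroup (Fin n)) := e.toMonoidHom.comp (QuotientGroup.mk' _)
  have hk : τ.ker = Subgroup.zpowers z := by
    ext x
    rw [MonoidHom.mem_ker, ← QuotientGroup.eq_one_iff]
    exact e.map_eq_one_iff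
  refine ⟨Γ, i1, i2, τ, ⟨e.surjective.comp (QuotientGroup.mk'_surjective _), ?_, ?_⟩, ?_⟩
  · rw [hk]; exact Subgroup.zpowers_le.2 hz
  · rw [hk]; exact Subgroup.zpowers_le.2 hzc
  · rw [hk, Nat.card_zpowers, hzo]

/-- Four permutations acting on the first seven or six points. -/
structure Gens (n : ℕ) where
  /-- an element of order four -/
  a : ↥(alternatingGroup (Fin n))
  /-- an element inverting it -/
  b : ↥(alternatingGroup (Fin n))
  /-- a three cycle -/
  x : ↥(alternatingGroup (Fin n))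
  /-- a disjoint three cycle -/
  y : ↥(alternatingGroup (Fin n))
  conj : b * a * b⁻¹ = a⁻¹
  comm : y * x * y⁻¹ = x
  two : ∀ p q : Fin 4 × Fin 2, a ^ p.1.val * b ^ p.2.val = a ^ q.1.val * b ^ q.2.val → p = q
  three : ∀ p q : Fin 3 × Fin 3, x ^ p.1.val * y ^ p.2.val = x ^ q.1.val * y ^ q.2.val → p = q
  mul2 : ∀ p q : Fin 4 × Fin 2, ∃ r : Fin 4 × Fin 2,
    a ^ p.1.val * b ^ p.2.val * (a ^ q.1.val * b ^ q.2.val) = a ^ r.1.val * b ^ r.2.val
  mul3 : ∀ p q : Fin 3 × Fin 3, ∃ r : Fin 3 × Fin 3,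
    x ^ p.1.val * y ^ p.2.val * (x ^ q.1.val * y ^ q.2.val) = x ^ r.1.val * y ^ r.2.val

/-- Products of powers closed under multiplication form a subgroup of that order. -/
theorem exists_sub {G : Type*} [Group G] [Finite G] (a b : G) (k l : ℕ) [NeZero k] [NeZero l]
    (hinj : ∀ p q : Fin k × Fin l, a ^ p.1.val * b ^ p.2.val = a ^ q.1.val * b ^ q.2.val → p = q)
    (hmul : ∀ p q : Fin k × Fin l, ∃ r : Fin k × Fin l,
      a ^ p.1.val * b ^ p.2.val * (a ^ q.1.val * b ^ q.2.val) = a ^ r.1.val * b ^ r.2.val) :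
    ∃ S : Subgroup G, S ≤ Subgroup.closure {a, b} ∧ Nat.card S = k * l := by
  let f : Fin k × Fin l → G := fun p => a ^ p.1.val * b ^ p.2.val
  let M : Submonoid G :=
    { carrier := Set.range f
      one_mem' := ⟨0, by simp [f]⟩
      mul_mem' := by
        rintro _ _ ⟨p, rfl⟩ ⟨q, rfl⟩
        obtain ⟨r, hr⟩ := hmul p q
        exact ⟨r, hr.symm⟩ }
  let S : Subgroup G :=
    { toSubmonoid := M
      inv_mem' := fun {g} hg => by
        have : g⁻¹ = g ^ (orderOf g - 1) := by
          rw [inv_eq_iff_mul_eq_one, ← pow_succ', Nat.sub_add_cancel (orderOf_pos g), pow_orderOf_eq_one]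
        exact this ▸ M.pow_mem hg _ }
  refine ⟨S, ?_, ?_⟩
  · rintro _ ⟨p, rfl⟩
    exact mul_mem (pow_mem (Subgroup.subset_closure (Set.mem_insert a {b})) _)
      (pow_mem (Subgroup.subset_closure (Set.mem_insert_of_mem a (Set.mem_singleton b))) _)
  · show Nat.card (Set.range f) = k * l
    rw [Nat.card_range_of_injective fun p q h => hinj p q h, Nat.card_prod, Nat.card_fin, Nat.card_fin]

/-- The permutations for six points. -/
def gens6 : Gens 6 where
  a := ⟨swap 0 1 * swap 1 2 * swap 2 3 * swap 4 5, Perm.mem_alternatingGroup.2 (by decide +kernel)⟩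
  b := ⟨swap 1 3 * swap 4 5, Perm.mem_alternatingGroup.2 (by decide +kernel)⟩
  x := ⟨swap 0 1 * swap 1 2, Perm.mem_alternatingGroup.2 (by decide +kernel)⟩
  y := ⟨swap 3 4 * swap 4 5, Perm.mem_alternatingGroup.2 (by decide +kernel)⟩
  conj := by decide +kernel
  comm := by decide +kernel
  two := by decide +kernel
  three := by decide +kernel
  mul2 := by decide +kernel
  mul3 := by decide +kernel

/-- The permutations for seven points. -/
def gens7 : Gens 7 where
  a := ⟨swap 0 1 * swap 1 2 * swap 2 3 * swap 4 5, Perm.mem_alternatingGroup.2 (by decide +kernel)⟩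
  b := ⟨swap 1 3 * swap 4 5, Perm.mem_alternatingGroup.2 (by decide +kernel)⟩
  x := ⟨swap 0 1 * swap 1 2, Perm.mem_alternatingGroup.2 (by decide +kernel)⟩
  y := ⟨swap 3 4 * swap 4 5, Perm.mem_alternatingGroup.2 (by decide +kernel)⟩
  conj := by decide +kernel
  comm := by decide +kernel
  two := by decide +kernel
  three := by decide +kernel
  mul2 := by decide +kernel
  mul3 := by decide +kernel

/-- The bound on stem kernels. -/
theorem bound {n N : ℕ} (D : Gens n) (hN : Nat.card ↥(alternatingGroup (Fin n)) = N)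
    (h2 : Nat.Coprime 2 (N / 8)) (h3 : Nat.Coprime 3 (N / 9))
    (ords : List ℕ) (hords : ∀ k ∈ ords, ∃ g : ↥(alternatingGroup (Fin n)), orderOf g = k)
    (hg : (ords.map (N / ·)).foldr Nat.gcd 0 ∣ 6) {Γ : Type*} [Group Γ] [Finite Γ]
    {σ : Γ →* ↥(alternatingGroup (Fin n))} (hσ : Cfsg.IsStemExtension σ) :
    IsCyclic σ.ker ∧ Nat.card σ.ker ∣ 6 := by
  refine SchurTwoGen.ker_cyclic_six hσ (fun z hz => ?_) fun p hp => ?_
  · have key : ∀ L : List ℕ, (∀ k ∈ L, k ∈ ords) → z ^ (L.map (N / ·)).foldr Nat.gcd 0 = 1 := by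
      intro L
      induction L with
      | nil => intro _; exact pow_zero z
      | cons k L ih =>
        intro hL
        obtain ⟨g, hg'⟩ := hords k (hL k List.mem_cons_self)
        have h1 := SchurTwoGen.pow_index_zpowers hσ g hz
        rw [Subgroup.index_eq_card (Subgroup.zpowers g)] at h1
        have hc := (Subgroup.zpowers g).card_mul_index
        rw [Nat.card_zpowers, hg', hN] at hc
        have hk : 0 < k := hg' ▸ orderOf_pos g
        rw [List.map_cons, List.foldr_cons]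
        refine pow_gcd_eq_one.2 ⟨?_, ih fun j hj => hL j (List.mem_cons_of_mem _ hj)⟩
        rw [← hc, Nat.mul_div_cancel_left _ hk, Subgroup.index_eq_card]
        exact h1
    obtain ⟨c, hc⟩ := hg
    rw [hc, pow_mul, key ords fun _ h => h, one_pow]
  · rcases hp with rfl | rfl
    · obtain ⟨S, hS, hc⟩ := exists_sub D.a D.b 4 2 D.two D.mul2
      refine ⟨S, D.a, D.b, hS, Or.inl D.conj, ?_⟩
      have := S.card_mul_index
      rw [hc, hN] at this
      rwa [← this, Nat.mul_div_cancel_left _ (by norm_num)] at h2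
    · obtain ⟨S, hS, hc⟩ := exists_sub D.x D.y 3 3 D.three D.mul3
      refine ⟨S, D.x, D.y, hS, Or.inr D.comm, ?_⟩
      have := S.card_mul_index
      rw [hc, hN] at this
      rwa [← this, Nat.mul_div_cancel_left _ (by norm_num)] at h3

theorem card_six : Nat.card ↥(alternatingGroup (Fin 6)) = 360 := by
  rw [nat_card_alternatingGroup, Nat.card_fin]; decide

theorem card_seven : Nat.card ↥(alternatingGroup (Fin 7)) = 2520 := by
  rw [nat_card_alternatingGroup, Nat.card_fin]; decide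

theorem bound_six {Γ : Type*} [Group Γ] [Finite Γ] {σ : Γ →* ↥(alternatingGroup (Fin 6))}
    (hσ : Cfsg.IsStemExtension σ) : IsCyclic σ.ker ∧ Nat.card σ.ker ∣ 6 := by
  refine bound gens6 card_six (by decide) (by decide) [5, 3, 4] ?_ (by decide) hσ
  simp only [List.mem_cons, List.not_mem_nil, or_false, forall_eq_or_imp, forall_eq]
  refine ⟨⟨⟨swap 0 1 * swap 1 2 * swap 2 3 * swap 3 4, Perm.mem_alternatingGroup.2 (by decide +kernel)⟩, ?_⟩, ⟨gens6.x, ?_⟩, ⟨gens6.a, ?_⟩⟩
  all_goals rw [orderOf_eq_iff (by norm_num)]; refine ⟨by decide +kernel, ?_⟩; intro k hk hk0; interval_cases k <;> decide +kernel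

theorem bound_seven {Γ : Type*} [Group Γ] [Finite Γ] {σ : Γ →* ↥(alternatingGroup (Fin 7))}
    (hσ : Cfsg.IsStemExtension σ) : IsCyclic σ.ker ∧ Nat.card σ.ker ∣ 6 := by
  refine bound gens7 card_seven (by decide) (by decide) [7, 5, 3, 4] ?_ (by decide) hσ
  simp only [List.mem_cons, List.not_mem_nil, or_false, forall_eq_or_imp, forall_eq]
  refine ⟨⟨⟨swap 0 1 * swap 1 2 * swap 2 3 * swap 3 4 * swap 4 5 * swap 5 6, Perm.mem_alternatingGroup.2 (by decide +kernel)⟩, ?_⟩,
    ⟨⟨swap 0 1 * swap 1 2 * swap 2 3 * swap 3 4, Perm.mem_alternatingGroup.2 (by decide +kernel)⟩, ?_⟩, ⟨gens7.x, ?_⟩, ⟨gens7.a, ?_⟩⟩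
  all_goals rw [orderOf_eq_iff (by norm_num)]; refine ⟨by decide +kernel, ?_⟩; intro k hk hk0; interval_cases k <;> decide +kernel

/-- A stem extension with kernel of order six. -/
theorem exists_six (m : ℕ) (hm : m = 4 ∨ m = 5) :
    ∃ (Γ : Type) (_ : Group Γ) (_ : Finite Γ) (σ : Γ →* ↥(alternatingGroup (Fin (m + 2)))),
      Cfsg.IsStemExtension σ ∧ Nat.card σ.ker = 6 := by
  obtain ⟨Γ, i1, i2, τ₁, h1, c1⟩ := exists_double (m + 2) (by omega)
  obtain ⟨C, τ₂, h2, c2⟩ := exists_triple m hm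
  obtain ⟨P, σ, -, hσ, -, hc, -⟩ := SchurTwoGen.exists_fibre h1 h2 (by rw [c1, c2]; decide)
  exact ⟨P, inferInstance, inferInstance, σ, hσ, by rw [hc, c1, c2]⟩

/-- **The multiplier of `A₆` and of `A₇`.** -/
theorem multiplier (n : ℕ) (hn : n = 6 ∨ n = 7) :
    Cfsg.HasCyclicSchurMultiplier ↥(alternatingGroup (Fin n)) 6 := by
  rcases hn with rfl | rfl
  · obtain ⟨Γ, _, _, σ, hσ, hc⟩ := exists_six 4 (Or.inl rfl)
    exact CfsgLib.Schur.hasCyclicSchurMultiplier_of_bound' hσ hc fun _ _ _ _ h => bound_six h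
  · obtain ⟨Γ, _, _, σ, hσ, hc⟩ := exists_six 5 (Or.inr rfl)
    exact CfsgLib.Schur.hasCyclicSchurMultiplier_of_bound' hσ hc fun _ _ _ _ h => bound_seven h

end CfsgLib.InvChar.TripleAlt
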