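import Mathlib.GroupTheory.Perm.Basic

/-! Permutations of 45 points generating the triple cover of `A₇`, and its central element. -/

set_option autoImplicit false

namespace CfsgLib.InvChar.TripleAlt

/-- table -/
def X0Tab : List Nat := [6, 0, 10, 9, 8, 7, 1, 21, 18, 14, 11, 2, 16, 29, 3, 39, 30, 34, 4, 24, 37, 5, 25, 19, 23, 27, 17, 22, 13, 28, 12, 43, 31, 40, 26, 15, 20, 36, 33, 35, 38, 44, 41, 32, 42]

/-- table -/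
def X0Inv : List Nat := [1, 6, 11, 14, 18, 21, 0, 5, 4, 3, 2, 10, 30, 28, 9, 35, 12, 26, 8, 23, 36, 7, 27, 24, 19, 22, 34, 25, 29, 13, 16, 32, 43, 38, 17, 39, 37, 20, 40, 15, 33, 42, 44, 31, 41]

/-- table -/
def X1Tab : List Nat := [5, 24, 0, 36, 18, 2, 11, 1, 4, 35, 21, 23, 30, 25, 34, 3, 12, 39, 8, 10, 14, 19, 44, 6, 7, 32, 9, 28, 42, 43, 16, 22, 13, 38, 20, 26, 15, 17, 40, 37, 33, 29, 27, 41, 31]

/-- table -/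
def X1Inv : List Nat := [2, 7, 5, 15, 8, 0, 23, 24, 18, 26, 19, 6, 16, 32, 20, 36, 30, 37, 4, 21, 34, 10, 31, 11, 1, 13, 35, 42, 27, 41, 12, 44, 25, 40, 14, 9, 3, 39, 33, 17, 38, 43, 28, 29, 22]

/-- table -/
def X2Tab : List Nat := [16, 13, 31, 0, 32, 15, 23, 39, 1, 40, 33, 6, 2, 8, 20, 22, 3, 4, 37, 42, 34, 35, 5, 11, 18, 7, 10, 21, 9, 41, 44, 12, 17, 26, 14, 27, 30, 24, 19, 25, 28, 43, 38, 29, 36]

/-- table -/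
def X2Inv : List Nat := [3, 8, 12, 16, 17, 22, 11, 25, 13, 28, 26, 23, 31, 1, 34, 5, 0, 32, 24, 38, 14, 27, 15, 6, 37, 39, 33, 35, 40, 43, 36, 2, 4, 10, 20, 21, 44, 18, 42, 7, 9, 29, 19, 41, 30]

/-- table -/
def X3Tab : List Nat := [19, 22, 20, 38, 0, 33, 12, 31, 43, 1, 37, 36, 21, 2, 39, 34, 42, 3, 15, 4, 13, 6, 9, 5, 44, 41, 7, 8, 11, 10, 14, 26, 16, 23, 18, 24, 28, 29, 17, 30, 25, 40, 32, 27, 35]

/-- table -/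
def X3Inv : List Nat := [4, 9, 13, 17, 19, 23, 21, 26, 27, 22, 29, 28, 6, 20, 30, 18, 32, 38, 34, 0, 2, 12, 1, 33, 35, 40, 31, 43, 36, 37, 39, 7, 42, 5, 15, 44, 11, 10, 3, 14, 41, 25, 16, 8, 24]

/-- table -/
def X4Tab : List Nat := [2, 30, 5, 14, 35, 0, 21, 11, 36, 3, 1, 16, 6, 44, 9, 18, 7, 37, 34, 23, 4, 12, 29, 24, 19, 40, 8, 42, 27, 38, 10, 32, 43, 13, 15, 20, 26, 39, 22, 17, 41, 25, 28, 31, 33]

/-- table -/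
def X4Inv : List Nat := [5, 10, 0, 9, 20, 2, 12, 16, 26, 14, 30, 7, 21, 33, 3, 34, 11, 39, 15, 24, 35, 6, 38, 19, 23, 41, 36, 28, 42, 22, 1, 43, 31, 44, 18, 4, 8, 17, 29, 37, 25, 40, 27, 32, 13]

/-- table -/
def ZcTab : List Nat := [42, 44, 28, 19, 16, 27, 41, 22, 30, 24, 13, 29, 40, 36, 23, 21, 38, 0, 12, 32, 11, 25, 35, 43, 31, 15, 1, 39, 37, 20, 33, 9, 3, 8, 6, 7, 10, 2, 4, 5, 18, 34, 17, 14, 26]

/-- table -/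
def ZcInv : List Nat := [17, 26, 37, 32, 38, 39, 34, 35, 33, 31, 36, 20, 18, 10, 43, 25, 4, 42, 40, 3, 29, 15, 7, 14, 9, 21, 44, 5, 2, 11, 8, 24, 19, 30, 41, 22, 13, 28, 16, 27, 12, 6, 0, 23, 1]

end CfsgLib.InvChar.TripleAlt
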