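import Cfsg.Agent.Lib.InvChar.SporFi22Trans
import Cfsg.Agent.Lib.InvChar.TypeFi22Data
import Cfsg.Agent.Lib.Classical.UnitaryGen

/-!
# The presented Fi22 is of type M(22)
-/

set_option autoImplicit false
set_option maxRecDepth 100000

namespace CfsgLib.InvChar.TypeFi22

open CfsgLib.InvChar.Coset CfsgLib.InvChar.DoubleCoverUtil Cfsg.Spor

local notation "z₀" => (SporFi22.gen 0 : Fi22)
local notation "D₂₂" => conjugatesOf (SporFi22.gen 0 : Fi22)

theorem isGroup : Cfsg.IsThreeTranspositionGroup D₂₂ :=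
  ⟨SporFi22.isThreeTranspositionClass.1,
    fun g d hd => IsConj.trans hd (isConj_iff.2 ⟨g, rfl⟩), SporFi22.isThreeTranspositionClass.2.2⟩

/-- A word moving the base point does not commute with the first generator. -/
theorem not_commute {L : List ℕ} (hL : ∀ y ∈ L, y < 9) (h : FiA.table.follow L 0 ≠ 0) :
    ¬ Commute z₀ (wprod (SporFi22.gen : ℕ → Fi22) L)⁻¹ := fun hc => h <| by
  have hm : (wprod (SporFi22.gen : ℕ → Fi22) L)⁻¹ ∈ SporFi22.H := by
    rw [← SporFi22.centralizer_gen_zero, Subgroup.mem_centralizer_singleton_iff]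
    exact hc.eq.symm
  have e := SporFi22.H_fix _ hm
  have e2 := SporFi22.rep_inv_wprod L hL ⟨0, FiA.covered.hn⟩
  rw [e] at e2
  exact e2.symm

theorem commute_gens {x y : ℕ} (h : [x, y, x, y] ∈ FiA.rels) :
    Commute (SporFi22.gen x : Fi22) (SporFi22.gen y) := by
  have h' := SporFi22.gen_mem_rels h
  have i : ∀ z, (SporFi22.gen z : Fi22)⁻¹ = SporFi22.gen z :=
    fun z => inv_eq_of_mul_eq_one_right (SporFi22.gen_mul_self z)
  simp only [wprod, List.map_cons, List.map_nil, List.prod_cons, List.prod_nil, mul_one] at h'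
  show (SporFi22.gen x : Fi22) * SporFi22.gen y = SporFi22.gen y * SporFi22.gen x
  rw [← mul_assoc] at h'
  rw [eq_inv_of_mul_eq_one_left h', mul_inv_rev, i, i]

theorem gen_two_mem : (SporFi22.gen 2 : Fi22) ∈ D₂₂ :=
  isConj_iff.2 ⟨_, SporFi22.step_six⟩

theorem gen_one_mem : (SporFi22.gen 1 : Fi22) ∈ D₂₂ := by
  refine isConj_iff.2 ⟨z₀ * SporFi22.gen 1, ?_⟩
  have b := braid_conj (SporFi22.gen_mul_self 0) (SporFi22.gen_mul_self 1) SporFi22.braid01
  have i : ∀ z, (SporFi22.gen z : Fi22)⁻¹ = SporFi22.gen z :=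
    fun z => inv_eq_of_mul_eq_one_right (SporFi22.gen_mul_self z)
  rw [mul_inv_rev, i, i]
  calc z₀ * SporFi22.gen 1 * z₀ * (SporFi22.gen 1 * z₀)
      = z₀ * (SporFi22.gen 1 * z₀ * SporFi22.gen 1) * z₀ := by simp only [mul_assoc]
    _ = z₀ * (z₀ * SporFi22.gen 1 * z₀) * z₀ := by rw [b]
    _ = SporFi22.gen 1 := by
      simp only [← mul_assoc, SporFi22.gen_mul_self, one_mul]
      rw [mul_assoc, SporFi22.gen_mul_self, mul_one]

theorem gen_three_mem : (SporFi22.gen 3 : Fi22) ∈ D₂₂ := by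
  have h := SporFi22.gen_mem_rels (L := [2, 3, 2, 3, 2, 3]) (by decide +kernel)
  have b := braid_conj (SporFi22.gen_mul_self 2) (SporFi22.gen_mul_self 3)
    (by simpa [wprod, pow_succ, mul_assoc] using h)
  have i : ∀ z, (SporFi22.gen z : Fi22)⁻¹ = SporFi22.gen z :=
    fun z => inv_eq_of_mul_eq_one_right (SporFi22.gen_mul_self z)
  refine IsConj.trans gen_two_mem (isConj_iff.2 ⟨SporFi22.gen 2 * SporFi22.gen 3, ?_⟩)
  rw [mul_inv_rev, i, i]
  calc (SporFi22.gen 2 : Fi22) * SporFi22.gen 3 * SporFi22.gen 2 * (SporFi22.gen 3 * SporFi22.gen 2)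
      = SporFi22.gen 2 * (SporFi22.gen 3 * SporFi22.gen 2 * SporFi22.gen 3) * SporFi22.gen 2 := by
        simp only [mul_assoc]
    _ = SporFi22.gen 2 * (SporFi22.gen 2 * SporFi22.gen 3 * SporFi22.gen 2) * SporFi22.gen 2 := by rw [b]
    _ = SporFi22.gen 3 := by
      simp only [← mul_assoc, SporFi22.gen_mul_self, one_mul]
      rw [mul_assoc, SporFi22.gen_mul_self, mul_one]

theorem isPrimitive : Cfsg.IsPrimitiveUnderConj D₂₂ := by
  have hd : z₀ ∈ D₂₂ := mem_conjugatesOf_self
  have i : ∀ z, (SporFi22.gen z : Fi22)⁻¹ = SporFi22.gen z :=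
    fun z => inv_eq_of_mul_eq_one_right (SporFi22.gen_mul_self z)
  have n01 : ¬ Commute z₀ (SporFi22.gen 1) := by
    have h := not_commute (L := [1]) (by decide) (by decide +kernel)
    simpa [wprod, i] using h
  have n12 : ¬ Commute (SporFi22.gen 1 : Fi22) (SporFi22.gen 2) := by
    intro hc
    have h : ((SporFi22.gen 1 : Fi22) * SporFi22.gen 2) ^ 2 = 1 := by
      rw [hc.mul_pow, pow_two, pow_two, SporFi22.gen_mul_self, SporFi22.gen_mul_self, one_mul]
    have h3 := SporFi22.braid12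
    rw [pow_succ, h, one_mul] at h3
    exact SporFi22.gen_ne 1 2 (by norm_num) (by norm_num) ⟨1, by decide +kernel⟩ (by decide +kernel)
      ((eq_inv_of_mul_eq_one_left h3).trans (i 2))
  have hne02 : (SporFi22.gen 2 : Fi22) ≠ z₀ := fun e =>
    SporFi22.gen_ne 0 2 (by norm_num) (by norm_num) ⟨1, by decide +kernel⟩ (by decide +kernel) e.symm
  refine TypeModel.primitive_of_suborbits isGroup (fun a ha b hb => isConj_iff.1 (IsConj.trans ha.symm hb))
    hd (y₁ := SporFi22.gen 1 * z₀ * SporFi22.gen 1) (y₂ := SporFi22.gen 2)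
    (isConj_iff.2 ⟨SporFi22.gen 1, by rw [i]⟩) ?_ gen_two_mem (commute_gens (by decide +kernel)) hne02
    ?_ ?_ ?_
  · have h := not_commute (L := [1, 0, 1]) (by decide) (by decide +kernel)
    simpa [wprod, i, mul_assoc] using h
  · intro u hu
    obtain ⟨g, rfl⟩ := isConj_iff.1 hu
    obtain ⟨k, hk, h⟩ := SporFi22.conj_cases g
    have hkd : k * z₀ * k⁻¹ = z₀ := by rw [SporFi22.gen_zero_central k hk, mul_inv_cancel_right]
    rcases h with ⟨-, h⟩ | h | h
    · exact Or.inl (h.trans hkd)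
    · exact Or.inr ⟨k, hkd, Or.inl h⟩
    · exact Or.inr ⟨k, hkd, Or.inr h⟩
  · exact ⟨z₀, hd, _, gen_one_mem, _, gen_two_mem, n01, n12, commute_gens (by decide +kernel), hne02.symm⟩
  · exact ⟨z₀, hd, _, gen_three_mem, _, gen_one_mem, commute_gens (by decide +kernel),
      SporFi22.gen_ne 0 3 (by norm_num) (by norm_num) ⟨1, by decide +kernel⟩ (by decide +kernel),
      (commute_gens (x := 1) (y := 3) (by decide +kernel)).symm,
      SporFi22.gen_ne 3 1 (by norm_num) (by norm_num) ⟨0, by decide +kernel⟩ (by decide +kernel), n01⟩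

theorem pairs_ok : data.okPairs = true := by decide +kernel

theorem line0 : TypeModel.Cert.block data.okLine 0 126 = true := by decide +kernel

theorem line_ok : ∀ i < 126, data.okLine i = true := by
  intro i hi
  exact TypeModel.Cert.block_get line0 (by omega) (by omega)

theorem cover0 : TypeModel.Cert.block data.okCover 0 729 = true := by decide +kernel

theorem cover_ok : ∀ i < 729, data.okCover i = true := by
  intro i hi
  exact TypeModel.Cert.block_get cover0 (by omega) (by omega)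

theorem all0 : TypeModel.Cert.block (data.okAll FiA.table 0 1) 0 3510 = true := by decide +kernel

theorem all_ok : ∀ i < 3510, data.okAll FiA.table 0 1 i = true := by
  intro i hi
  exact TypeModel.Cert.block_get all0 (by omega) (by omega)

theorem points_ok : data.okPoints FiA.table 0 1 = true := by decide +kernel

theorem quot_congr {X : Type*} [Group X] {A B : Subgroup X} (h : A = B) :
    Nonempty (↥A ⧸ Subgroup.center ↥A ≃* ↥B ⧸ Subgroup.center ↥B) := by
  subst h
  exact ⟨MulEquiv.refl _⟩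

/-- The type. -/
theorem typeM22 : Cfsg.IsOfTypeM22 Fi22 D₂₂ := by
  obtain ⟨-, e, he0, he⟩ := SporFi22.index_H
  have hg : FiA.table.g = 9 := by decide +kernel
  obtain ⟨M, hR, hbase⟩ := TypeModel.exists_pointModel (gen := (SporFi22.gen : ℕ → Fi22)) SporFi22.rep e he
    SporFi22.centralizer_gen_zero SporFi22.gen_mul_self
    (fun L hL => SporFi22.rep_inv_wprod L (fun y hy => hg ▸ hL y hy))
  have hTd : M.T ⟨0, FiA.covered.hn⟩ = z₀ := hbase _ he0
  obtain ⟨hnc, hproj⟩ := TypeModel.pair_type M data (d := ⟨0, FiA.covered.hn⟩) (c := ⟨1, by decide +kernel⟩)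
    (fun _ => hTd) pairs_ok line_ok cover_ok points_ok
    (fun p hp => all_ok p (lt_of_lt_of_eq hp (by decide +kernel))) (μ := 1) (by decide +kernel) rfl
  rw [hR, hTd] at hproj
  rw [hTd] at hnc
  have hcen : Subgroup.center Fi22 = ⊥ := by
    haveI := SporFi22.isSimpleGroup
    refine ((inferInstance : (Subgroup.center Fi22).Normal).eq_bot_or_eq_top).resolve_right fun h => hnc ?_
    exact (Subgroup.mem_center_iff.1 (h.symm ▸ Subgroup.mem_top (M.T ⟨1, by decide +kernel⟩)) z₀)
  refine ⟨hcen, z₀, mem_conjugatesOf_self, M.T ⟨1, by decide +kernel⟩, hR ▸ Set.mem_range_self _, hnc, ?_,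
    1, one_ne_zero, hproj⟩
  haveI : IsSimpleGroup (Cfsg.PSU 6 FQ4 2) :=
    CfsgLib.Classical.isSimpleGroup_psu SporFi22U6.hF (by norm_num) (by norm_num)
  have hcov := SporFi22.centralizer_transposition z₀ mem_conjugatesOf_self
  obtain ⟨hcl, -⟩ := TypeModel.closure_nbrs_eq isGroup hcov mem_conjugatesOf_self gen_two_mem
    (fun h => SporFi22.gen_ne 0 2 (by norm_num) (by norm_num) ⟨1, by decide +kernel⟩ (by decide +kernel) h.symm)
    (commute_gens (by decide +kernel))
  obtain ⟨e₁⟩ := quot_congr hcl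
  obtain ⟨e₂⟩ := hcov.2.1
  exact ⟨FQ4, inferInstance, inferInstance, FQ4.card_eq, ⟨e₁.trans e₂⟩⟩

end CfsgLib.InvChar.TypeFi22
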