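import Cfsg.Agent.Lib.InvChar.SporFi23Trans
import Cfsg.Agent.Lib.InvChar.TypeFi22
import Cfsg.Agent.Lib.InvChar.TypeFi23Data
import Cfsg.Agent.Lib.Trans3.Fi.M23Base

/-!
# The presented Fi23 is of type M(23)
-/

set_option autoImplicit false
set_option maxRecDepth 100000

namespace CfsgLib.InvChar.TypeFi23

open CfsgLib.InvChar.Coset CfsgLib.InvChar.DoubleCoverUtil Cfsg.Spor

local notation "g₀₁" x => (SporFi23.gen x : Fi23)
local notation "D₂₃" => conjugatesOf SporFi23.t

theorem isGroup : Cfsg.IsThreeTranspositionGroup D₂₃ :=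
  ⟨SporFi23.isThreeTranspositionClass.1,
    fun g _ hd => IsConj.trans hd (isConj_iff.2 ⟨g, rfl⟩), SporFi23.isThreeTranspositionClass.2.2⟩

theorem commute_gens {x y : ℕ} (h : [x, y, x, y] ∈ F23.rels) :
    Commute (SporFi23.gen x : Fi23) (SporFi23.gen y) := by
  have h' : wprod (SporFi23.gen : ℕ → Fi23) [x, y, x, y] = 1 := SporFi23.pres.gen_rel _ h
  simp only [wprod, List.map_cons, List.map_nil, List.prod_cons, List.prod_nil, mul_one] at h'
  show (SporFi23.gen x : Fi23) * SporFi23.gen y = SporFi23.gen y * SporFi23.gen x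
  rw [← mul_assoc] at h'
  rw [eq_inv_of_mul_eq_one_left h', mul_inv_rev, SporFi23.inv_gen, SporFi23.inv_gen]

theorem not_commute_of_braid {x y : ℕ} (h : [x, y, x, y, x, y] ∈ F23.rels)
    (hne : (SporFi23.gen x : Fi23) ≠ SporFi23.gen y) :
    ¬ Commute (SporFi23.gen x : Fi23) (SporFi23.gen y) := fun hc => hne <| by
  have h3 : ((SporFi23.gen x : Fi23) * SporFi23.gen y) ^ 3 = 1 := by
    have h' : wprod (SporFi23.gen : ℕ → Fi23) [x, y, x, y, x, y] = 1 := SporFi23.pres.gen_rel _ h
    simpa [wprod, pow_succ, mul_assoc] using h'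
  have h2 : ((SporFi23.gen x : Fi23) * SporFi23.gen y) ^ 2 = 1 := by
    rw [hc.mul_pow, pow_two, pow_two, SporFi23.gen_mul_self, SporFi23.gen_mul_self, one_mul]
  rw [pow_succ, h2, one_mul] at h3
  exact (eq_inv_of_mul_eq_one_left h3).trans (SporFi23.inv_gen y)

theorem gen_ne' {x y : ℕ} (hx : x < 10) (hy : y < 10)
    (h : ∃ p < 200, F23.table.follow [x] p ≠ F23.table.follow [y] p) :
    (SporFi23.gen x : Fi23) ≠ SporFi23.gen y := by
  obtain ⟨p, hp, h⟩ := h
  exact SporFi23.gen_ne x y hx hy ⟨p, lt_of_lt_of_le hp (by decide +kernel)⟩ h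

theorem mem_of_braid {x y : ℕ} (h : [x, y, x, y, x, y] ∈ F23.rels ∨ [y, x, y, x, y, x] ∈ F23.rels)
    (hx : (SporFi23.gen x : Fi23) ∈ D₂₃) : (SporFi23.gen y : Fi23) ∈ D₂₃ := by
  have h3 : ((SporFi23.gen x : Fi23) * SporFi23.gen y) ^ 3 = 1 := by
    rcases h with h | h
    · have h' : wprod (SporFi23.gen : ℕ → Fi23) [x, y, x, y, x, y] = 1 := SporFi23.pres.gen_rel _ h
      simpa [wprod, pow_succ, mul_assoc] using h'
    · have h' : wprod (SporFi23.gen : ℕ → Fi23) [y, x, y, x, y, x] = 1 := SporFi23.pres.gen_rel _ h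
      rw [show (SporFi23.gen x : Fi23) * SporFi23.gen y = (SporFi23.gen y * SporFi23.gen x)⁻¹ by
        rw [mul_inv_rev, SporFi23.inv_gen, SporFi23.inv_gen], inv_pow, inv_eq_one]
      simpa [wprod, pow_succ, mul_assoc] using h'
  have b := braid_conj (SporFi23.gen_mul_self x) (SporFi23.gen_mul_self y) h3
  refine IsConj.trans hx (isConj_iff.2 ⟨SporFi23.gen x * SporFi23.gen y, ?_⟩)
  rw [mul_inv_rev, SporFi23.inv_gen, SporFi23.inv_gen]
  calc (SporFi23.gen x : Fi23) * SporFi23.gen y * SporFi23.gen x * (SporFi23.gen y * SporFi23.gen x)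
      = SporFi23.gen x * (SporFi23.gen y * SporFi23.gen x * SporFi23.gen y) * SporFi23.gen x := by
        simp only [mul_assoc]
    _ = SporFi23.gen x * (SporFi23.gen x * SporFi23.gen y * SporFi23.gen x) * SporFi23.gen x := by rw [b]
    _ = SporFi23.gen y := by
      simp only [← mul_assoc, SporFi23.gen_mul_self, one_mul]
      rw [mul_assoc, SporFi23.gen_mul_self, mul_one]

theorem gen_one_mem : (SporFi23.gen 1 : Fi23) ∈ D₂₃ :=
  isConj_iff.2 ⟨SporFi23.W⁻¹, by rw [SporFi23.t]; group⟩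

theorem gen_zero_mem : (SporFi23.gen 0 : Fi23) ∈ D₂₃ := mem_of_braid (by decide +kernel) gen_one_mem

theorem gen_two_mem : (SporFi23.gen 2 : Fi23) ∈ D₂₃ := mem_of_braid (by decide +kernel) gen_one_mem

theorem gen_three_mem : (SporFi23.gen 3 : Fi23) ∈ D₂₃ := mem_of_braid (by decide +kernel) gen_two_mem

theorem hsub : ∀ u ∈ D₂₃, u = SporFi23.t ∨ ∃ k : Fi23, k * SporFi23.t * k⁻¹ = SporFi23.t ∧
    (u = k * (SporFi23.W * (SporFi23.gen 0 * SporFi23.gen 1 * SporFi23.gen 0) * SporFi23.W⁻¹) * k⁻¹ ∨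
      u = k * (SporFi23.W * SporFi23.gen 3 * SporFi23.W⁻¹) * k⁻¹) := by
  intro u hu
  obtain ⟨g, rfl⟩ := isConj_iff.1 hu
  obtain ⟨k, hk, h⟩ := SporFi23.conj_cases g
  have hkd : k * SporFi23.t * k⁻¹ = SporFi23.t := by rw [SporFi23.t_central k hk, mul_inv_cancel_right]
  rcases h with ⟨-, h⟩ | h | h
  · exact Or.inl (h.trans hkd)
  · exact Or.inr ⟨k, hkd, Or.inl h⟩
  · exact Or.inr ⟨k, hkd, Or.inr h⟩

theorem conjW (a : Fi23) (ha : a ∈ D₂₃) : SporFi23.W * a * SporFi23.W⁻¹ ∈ D₂₃ := isGroup.2.1 _ a ha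

theorem ne01 : (SporFi23.gen 1 : Fi23) ≠ SporFi23.gen 0 :=
  SporFi23.gen_ne 1 0 (by norm_num) (by norm_num) ⟨6, by decide +kernel⟩ (by decide +kernel)

theorem ne13 : (SporFi23.gen 1 : Fi23) ≠ SporFi23.gen 3 :=
  SporFi23.gen_ne 1 3 (by norm_num) (by norm_num) ⟨4, by decide +kernel⟩ (by decide +kernel)

theorem far_near : ¬ Commute SporFi23.t
      (SporFi23.W * (SporFi23.gen 0 * SporFi23.gen 1 * SporFi23.gen 0) * SporFi23.W⁻¹) ∧
    Commute SporFi23.t (SporFi23.W * SporFi23.gen 3 * SporFi23.W⁻¹) ∧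
    SporFi23.W * SporFi23.gen 3 * SporFi23.W⁻¹ ≠ SporFi23.t := by
  refine ⟨fun hc => ?_, ?_, fun e => ne13.symm ?_⟩
  · have h1 : Commute (SporFi23.gen 1 : Fi23) (SporFi23.gen 0 * SporFi23.gen 1 * SporFi23.gen 0) :=
      hc.of_map (f := (MulAut.conj SporFi23.W).toMonoidHom) (MulAut.conj SporFi23.W).injective
    have b := braid_conj (SporFi23.gen_mul_self 0) (SporFi23.gen_mul_self 1) SporFi23.rel01
    rw [b] at h1
    have h2 := h1.map (MulAut.conj (SporFi23.gen 1 : Fi23)).toMonoidHom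
    simp only [MulEquiv.coe_toMonoidHom, MulAut.conj_apply, SporFi23.inv_gen] at h2
    rw [SporFi23.gen_mul_self, one_mul] at h2
    simp only [← mul_assoc, SporFi23.gen_mul_self, one_mul] at h2
    rw [mul_assoc, SporFi23.gen_mul_self, mul_one] at h2
    exact not_commute_of_braid (x := 0) (y := 1) (by decide +kernel) ne01.symm h2.symm
  · exact (commute_gens (x := 1) (y := 3) (by decide +kernel)).map (MulAut.conj SporFi23.W).toMonoidHom
  · exact mul_left_cancel (mul_right_cancel e)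

theorem isPrimitive : Cfsg.IsPrimitiveUnderConj D₂₃ := by
  refine TypeModel.primitive_of_suborbits isGroup (fun a ha b hb => isConj_iff.1 (IsConj.trans ha.symm hb))
    (d := SporFi23.t) mem_conjugatesOf_self ?_ far_near.1 (conjW _ gen_three_mem) far_near.2.1 far_near.2.2
    hsub ?_ ?_
  · refine conjW _ ?_
    have h := isGroup.2.1 (SporFi23.gen 0) _ gen_one_mem
    rwa [SporFi23.inv_gen] at h
  · exact ⟨_, gen_zero_mem, _, gen_one_mem, _, gen_two_mem,
      not_commute_of_braid (by decide +kernel) ne01.symm,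
      not_commute_of_braid (by decide +kernel)
        (gen_ne' (by norm_num) (by norm_num) (by decide +kernel)),
      commute_gens (by decide +kernel),
      gen_ne' (by norm_num) (by norm_num) (by decide +kernel)⟩
  · exact ⟨_, gen_zero_mem, _, gen_three_mem, _, gen_one_mem, commute_gens (by decide +kernel),
      gen_ne' (by norm_num) (by norm_num) (by decide +kernel),
      (commute_gens (x := 1) (y := 3) (by decide +kernel)).symm, ne13.symm,
      not_commute_of_braid (by decide +kernel) ne01.symm⟩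

theorem quot_hom {X Y : Type*} [Group X] [Group Y] {A B : Subgroup X} (h : A = B) (f : ↥B →* Y)
    (hf : Function.Surjective f) (hk : f.ker = Subgroup.center ↥B) {S : Set X} {E : Set Y}
    (hE : f '' {x | (x : X) ∈ S} = E) :
    ∃ e : Y ≃* ↥A ⧸ Subgroup.center ↥A,
      e '' E = (QuotientGroup.mk : ↥A → _) '' {x | (x : X) ∈ S} := by
  subst h
  obtain ⟨e, he⟩ : ∃ e : ↥A ⧸ Subgroup.center ↥A ≃* Y, ∀ x, e (QuotientGroup.mk x) = f x :=
    ⟨(QuotientGroup.quotientMulEquivOfEq hk.symm).trans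
      (QuotientGroup.quotientKerEquivOfSurjective f hf), fun x => rfl⟩
  refine ⟨e.symm, ?_⟩
  rw [← hE, Set.image_image]
  refine Set.image_congr fun x _ => ?_
  rw [← he, e.symm_apply_apply]

theorem gen_zero_near : (SporFi23.gen 0 : Fi23) ∈
    {y : Fi23 | y ∈ D₂₃ ∧ y ≠ SporFi23.t ∧ Commute SporFi23.t y} := by
  have hH := SporFi23.gen_mem (x := 0) (by norm_num)
  refine ⟨gen_zero_mem, fun e => ?_, (SporFi23.t_central _ hH).symm⟩
  have h0 := SporFi23.toFi22_eq hH (SporFi23.induces_gen (x := 0) (by norm_num))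
  have ht := SporFi23.toFi22_eq SporFi23.t_mem SporFi23.t_induces
  have hsame : (⟨SporFi23.gen (SporFi23.emb.getD 0 0), hH⟩ : ↥SporFi23.H) = ⟨SporFi23.t, SporFi23.t_mem⟩ :=
    Subtype.ext e
  rw [hsame, ht] at h0
  exact Trans3.invol_ne_one SporFi22.orderOf_gen_zero h0.symm

theorem image_nbrs : SporFi23.toFi22 ''
      {x : ↥SporFi23.H | (x : Fi23) ∈ {y : Fi23 | y ∈ D₂₃ ∧ y ≠ SporFi23.t ∧ Commute SporFi23.t y}} =
    conjugatesOf (SporFi22.gen 0 : Fi22) := by
  obtain ⟨hfar, -, -⟩ := far_near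
  have hH := SporFi23.gen_mem (x := 0) (by norm_num)
  have h0 : SporFi23.toFi22 ⟨_, hH⟩ = SporFi22.gen 0 :=
    SporFi23.toFi22_eq hH (SporFi23.induces_gen (by norm_num))
  have hnear : ∀ u ∈ {y : Fi23 | y ∈ D₂₃ ∧ y ≠ SporFi23.t ∧ Commute SporFi23.t y},
      ∃ k ∈ SporFi23.H, u = k * (SporFi23.W * SporFi23.gen 3 * SporFi23.W⁻¹) * k⁻¹ := by
    rintro u ⟨hu, hne, hc⟩
    obtain ⟨k, hk, h⟩ := (hsub u hu).resolve_left hne
    have hk' : k ∈ SporFi23.H := by
      rw [← SporFi23.centralizer_t, Subgroup.mem_centralizer_singleton_iff]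
      exact mul_inv_eq_iff_eq_mul.1 hk
    refine ⟨k, hk', h.resolve_left fun e => hfar ?_⟩
    have h2 := hc.map (MulAut.conj k⁻¹).toMonoidHom
    simp only [MulEquiv.coe_toMonoidHom, MulAut.conj_apply, inv_inv, e] at h2
    rw [show k⁻¹ * SporFi23.t * k = SporFi23.t by
      conv_lhs => rw [← hk]
      group] at h2
    simpa [mul_assoc] using h2
  ext v
  constructor
  · rintro ⟨⟨u, hu⟩, hmem, rfl⟩
    obtain ⟨k, hk, e⟩ := hnear u hmem
    obtain ⟨k₀, hk₀, e₀⟩ := hnear _ gen_zero_near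
    refine isConj_iff.2 ⟨SporFi23.toFi22 ⟨k * k₀⁻¹, mul_mem hk (inv_mem hk₀)⟩, ?_⟩
    rw [← h0, ← map_inv, ← map_mul, ← map_mul]
    refine congrArg _ (Subtype.ext ?_)
    show k * k₀⁻¹ * SporFi23.gen (SporFi23.emb.getD 0 0) * (k * k₀⁻¹)⁻¹ = u
    rw [show SporFi23.emb.getD 0 0 = 0 from rfl, e₀, e]
    group
  · intro hv
    obtain ⟨y, rfl⟩ := isConj_iff.1 hv
    obtain ⟨⟨k, hk⟩, rfl⟩ := SporFi23.toFi22_surjective y
    refine ⟨⟨k, hk⟩ * ⟨_, hH⟩ * (⟨k, hk⟩)⁻¹, ?_, by rw [map_mul, map_mul, map_inv, h0]⟩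
    obtain ⟨hd, hne, hc⟩ := gen_zero_near
    have hkt : k * SporFi23.t * k⁻¹ = SporFi23.t := by rw [SporFi23.t_central k hk, mul_inv_cancel_right]
    refine ⟨isGroup.2.1 k _ hd, fun e => hne ?_, ?_⟩
    · exact mul_left_cancel (mul_right_cancel (e.trans hkt.symm))
    · rw [← hkt]
      exact hc.map (MulAut.conj k).toMonoidHom

theorem pairs_ok : data.okPairs = true := by decide +kernel

theorem line0 : TypeModel.Cert.block data.okLine 0 117 = true := by decide +kernel
theorem line1 : TypeModel.Cert.block data.okLine 117 117 = true := by decide +kernel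
theorem line2 : TypeModel.Cert.block data.okLine 234 117 = true := by decide +kernel

theorem line_ok : ∀ i < 351, data.okLine i = true := by
  intro i hi
  rcases Nat.lt_or_ge i 117 with h0 | h0
  · exact TypeModel.Cert.block_get line0 (by omega) (by omega)
  rcases Nat.lt_or_ge i 234 with h1 | h1
  · exact TypeModel.Cert.block_get line1 (by omega) (by omega)
  exact TypeModel.Cert.block_get line2 (by omega) (by omega)

theorem cover0 : TypeModel.Cert.block data.okCover 0 547 = true := by decide +kernel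
theorem cover1 : TypeModel.Cert.block data.okCover 547 547 = true := by decide +kernel
theorem cover2 : TypeModel.Cert.block data.okCover 1094 547 = true := by decide +kernel
theorem cover3 : TypeModel.Cert.block data.okCover 1641 546 = true := by decide +kernel

theorem cover_ok : ∀ i < 2187, data.okCover i = true := by
  intro i hi
  rcases Nat.lt_or_ge i 547 with h0 | h0
  · exact TypeModel.Cert.block_get cover0 (by omega) (by omega)
  rcases Nat.lt_or_ge i 1094 with h1 | h1
  · exact TypeModel.Cert.block_get cover1 (by omega) (by omega)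
  rcases Nat.lt_or_ge i 1641 with h2 | h2
  · exact TypeModel.Cert.block_get cover2 (by omega) (by omega)
  exact TypeModel.Cert.block_get cover3 (by omega) (by omega)

theorem all0 : TypeModel.Cert.block (data.okAll F23.table 0 8006) 0 4000 = true := by decide +kernel
theorem all1 : TypeModel.Cert.block (data.okAll F23.table 0 8006) 4000 4000 = true := by decide +kernel
theorem all2 : TypeModel.Cert.block (data.okAll F23.table 0 8006) 8000 4000 = true := by decide +kernel
theorem all3 : TypeModel.Cert.block (data.okAll F23.table 0 8006) 12000 4000 = true := by decide +kernel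
theorem all4 : TypeModel.Cert.block (data.okAll F23.table 0 8006) 16000 4000 = true := by decide +kernel
theorem all5 : TypeModel.Cert.block (data.okAll F23.table 0 8006) 20000 4000 = true := by decide +kernel
theorem all6 : TypeModel.Cert.block (data.okAll F23.table 0 8006) 24000 4000 = true := by decide +kernel
theorem all7 : TypeModel.Cert.block (data.okAll F23.table 0 8006) 28000 3671 = true := by decide +kernel

theorem all_ok : ∀ i < 31671, data.okAll F23.table 0 8006 i = true := by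
  intro i hi
  rcases Nat.lt_or_ge i 4000 with h0 | h0
  · exact TypeModel.Cert.block_get all0 (by omega) (by omega)
  rcases Nat.lt_or_ge i 8000 with h1 | h1
  · exact TypeModel.Cert.block_get all1 (by omega) (by omega)
  rcases Nat.lt_or_ge i 12000 with h2 | h2
  · exact TypeModel.Cert.block_get all2 (by omega) (by omega)
  rcases Nat.lt_or_ge i 16000 with h3 | h3
  · exact TypeModel.Cert.block_get all3 (by omega) (by omega)
  rcases Nat.lt_or_ge i 20000 with h4 | h4
  · exact TypeModel.Cert.block_get all4 (by omega) (by omega)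
  rcases Nat.lt_or_ge i 24000 with h5 | h5
  · exact TypeModel.Cert.block_get all5 (by omega) (by omega)
  rcases Nat.lt_or_ge i 28000 with h6 | h6
  · exact TypeModel.Cert.block_get all6 (by omega) (by omega)
  exact TypeModel.Cert.block_get all7 (by omega) (by omega)

theorem points_ok : data.okPoints F23.table 0 8006 = true := by decide +kernel

/-- The type. -/
theorem typeM23 : Cfsg.IsOfTypeM23 Fi23 D₂₃ := by
  obtain ⟨-, e, he0, he⟩ := SporFi23.index_H
  have hg : F23.table.g = 10 := by decide +kernel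
  obtain ⟨M, hR, hbase⟩ := TypeModel.exists_pointModel (gen := (SporFi23.gen : ℕ → Fi23)) SporFi23.rep e he
    SporFi23.centralizer_t SporFi23.gen_mul_self
    (fun L hL => SporFi23.rep_inv_wprod L (fun y hy => hg ▸ hL y hy))
  have hTd : M.T ⟨0, F23.covered.hn⟩ = SporFi23.t := hbase _ he0
  have hs : ∀ h : data.s0 < F23.table.n, M.T ⟨data.s0, h⟩ = SporFi23.gen data.x0 := by
    intro h
    have h1 := M.conj SporFi23.W⁻¹ ⟨0, F23.covered.hn⟩
    rw [hTd] at h1
    have h2 : M.rep SporFi23.W⁻¹ ⟨0, F23.covered.hn⟩ = (⟨data.s0, h⟩ : Fin F23.table.n) := Fin.ext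
      ((M.word SporFi23.tw (by decide +kernel) _).trans
        (by decide +kernel : F23.table.follow SporFi23.tw 0 = data.s0))
    rw [h2] at h1
    rw [← h1, SporFi23.t, show data.x0 = 1 from rfl]
    group
  obtain ⟨hnc, hproj⟩ := TypeModel.pair_type M data (d := ⟨0, F23.covered.hn⟩) (c := ⟨8006, by decide +kernel⟩)
    hs pairs_ok line_ok cover_ok points_ok
    (fun p hp => all_ok p (lt_of_lt_of_eq hp (by decide +kernel))) (μ := -1) (by decide +kernel) rfl
  rw [hR, hTd] at hproj
  rw [hTd] at hnc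
  have hcen : Subgroup.center Fi23 = ⊥ := by
    haveI := SporFi23.isSimpleGroup
    refine ((inferInstance : (Subgroup.center Fi23).Normal).eq_bot_or_eq_top).resolve_right fun h => hnc ?_
    exact Subgroup.mem_center_iff.1 (h.symm ▸ Subgroup.mem_top (M.T ⟨8006, by decide +kernel⟩)) SporFi23.t
  refine ⟨hcen, SporFi23.t, mem_conjugatesOf_self, M.T ⟨8006, by decide +kernel⟩, hR ▸ Set.mem_range_self _,
    hnc, ?_, 1, one_ne_zero, hproj⟩
  haveI := SporFi22.isSimpleGroup
  obtain ⟨hd0, hne0, hc0⟩ := gen_zero_near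
  obtain ⟨hcl, -⟩ := TypeModel.closure_nbrs_eq isGroup
    (SporFi23.centralizer_transposition _ mem_conjugatesOf_self) mem_conjugatesOf_self hd0 hne0 hc0
  obtain ⟨e', he'⟩ := quot_hom (hcl.trans SporFi23.centralizer_t) SporFi23.toFi22
    SporFi23.toFi22_surjective SporFi23.center_H.symm image_nbrs
  exact Trans3.Fi.m22_congr e' he' TypeFi22.typeM22

end CfsgLib.InvChar.TypeFi23
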