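import Cfsg.Agent.Lib.InvChar.SporFi24Trans
import Cfsg.Agent.Lib.InvChar.TypeFi23
import Cfsg.Agent.Lib.StructB.Fi23Tri.Main

/-!
# The presented Fi24 is of type M(24)

The neighbours of `l` are the members at the points of the orbit of 31671, lying over the transpositions of
Fi23; those fixed by `k` are the points of the three colours of the triality subgroup.
-/

set_option autoImplicit false
set_option maxRecDepth 100000

namespace CfsgLib.InvChar.TypeFi24

open CfsgLib.InvChar.Coset (field wprod force force_eq)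
open CfsgLib.InvChar.SporFi24 (trans gk gm cl psi pt img trav orbPt alpha toFi23 zH)
open CfsgLib.StructB.Fi23Tri (Pt tau genPt mkPt colOf Ltri L0 chi q2)
open Cfsg.Spor

local notation "D₂₄" => conjugatesOf trans

theorem isGroup : Cfsg.IsThreeTranspositionGroup D₂₄ :=
  ⟨SporFi24.isThreeTranspositionClass.1,
    fun g _ hd => IsConj.trans hd (isConj_iff.2 ⟨g, rfl⟩), SporFi24.isThreeTranspositionClass.2.2⟩

/-- The transposition at a point. -/
theorem exists_T : ∃ T : Fin 306936 → Fi24, Set.range T = D₂₄ ∧ Function.Injective T ∧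
    T (pt 0) = trans ∧ ∀ (g : Fi24) (p : Fin 306936), g * T p * g⁻¹ = T (SporFi24.rep g p) := by
  obtain ⟨e, hee⟩ : ∃ e : Fin 306936 ≃ Fi24 ⧸ SporFi24.H, ∀ q, e (psi q) = q :=
    ⟨(Equiv.ofBijective psi SporFi24.psi_bijective).symm,
      (Equiv.ofBijective psi SporFi24.psi_bijective).symm_apply_apply⟩
  refine ⟨fun p => (SporFi24.transOfCoset (e p) : Fi24), ?_, fun p q h => ?_, ?_, fun g p => ?_⟩
  · ext z
    constructor
    · rintro ⟨p, rfl⟩; exact (SporFi24.transOfCoset (e p)).2
    · intro hz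
      obtain ⟨q, hq⟩ := SporFi24.transOfCoset_bijective.2 ⟨z, hz⟩
      exact ⟨psi q, by show ((SporFi24.transOfCoset (e (psi q))) : Fi24) = z; rw [hee, hq]⟩
  · exact e.injective (SporFi24.transOfCoset_bijective.1 (Subtype.ext h))
  · show (SporFi24.transOfCoset (e (pt 0)) : Fi24) = trans
    rw [show pt 0 = psi (cl 1) by rw [SporFi24.psi_cl, map_one, Equiv.Perm.one_apply], hee,
      SporFi24.transOfCoset_cl]
    simp
  · obtain ⟨q, rfl⟩ := SporFi24.psi_surjective p
    show g * (SporFi24.transOfCoset (e (psi q)) : Fi24) * g⁻¹ = SporFi24.transOfCoset (e (SporFi24.rep g (psi q)))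
    rw [← SporFi24.psi_smul, hee, hee, SporFi24.transOfCoset_smul]

/-- The transposition at a point. -/
noncomputable def T : Fin 306936 → Fi24 := exists_T.choose

theorem range_T : Set.range T = D₂₄ := exists_T.choose_spec.1

theorem T_injective : Function.Injective T := exists_T.choose_spec.2.1

theorem T_zero : T (pt 0) = trans := exists_T.choose_spec.2.2.1

theorem T_conj (g : Fi24) (p : Fin 306936) : g * T p * g⁻¹ = T (SporFi24.rep g p) :=
  exists_T.choose_spec.2.2.2 g p

theorem commute_T_iff (g : Fi24) (p : Fin 306936) : Commute g (T p) ↔ SporFi24.rep g p = p := by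
  constructor
  · intro h
    exact T_injective ((T_conj g p).symm.trans (by rw [h.eq, mul_inv_cancel_right]))
  · intro h
    exact mul_inv_eq_iff_eq_mul.1 ((T_conj g p).trans (by rw [h]))

/-- The neighbour of `l` at a point of Fi23. -/
noncomputable def U (b : Pt) : Fi24 := T (orbPt b)

theorem U_mem_D (b : Pt) : U b ∈ D₂₄ := range_T ▸ Set.mem_range_self _

theorem commute_U (b : Pt) : Commute trans (U b) :=
  (commute_T_iff _ _).2 (by rw [SporFi24.induces_zero b, map_one, Equiv.Perm.one_apply])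

theorem U_mem_H (b : Pt) : U b ∈ SporFi24.H := by
  rw [← SporFi24.centralizer_trans, Subgroup.mem_centralizer_singleton_iff]
  exact (commute_U b).eq.symm

theorem conj_U (h : ↥SporFi24.H) (b : Pt) :
    (h : Fi24) * U b * (h : Fi24)⁻¹ = U (SporFi23.rep (toFi23 h) b) := by
  rw [U, T_conj, SporFi24.toFi23_spec h b]
  rfl

theorem U_genPt_zero : U (genPt 0) = SporFi24.gen 2 := by
  have h : SporFi24.rep gm (pt 0) = orbPt (genPt 0) := Fin.ext (by
    have e := SporFi24.rep_wprod [1, 0, 2, 1] (by decide) (pt 0)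
    rw [← SporFi24.gm_eq_wprod, SporFi24.gm_inv] at e
    rw [e]
    show trav [1, 0, 2, 1] 0 = field alpha 128 20 (genPt 0 : ℕ)
    rw [StructB.Fi23Tri.genPt_val (by norm_num)]
    decide +kernel)
  rw [U, ← h, ← T_conj, T_zero, SporFi24.gm_inv, SporFi24.gm_zero]

/-- The image of a neighbour. -/
theorem toFi23_U (b : Pt) : toFi23 ⟨U b, U_mem_H b⟩ = tau b := by
  obtain ⟨y, hy⟩ := isConj_iff.1
    ((show IsConj SporFi23.t (tau (genPt 0)) from StructB.Fi23Tri.tau_mem _).symm.trans
      (StructB.Fi23Tri.tau_mem b))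
  rw [StructB.Fi23Tri.tau_conj] at hy
  obtain ⟨h, rfl⟩ := SporFi24.toFi23_surjective y
  obtain rfl := StructB.Fi23Tri.tau_injective hy
  have e : (⟨U _, U_mem_H (SporFi23.rep (toFi23 h) (genPt 0))⟩ : ↥SporFi24.H) =
      h * ⟨SporFi24.gen 2, SporFi24.gen_mem_H (by decide)⟩ * h⁻¹ := Subtype.ext (by
    rw [Subgroup.coe_mul, Subgroup.coe_mul, Subgroup.coe_inv]
    show U _ = (h : Fi24) * SporFi24.gen 2 * (h : Fi24)⁻¹
    rw [← U_genPt_zero, conj_U])
  rw [e, map_mul, map_mul, map_inv,
    SporFi24.toFi23_eq (y := SporFi23.gen 0) _ (SporFi24.induces_gen (x := 0) (by norm_num)),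
    StructB.Fi23Tri.gen_eq_tau 0 (by norm_num), StructB.Fi23Tri.tau_conj]

theorem U_ne (b : Pt) : U b ≠ trans := fun e => by
  have h : toFi23 ⟨U b, U_mem_H b⟩ = toFi23 zH := congrArg toFi23 (Subtype.ext e)
  rw [toFi23_U, SporFi24.toFi23_zH] at h
  exact Trans3.invol_ne_one (SporFi23.isThreeTranspositionClass.1.1 _ (StructB.Fi23Tri.tau_mem b)) h

/-- The members commuting with `l`. -/
theorem nbrs_eq : ({y : Fi24 | y ∈ D₂₄ ∧ y ≠ trans ∧ Commute trans y}) = Set.range U := by
  ext u
  constructor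
  · rintro ⟨hu, hne, hc⟩
    obtain ⟨g, rfl⟩ := isConj_iff.1 hu
    obtain ⟨h, hh, e⟩ := SporFi24.conj_cases g
    have hht : h * trans * h⁻¹ = trans := by
      rw [← SporFi24.comm_gen_zero hh, mul_inv_cancel_right]
    rcases e with e | e | e
    · exact absurd (e.trans hht) hne
    · exfalso
      rw [e] at hc
      have hc' : Commute trans (gk * trans * gk) := by
        have := hc.map (MulAut.conj h⁻¹).toMonoidHom
        simp only [MulEquiv.coe_toMonoidHom, MulAut.conj_apply, inv_inv] at this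
        rw [show h⁻¹ * trans * h = trans by
          conv_lhs => rw [← hht]
          group] at this
        simpa [mul_assoc] using this
      have hp : gk * trans * gk = T (SporFi24.rep gk (pt 0)) := by
        rw [← T_conj, T_zero, SporFi24.gen_inv]
      rw [hp, commute_T_iff] at hc'
      have h' := congrArg Fin.val hc'
      rw [SporFi24.rep_gen_apply (by norm_num), SporFi24.rep_gen_apply (by norm_num)] at h'
      exact absurd h' (by simp only [pt]; decide +kernel)
    · refine ⟨SporFi23.rep (toFi23 ⟨h, hh⟩) (genPt 0), ?_⟩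
      rw [e, ← conj_U ⟨h, hh⟩, U_genPt_zero]
  · rintro ⟨b, rfl⟩
    exact ⟨U_mem_D b, U_ne b, commute_U b⟩

theorem gk_mem : gk ∈ D₂₄ := by
  refine isConj_iff.2 ⟨trans * gk, ?_⟩
  rw [mul_inv_rev, SporFi24.gen_inv, SporFi24.gen_inv]
  calc trans * gk * trans * (gk * trans) = trans * (gk * trans * gk) * trans := by simp only [mul_assoc]
    _ = trans * (trans * gk * trans) * trans := by rw [SporFi24.klk]
    _ = gk := by
      simp only [← mul_assoc, SporFi24.gen_mul_self, one_mul]
      rw [mul_assoc, SporFi24.gen_mul_self, mul_one]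

theorem not_commute_gk : ¬ Commute trans gk := fun hc => by
  have h := (commute_T_iff gk (pt 0)).1 (T_zero.symm ▸ hc.symm)
  have h' := congrArg Fin.val h
  rw [SporFi24.rep_gen_apply (by norm_num)] at h'
  exact absurd h' (by simp only [pt]; decide +kernel)

/-- The test that `k` fixes exactly the coloured points. -/
noncomputable def chkFix (b : ℕ) : Bool :=
  force (field alpha 128 20 b) fun w =>
    cond (Nat.beq (img 1 w) w) (Nat.blt (colOf b) 3) (!(Nat.blt (colOf b) 3))

theorem fix0 : TypeModel.Cert.block chkFix 0 8000 = true := by decide +kernel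
theorem fix1 : TypeModel.Cert.block chkFix 8000 8000 = true := by decide +kernel
theorem fix2 : TypeModel.Cert.block chkFix 16000 8000 = true := by decide +kernel
theorem fix3 : TypeModel.Cert.block chkFix 24000 7671 = true := by decide +kernel

theorem commute_gk_iff (b : Pt) : Commute gk (U b) ↔ colOf b < 3 := by
  have hb : (b : ℕ) < 31671 := b.2
  have h : chkFix b = true := by
    rcases Nat.lt_or_ge (b : ℕ) 8000 with h | h
    · exact TypeModel.Cert.block_get fix0 (by omega) (by omega)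
    rcases Nat.lt_or_ge (b : ℕ) 16000 with h | h
    · exact TypeModel.Cert.block_get fix1 (by omega) (by omega)
    rcases Nat.lt_or_ge (b : ℕ) 24000 with h | h
    · exact TypeModel.Cert.block_get fix2 (by omega) (by omega)
    exact TypeModel.Cert.block_get fix3 (by omega) (by omega)
  rw [chkFix, force_eq] at h
  rw [U, commute_T_iff, Fin.ext_iff, SporFi24.rep_gen_apply (by norm_num)]
  show img 1 (field alpha 128 20 b) = field alpha 128 20 b ↔ colOf b < 3
  cases hq : Nat.beq (img 1 (field alpha 128 20 b)) (field alpha 128 20 b) with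
  | true =>
    rw [hq, cond_true, Nat.blt_eq] at h
    exact iff_of_true (Nat.eq_of_beq_eq_true hq) h
  | false =>
    rw [hq, cond_false, Bool.not_eq_true'] at h
    refine iff_of_false (Nat.ne_of_beq_eq_false hq) fun hlt => ?_
    rw [Nat.blt_eq.mpr hlt] at h
    exact absurd h (by decide)

theorem common_eq : ({y : Fi24 | y ∈ D₂₄ ∧ y ≠ trans ∧ Commute trans y}) ∩ ({y : Fi24 | y ∈ D₂₄ ∧ y ≠ gk ∧ Commute gk y}) = U '' {b | colOf b < 3} := by
  ext u
  constructor
  · rintro ⟨h1, -, -, hc⟩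
    obtain ⟨b, rfl⟩ := (nbrs_eq ▸ h1 : u ∈ Set.range U)
    exact ⟨b, (commute_gk_iff b).1 hc, rfl⟩
  · rintro ⟨b, hb, rfl⟩
    refine ⟨nbrs_eq ▸ Set.mem_range_self b, U_mem_D b, fun e => ?_, (commute_gk_iff b).2 hb⟩
    exact not_commute_gk (e ▸ commute_U b)

theorem tau_mem_Ltri {p : Pt} (hp : colOf p < 3) : tau p ∈ Ltri := by
  obtain ⟨g, hg, h⟩ := StructB.Fi23Tri.exists_root p
  have key : ∀ x : Pt, SporFi23.rep g x = p → tau x ∈ Ltri → tau p ∈ Ltri := fun x hx hm => by
    rw [← hx, ← StructB.Fi23Tri.tau_conj]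
    exact mul_mem (mul_mem (StructB.Fi23Tri.L0_le hg) hm) (inv_mem (StructB.Fi23Tri.L0_le hg))
  rcases h with h | h | h
  · exact key _ h (by
      rw [← StructB.Fi23Tri.gen_eq_tau 1 (by norm_num)]
      exact StructB.Fi23Tri.L0_le (StructB.Fi23Tri.gen_mem_L0 StructB.Fi23Tri.one_mem_nine))
  · exact key _ h (StructB.Fi23Tri.d2_eq_tau ▸ StructB.Fi23Tri.d2_mem)
  · exfalso
    obtain ⟨π, hπ⟩ := StructB.Fi23Tri.exists_acts (StructB.Fi23Tri.L0_le (inv_mem hg))
    have h2 := hπ ⟨colOf p, hp⟩ p rfl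
    rw [map_inv, Equiv.Perm.inv_eq_iff_eq.2 h.symm] at h2
    have h3 : colOf (genPt 0 : ℕ) = 3 := by
      rw [StructB.Fi23Tri.genPt_val (by norm_num)]; decide +kernel
    rw [h3] at h2
    exact absurd h2.symm (Nat.ne_of_lt (π ⟨colOf p, hp⟩).2)

theorem tau_image : Subgroup.closure (tau '' {b | colOf b < 3}) = Ltri := by
  refine le_antisymm ((Subgroup.closure_le _).2 ?_) ((Subgroup.closure_le _).2 ?_)
  · rintro _ ⟨b, hb, rfl⟩; exact tau_mem_Ltri hb
  · rintro y (rfl | ⟨x, hx, rfl⟩)
    · refine Subgroup.subset_closure ⟨mkPt q2, ?_, StructB.Fi23Tri.d2_eq_tau.symm⟩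
      show colOf (mkPt q2 : ℕ) < 3
      rw [StructB.Fi23Tri.mkPt_val (by decide +kernel)]
      decide +kernel
    · have hx10 := StructB.Fi23Tri.nine_lt hx
      refine Subgroup.subset_closure ⟨genPt x, ?_, (StructB.Fi23Tri.gen_eq_tau x hx10).symm⟩
      show colOf (genPt x : ℕ) < 3
      rw [StructB.Fi23Tri.genPt_val hx10]
      exact (by decide +kernel : ∀ x ∈ StructB.Fi23Tri.nine, colOf (StructB.Fi23Tri.ptL.getD x 0) < 3) x hx

theorem eq_one_or_zH {h : ↥SporFi24.H} (hh : toFi23 h = 1) : h = 1 ∨ h = zH :=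
  or_iff_not_imp_left.2 (SporFi24.eq_zH_of_ker hh)

/-- A subgroup of `H` modulo its centre, mapped onto a centreless group. -/
theorem quot_equiv {A : Subgroup Fi24} (hA : A ≤ SporFi24.H) {K : Subgroup Fi23}
    (hK : Subgroup.center ↥K = ⊥) (himg : (A.subgroupOf SporFi24.H).map toFi23 = K) :
    ∃ e : ↥A ⧸ Subgroup.center ↥A ≃* ↥K,
      ∀ a : ↥A, (e (QuotientGroup.mk a) : Fi23) = toFi23 (Subgroup.inclusion hA a) := by
  have hm : ∀ a : ↥A, toFi23 (Subgroup.inclusion hA a) ∈ K := fun a =>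
    himg ▸ ⟨_, Subgroup.mem_subgroupOf.2 a.2, rfl⟩
  obtain ⟨f, hf⟩ : ∃ f : ↥A →* ↥K, ∀ a, (f a : Fi23) = toFi23 (Subgroup.inclusion hA a) :=
    ⟨(toFi23.comp (Subgroup.inclusion hA)).codRestrict K hm, fun _ => rfl⟩
  have hs : Function.Surjective f := fun y => by
    obtain ⟨h, hh, e⟩ := (himg ▸ y.2 : (y : Fi23) ∈ (A.subgroupOf SporFi24.H).map toFi23)
    exact ⟨⟨h, Subgroup.mem_subgroupOf.1 hh⟩, Subtype.ext ((hf _).trans e)⟩
  have hk : Subgroup.center ↥A = f.ker := by
    refine le_antisymm (fun a ha => ?_) fun a ha => ?_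
    · rw [MonoidHom.mem_ker, ← Subgroup.mem_bot, ← hK, Subgroup.mem_center_iff]
      intro y
      obtain ⟨g, rfl⟩ := hs y
      rw [← map_mul, ← map_mul, Subgroup.mem_center_iff.1 ha g]
    · have h1 : toFi23 (Subgroup.inclusion hA a) = 1 := by
        rw [← hf, MonoidHom.mem_ker.1 ha, OneMemClass.coe_one]
      refine Subgroup.mem_center_iff.2 fun g => Subtype.ext ?_
      rcases eq_one_or_zH h1 with h | h <;> have h' := congrArg Subtype.val h
      · show (g : Fi24) * a = a * g
        rw [show (a : Fi24) = 1 from h', mul_one, one_mul]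
      · show (g : Fi24) * a = a * g
        rw [show (a : Fi24) = trans from h']
        exact (SporFi24.comm_gen_zero (hA g.2)).symm
  exact ⟨(QuotientGroup.quotientMulEquivOfEq hk).trans (QuotientGroup.quotientKerEquivOfSurjective f hs),
    fun a => hf a⟩

theorem map_closure_U (S : Set Pt) : ∃ hA : Subgroup.closure (U '' S) ≤ SporFi24.H,
    ((Subgroup.closure (U '' S)).subgroupOf SporFi24.H).map toFi23 = Subgroup.closure (tau '' S) := by
  have hA : Subgroup.closure (U '' S) ≤ SporFi24.H :=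
    (Subgroup.closure_le _).2 (by rintro _ ⟨b, -, rfl⟩; exact U_mem_H b)
  refine ⟨hA, ?_⟩
  obtain ⟨V, eV⟩ : ∃ V : Pt → ↥SporFi24.H, ∀ b, V b = ⟨U b, U_mem_H b⟩ := ⟨_, fun _ => rfl⟩
  have h1 : (Subgroup.closure (U '' S)).subgroupOf SporFi24.H = Subgroup.closure (V '' S) := by
    apply Subgroup.map_injective (SporFi24.H.subtype_injective)
    rw [Subgroup.subgroupOf_map_subtype, inf_eq_left.2 hA, MonoidHom.map_closure, Set.image_image]
    congr 1
    exact Set.image_congr fun b _ => by rw [eV]; rfl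
  rw [h1, MonoidHom.map_closure, Set.image_image]
  congr 1
  exact Set.image_congr fun b _ => by rw [eV, toFi23_U]

theorem below_at {S : Set Fi24} (hS : S = U '' Set.univ) :
    Cfsg.IsOfTypeM23 (↥(Subgroup.closure S) ⧸ Subgroup.center ↥(Subgroup.closure S))
      ((QuotientGroup.mk : ↥(Subgroup.closure S) → _) '' {x : ↥(Subgroup.closure S) | (x : Fi24) ∈ S}) := by
  subst hS
  obtain ⟨hA, himg⟩ := map_closure_U Set.univ
  have htop : Subgroup.closure (tau '' Set.univ) = ⊤ := by
    rw [← SporFi23.isThreeTranspositionClass.2.2, Set.image_univ]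
    congr 1
    ext z
    exact ⟨by rintro ⟨b, rfl⟩; exact StructB.Fi23Tri.tau_mem b, fun h => StructB.Fi23Tri.exists_tau h⟩
  obtain ⟨e, he⟩ := quot_equiv hA (K := ⊤) (by
    rw [Subgroup.eq_bot_iff_forall]
    intro z hz
    have h1 : (z : Fi23) ∈ Subgroup.center Fi23 := Subgroup.mem_center_iff.2 fun g =>
      congrArg Subtype.val (Subgroup.mem_center_iff.1 hz ⟨g, Subgroup.mem_top g⟩)
    rw [StructB.Fi23Tri.center_eq_bot, Subgroup.mem_bot] at h1
    exact Subtype.ext h1) (himg.trans htop)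
  refine Trans3.Fi.m23_congr (D := conjugatesOf SporFi23.t) ((e.trans Subgroup.topEquiv).symm) ?_
    TypeFi23.typeM23
  ext q
  constructor
  · rintro ⟨y, hy, rfl⟩
    obtain ⟨b, rfl⟩ := StructB.Fi23Tri.exists_tau hy
    refine ⟨⟨U b, Subgroup.subset_closure ⟨b, Set.mem_univ b, rfl⟩⟩, ⟨b, Set.mem_univ b, rfl⟩, ?_⟩
    apply (e.trans Subgroup.topEquiv).injective
    rw [MulEquiv.apply_symm_apply]
    exact (he _).trans (toFi23_U b)
  · rintro ⟨x, ⟨b, -, hb⟩, rfl⟩
    refine ⟨tau b, StructB.Fi23Tri.tau_mem b, ?_⟩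
    apply (e.trans Subgroup.topEquiv).injective
    rw [MulEquiv.apply_symm_apply]
    refine ((he x).trans ?_).symm
    rw [← toFi23_U b]
    exact congrArg toFi23 (Subtype.ext hb.symm)

theorem pair_at {S : Set Fi24} (hS : S = U '' {b | colOf b < 3}) :
    ∃ (N : Subgroup (↥(Subgroup.closure S) ⧸ Subgroup.center ↥(Subgroup.closure S))) (_ : N.Normal),
      Nonempty (N ≃* Cfsg.POmega (ZMod 3) (Cfsg.quadFormPlus 4 (ZMod 3))) ∧
      Nonempty ((↥(Subgroup.closure S) ⧸ Subgroup.center ↥(Subgroup.closure S)) ⧸ N ≃* Equiv.Perm (Fin 3)) := by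
  subst hS
  obtain ⟨hA, himg⟩ := map_closure_U {b | colOf b < 3}
  have hcL : Subgroup.center ↥Ltri = ⊥ := by
    refine le_antisymm (le_trans ?_ StructB.Fi23Tri.chi_centralizer.le) bot_le
    exact Subgroup.center_le_centralizer _
  obtain ⟨e, -⟩ := quot_equiv hA hcL (himg.trans tau_image)
  obtain ⟨e₈⟩ := StructB.Fi23Tri.kernel_iso
  refine ⟨(chi.comp e.toMonoidHom).ker, inferInstance, ?_,
    ⟨QuotientGroup.quotientKerEquivOfSurjective _ (StructB.Fi23Tri.chi_surjective.comp e.surjective)⟩⟩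
  have hmap : (chi.comp e.toMonoidHom).ker.map e.toMonoidHom = chi.ker := by
    rw [← MonoidHom.comap_ker, Subgroup.map_comap_eq_self_of_surjective e.surjective]
  exact ⟨((e.subgroupMap _).trans (MulEquiv.subgroupCongr hmap)).trans e₈⟩


/-- The type. -/
theorem typeM24 : Cfsg.IsOfTypeM24 Fi24 D₂₄ := by
  have hne := not_commute_gk
  have hcen : Subgroup.center Fi24 = ⊥ := by
    by_contra hb
    have hle := SporFi24.commutator_le_of_normal inferInstance hb
    haveI := SporFi24.commutator_simple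
    have hcomm : ∀ a b : ↥(commutator Fi24), a * b = b * a := fun a b =>
      Subtype.ext (Subgroup.mem_center_iff.1 (hle b.2) (a : Fi24))
    letI : CommGroup ↥(commutator Fi24) := { mul_comm := hcomm }
    haveI : Finite Fi24 := SporFi24.finite
    have hp : (Nat.card ↥(commutator Fi24)).Prime := IsSimpleGroup.prime_card
    rw [SporFi24.card_commutator] at hp
    exact Nat.not_prime_of_dvd_of_lt (m := 2) (by norm_num) (by norm_num) (by norm_num) hp
  refine ⟨hcen, trans, mem_conjugatesOf_self, gk, gk_mem, hne, ?_, ?_⟩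
  · exact below_at (nbrs_eq.trans Set.image_univ.symm)
  · exact pair_at common_eq

end CfsgLib.InvChar.TypeFi24
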