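import Cfsg.Prelude.Def_FischerSpaces
import Cfsg.Prelude.Def_SporadicB
import Cfsg.Agent.Lib.Trans3.Basic
import Cfsg.Agent.Lib.Trans3.Fi.SumIso

/-!
General steps for showing that a model is a 3-transposition group of one of Fischer's three types:
primitivity from two suborbits, the neighbourhood group, and a group modulo its centre as the
projective reflection group through a common action on the points.
-/

set_option autoImplicit false
set_option linter.unusedSectionVars false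
set_option linter.unusedVariables false
set_option linter.style.haveILetI false

namespace CfsgLib.InvChar.TypeModel

open CfsgLib.Trans3.Fi

/-- The weights of a sum of squares. -/
def one3 (n : ℕ) : Fin n → ZMod 3 := fun _ => 1

variable {X : Type*} [Group X] {D : Set X}

/-- Two suborbits and a path of each kind make the action primitive. -/
theorem primitive_of_suborbits (hD : Cfsg.IsThreeTranspositionGroup D)
    (hconj : ∀ a ∈ D, ∀ b ∈ D, ∃ g : X, g * a * g⁻¹ = b) {d y₁ y₂ : X} (hd : d ∈ D)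
    (hy₁ : y₁ ∈ D) (h₁ : ¬ Commute d y₁) (hy₂ : y₂ ∈ D) (h₂ : Commute d y₂) (hy₂d : y₂ ≠ d)
    (hsub : ∀ u ∈ D, u = d ∨ ∃ k : X, k * d * k⁻¹ = d ∧ (u = k * y₁ * k⁻¹ ∨ u = k * y₂ * k⁻¹))
    (hp₁ : ∃ a ∈ D, ∃ b ∈ D, ∃ c ∈ D, ¬ Commute a b ∧ ¬ Commute b c ∧ Commute a c ∧ a ≠ c)
    (hp₂ : ∃ a ∈ D, ∃ b ∈ D, ∃ c ∈ D, Commute a b ∧ a ≠ b ∧ Commute b c ∧ b ≠ c ∧ ¬ Commute a c) :
    Cfsg.IsPrimitiveUnderConj D := by
  refine ⟨hconj, ⟨d, hd, y₁, hy₁, fun e => h₁ (e ▸ Commute.refl _)⟩, fun B hBD hblock => ?_⟩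
  by_contra hnot
  obtain ⟨hns, hne⟩ := not_or.1 hnot
  obtain ⟨a, haB, a', ha'B, haa⟩ : ∃ a ∈ B, ∃ a' ∈ B, a ≠ a' := by
    by_contra h
    exact hns fun u hu v hv => not_not.1 fun huv => h ⟨u, hu, v, hv, huv⟩
  -- blocks through a point
  have hsame : ∀ g : X, ∀ x, x ∈ B → g * x * g⁻¹ ∈ B → ∀ z ∈ B, g * z * g⁻¹ ∈ B := by
    intro g x hx hgx z hz
    rcases hblock g with e | e
    · exact e ▸ ⟨z, hz, rfl⟩
    · exact absurd hgx (Set.disjoint_left.1 e ⟨x, hx, rfl⟩)
  obtain ⟨g₀, hg₀⟩ := hconj a (hBD haB) d hd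
  obtain ⟨C, eC⟩ : ∃ C : Set X, C = (fun z => g₀ * z * g₀⁻¹) '' B := ⟨_, rfl⟩
  have hCD : ∀ z ∈ C, z ∈ D := by
    rw [eC]; rintro _ ⟨z, hz, rfl⟩; exact hD.2.1 g₀ z (hBD hz)
  have hdC : d ∈ C := eC ▸ ⟨a, haB, hg₀⟩
  have hCsame : ∀ g : X, ∀ x, x ∈ C → g * x * g⁻¹ ∈ C → ∀ z ∈ C, g * z * g⁻¹ ∈ C := by
    intro g x hx hgx z hz
    rw [eC] at hx hgx hz ⊢
    obtain ⟨x, hx, rfl⟩ := hx
    obtain ⟨z, hz, rfl⟩ := hz
    obtain ⟨w, hw, ew⟩ := hgx
    refine ⟨g₀⁻¹ * g * g₀ * z * (g₀⁻¹ * g * g₀)⁻¹, hsame _ x hx ?_ z hz, by group⟩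
    rw [show g₀⁻¹ * g * g₀ * x * (g₀⁻¹ * g * g₀)⁻¹ = g₀⁻¹ * (g * (g₀ * x * g₀⁻¹) * g⁻¹) * g₀ by group,
      ← ew]
    rwa [show g₀⁻¹ * (g₀ * w * g₀⁻¹) * g₀ = w by group]
  -- a whole kind lies in the block
  have hfull : ∀ u ∈ C, u ≠ d → ∀ v ∈ D, v ≠ d → (Commute d u ↔ Commute d v) → v ∈ C := by
    intro u hu hud v hv hvd hiff
    have key : ∀ w ∈ D, w ≠ d → ∃ k : X, k * d * k⁻¹ = d ∧
        (Commute d w ∧ w = k * y₂ * k⁻¹ ∨ ¬ Commute d w ∧ w = k * y₁ * k⁻¹) := by
      intro w hw hwd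
      obtain ⟨k, hk, hk'⟩ := (hsub w hw).resolve_left hwd
      have hc : ∀ y, Commute d (k * y * k⁻¹) ↔ Commute d y := fun y => by
        constructor <;> intro hc
        · have h3 := hc.map (MulAut.conj k⁻¹).toMonoidHom
          have e1 : k⁻¹ * d * k⁻¹⁻¹ = d := by
            conv_lhs => rw [← hk]
            group
          simp only [MulEquiv.coe_toMonoidHom, MulAut.conj_apply] at h3
          rw [e1] at h3
          rwa [show k⁻¹ * (k * y * k⁻¹) * k⁻¹⁻¹ = y by group] at h3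
        · have h3 := hc.map (MulAut.conj k).toMonoidHom
          simp only [MulEquiv.coe_toMonoidHom, MulAut.conj_apply] at h3
          rwa [hk] at h3
      rcases hk' with e | e
      · exact ⟨k, hk, Or.inr ⟨fun c => h₁ ((hc y₁).1 (e ▸ c)), e⟩⟩
      · exact ⟨k, hk, Or.inl ⟨e ▸ (hc y₂).2 h₂, e⟩⟩
    obtain ⟨k, hk, ek⟩ := key u (hCD u hu) hud
    obtain ⟨l, hl, el⟩ := key v hv hvd
    have hmove : (l * k⁻¹) * d * (l * k⁻¹)⁻¹ = d := by
      rw [show l * k⁻¹ * d * (l * k⁻¹)⁻¹ = l * (k⁻¹ * d * k) * l⁻¹ by group,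
        show k⁻¹ * d * k = d by
          conv_lhs => rw [← hk]
          group, hl]
    have e : v = l * k⁻¹ * u * (l * k⁻¹)⁻¹ := by
      rcases ek with ⟨cu, eu⟩ | ⟨cu, eu⟩ <;> rcases el with ⟨cv, ev⟩ | ⟨cv, ev⟩
      · rw [eu, ev]; group
      · exact absurd (hiff.1 cu) cv
      · exact absurd (hiff.2 cv) cu
      · rw [eu, ev]; group
    rw [e]
    exact hCsame _ d hdC (hmove.symm ▸ hdC) u hu
  obtain ⟨u, huC, hud⟩ : ∃ u ∈ C, u ≠ d := by
    refine ⟨g₀ * a' * g₀⁻¹, eC ▸ ⟨a', ha'B, rfl⟩, fun e => haa ?_⟩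
    rw [← hg₀] at e
    exact (mul_left_cancel (mul_right_cancel e)).symm
  -- the block through any point
  have hstep : ∀ x ∈ C, ∀ w ∈ D, w ≠ x → (Commute x w ↔ Commute d u) → w ∈ C := by
    intro x hx w hw hwx hiff
    obtain ⟨g, hg⟩ := hconj d hd x (hCD x hx)
    have hmove := hCsame g d hdC (hg.symm ▸ hx)
    have h2 : g⁻¹ * w * g ∈ C := by
      refine hfull u huC hud _ (by simpa using hD.2.1 g⁻¹ w hw) (fun e => hwx ?_) (hiff.symm.trans ?_)
      · rw [← hg, ← e]; group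
      · have hiff2 : ∀ p q : X, Commute p q ↔ Commute (g⁻¹ * p * g) (g⁻¹ * q * g) := fun p q => by
          constructor <;> intro hpq
          · simpa [MulAut.conj_apply] using hpq.map (MulAut.conj g⁻¹).toMonoidHom
          · simpa [MulAut.conj_apply, mul_assoc] using hpq.map (MulAut.conj g).toMonoidHom
        rw [hiff2 x w, show g⁻¹ * x * g = d by rw [← hg]; group]
    simpa [mul_assoc] using hmove _ h2
  -- the block is everything
  refine hne (Set.Subset.antisymm hBD fun w hw => ?_)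
  suffices ∀ w ∈ D, w ∈ C by
    have h1 := this _ (hD.2.1 g₀ w hw)
    rw [eC] at h1
    obtain ⟨z, hz, ez⟩ := h1
    rwa [← mul_left_cancel (mul_right_cancel ez)]
  intro w hw
  by_cases hkind : Commute d u
  · have hnbr : ∀ x ∈ C, ∀ w ∈ D, w ≠ x → Commute x w → w ∈ C :=
      fun x hx w hw hwx c => hstep x hx w hw hwx ⟨fun _ => hkind, fun _ => c⟩
    obtain ⟨p, hp, q, hq, r, hr, hpq, hnepq, hqr, hneqr, hpr⟩ := hp₂
    by_cases hwd : w = d
    · exact hwd ▸ hdC
    by_cases hcw : Commute d w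
    · exact hnbr d hdC w hw hwd hcw
    obtain ⟨g, hg⟩ := hconj p hp d hd
    have hmap : ∀ {a b : X}, Commute a b → Commute (g * a * g⁻¹) (g * b * g⁻¹) := fun c => by
      simpa [MulAut.conj_apply] using c.map (MulAut.conj g).toMonoidHom
    have h1 : g * q * g⁻¹ ∈ C := hnbr d hdC _ (hD.2.1 g q hq)
      (fun e => hnepq (mul_left_cancel (mul_right_cancel (hg.trans e.symm)))) (hg ▸ hmap hpq)
    have h2 : g * r * g⁻¹ ∈ C := hnbr _ h1 _ (hD.2.1 g r hr)
      (fun e => hneqr (mul_left_cancel (mul_right_cancel e.symm))) (hmap hqr)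
    have hnc : ¬ Commute d (g * r * g⁻¹) := fun c => hpr (by
      have := c.map (MulAut.conj g⁻¹).toMonoidHom
      simpa [← hg, MulAut.conj_apply, mul_assoc] using this)
    exact hfull _ h2 (fun e => hnc (e ▸ Commute.refl _)) w hw hwd ⟨fun c => absurd c hnc,
      fun c => absurd c hcw⟩
  · have hfar : ∀ x ∈ C, ∀ w ∈ D, ¬ Commute x w → w ∈ C :=
      fun x hx w hw c => hstep x hx w hw (fun e => c (e ▸ Commute.refl _))
        ⟨fun c' => absurd c' c, fun c' => absurd c' hkind⟩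
    obtain ⟨p, hp, q, hq, r, hr, hpq, hqr, hpr, hnepr⟩ := hp₁
    by_cases hwd : w = d
    · exact hwd ▸ hdC
    by_cases hcw : Commute d w
    swap
    · exact hfar d hdC w hw hcw
    obtain ⟨g, hg⟩ := hconj p hp d hd
    have hback : ∀ {a b : X}, Commute (g * a * g⁻¹) (g * b * g⁻¹) → Commute a b := fun c => by
      simpa [MulAut.conj_apply, mul_assoc] using c.map (MulAut.conj g⁻¹).toMonoidHom
    have h1 : g * q * g⁻¹ ∈ C := hfar d hdC _ (hD.2.1 g q hq) fun c => hpq (hback (hg.symm ▸ c))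
    have h2 : g * r * g⁻¹ ∈ C := hfar _ h1 _ (hD.2.1 g r hr) fun c => hqr (hback c)
    have hc : Commute d (g * r * g⁻¹) := by
      rw [← hg]; simpa [MulAut.conj_apply] using hpr.map (MulAut.conj g).toMonoidHom
    exact hfull _ h2 (fun e => hnepr (mul_left_cancel (mul_right_cancel (hg.trans e.symm)))) w hw hwd
      ⟨fun _ => hcw, fun _ => hc⟩

/-- In a non-split double cover the members commuting with the involution generate. -/
theorem closure_nbrs_eq {K : Type*} [Group K] [IsSimpleGroup K]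
    (hD : Cfsg.IsThreeTranspositionGroup D) {d : X}
    (hcov : Cfsg.IsNonsplitDoubleCover (Subgroup.centralizer ({d} : Set X)) K) (hd : d ∈ D)
    {y : X} (hy : y ∈ D) (hne : y ≠ d) (hc : Commute d y) :
    Subgroup.closure {z : X | z ∈ D ∧ z ≠ d ∧ Commute d z} = Subgroup.centralizer ({d} : Set X) ∧
      ∀ z : ↥(Subgroup.centralizer ({d} : Set X)),
        z ∈ Subgroup.center ↥(Subgroup.centralizer ({d} : Set X)) ↔ (z : X) = 1 ∨ (z : X) = d := by
  obtain ⟨hcard, ⟨e⟩, hns⟩ := hcov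
  obtain ⟨C, eC⟩ : ∃ C, C = Subgroup.centralizer ({d} : Set X) := ⟨_, rfl⟩
  obtain ⟨S, eS⟩ : ∃ S, S = {z : X | z ∈ D ∧ z ≠ d ∧ Commute d z} := ⟨_, rfl⟩
  rw [← eC] at e hns hcard ⊢
  rw [← eS]
  have hdC : d ∈ C := eC ▸ Subgroup.mem_centralizer_singleton_iff.2 rfl
  have hd1 : d ≠ 1 := Trans3.invol_ne_one (hD.1.1 d hd)
  have hmem : ∀ z, z ∈ C ↔ Commute z d := fun z => by
    rw [eC, Subgroup.mem_centralizer_singleton_iff]; rfl
  have hzc : ∀ z : ↥C, z ∈ Subgroup.center ↥C ↔ (z : X) = 1 ∨ (z : X) = d := by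
    have hdz : (⟨d, hdC⟩ : ↥C) ∈ Subgroup.center ↥C := Subgroup.mem_center_iff.2 fun g =>
      Subtype.ext ((hmem g).1 g.2).eq
    have huniq : ∀ z ∈ Subgroup.center ↥C, z ≠ 1 → z = ⟨d, hdC⟩ := by
      haveI : Finite (Subgroup.center ↥C) := Nat.finite_of_card_ne_zero (by rw [hcard]; norm_num)
      intro z hz hz1
      obtain ⟨a, b, hab, huniv⟩ := Nat.card_eq_two_iff.1 hcard
      have h3 : ∀ p : ↥(Subgroup.center ↥C), p = a ∨ p = b := fun p => by
        have := huniv.symm ▸ Set.mem_univ p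
        simpa using this
      rcases h3 ⟨z, hz⟩ with r | r <;> rcases h3 ⟨_, hdz⟩ with s | s <;> rcases h3 1 with t | t
      all_goals first
        | exact congrArg Subtype.val (r.trans s.symm)
        | exact absurd (congrArg (fun p : ↥(Subgroup.center ↥C) => (p.1 : X)) (s.trans t.symm)) hd1
        | exact absurd (congrArg Subtype.val (r.trans t.symm)) hz1
    intro z
    constructor
    · intro hz
      rcases eq_or_ne z 1 with rfl | hz1
      · exact Or.inl rfl
      · exact Or.inr (congrArg Subtype.val (huniq z hz hz1))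
    · rintro (r | r)
      · rw [show z = 1 from Subtype.ext r]; exact one_mem _
      · rw [show z = ⟨d, hdC⟩ from Subtype.ext r]; exact hdz
  refine ⟨?_, hzc⟩
  have hSC : Subgroup.closure S ≤ C := (Subgroup.closure_le _).2 fun z hz =>
    (hmem z).2 (eS ▸ hz).2.2.symm
  refine le_antisymm hSC ?_
  obtain ⟨N, eN⟩ : ∃ N, N = (Subgroup.closure S).subgroupOf C := ⟨_, rfl⟩
  haveI : N.Normal := by
    refine ⟨fun z hz g => ?_⟩
    rw [eN, Subgroup.mem_subgroupOf] at hz ⊢
    have hmap : (Subgroup.closure S).map (MulAut.conj (g : X)).toMonoidHom ≤ Subgroup.closure S := by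
      rw [MonoidHom.map_closure]
      refine Subgroup.closure_mono ?_
      rintro _ ⟨w, hw, rfl⟩
      rw [eS] at hw ⊢
      have hgd : (g : X) * d * (g : X)⁻¹ = d := by
        rw [((hmem g).1 g.2).eq, mul_inv_cancel_right]
      refine ⟨hD.2.1 g w hw.1, fun e => hw.2.1 ?_, ?_⟩
      · exact mul_left_cancel (mul_right_cancel (e.trans hgd.symm))
      · rw [← hgd]; exact hw.2.2.map (MulAut.conj (g : X)).toMonoidHom
    exact hmap ⟨_, hz, rfl⟩
  have hyS : y ∈ Subgroup.closure S := Subgroup.subset_closure (eS ▸ ⟨hy, hne, hc⟩)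
  have hyC : y ∈ C := (hmem y).2 hc.symm
  obtain ⟨π, hπ⟩ : ∃ π : ↥C →* K, Function.Surjective π ∧ π.ker = Subgroup.center ↥C :=
    ⟨e.toMonoidHom.comp (QuotientGroup.mk' _), e.surjective.comp (QuotientGroup.mk'_surjective _),
      by
        ext z
        rw [MonoidHom.mem_ker, MonoidHom.comp_apply, MulEquiv.coe_toMonoidHom, EmbeddingLike.map_eq_one_iff,
          QuotientGroup.mk'_apply, QuotientGroup.eq_one_iff]⟩
  haveI hn : (N.map π).Normal := Subgroup.Normal.map ‹_› π hπ.1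
  rcases hn.eq_bot_or_eq_top with hb | ht
  · exfalso
    have hyc : (⟨y, hyC⟩ : ↥C) ∈ Subgroup.center ↥C := by
      rw [← hπ.2, MonoidHom.mem_ker, ← Subgroup.mem_bot, ← hb]
      exact ⟨_, eN ▸ Subgroup.mem_subgroupOf.2 hyS, rfl⟩
    rcases (hzc _).1 hyc with r | r
    · exact Trans3.invol_ne_one (hD.1.1 y hy) r
    · exact hne r
  · have hsup : N ⊔ Subgroup.center ↥C = ⊤ := by
      refine (Subgroup.eq_top_iff' _).2 fun g => ?_
      obtain ⟨n, hn', en⟩ := (ht ▸ Subgroup.mem_top (π g) : π g ∈ N.map π)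
      have h1 : n⁻¹ * g ∈ Subgroup.center ↥C := by
        rw [← hπ.2, MonoidHom.mem_ker, map_mul, map_inv, en, inv_mul_cancel]
      rw [show g = n * (n⁻¹ * g) by group]
      exact mul_mem (Subgroup.mem_sup_left hn') (Subgroup.mem_sup_right h1)
    by_cases hdN : (⟨d, hdC⟩ : ↥C) ∈ N
    · intro g hg
      have hle : Subgroup.center ↥C ≤ N := fun z hz => by
        rcases (hzc z).1 hz with r | r
        · rw [show z = 1 from Subtype.ext r]; exact one_mem _
        · rwa [show z = ⟨d, hdC⟩ from Subtype.ext r]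
      rw [sup_eq_left.2 hle] at hsup
      exact Subgroup.mem_subgroupOf.1 (eN ▸ hsup ▸ Subgroup.mem_top (⟨g, hg⟩ : ↥C))
    · exfalso
      refine hns N (Subgroup.isComplement'_of_disjoint_and_mul_eq_univ ?_ ?_)
      · refine Subgroup.disjoint_def.2 fun {z} hz hzN => ?_
        rcases (hzc z).1 hz with r | r
        · exact Subtype.ext r
        · exact absurd ((show z = ⟨d, hdC⟩ from Subtype.ext r) ▸ hzN) hdN
      · rw [← Subgroup.normal_mul, sup_comm, hsup, Subgroup.coe_top]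

/-- A group generated by members permuted by conjugation, modulo its centre, is the group of the
permutations. -/
theorem quotient_perm {Y : Type*} [Group Y] {m K : ℕ} (s : Fin m → Y) (hs : Function.Injective s)
    (g : Fin K → Fin m) (tab : Fin m → Fin K → Fin m)
    (htab : ∀ i k, s (g k) * s i * (s (g k))⁻¹ = s (tab i k))
    (hgen : Subgroup.closure (Set.range fun k => s (g k)) = ⊤)
    (π : Fin K → Equiv.Perm (Fin m)) (hπ : ∀ i k, π k i = tab i k) :
    Nonempty (Y ⧸ Subgroup.center Y ≃* ↥(Subgroup.closure (Set.range π))) := by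
  obtain ⟨Sg, eSg⟩ : ∃ Sg, Sg = {y : Y | ∃ p : Equiv.Perm (Fin m), ∀ i, y * s i * y⁻¹ = s (p i)} :=
    ⟨_, rfl⟩
  have hall : ∀ y : Y, ∃ p : Equiv.Perm (Fin m), p ∈ Subgroup.closure (Set.range π) ∧
      ∀ i, y * s i * y⁻¹ = s (p i) := by
    intro y
    have hy : y ∈ Subgroup.closure (Set.range fun k => s (g k)) := hgen ▸ Subgroup.mem_top y
    induction hy using Subgroup.closure_induction with
    | mem z hz =>
      obtain ⟨k, rfl⟩ := hz
      exact ⟨π k, Subgroup.subset_closure ⟨k, rfl⟩, fun i => by rw [htab, hπ]⟩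
    | one => exact ⟨1, one_mem _, fun i => by simp⟩
    | mul a b _ _ ia ib =>
      obtain ⟨p, hp, ep⟩ := ia
      obtain ⟨q, hq, eq⟩ := ib
      refine ⟨p * q, mul_mem hp hq, fun i => ?_⟩
      rw [Equiv.Perm.mul_apply, ← ep, ← eq]; group
    | inv a _ ia =>
      obtain ⟨p, hp, ep⟩ := ia
      refine ⟨p⁻¹, inv_mem hp, fun i => ?_⟩
      have h1 := ep (p⁻¹ i)
      rw [Equiv.Perm.coe_inv, Equiv.apply_symm_apply] at h1
      rw [Equiv.Perm.coe_inv, inv_inv, ← h1]; group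
  choose f hf hfs using hall
  obtain ⟨φ, hφ⟩ : ∃ φ : Y →* ↥(Subgroup.closure (Set.range π)), ∀ y, (φ y : Equiv.Perm (Fin m)) = f y :=
    ⟨MonoidHom.mk' (fun y => ⟨f y, hf y⟩) fun a b => Subtype.ext (Equiv.ext fun i => hs (by
      show s (f (a * b) i) = s (f a (f b i))
      rw [← hfs, ← hfs, ← hfs]; group)), fun _ => rfl⟩
  have hker : φ.ker = Subgroup.center Y := by
    ext y
    rw [MonoidHom.mem_ker]
    constructor
    · intro e
      have hc : ∀ k, Commute y (s (g k)) := fun k => by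
        refine mul_inv_eq_iff_eq_mul.1 ?_
        rw [hfs, ← hφ, e, OneMemClass.coe_one, Equiv.Perm.one_apply]
      refine Subgroup.mem_center_iff.2 fun z => ?_
      have hle : Subgroup.closure (Set.range fun k => s (g k)) ≤ Subgroup.centralizer ({y} : Set Y) :=
        (Subgroup.closure_le _).2 (by
          rintro _ ⟨k, rfl⟩
          exact Subgroup.mem_centralizer_singleton_iff.2 (hc k).eq.symm)
      rw [hgen] at hle
      exact Subgroup.mem_centralizer_singleton_iff.1 (hle (Subgroup.mem_top z))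
    · intro hy
      refine Subtype.ext (Equiv.ext fun i => hs ?_)
      rw [hφ, ← hfs, OneMemClass.coe_one, Equiv.Perm.one_apply]
      rw [← Subgroup.mem_center_iff.1 hy (s i), mul_inv_cancel_right]
  have hsurj : Function.Surjective φ := by
    rintro ⟨p, hp⟩
    have : Subgroup.closure (Set.range π) ≤ φ.range.map (Subgroup.closure (Set.range π)).subtype := by
      refine (Subgroup.closure_le _).2 ?_
      rintro _ ⟨k, rfl⟩
      exact ⟨φ (s (g k)), ⟨_, rfl⟩, Equiv.ext fun i => hs (by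
        rw [Subgroup.coe_subtype, hφ, ← hfs, htab, hπ])⟩
    obtain ⟨q, ⟨y, rfl⟩, e⟩ := this hp
    exact ⟨y, Subtype.ext e⟩
  exact ⟨(QuotientGroup.quotientMulEquivOfEq hker.symm).trans
    (QuotientGroup.quotientKerEquivOfSurjective φ hsurj)⟩

/-- A certificate makes a group modulo its centre the projective reflection group. -/
theorem proj_reflection {Y : Type*} [Group Y] {n m K : ℕ} (s : Fin m → Y)
    (hs : Function.Injective s) (g : Fin K → Fin m) (tab : Fin m → Fin K → Fin m)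
    (htab : ∀ i k, s (g k) * s i * (s (g k))⁻¹ = s (tab i k))
    (hgen : Subgroup.closure (Set.range fun k => s (g k)) = ⊤)
    (v : Fin m → Fin n → ZMod 3) (hv : ∀ i, SS.qs (one3 n) (v i) = 1)
    (hinj : ∀ i j, v i = v j ∨ v i = -v j → i = j)
    (hcover : ∀ x, SS.qs (one3 n) x = 1 → ∃ i, x = v i ∨ x = -v i)
    (hrefl : ∀ i k, SS.rs (one3 n) (v (g k)) (v i) = v (tab i k) ∨
      SS.rs (one3 n) (v (g k)) (v i) = -v (tab i k))
    (par : ∀ i : Fin m, (∃ k, g k = i) ∨ ∃ (j : Fin m) (k : Fin K), j < i ∧ tab j k = i)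
    {μ : ZMod 3} (hμ : ∏ i : Fin n, 2 * one3 n i = μ) :
    Cfsg.IsProjReflectionGroupModThree (Y ⧸ Subgroup.center Y) n μ 1 := by
  have hfree := fun i => SS.exists_refl (hv i)
  choose r hr using hfree
  have hrW : ∀ i, r i ∈ Cfsg.reflectionSubgroup (SS.qs (one3 n)) 1 := fun i =>
    Subgroup.subset_closure (SS.mem_reflections.2 ⟨v i, hv i, hr i⟩)
  have hrneg : ∀ (a x : Fin n → ZMod 3), SS.rs (one3 n) (-a) x = SS.rs (one3 n) a x := fun a x => by
    rw [← neg_one_smul (ZMod 3) a, SS.rs_scale (by decide)]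
  have hconj : ∀ i k, r (g k) * r i * (r (g k))⁻¹ = r (tab i k) := fun i k => SS.act_ext fun x => by
    have hinv : ∀ z, SS.act (r (g k))⁻¹ z = SS.rs (one3 n) (v (g k)) z := fun z => by
      conv_lhs => rw [← SS.rs_rs (hv (g k)) z, ← hr (g k), SS.act_inv]
    rw [SS.act_mul, SS.act_mul, hinv, hr, hr, SS.rs_conj (hv (g k)), hr]
    rcases hrefl i k with e | e <;> rw [e]
    exact hrneg _ _
  obtain ⟨W, eW⟩ : ∃ W, W = Cfsg.reflectionSubgroup (SS.qs (one3 n)) 1 := ⟨_, rfl⟩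
  let rW : Fin m → ↥W := fun i => ⟨r i, eW ▸ hrW i⟩
  have hrinj : Function.Injective rW := by
    intro i j e
    have e' : r i = r j := congrArg Subtype.val e
    refine hinj i j ?_
    have h1 : SS.act (r i) (v i) = SS.act (r j) (v i) := by rw [e']
    rw [hr, hr, SS.rs, SS.rs, ← SS.qs_eq, hv, one_smul, add_right_inj] at h1
    rcases (by decide : ∀ b : ZMod 3, b = 0 ∨ b = 1 ∨ b = 2) (SS.bs (one3 n) (v j) (v i)) with b | b | b <;>
      rw [b] at h1
    · exfalso
      rw [zero_smul] at h1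
      have h2 := hv i
      rw [h1] at h2
      simp [SS.qs] at h2
    · exact Or.inl (by rw [h1, one_smul])
    · exact Or.inr (by rw [h1, (by decide : (2 : ZMod 3) = -1), neg_one_smul])
  have hgenW : Subgroup.closure (Set.range fun k => rW (g k)) = ⊤ := by
    obtain ⟨Kc, eK⟩ : ∃ Kc, Kc = Subgroup.closure (Set.range fun k => rW (g k)) := ⟨_, rfl⟩
    rw [← eK]
    have hall : ∀ (a : ℕ) (ha : a < m), rW ⟨a, ha⟩ ∈ Kc := by
      intro a
      induction a using Nat.strong_induction_on with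
      | _ a ih =>
        intro ha
        rcases par ⟨a, ha⟩ with ⟨k, ek⟩ | ⟨j, k, hj, ek⟩
        · exact eK ▸ Subgroup.subset_closure ⟨k, by rw [← ek]⟩
        · have h1 : rW (g k) ∈ Kc := eK ▸ Subgroup.subset_closure ⟨k, rfl⟩
          have h2 : rW ⟨a, ha⟩ = rW (g k) * rW j * (rW (g k))⁻¹ := Subtype.ext (by
            show r ⟨a, ha⟩ = r (g k) * r j * (r (g k))⁻¹
            rw [hconj, ek])
          rw [h2]
          exact mul_mem (mul_mem h1 (ih j hj j.2)) (inv_mem h1)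
    refine (Subgroup.eq_top_iff' _).2 fun w => ?_
    have h1 : W ≤ Kc.map W.subtype := by
      refine (le_of_eq eW).trans ((Subgroup.closure_le _).2 fun a ha => ?_)
      obtain ⟨x, hx, hax⟩ := SS.mem_reflections.1 ha
      obtain ⟨i, hi⟩ := hcover x hx
      refine ⟨rW i, hall i i.2, SS.act_ext fun z => ?_⟩
      show SS.act (r i) z = _
      rw [hr, hax]
      rcases hi with e | e <;> rw [e]
      exact (hrneg _ _).symm
    obtain ⟨z, hz, ez⟩ := h1 w.2
    rwa [← show z = w from Subtype.ext ez]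
  -- the permutations
  have hinv : ∀ i k, tab (tab i k) k = i := fun i k => hs (by
    rw [← htab, ← htab]
    have hsq : ∀ z, s (g k) * (s (g k) * z * (s (g k))⁻¹) * (s (g k))⁻¹ =
        (s (g k) * s (g k)) * z * (s (g k) * s (g k))⁻¹ := fun z => by group
    rw [hsq]
    have h2 : ∀ z : Fin m, r (g k) * r (g k) = 1 := fun _ => SS.act_ext fun z => by
      rw [SS.act_mul, SS.act_one, hr, hr, SS.rs_rs (hv (g k))]
    have h3 : r (tab (tab i k) k) = r i := by
      rw [← hconj, ← hconj, show r (g k) * (r (g k) * r i * (r (g k))⁻¹) * (r (g k))⁻¹ =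
        (r (g k) * r (g k)) * r i * (r (g k) * r (g k))⁻¹ by group, h2 i, one_mul, inv_one, mul_one]
    have h4 : tab (tab i k) k = i := hrinj (Subtype.ext h3)
    rw [← hsq, htab, htab, h4])
  obtain ⟨π, hπ⟩ : ∃ π : Fin K → Equiv.Perm (Fin m), ∀ i k, π k i = tab i k :=
    ⟨fun k => Function.Involutive.toPerm (fun i => tab i k) (fun i => hinv i k), fun i k => rfl⟩
  obtain ⟨e₁⟩ := quotient_perm s hs g tab htab hgen π hπ
  obtain ⟨e₂⟩ := quotient_perm rW hrinj g tab (fun i k => Subtype.ext (hconj i k)) hgenW π hπ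
  subst eW
  have e := e₁.trans e₂.symm
  refine ⟨SS.form (one3 n), SS.form_nondeg (fun i => one_ne_zero), by rw [SS.form_det, hμ], ?_⟩
  have key : ∀ Q : (Fin n → ZMod 3) → ZMod 3, Q = SS.qs (one3 n) →
      Nonempty (Y ⧸ Subgroup.center Y ≃*
        ↥(Cfsg.reflectionSubgroup Q 1) ⧸ Subgroup.center ↥(Cfsg.reflectionSubgroup Q 1)) := by
    rintro Q rfl
    exact ⟨e⟩
  exact key _ SS.form_coe

end CfsgLib.InvChar.TypeModel
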