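import Cfsg.Agent.Lib.InvChar.TypeModelBase
import Cfsg.Agent.Lib.InvChar.CosetGroup
import Cfsg.Agent.Lib.InvChar.DoubleCoverUtil

/-!
A model of a class of 3-transpositions as the points of a coset table, and a certificate that the
common neighbours of two members generate, modulo the centre, a projective reflection group.
-/

set_option autoImplicit false
set_option linter.unusedSectionVars false

namespace CfsgLib.InvChar.TypeModel

open CfsgLib.InvChar.Coset
open CfsgLib.Trans3.Fi

/-- A class of involutions carried by the points of a table. -/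
structure PointModel (X : Type*) [Group X] (tb : Table) (gen : ℕ → X) where
  /-- the action -/
  rep : X →* Equiv.Perm (Fin tb.n)
  /-- the member at a point -/
  T : Fin tb.n → X
  inj : Function.Injective T
  conj : ∀ (k : X) (p : Fin tb.n), k * T p * k⁻¹ = T (rep k p)
  sq : ∀ x, gen x * gen x = 1
  word : ∀ L : List ℕ, (∀ y ∈ L, y < tb.g) → ∀ p : Fin tb.n,
    (rep (wprod gen L)⁻¹ p : ℕ) = tb.follow L p

/-- The points as the cosets of a centraliser. -/
theorem exists_pointModel {X : Type*} [Group X] {tb : Table} {gen : ℕ → X}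
    (rep : X →* Equiv.Perm (Fin tb.n)) {H : Subgroup X} (e : Fin tb.n ≃ X ⧸ H)
    (he : ∀ (k : X) (p : Fin tb.n), k • e p = e (rep k p)) {t : X}
    (hH : Subgroup.centralizer ({t} : Set X) = H) (hsq : ∀ x, gen x * gen x = 1)
    (hword : ∀ L : List ℕ, (∀ y ∈ L, y < tb.g) → ∀ p : Fin tb.n,
      (rep (wprod gen L)⁻¹ p : ℕ) = tb.follow L p) :
    ∃ M : PointModel X tb gen, Set.range M.T = conjugatesOf t ∧
      ∀ p, e p = ((1 : X) : X ⧸ H) → M.T p = t := by
  have hmem : ∀ a b : X, (a : X ⧸ H) = b ↔ a * t * a⁻¹ = b * t * b⁻¹ := fun a b => by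
    rw [QuotientGroup.eq, ← hH, Subgroup.mem_centralizer_singleton_iff]
    constructor
    · intro h
      calc a * t * a⁻¹ = a * (t * (a⁻¹ * b)) * b⁻¹ := by group
        _ = b * t * b⁻¹ := by rw [← h]; group
    · intro h
      calc a⁻¹ * b * t = a⁻¹ * (b * t * b⁻¹) * b := by group
        _ = t * (a⁻¹ * b) := by rw [← h]; group
  obtain ⟨T, hT⟩ : ∃ T : Fin tb.n → X, ∀ p (a : X), e p = (a : X ⧸ H) → T p = a * t * a⁻¹ :=
    ⟨fun p => Quotient.out (e p) * t * (Quotient.out (e p))⁻¹, fun p a h =>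
      (hmem (Quotient.out (e p)) a).1 ((QuotientGroup.out_eq' (e p)).trans h)⟩
  refine ⟨⟨rep, T, fun p q h => ?_, fun k p => ?_, hsq, hword⟩, ?_, fun p hp => ?_⟩
  · obtain ⟨a, ha⟩ := QuotientGroup.mk_surjective (e p)
    obtain ⟨b, hb⟩ := QuotientGroup.mk_surjective (e q)
    rw [hT p a ha.symm, hT q b hb.symm, ← hmem, ha, hb] at h
    exact e.injective h
  · obtain ⟨a, ha⟩ := QuotientGroup.mk_surjective (e p)
    rw [hT p a ha.symm, hT (rep k p) (k * a) (by rw [← he, ← ha]; rfl)]
    group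
  · ext z
    constructor
    · rintro ⟨p, rfl⟩
      obtain ⟨a, ha⟩ := QuotientGroup.mk_surjective (e p)
      exact isConj_iff.2 ⟨a, (hT p a ha.symm).symm⟩
    · intro hz
      obtain ⟨a, rfl⟩ := isConj_iff.1 hz
      exact ⟨e.symm (a : X ⧸ H), hT _ a (e.apply_symm_apply _)⟩
  · show T p = t
    rw [hT p 1 hp]; simp

namespace PointModel

variable {X : Type*} [Group X] {tb : Table} {gen : ℕ → X} (M : PointModel X tb gen)

theorem mul_self {p : Fin tb.n} (h : orderOf (M.T p) = 2) : M.T p * M.T p = 1 := by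
  rw [← pow_two, ← h, pow_orderOf_eq_one]

theorem commute_iff (p q : Fin tb.n) : Commute (M.T p) (M.T q) ↔ M.rep (M.T p) q = q := by
  constructor
  · intro h
    exact M.inj ((M.conj _ _).symm.trans (by rw [h.eq, mul_inv_cancel_right]))
  · intro h
    exact mul_inv_eq_iff_eq_mul.1 ((M.conj _ _).trans (by rw [h]))

include M in
theorem wprod_reverse_inv (L : List ℕ) : wprod gen L.reverse = (wprod gen L)⁻¹ :=
  Coset.wprod_reverse gen M.sq L

/-- The member at the end of a path. -/
theorem T_path {p q : Fin tb.n} {x0 : ℕ} (hp : M.T p = gen x0) {P : List ℕ}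
    (hP : ∀ y ∈ P, y < tb.g) (hq : tb.follow P p = q) :
    M.T q = wprod gen (P.reverse ++ x0 :: P) := by
  have e : M.rep (wprod gen P)⁻¹ p = q := Fin.ext ((M.word P hP p).trans hq)
  rw [← e, ← M.conj, hp, wprod_append, M.wprod_reverse_inv, inv_inv]
  simp [wprod, mul_assoc]

/-- The action of the member at the end of a path. -/
theorem T_path_act {p q : Fin tb.n} {x0 : ℕ} (hp : M.T p = gen x0) (hx0 : x0 < tb.g) {P : List ℕ}
    (hP : ∀ y ∈ P, y < tb.g) (hq : tb.follow P p = q) (r : Fin tb.n) :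
    (M.rep (M.T q) r : ℕ) = tb.follow (P.reverse ++ x0 :: P) r := by
  rw [M.T_path hp hP hq]
  have hL : ∀ y ∈ P.reverse ++ x0 :: P, y < tb.g := by
    intro y hy
    simp only [List.mem_append, List.mem_reverse, List.mem_cons] at hy
    rcases hy with h | h | h
    exacts [hP y h, h ▸ hx0, hP y h]
  rw [← M.word _ hL]
  congr 3
  rw [← M.wprod_reverse_inv]
  simp

end PointModel

/-- The certificate. -/
structure Cert where
  /-- the dimension -/
  n : ℕ
  /-- the number of lines -/
  m : ℕ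
  /-- the number of generators -/
  K : ℕ
  /-- the points -/
  pts : List ℕ
  /-- the root codes -/
  codes : List ℕ
  /-- the images under the generators -/
  tabs : List (List ℕ)
  /-- the parents -/
  par : List ℕ
  /-- paths to the generators -/
  paths : List (List ℕ)
  /-- path to the first member -/
  pd : List ℕ
  /-- path to the second member -/
  pc : List ℕ
  /-- the base point of the paths -/
  s0 : ℕ
  /-- its letter -/
  x0 : ℕ

/-- A digit to base three. -/
def dig3 (c k : ℕ) : ℕ := c / 3 ^ k % 3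

/-- The scalar product of two codes. -/
def dotN (n a b : ℕ) : ℕ := n.rec 0 fun k ih => ih + dig3 a k * dig3 b k

/-- The vector of a code. -/
def vecN (n c : ℕ) : Fin n → ZMod 3 := fun k => (dig3 c k : ZMod 3)

/-- A test on all digits. -/
def allDig (n : ℕ) (f : ℕ → Bool) : Bool := n.rec true fun k ih => f k && ih

theorem allDig_get {f : ℕ → Bool} : ∀ {n : ℕ}, allDig n f = true → ∀ k < n, f k = true
  | 0, _, k, hk => absurd hk (Nat.not_lt_zero k)
  | n + 1, h, k, hk => by
    change (f n && allDig n f) = true at h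
    rw [Bool.and_eq_true] at h
    rcases Nat.lt_succ_iff_lt_or_eq.1 hk with hk | rfl
    exacts [allDig_get h.2 k hk, h.1]

theorem allDig_intro {f : ℕ → Bool} : ∀ {n : ℕ}, (∀ k < n, f k = true) → allDig n f = true
  | 0, _ => rfl
  | n + 1, h => by
    show (f n && allDig n f) = true
    rw [Bool.and_eq_true]
    exact ⟨h n n.lt_succ_self, allDig_intro fun k hk => h k (Nat.lt_succ_of_lt hk)⟩

/-- Two codes give one line. -/
def eqpm (n a b : ℕ) : Bool :=
  allDig n (fun k => Nat.beq (dig3 a k) (dig3 b k)) || allDig n (fun k => Nat.beq (dig3 a k) ((3 - dig3 b k) % 3))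

/-- `w` is the image of `v` under the reflection in `u`, up to sign. -/
def reflTest (n u v w : ℕ) : Bool :=
  allDig n (fun k => Nat.beq (dig3 w k) ((dig3 v k + dotN n u v * dig3 u k) % 3)) ||
    allDig n (fun k => Nat.beq ((3 - dig3 w k) % 3) ((dig3 v k + dotN n u v * dig3 u k) % 3))

/-- Pairwise different lines. -/
def pairTest (n : ℕ) : List ℕ → Bool
  | [] => true
  | a :: L => L.all (fun b => !eqpm n a b) && pairTest n L

/-- All different. -/
def distinct : List ℕ → Bool
  | [] => true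
  | a :: L => L.all (fun b => !(a == b)) && distinct L

namespace Cert

variable (C : Cert)

/-- A point. -/
def pt (i : ℕ) : ℕ := C.pts.getD i 0

/-- A code. -/
def code (i : ℕ) : ℕ := C.codes.getD i 0

/-- An image. -/
def tab (i k : ℕ) : ℕ := (C.tabs.getD i []).getD k 0

/-- The word of a path. -/
def word (P : List ℕ) : List ℕ := P.reverse ++ C.x0 :: P

/-- The tests at one line. -/
def okLine (i : ℕ) : Bool :=
  Nat.beq (dotN C.n (C.code i) (C.code i) % 3) 1 && (List.range C.K).all (fun k =>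
    decide (C.tab i k < C.m) && reflTest C.n (C.code k) (C.code i) (C.code (C.tab i k))) &&
  (decide (i < C.K) || (decide (C.par.getD i 0 / C.K < i) &&
    C.tab (C.par.getD i 0 / C.K) (C.par.getD i 0 % C.K) == i))

/-- A code of norm one belongs to a listed line. -/
def okCover (c : ℕ) : Bool :=
  !(Nat.beq (dotN C.n c c % 3) 1) || C.codes.any (eqpm C.n c)

/-- The listed lines differ. -/
def okPairs : Bool :=
  C.codes.length == C.m && pairTest C.n C.codes && decide (C.K ≤ C.m) && decide (0 < C.K)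

/-- The tests on a block. -/
def block (f : ℕ → Bool) (o cnt : ℕ) : Bool := DoubleCoverUtil.below (fun i => f (o + i)) cnt

/-- The point side. -/
noncomputable def okPoints (tb : Table) (d c : ℕ) : Bool :=
  (C.pd ++ C.pc ++ C.paths.flatten).all (fun y => decide (y < tb.g)) && decide (C.x0 < tb.g) &&
    decide (C.s0 < tb.n) && tb.follow C.pd C.s0 == d && tb.follow C.pc C.s0 == c &&
    decide (d < tb.n) && decide (c < tb.n) && !(tb.follow (C.word C.pd) c == c) &&
    C.pts.length == C.m && distinct C.pts && C.paths.length == C.K &&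
    (List.range C.K).all (fun k => tb.follow (C.paths.getD k []) C.s0 == C.pt k) &&
    (List.range C.m).all (fun i => decide (C.pt i < tb.n) && !(C.pt i == d) && !(C.pt i == c) &&
      tb.follow (C.word C.pd) (C.pt i) == C.pt i && tb.follow (C.word C.pc) (C.pt i) == C.pt i &&
      (List.range C.K).all (fun k =>
        tb.follow (C.word (C.paths.getD k [])) (C.pt i) == C.pt (C.tab i k)))

/-- No further common neighbours. -/
noncomputable def okAll (tb : Table) (d c p : ℕ) : Bool :=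
  Nat.beq p d || Nat.beq p c || !(Nat.beq (tb.follow (C.word C.pd) p) p) ||
    !(Nat.beq (tb.follow (C.word C.pc) p) p) || C.pts.contains p

theorem block_get {f : ℕ → Bool} {o cnt : ℕ} (h : block f o cnt = true) {p : ℕ} (h1 : o ≤ p)
    (h2 : p < o + cnt) : f p = true := by
  obtain ⟨i, rfl⟩ := Nat.exists_eq_add_of_le h1
  exact DoubleCoverUtil.below_get _ h i (by omega)

end Cert

theorem dotN_eq (n a b : ℕ) :
    SS.bs (one3 n) (vecN n a) (vecN n b) = (dotN n a b : ZMod 3) := by
  induction n with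
  | zero => simp [SS.bs, dotN]
  | succ n ih =>
    rw [show dotN (n + 1) a b = dotN n a b + dig3 a n * dig3 b n from rfl, Nat.cast_add, ← ih, SS.bs,
      Fin.sum_univ_castSucc, SS.bs]
    simp [one3, vecN]

theorem dig_cast {a b : ℕ} (h : dig3 a b = (a / 3 ^ b) % 3) : dig3 a b < 3 :=
  h ▸ Nat.mod_lt _ (by norm_num)

theorem dig_lt (a b : ℕ) : dig3 a b < 3 := Nat.mod_lt _ (by norm_num)

theorem neg_dig (x : ℕ) (hx : x < 3) : (((3 - x) % 3 : ℕ) : ZMod 3) = -(x : ZMod 3) := by
  interval_cases x <;> decide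

theorem eqpm_sound {n a b : ℕ} (h : eqpm n a b = true) :
    vecN n a = vecN n b ∨ vecN n a = -vecN n b := by
  rw [eqpm, Bool.or_eq_true] at h
  rcases h with h | h
  · exact Or.inl (funext fun k => congrArg (Nat.cast) (Nat.eq_of_beq_eq_true (allDig_get h k k.2)))
  · refine Or.inr (funext fun k => ?_)
    rw [Pi.neg_apply, vecN, vecN, Nat.eq_of_beq_eq_true (allDig_get h k k.2), neg_dig _ (dig_lt _ _)]

theorem eqpm_complete {n a b : ℕ} (h : vecN n a = vecN n b ∨ vecN n a = -vecN n b) :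
    eqpm n a b = true := by
  rw [eqpm, Bool.or_eq_true]
  have inj : ∀ x y : ℕ, x < 3 → y < 3 → (x : ZMod 3) = y → x = y := by
    intro x y hx hy e
    rwa [ZMod.natCast_eq_natCast_iff', Nat.mod_eq_of_lt hx, Nat.mod_eq_of_lt hy] at e
  rcases h with h | h
  · exact Or.inl (allDig_intro fun k hk =>
      Eq.mpr Nat.beq_eq (inj _ _ (dig_lt _ _) (dig_lt _ _) (congrFun h ⟨k, hk⟩)))
  · refine Or.inr (allDig_intro fun k hk => Eq.mpr Nat.beq_eq (inj _ _ (dig_lt _ _)
      (Nat.mod_lt _ (by norm_num)) ?_))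
    rw [neg_dig _ (dig_lt _ _)]
    exact congrFun h ⟨k, hk⟩

theorem vecN_surj (n : ℕ) (x : Fin n → ZMod 3) : ∃ c < 3 ^ n, vecN n c = x := by
  obtain ⟨f, hf⟩ : ∃ f : Fin n → Fin 3, ∀ k, f k = x k := ⟨x, fun _ => rfl⟩
  refine ⟨finFunctionFinEquiv f, (finFunctionFinEquiv f).2, funext fun k => ?_⟩
  have h1 : (finFunctionFinEquiv.symm (finFunctionFinEquiv f) k : ℕ) =
      dig3 (finFunctionFinEquiv f) k := rfl
  rw [Equiv.symm_apply_apply] at h1
  rw [vecN, ← h1, hf]
  exact ZMod.natCast_zmod_val (x k)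

theorem pairTest_get {n : ℕ} : ∀ {L : List ℕ}, pairTest n L = true → ∀ i j, i < j → j < L.length →
    eqpm n (L.getD i 0) (L.getD j 0) = false
  | [], _, i, j, _, hj => absurd hj (Nat.not_lt_zero j)
  | a :: L, h, i, j, hij, hj => by
    rw [pairTest, Bool.and_eq_true, List.all_eq_true] at h
    obtain ⟨j, rfl⟩ : ∃ j', j = j' + 1 := ⟨j - 1, by omega⟩
    rw [List.length_cons, Nat.succ_lt_succ_iff] at hj
    rcases i with - | i
    · rw [List.getD_cons_zero, List.getD_cons_succ, List.getD_eq_getElem _ _ hj]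
      simpa using h.1 _ (List.getElem_mem hj)
    · rw [List.getD_cons_succ, List.getD_cons_succ]
      exact pairTest_get h.2 i j (by omega) hj

theorem distinct_get : ∀ {L : List ℕ}, distinct L = true → ∀ i j, i < j → j < L.length →
    L.getD i 0 ≠ L.getD j 0
  | [], _, i, j, _, hj => absurd hj (Nat.not_lt_zero j)
  | a :: L, h, i, j, hij, hj => by
    rw [distinct, Bool.and_eq_true, List.all_eq_true] at h
    obtain ⟨j, rfl⟩ : ∃ j', j = j' + 1 := ⟨j - 1, by omega⟩
    rw [List.length_cons, Nat.succ_lt_succ_iff] at hj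
    rcases i with - | i
    · rw [List.getD_cons_zero, List.getD_cons_succ, List.getD_eq_getElem _ _ hj]
      simpa using h.1 _ (List.getElem_mem hj)
    · rw [List.getD_cons_succ, List.getD_cons_succ]
      exact distinct_get h.2 i j (by omega) hj

/-- The certificate gives the condition on two non-commuting members. -/
theorem pair_type {X : Type*} [Group X] {tb : Table} {gen : ℕ → X} (M : PointModel X tb gen)
    (C : Cert) {d c : Fin tb.n} (hs0 : ∀ h : C.s0 < tb.n, M.T ⟨C.s0, h⟩ = gen C.x0)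
    (hpairs : C.okPairs = true) (hline : ∀ i < C.m, C.okLine i = true)
    (hcov : ∀ a < 3 ^ C.n, C.okCover a = true) (hpts : C.okPoints tb d c = true)
    (hall : ∀ p < tb.n, C.okAll tb d c p = true)
    {μ : ZMod 3} (hμ : ∏ i : Fin C.n, 2 * one3 C.n i = μ) {S : Set X}
    (hS : S = {y : X | y ∈ Set.range M.T ∧ y ≠ M.T d ∧ Commute (M.T d) y} ∩
      {y : X | y ∈ Set.range M.T ∧ y ≠ M.T c ∧ Commute (M.T c) y}) :
    ¬ Commute (M.T d) (M.T c) ∧
      Cfsg.IsProjReflectionGroupModThree
        (↥(Subgroup.closure S) ⧸ Subgroup.center ↥(Subgroup.closure S)) C.n μ 1 := by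
  simp only [Cert.okPairs, Bool.and_eq_true, beq_iff_eq, decide_eq_true_eq] at hpairs
  obtain ⟨⟨⟨hlen, hpair⟩, hKm⟩, hK⟩ := hpairs
  simp only [Cert.okLine, Bool.and_eq_true, beq_iff_eq, List.all_eq_true, List.mem_range,
    decide_eq_true_eq, Bool.or_eq_true, Nat.beq_eq] at hline
  simp only [Cert.okCover, Bool.or_eq_true, Bool.not_eq_true'] at hcov
  simp only [Cert.okPoints, Bool.and_eq_true, beq_iff_eq, List.all_eq_true, List.mem_range,
    decide_eq_true_eq, Bool.not_eq_true', beq_eq_false_iff_ne] at hpts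
  obtain ⟨⟨⟨⟨⟨⟨⟨⟨⟨⟨⟨⟨hlet, hx0⟩, hs0lt⟩, hd⟩, hc⟩, -⟩, -⟩, hdc⟩, hplen⟩, hdist⟩, hKlen⟩, hgpt⟩, hpt⟩ := hpts
  simp only [Cert.okAll, Bool.or_eq_true, Nat.beq_eq,
    Bool.not_eq_true', List.contains_iff_mem] at hall
  have hT0 := hs0 hs0lt
  have hP : ∀ P, (P = C.pd ∨ P = C.pc ∨ ∃ k < C.K, P = C.paths.getD k []) → ∀ y ∈ P, y < tb.g := by
    rintro P (rfl | rfl | ⟨k, hk, rfl⟩) y hy
    · exact hlet y (List.mem_append_left _ (List.mem_append_left _ hy))
    · exact hlet y (List.mem_append_left _ (List.mem_append_right _ hy))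
    · refine hlet y (List.mem_append_right _ (List.mem_flatten.2 ⟨_, ?_, hy⟩))
      rw [List.getD_eq_getElem _ _ (by omega)]
      exact List.getElem_mem _
  have actd : ∀ r : Fin tb.n, (M.rep (M.T d) r : ℕ) = tb.follow (C.word C.pd) r :=
    M.T_path_act hT0 hx0 (hP _ (Or.inl rfl)) hd
  have actc : ∀ r : Fin tb.n, (M.rep (M.T c) r : ℕ) = tb.follow (C.word C.pc) r :=
    M.T_path_act hT0 hx0 (hP _ (Or.inr (Or.inl rfl))) hc
  refine ⟨fun h => hdc ?_, ?_⟩
  · rw [← actd, (M.commute_iff d c).1 h]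
  have hlt : ∀ i : Fin C.m, C.pt i < tb.n := fun i => (hpt i i.2).1.1.1.1.1
  obtain ⟨s₀, hs₀⟩ : ∃ s₀ : Fin C.m → X, ∀ i, s₀ i = M.T ⟨C.pt i, hlt i⟩ := ⟨_, fun _ => rfl⟩
  have hpinj : ∀ i j : Fin C.m, C.pt i = C.pt j → i = j := fun i j e => by
    by_contra hne
    rcases lt_or_gt_of_ne (fun e' => hne (Fin.ext e') : (i : ℕ) ≠ j) with h | h
    · exact distinct_get hdist i j h (hplen.symm ▸ j.2) e
    · exact distinct_get hdist j i h (hplen.symm ▸ i.2) e.symm
  -- the common neighbours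
  have hSr : S = Set.range s₀ := by
    ext z
    rw [hS]
    constructor
    · rintro ⟨⟨⟨p, rfl⟩, hpd, hcd⟩, -, hpc, hcc⟩
      have h1 := hall p p.2
      have hmem : (p : ℕ) ∈ C.pts := by
        rcases h1 with (((h1 | h1) | h1) | h1) | h1
        · exact absurd (congrArg M.T (Fin.ext h1)) hpd
        · exact absurd (congrArg M.T (Fin.ext h1)) hpc
        · exact absurd (by rw [← actd, (M.commute_iff d p).1 hcd]) (Nat.ne_of_beq_eq_false h1)
        · exact absurd (by rw [← actc, (M.commute_iff c p).1 hcc]) (Nat.ne_of_beq_eq_false h1)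
        · exact h1
      obtain ⟨i, hi, e⟩ := List.getElem_of_mem hmem
      refine ⟨⟨i, hplen ▸ hi⟩, ?_⟩
      rw [hs₀]
      refine congrArg M.T (Fin.ext ?_)
      show C.pts.getD i 0 = p
      rw [List.getD_eq_getElem _ _ hi, e]
    · rintro ⟨i, rfl⟩
      obtain ⟨⟨⟨⟨⟨-, h1⟩, h2⟩, h3⟩, h4⟩, -⟩ := hpt i i.2
      rw [hs₀]
      exact ⟨⟨⟨_, rfl⟩, fun e => h1 (congrArg Fin.val (M.inj e)),
          (M.commute_iff _ _).2 (Fin.ext ((actd _).trans h3))⟩,
        ⟨_, rfl⟩, fun e => h2 (congrArg Fin.val (M.inj e)),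
          (M.commute_iff _ _).2 (Fin.ext ((actc _).trans h4))⟩
  subst hSr
  clear hS
  obtain ⟨s, es⟩ : ∃ s : Fin C.m → ↥(Subgroup.closure (Set.range s₀)), ∀ i, (s i : X) = s₀ i :=
    ⟨fun i => ⟨s₀ i, Subgroup.subset_closure ⟨i, rfl⟩⟩, fun _ => rfl⟩
  have hsinj : Function.Injective s := fun i j e => by
    have h1 := congrArg Subtype.val e
    rw [es, es, hs₀, hs₀] at h1
    exact hpinj i j (congrArg Fin.val (M.inj h1))
  have htab_lt : ∀ (i : Fin C.m) (k : Fin C.K), C.tab i k < C.m :=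
    fun i k => ((hline i i.2).1.2 k k.2).1
  have htab : ∀ (i : Fin C.m) (k : Fin C.K),
      s (Fin.castLE hKm k) * s i * (s (Fin.castLE hKm k))⁻¹ = s ⟨C.tab i k, htab_lt i k⟩ := fun i k => by
    refine Subtype.ext ?_
    rw [Subgroup.coe_mul, Subgroup.coe_mul, Subgroup.coe_inv, es, es, es, hs₀, hs₀, hs₀, M.conj]
    refine congrArg M.T (Fin.ext ?_)
    rw [M.T_path_act hT0 hx0 (hP _ (Or.inr (Or.inr ⟨k, k.2, rfl⟩))) (hgpt k k.2)]
    exact (hpt i i.2).2 k k.2
  have hpar : ∀ i : Fin C.m, (∃ k, Fin.castLE hKm k = i) ∨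
      ∃ (j : Fin C.m) (k : Fin C.K), j < i ∧ (⟨C.tab j k, htab_lt j k⟩ : Fin C.m) = i := fun i => by
    rcases (hline i i.2).2 with h | ⟨h1, h2⟩
    · exact Or.inl ⟨⟨i, h⟩, rfl⟩
    · by_cases hi : (i : ℕ) < C.K
      · exact Or.inl ⟨⟨i, hi⟩, rfl⟩
      · exact Or.inr ⟨⟨_, h1.trans i.2⟩, ⟨_, Nat.mod_lt _ hK⟩, h1, Fin.ext h2⟩
  have hgen : Subgroup.closure (Set.range fun k => s (Fin.castLE hKm k)) = ⊤ := by
    obtain ⟨Kc, eK⟩ : ∃ Kc, Kc = Subgroup.closure (Set.range fun k => s (Fin.castLE hKm k)) :=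
      ⟨_, rfl⟩
    rw [← eK]
    have hmem : ∀ (a : ℕ) (ha : a < C.m), s ⟨a, ha⟩ ∈ Kc := by
      intro a
      induction a using Nat.strong_induction_on with
      | _ a ih =>
        intro ha
        rcases hpar ⟨a, ha⟩ with ⟨k, ek⟩ | ⟨j, k, hj, ek⟩
        · exact eK ▸ Subgroup.subset_closure ⟨k, by rw [← ek]⟩
        · have h1 : s (Fin.castLE hKm k) ∈ Kc := eK ▸ Subgroup.subset_closure ⟨k, rfl⟩
          rw [← ek, ← htab]
          exact mul_mem (mul_mem h1 (ih j hj j.2)) (inv_mem h1)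
    refine (Subgroup.eq_top_iff' _).2 fun w => ?_
    have h1 : Subgroup.closure (Set.range s₀) ≤ Kc.map (Subgroup.closure (Set.range s₀)).subtype := by
      refine (Subgroup.closure_le _).2 ?_
      rintro _ ⟨i, rfl⟩
      exact ⟨s i, hmem i i.2, es i⟩
    obtain ⟨z, hz, ez⟩ := h1 w.2
    rwa [← show z = w from Subtype.ext ez]
  refine proj_reflection s hsinj (Fin.castLE hKm) (fun i k => ⟨C.tab i k, htab_lt i k⟩) htab hgen
    (fun i : Fin C.m => vecN C.n (C.code i)) (fun i => ?_) (fun i j e => ?_) (fun x hx => ?_)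
    (fun i k => ?_) hpar hμ
  · show SS.qs (one3 C.n) (vecN C.n (C.code i)) = 1
    rw [SS.qs_eq, dotN_eq, ← ZMod.natCast_mod, (hline i i.2).1.1]
    rfl
  · by_contra hne
    have h := eqpm_complete e
    rcases lt_or_gt_of_ne (fun e' => hne (Fin.ext e') : (i : ℕ) ≠ j) with h' | h'
    · exact Bool.false_ne_true ((pairTest_get hpair i j h' (hlen.symm ▸ j.2)).symm.trans h)
    · have h2 := eqpm_complete (n := C.n) (a := C.code j) (b := C.code i) (by
        rcases e with e | e
        exacts [Or.inl e.symm, Or.inr (by rw [e, neg_neg])])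
      exact Bool.false_ne_true ((pairTest_get hpair j i h' (hlen.symm ▸ i.2)).symm.trans h2)
  · obtain ⟨a, ha, rfl⟩ := vecN_surj C.n x
    rcases hcov a ha with h | h
    · rw [SS.qs_eq, dotN_eq, ← ZMod.natCast_mod] at hx
      have h := Nat.ne_of_beq_eq_false h
      exact absurd (by
        have h3 : dotN C.n a a % 3 < 3 := Nat.mod_lt _ (by norm_num)
        interval_cases hh : dotN C.n a a % 3
        · exact absurd hx (by decide)
        · rfl
        · exact absurd hx (by decide)) h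
    · rw [List.any_eq_true] at h
      obtain ⟨b, hb, hab⟩ := h
      obtain ⟨i, hi, rfl⟩ := List.getElem_of_mem hb
      refine ⟨⟨i, hlen ▸ hi⟩, ?_⟩
      rw [show C.code i = C.codes[i] from List.getD_eq_getElem _ _ hi]
      exact eqpm_sound hab
  · have h := ((hline i i.2).1.2 k k.2).2
    rw [reflTest, Bool.or_eq_true] at h
    have hval : ∀ l : Fin C.n, SS.rs (one3 C.n) (vecN C.n (C.code k)) (vecN C.n (C.code i)) l =
        (((dig3 (C.code i) l + dotN C.n (C.code k) (C.code i) * dig3 (C.code k) l) % 3 : ℕ) : ZMod 3) :=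
      fun l => by
        rw [SS.rs, dotN_eq, ZMod.natCast_mod, Nat.cast_add, Nat.cast_mul, Pi.add_apply,
          Pi.smul_apply, smul_eq_mul]
        rfl
    rcases h with h | h
    · refine Or.inl (funext fun l => ?_)
      show SS.rs (one3 C.n) (vecN C.n (C.code k)) (vecN C.n (C.code i)) l = _
      rw [hval, ← Nat.eq_of_beq_eq_true (allDig_get h l l.2)]
      rfl
    · refine Or.inr (funext fun l => ?_)
      show SS.rs (one3 C.n) (vecN C.n (C.code k)) (vecN C.n (C.code i)) l = _
      rw [hval, ← Nat.eq_of_beq_eq_true (allDig_get h l l.2), neg_dig _ (dig_lt _ _)]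
      rfl

end CfsgLib.InvChar.TypeModel
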