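import Mathlib
import Cfsg.Agent.Lib.Chev.PSUThreeSylow

/-!
# Automorphisms of order two of the Sylow two-subgroups of `SU₃(2ⁿ)` fix the centre

An automorphism whose square is trivial on the centre and on the quotient by the centre is trivial
on the centre.
-/

set_option autoImplicit false

namespace CfsgLib.InvChar.UnitarySylow

open CfsgLib.Chev.PSUSyl CfsgLib.Chev.PSUSyl.QField

/-- An involutive endomorphism of a group of exponent two fixes at least the square root of the order. -/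
theorem card_le_fixed_sq {A : Type*} [AddCommGroup A] [Finite A] (h2 : ∀ a : A, a + a = 0)
    (f : A →+ A) (hf : ∀ a, f (f a) = a) :
    Nat.card A ≤ Nat.card {a : A // f a = a} ^ 2 := by
  let d : A →+ A := f + AddMonoidHom.id A
  have hd : ∀ a, d a = f a + a := fun a => rfl
  have hker : ∀ a, a ∈ d.ker ↔ f a = a := fun a => by
    rw [AddMonoidHom.mem_ker, hd, ← sub_eq_zero (a := f a) (b := a),
      sub_eq_add_neg, neg_eq_of_add_eq_zero_left (h2 a)]
  have hrk : d.range ≤ d.ker := by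
    rintro _ ⟨a, rfl⟩
    rw [hker, hd, map_add, hf, add_comm]
  have h1 := AddSubgroup.card_eq_card_quotient_mul_card_addSubgroup d.ker
  rw [Nat.card_congr (QuotientAddGroup.quotientKerEquivRange d).toEquiv] at h1
  rw [show Nat.card {a : A // f a = a} = Nat.card ↥d.ker from
    Nat.card_congr (Equiv.subtypeEquivRight fun a => (hker a).symm), h1, sq]
  exact Nat.mul_le_mul_right _ (AddSubgroup.card_le_of_le hrk)

variable {F : Type*} [Field F] [Fintype F] (h : QField F)

/-- The fixed field of `x ↦ x ^ q`. -/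
def fixedField : Subfield F where
  carrier := {c | c ^ h.q = c}
  mul_mem' := fun {a b} (ha : a ^ h.q = a) (hb : b ^ h.q = b) => by
    show (a * b) ^ h.q = a * b
    rw [mul_pow, ha, hb]
  one_mem' := one_pow _
  add_mem' := fun {a b} (ha : a ^ h.q = a) (hb : b ^ h.q = b) => by
    show (a + b) ^ h.q = a + b
    rw [h.add_pow', ha, hb]
  zero_mem' := zero_pow (by positivity)
  neg_mem' := fun {a} (ha : a ^ h.q = a) => by
    show (-a) ^ h.q = -a
    rw [h.neg_eq, ha]
  inv_mem' := fun a (ha : a ^ h.q = a) => by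
    show a⁻¹ ^ h.q = a⁻¹
    rw [inv_pow, ha]

theorem mem_fixedField {c : F} : c ∈ fixedField h ↔ c ^ h.q = c := Iff.rfl

theorem card_fixedField : Nat.card ↥(fixedField h) = h.q := h.card_fixed

theorem sqrt_mem {c : F} (hc : c ∈ fixedField h) :
    ∃ a ∈ fixedField h, a * a = c := by
  refine ⟨c ^ 2 ^ (h.n - 1), pow_mem hc _, ?_⟩
  rw [← pow_add, ← two_mul, ← pow_succ', show h.n - 1 + 1 = h.n by have := h.two_le; omega]
  exact hc

/-- The rigidity of the norm form. -/
theorem fixed_of_involutive (α : F →+ F) (hα : ∀ a, α (α a) = a)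
    (β : ↥(fixedField h) →+ ↥(fixedField h)) (hβ : ∀ c, β (β c) = c)
    (hN : ∀ (a : F) (c : ↥(fixedField h)), (c : F) = a * a ^ h.q → (β c : F) = α a * α a ^ h.q) :
    ∀ c, β c = c := by
  classical
  have hK2 : ∀ c : ↥(fixedField h), c + c = 0 := fun c => Subtype.ext (h.self_add (c : F))
  have hBK : ∀ a b : F, a * b ^ h.q + b * a ^ h.q ∈ (fixedField h) := fun a b => by
    rw [mem_fixedField, h.add_pow', mul_pow, mul_pow, h.pow_pow', h.pow_pow']; ring
  have hNK : ∀ a : F, a * a ^ h.q ∈ (fixedField h) := fun a => h.norm_fixed a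
  have hB : ∀ a b : F, (β ⟨_, hBK a b⟩ : F) = α a * α b ^ h.q + α b * α a ^ h.q := by
    intro a b
    have e : (⟨_, hBK a b⟩ : ↥(fixedField h)) = ⟨_, hNK (a + b)⟩ + (⟨_, hNK a⟩ + ⟨_, hNK b⟩) := Subtype.ext (by
      show a * b ^ h.q + b * a ^ h.q = (a + b) * (a + b) ^ h.q + (a * a ^ h.q + b * b ^ h.q)
      rw [h.add_pow']
      linear_combination -(a * a ^ h.q + b * b ^ h.q) * h.two)
    rw [e, map_add, map_add, Subfield.coe_add, Subfield.coe_add, hN (a + b) _ rfl, hN a _ rfl,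
      hN b _ rfl, map_add, h.add_pow']
    linear_combination (α a * α a ^ h.q + α b * α b ^ h.q) * h.two
  -- a fixed vector
  have hcardF : Nat.card F = h.q ^ 2 := by rw [Nat.card_eq_fintype_card, h.card]
  have hq4 := h.four_le
  have hfixα := card_le_fixed_sq h.self_add α hα
  have hfixβ := card_le_fixed_sq hK2 β hβ
  rw [hcardF] at hfixα
  rw [card_fixedField] at hfixβ
  have hFαq : h.q ≤ Nat.card {a : F // α a = a} :=
    (Nat.pow_le_pow_iff_left (by norm_num)).1 hfixα
  obtain ⟨v, hv, hv0⟩ : ∃ v, α v = v ∧ v ≠ 0 := by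
    by_contra hno
    push Not at hno
    haveI : Subsingleton {a : F // α a = a} :=
      ⟨fun a b => Subtype.ext ((hno a a.2).trans (hno b b.2).symm)⟩
    have := Finite.card_le_one_iff_subsingleton.2 (inferInstance : Subsingleton {a : F // α a = a})
    omega
  set Nv : F := v * v ^ h.q with hNv
  have hNv0 : Nv ≠ 0 := mul_ne_zero hv0 (pow_ne_zero _ hv0)
  have hNvK : Nv ∈ (fixedField h) := hNK v
  -- the line through `v`
  have hline : ∀ a ∈ (fixedField h), ∃ a' ∈ (fixedField h), α (v * a) = v * a' := by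
    intro a ha
    refine ⟨α (v * a) / v, ?_, (mul_div_cancel₀ _ hv0).symm⟩
    have e := hB v (v * a)
    have e0 : (⟨_, hBK v (v * a)⟩ : ↥(fixedField h)) = 0 := Subtype.ext (by
      show v * (v * a) ^ h.q + v * a * v ^ h.q = 0
      rw [mul_pow, (ha : a ^ h.q = a)]
      linear_combination (v * v ^ h.q * a) * h.two)
    rw [e0, map_zero, ZeroMemClass.coe_zero, hv] at e
    have e1 : v * α (v * a) ^ h.q = α (v * a) * v ^ h.q := by
      linear_combination -e - (α (v * a) * v ^ h.q) * h.two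
    rw [mem_fixedField, div_pow, div_eq_div_iff (pow_ne_zero _ hv0) hv0, mul_comm, e1]
  let A : Set F := {a | a ∈ (fixedField h) ∧ α (v * a) = v * a}
  have hAW : ∀ (c : ↥(fixedField h)), β c = c → ∃ a ∈ A, (c : F) = Nv * (a * a) := by
    intro c hc
    obtain ⟨a, ha, haa⟩ := sqrt_mem h (mul_mem (inv_mem hNvK) c.2 : Nv⁻¹ * (c : F) ∈ (fixedField h))
    have hca : (c : F) = Nv * (a * a) := by rw [haa, mul_inv_cancel_left₀ hNv0]
    obtain ⟨a', ha', e⟩ := hline a ha
    have h1 := hN (v * a) c (by rw [mul_pow, (ha : a ^ h.q = a), hca, hNv]; ring)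
    rw [hc, e, mul_pow, (ha' : a' ^ h.q = a'), hca, hNv] at h1
    have h2 : a * a = a' * a' := by
      refine mul_left_cancel₀ hNv0 ?_
      rw [hNv]; linear_combination h1
    have h3 : a = a' := by
      have h4 : (a + a') * (a + a') = 0 := by linear_combination h2 + (a' * a' + a * a') * h.two
      rw [← h.neg_eq a']
      exact eq_neg_of_add_eq_zero_left (mul_self_eq_zero.1 h4)
    exact ⟨a, ⟨ha, by rw [e, h3]⟩, hca⟩
  have hsurj : ∀ t : ↥(fixedField h), ∃ u : F, t = ⟨_, hBK v u⟩ := by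
    intro t
    obtain ⟨c, hc⟩ := h.exists_fibre (t := (t : F)) t.2
    refine ⟨c / v ^ h.q, Subtype.ext ?_⟩
    show (t : F) = v * (c / v ^ h.q) ^ h.q + c / v ^ h.q * v ^ h.q
    rw [div_pow, h.pow_pow', mul_div_cancel₀ _ hv0, div_mul_cancel₀ _ (pow_ne_zero _ hv0), add_comm,
      hc]
  -- the ring of scalars commuting with `β`
  let L : Subfield F :=
    { carrier := {a | ∃ ha : a ∈ (fixedField h), ∀ c : ↥(fixedField h), β (⟨a, ha⟩ * c) = ⟨a, ha⟩ * β c}
      mul_mem' := by
        rintro a b ⟨ha, ea⟩ ⟨hb, eb⟩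
        refine ⟨mul_mem ha hb, fun c => ?_⟩
        rw [show (⟨a * b, mul_mem ha hb⟩ : ↥(fixedField h)) = ⟨a, ha⟩ * ⟨b, hb⟩ from rfl, mul_assoc, ea, eb,
          mul_assoc]
      one_mem' := ⟨one_mem _, fun c => by
        rw [show (⟨1, one_mem (fixedField h)⟩ : ↥(fixedField h)) = 1 from rfl, one_mul, one_mul]⟩
      add_mem' := by
        rintro a b ⟨ha, ea⟩ ⟨hb, eb⟩
        refine ⟨add_mem ha hb, fun c => ?_⟩
        rw [show (⟨a + b, add_mem ha hb⟩ : ↥(fixedField h)) = ⟨a, ha⟩ + ⟨b, hb⟩ from rfl, add_mul, map_add, ea,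
          eb, add_mul]
      zero_mem' := ⟨zero_mem _, fun c => by
        rw [show (⟨0, zero_mem (fixedField h)⟩ : ↥(fixedField h)) = 0 from rfl, zero_mul, zero_mul, map_zero]⟩
      neg_mem' := by
        rintro a ⟨ha, ea⟩
        exact ⟨neg_mem ha, fun c => by
          rw [show (⟨-a, neg_mem ha⟩ : ↥(fixedField h)) = -⟨a, ha⟩ from rfl, neg_mul, map_neg, ea, neg_mul]⟩
      inv_mem' := by
        rintro a ⟨ha, ea⟩
        refine ⟨inv_mem ha, fun c => ?_⟩
        rw [show (⟨a⁻¹, inv_mem ha⟩ : ↥(fixedField h)) = (⟨a, ha⟩ : ↥(fixedField h))⁻¹ from rfl]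
        by_cases h0 : (⟨a, ha⟩ : ↥(fixedField h)) = 0
        · rw [h0, inv_zero, zero_mul, zero_mul, map_zero]
        · apply mul_left_cancel₀ h0
          rw [← ea, mul_inv_cancel_left₀ h0, mul_inv_cancel_left₀ h0] }
  have hAL : A ⊆ L := by
    rintro a ⟨ha, haf⟩
    refine ⟨ha, fun c => Subtype.ext ?_⟩
    obtain ⟨u, rfl⟩ := hsurj c
    have e1 : (⟨a, ha⟩ : ↥(fixedField h)) * ⟨_, hBK v u⟩ = ⟨_, hBK (v * a) u⟩ := Subtype.ext (by
      show a * (v * u ^ h.q + u * v ^ h.q) = v * a * u ^ h.q + u * (v * a) ^ h.q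
      rw [mul_pow, (ha : a ^ h.q = a)]; ring)
    rw [e1, hB, haf, Subfield.coe_mul, hB, hv, mul_pow, (ha : a ^ h.q = a)]
    show _ = a * _
    ring
  by_cases hLK : ∀ c ∈ (fixedField h), c ∈ L
  · have e : ∀ c : ↥(fixedField h), β c = c * β 1 := fun c => by
      obtain ⟨hc, ec⟩ := hLK c c.2
      simpa using ec 1
    have hb1 : (β 1 : F) = 1 := by
      have e1 := congrArg Subtype.val (e (β 1))
      rw [hβ] at e1
      simp only [Subfield.coe_mul, Subfield.coe_one] at e1
      have e2 : ((β 1 : F) + 1) * ((β 1 : F) + 1) = 0 := by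
        linear_combination -e1 + ((β 1 : F) + 1) * h.two
      rw [← h.neg_eq (1 : F)]
      exact eq_neg_of_add_eq_zero_left (mul_self_eq_zero.1 e2)
    intro c
    rw [e c, show β 1 = 1 from Subtype.ext hb1, mul_one]
  exfalso
  push Not at hLK
  obtain ⟨c0, hc0, hc0L⟩ := hLK
  have hLleK : ∀ a ∈ L, a ∈ (fixedField h) := fun a ⟨ha, _⟩ => ha
  -- counting
  have hL1 : Nat.card ↥L ^ 2 ≤ h.q := by
    rw [sq, ← Nat.card_prod, ← card_fixedField h]
    refine Nat.card_le_card_of_injective (fun p : ↥L × ↥L =>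
      (⟨p.1 + c0 * p.2, add_mem (hLleK _ p.1.2) (mul_mem hc0 (hLleK _ p.2.2))⟩ : ↥(fixedField h))) ?_
    rintro ⟨a, b⟩ ⟨a', b'⟩ e
    have e' : (a : F) + c0 * b = a' + c0 * b' := congrArg Subtype.val e
    by_cases hb : b = b'
    · subst hb
      exact Prod.ext (Subtype.ext (add_right_cancel e')) rfl
    · refine absurd ?_ hc0L
      have hbne : (b : F) - b' ≠ 0 := sub_ne_zero.2 fun e2 => hb (Subtype.ext e2)
      rw [show c0 = ((a' : F) - a) / ((b : F) - b') by
        rw [eq_div_iff hbne]; linear_combination e']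
      exact div_mem (sub_mem a'.2 a.2) (sub_mem b.2 b'.2)
  have hL2 : Nat.card {c : ↥(fixedField h) // β c = c} ≤ Nat.card ↥L := by
    choose g hg hg' using fun c : {c : ↥(fixedField h) // β c = c} => hAW c.1 c.2
    refine Nat.card_le_card_of_injective (fun c => (⟨g c, hAL (hg c)⟩ : ↥L)) fun c c' e => ?_
    have e' : g c = g c' := congrArg Subtype.val e
    exact Subtype.ext (Subtype.ext (by rw [hg' c, hg' c', e']))
  have hLq : Nat.card ↥L ^ 2 = h.q :=
    le_antisymm hL1 (hfixβ.trans (Nat.pow_le_pow_left hL2 2))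
  obtain ⟨m, -, hm⟩ := (Nat.dvd_prime_pow Nat.prime_two).1
    (Dvd.intro (Nat.card ↥L) (by rw [← sq, hLq]) : Nat.card ↥L ∣ 2 ^ h.n)
  haveI : CharP F 2 := CharTwo.of_one_ne_zero_of_two_eq_zero one_ne_zero h.two
  haveI := Fintype.ofFinite ↥L
  have hLpow : ∀ a ∈ L, a ^ 2 ^ m = a := fun a ha => by
    have := congrArg Subtype.val (FiniteField.pow_card (⟨a, ha⟩ : ↥L))
    rwa [← Nat.card_eq_fintype_card, hm, SubmonoidClass.coe_pow] at this
  -- a fixed vector outside the line
  obtain ⟨x, hx, hxK⟩ : ∃ x, α x = x ∧ x / v ∉ (fixedField h) := by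
    by_contra hno
    push Not at hno
    have hle : Nat.card {a : F // α a = a} ≤ Nat.card ↥L := by
      refine Nat.card_le_card_of_injective (fun a => (⟨a.1 / v, hAL ⟨hno a.1 a.2, by
        rw [mul_div_cancel₀ _ hv0, a.2]⟩⟩ : ↥L)) fun a b e => ?_
      exact Subtype.ext ((div_left_inj' hv0).1 (congrArg Subtype.val e))
    have h1 : h.q ^ 2 ≤ h.q := hLq ▸ Nat.pow_le_pow_left (hLq ▸ hFαq.trans hle) 2
    nlinarith
  set y := x / v with hy
  have hxy : x = v * y := by rw [hy, mul_div_cancel₀ _ hv0]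
  have hAsq : ∀ c : ↥(fixedField h), β c = c → (c : F) / Nv ∈ L := fun c hc => by
    obtain ⟨a, ha, e⟩ := hAW c hc
    rw [e, mul_div_cancel_left₀ _ hNv0]
    exact mul_mem (hAL ha) (hAL ha)
  have hT : y + y ^ h.q ∈ L := by
    have e := hAsq ⟨_, hBK v x⟩ (Subtype.ext (by rw [hB, hv, hx]))
    have e2 : (v * x ^ h.q + x * v ^ h.q) / Nv = y + y ^ h.q := by
      rw [div_eq_iff hNv0, hxy, mul_pow, hNv]; ring
    exact e2 ▸ e
  have hNy : y * y ^ h.q ∈ L := by
    have e := hAsq ⟨_, hNK x⟩ (Subtype.ext (by rw [hN x _ rfl, hx]))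
    have e2 : x * x ^ h.q / Nv = y * y ^ h.q := by
      rw [div_eq_iff hNv0, hxy, mul_pow, hNv]; ring
    exact e2 ▸ e
  have hroot : (y ^ 2 ^ m + y) * (y ^ 2 ^ m + y ^ h.q) = 0 := by
    have h0 : y ^ 2 + (y + y ^ h.q) * y + y * y ^ h.q = 0 := by
      linear_combination (y ^ 2 + y * y ^ h.q) * h.two
    have h1 : (y ^ 2 + (y + y ^ h.q) * y + y * y ^ h.q) ^ 2 ^ m = 0 := by
      rw [h0, zero_pow (by positivity)]
    rw [add_pow_char_pow _ _ 2 m, add_pow_char_pow _ _ 2 m, mul_pow (y + y ^ h.q), hLpow _ hT,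
      hLpow _ hNy, pow_right_comm] at h1
    linear_combination h1
  have hyq : y ^ h.q = (y ^ 2 ^ m) ^ 2 ^ m := by
    rw [← pow_mul, ← pow_two (2 ^ m), ← hm, hLq]
  have hfix : y ^ 2 ^ m = y := by
    rcases mul_eq_zero.1 hroot with e | e
    · exact (eq_neg_of_add_eq_zero_left e).trans (h.neg_eq y)
    · have e1 : y ^ 2 ^ m = y ^ h.q := by
        rw [← h.neg_eq (y ^ h.q)]; exact eq_neg_of_add_eq_zero_left e
      rw [hyq] at e1
      exact (iterateFrobenius_inj F 2 m (by simpa [iterateFrobenius_def] using e1)).symm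
  exact hxK (mem_fixedField h |>.2 (by rw [hyq, hfix, hfix]))

/-- Automorphisms with square trivial on the centre and modulo the centre fix the centre. -/
theorem aut_fix_center (γ : MulAut h.UQ) (ha : ∀ x : h.UQ, (γ (γ x)).a = x.a)
    (hc : ∀ x : h.UQ, x.a = 0 → γ (γ x) = x) : ∀ x : h.UQ, x.a = 0 → γ x = x := by
  classical
  have hcen : ∀ x : h.UQ, x.a = 0 → (γ x).a = 0 := by
    intro x hx
    rw [← UQ.mem_center_iff, Subgroup.mem_center_iff]
    intro y
    obtain ⟨y, rfl⟩ := γ.surjective y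
    rw [← map_mul, ← map_mul, Subgroup.mem_center_iff.1 (UQ.mem_center_iff.2 hx) y]
  have hinv : ∀ x : h.UQ, x⁻¹.a = x.a := fun x => rfl
  have hsame : ∀ x y : h.UQ, x.a = y.a → (γ x).a = (γ y).a := by
    intro x y e
    have h1 := hcen (x⁻¹ * y) (by rw [UQ.mul_a, hinv, e, h.self_add])
    rw [map_mul, map_inv, UQ.mul_a, hinv] at h1
    rw [← h.neg_eq (γ y).a]
    exact eq_neg_of_add_eq_zero_left h1
  let mk : F → h.UQ := fun a => (UQ.exists_mk (h := h) a).choose
  have hmk : ∀ a, (mk a).a = a := fun a => (UQ.exists_mk (h := h) a).choose_spec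
  let α : F →+ F := AddMonoidHom.mk' (fun a => (γ (mk a)).a) fun a b => by
    rw [← UQ.mul_a, ← map_mul]
    exact hsame _ _ (by rw [hmk, UQ.mul_a, hmk, hmk])
  have hαa : ∀ x : h.UQ, α x.a = (γ x).a := fun x => hsame _ _ (hmk _)
  let cz : ↥(fixedField h) → h.UQ := fun c => ⟨0, c, by
    rw [(c.2 : (c : F) ^ h.q = c), zero_mul, add_zero, h.self_add]⟩
  have hcz : ∀ x : h.UQ, x.a = 0 → ∀ (hb : x.b ∈ fixedField h), cz ⟨x.b, hb⟩ = x := fun x hx hb =>
    UQ.ext hx.symm rfl
  let β : ↥(fixedField h) →+ ↥(fixedField h) := AddMonoidHom.mk'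
    (fun c => ⟨(γ (cz c)).b, UQ.b_fixed (hcen _ rfl)⟩) fun c d => Subtype.ext (by
      have e : cz (c + d) = cz c * cz d := UQ.ext (by simp [cz, UQ.mul_a])
        (by simp [cz, UQ.mul_b])
      show (γ (cz (c + d))).b = (γ (cz c)).b + (γ (cz d)).b
      rw [e, map_mul, UQ.mul_b, hcen (cz c) rfl, zero_mul, add_zero])
  have hsq : ∀ x : h.UQ, (x * x).a = 0 ∧ (x * x).b = x.a * x.a ^ h.q := fun x => by
    refine ⟨by rw [UQ.mul_a, h.self_add], ?_⟩
    rw [UQ.mul_b, h.self_add, zero_add]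
  have key := fixed_of_involutive h α (fun a => by
      show α (γ (mk a)).a = a
      rw [hαa, ha, hmk]) β (fun c => Subtype.ext (by
      show (γ (cz ⟨(γ (cz c)).b, UQ.b_fixed (hcen _ rfl)⟩)).b = c
      rw [hcz _ (hcen _ rfl) (UQ.b_fixed (hcen _ rfl)), hc _ rfl])) fun a c e => by
      show (γ (cz c)).b = _
      have e1 : cz c = mk a * mk a := UQ.ext (hsq _).1.symm (by
        rw [(hsq _).2, hmk]; exact e)
      rw [e1, map_mul, (hsq _).2, ← hαa, hmk]
  intro x hx
  have hb : x.b ∈ fixedField h := UQ.b_fixed hx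
  exact UQ.ext ((hcen x hx).trans hx.symm) (by
    have := congrArg Subtype.val (key ⟨x.b, hb⟩)
    change (γ (cz ⟨x.b, hb⟩)).b = x.b at this
    rwa [hcz x hx hb] at this)

/-- The Sylow two-subgroups of `SU₃(q)`. -/
theorem sylow_su_equiv (P : Sylow 2 ↥(Cfsg.SU 3 F h.q)) :
    Nonempty (↥(P : Subgroup ↥(Cfsg.SU 3 F h.q)) ≃* h.UQ) := by
  obtain ⟨f, hf⟩ := UQ.exists_embedding (h := h)
  haveI : Fact (Nat.Prime 2) := ⟨Nat.prime_two⟩
  have hc := CfsgLib.Classical.card_center_su h.card (n := 3) (by norm_num)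
  have hodd : (Nat.card ↥(Subgroup.center ↥(Cfsg.SU 3 F h.q))).factorization 2 = 0 := by
    rw [hc]
    exact Nat.factorization_eq_zero_of_not_dvd fun hd =>
      absurd (hd.trans (Nat.gcd_dvd_left 3 _)) (by norm_num)
  have hsu : (Nat.card ↥(Cfsg.SU 3 F h.q)).factorization 2 = 3 * h.n := by
    rw [Subgroup.card_eq_card_quotient_mul_card_subgroup (Subgroup.center ↥(Cfsg.SU 3 F h.q)),
      Nat.factorization_mul Nat.card_pos.ne' Nat.card_pos.ne', Finsupp.add_apply, hodd, add_zero]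
    exact UQ.card_psu_two (h := h)
  have hr : Nat.card ↥f.range = 2 ^ (Nat.card ↥(Cfsg.SU 3 F h.q)).factorization 2 := by
    rw [hsu, ← Nat.card_congr (MonoidHom.ofInjective hf).toEquiv, UQ.card_eq, ← pow_mul, mul_comm]
  exact ⟨((Sylow.equiv P (Sylow.ofCard _ hr)).trans
    (MulEquiv.subgroupCongr (Sylow.coe_ofCard _ _))).trans (MonoidHom.ofInjective hf).symm⟩

/-- The centre of a subgroup of index two isomorphic to the Sylow group is central. -/
theorem center_le_of_index_two {R : Type*} [Group R] (S : Subgroup R) (hS : S.index = 2)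
    (e : ↥S ≃* h.UQ) : (Subgroup.center ↥S).map S.subtype ≤ Subgroup.center R := by
  haveI hn : S.Normal := Subgroup.normal_of_index_eq_two hS
  rintro _ ⟨z, hz, rfl⟩
  rw [Subgroup.mem_center_iff]
  have hzS : ∀ g ∈ S, g * (z : R) = (z : R) * g := fun g hg =>
    congrArg Subtype.val (Subgroup.mem_center_iff.1 hz ⟨g, hg⟩)
  intro r
  by_cases hr : r ∈ S
  · exact hzS r hr
  let γ : MulAut h.UQ := (e.symm.trans (MulAut.conjNormal r : MulAut ↥S)).trans e
  have hr2 : r * r ∈ S := Subgroup.mul_self_mem_of_index_two hS r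
  set t : h.UQ := e ⟨r * r, hr2⟩ with ht
  have hγγ : ∀ x, γ (γ x) = t * x * t⁻¹ := fun x => by
    obtain ⟨s, rfl⟩ := e.surjective x
    show e (MulAut.conjNormal r (e.symm (e (MulAut.conjNormal r (e.symm (e s)))))) = _
    rw [e.symm_apply_apply, e.symm_apply_apply, ht, ← map_inv, ← map_mul, ← map_mul]
    refine congrArg e (Subtype.ext ?_)
    simp only [Subgroup.coe_mul, Subgroup.coe_inv, MulAut.conjNormal_apply]
    group
  have hzc : e z ∈ Subgroup.center h.UQ := Subgroup.mem_center_iff.2 fun y => by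
    obtain ⟨y, rfl⟩ := e.surjective y
    rw [← map_mul, ← map_mul, Subgroup.mem_center_iff.1 hz y]
  have hfix := aut_fix_center h γ (fun x => by
      rw [hγγ, UQ.mul_a, UQ.mul_a, show t⁻¹.a = t.a from rfl, add_right_comm, h.self_add, zero_add])
    (fun x hx => by
      rw [hγγ, Subgroup.mem_center_iff.1 (UQ.mem_center_iff.2 hx) t, mul_inv_cancel_right])
    (e z) (UQ.mem_center_iff.1 hzc)
  have e1 : MulAut.conjNormal r z = z := by
    apply e.injective
    have := hfix
    change e (MulAut.conjNormal r (e.symm (e z))) = e z at this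
    rwa [e.symm_apply_apply] at this
  have e2 := congrArg Subtype.val e1
  rw [MulAut.conjNormal_apply] at e2
  exact mul_inv_eq_iff_eq_mul.1 e2

end CfsgLib.InvChar.UnitarySylow
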