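import Mathlib
import Cfsg.Prelude.Def_Solvable
import Cfsg.Prelude.Def_Transfer
import Cfsg.Agent.Lib.InvChar.UnitarySylowInvolution

/-!
# The automorphism group of a Sylow two-subgroup of `SU₃(2ⁿ)`

It is an elementary abelian group of order `2^(2n²)` extended by the semilinear group of the
field with `q²` elements.
-/

set_option autoImplicit false

namespace CfsgLib.InvChar.UnitarySylow

open CfsgLib.Chev.PSUSyl CfsgLib.Chev.PSUSyl.QField

variable {F : Type*} [Field F] [Fintype F] (h : QField F)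

/-- Similitudes of the norm form are semilinear. -/
theorem similitude_semilinear (α : F →+ F) (hinj : ∀ a, α a = 0 → a = 0)
    (β : ↥(fixedField h) →+ ↥(fixedField h))
    (hN : ∀ (a : F) (c : ↥(fixedField h)), (c : F) = a * a ^ h.q → (β c : F) = α a * α a ^ h.q) :
    ∃ (l : Fˣ) (σ : F ≃+* F), ∀ a, α a = l * σ a := by
  classical
  have hBK : ∀ a b : F, a * b ^ h.q + b * a ^ h.q ∈ fixedField h := fun a b => by
    rw [mem_fixedField, h.add_pow', mul_pow, mul_pow, h.pow_pow', h.pow_pow']; ring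
  have hNK : ∀ a : F, a * a ^ h.q ∈ fixedField h := fun a => h.norm_fixed a
  have hB : ∀ a b : F, (β ⟨_, hBK a b⟩ : F) = α a * α b ^ h.q + α b * α a ^ h.q := by
    intro a b
    have e : (⟨_, hBK a b⟩ : ↥(fixedField h)) = ⟨_, hNK (a + b)⟩ + (⟨_, hNK a⟩ + ⟨_, hNK b⟩) :=
      Subtype.ext (by
        show a * b ^ h.q + b * a ^ h.q = (a + b) * (a + b) ^ h.q + (a * a ^ h.q + b * b ^ h.q)
        rw [h.add_pow']
        linear_combination -(a * a ^ h.q + b * b ^ h.q) * h.two)
    rw [e, map_add, map_add, Subfield.coe_add, Subfield.coe_add, hN (a + b) _ rfl, hN a _ rfl,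
      hN b _ rfl, map_add, h.add_pow']
    linear_combination (α a * α a ^ h.q + α b * α b ^ h.q) * h.two
  obtain ⟨u, hu⟩ : ∃ u, u = α 1 := ⟨_, rfl⟩
  have hu0 : u ≠ 0 := fun e => one_ne_zero (hinj 1 (hu ▸ e))
  have hNu : (β 1 : F) = u * u ^ h.q := by
    rw [hu]; exact hN 1 1 (by simp)
  have hNu0 : (β 1 : F) ≠ 0 := by rw [hNu]; exact mul_ne_zero hu0 (pow_ne_zero _ hu0)
  let s : ↥(fixedField h) → F := fun a => (β a : F) / (β 1 : F)
  have hlin : ∀ (v : F) (a : ↥(fixedField h)), α (v * a) = α v * s a ∧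
      (v ≠ 0 → ∀ c : ↥(fixedField h), (β (a * c) : F) = s a * (β c : F)) := by
    intro v a
    by_cases hv0 : v = 0
    · exact ⟨by rw [hv0, zero_mul, map_zero, zero_mul], fun hh => absurd hv0 hh⟩
    have hav0 : α v ≠ 0 := fun e => hv0 (hinj v e)
    have e := hB v (v * a)
    have e0 : (⟨_, hBK v (v * a)⟩ : ↥(fixedField h)) = 0 := Subtype.ext (by
      show v * (v * (a : F)) ^ h.q + v * a * v ^ h.q = 0
      rw [mul_pow, (a.2 : (a : F) ^ h.q = a)]
      linear_combination (v * v ^ h.q * a) * h.two)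
    rw [e0, map_zero, ZeroMemClass.coe_zero] at e
    obtain ⟨k, hk⟩ : ∃ k, k = α (v * a) / α v := ⟨_, rfl⟩
    have hkv : α (v * a) = α v * k := by rw [hk, mul_div_cancel₀ _ hav0]
    have hkK : k ^ h.q = k := by
      have e1 : α v * α (v * a) ^ h.q = α (v * a) * α v ^ h.q := by
        linear_combination -e - (α (v * a) * α v ^ h.q) * h.two
      rw [hk, div_pow, div_eq_div_iff (pow_ne_zero _ hav0) hav0, mul_comm, e1]
    have hmul : ∀ c : ↥(fixedField h), (β (a * c) : F) = k * (β c : F) := by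
      intro c
      obtain ⟨d, hd⟩ := h.exists_fibre (t := (c : F)) c.2
      set w := d / v ^ h.q with hw
      have ec : c = ⟨_, hBK v w⟩ := Subtype.ext (by
        show (c : F) = v * w ^ h.q + w * v ^ h.q
        rw [hw, div_pow, h.pow_pow', mul_div_cancel₀ _ hv0, div_mul_cancel₀ _ (pow_ne_zero _ hv0),
          add_comm, hd])
      have eac : a * c = ⟨_, hBK (v * a) w⟩ := by
        rw [ec]
        refine Subtype.ext ?_
        show (a : F) * (v * w ^ h.q + w * v ^ h.q) = v * a * w ^ h.q + w * (v * (a : F)) ^ h.q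
        rw [mul_pow, (a.2 : (a : F) ^ h.q = a)]; ring
      rw [eac, hB, hkv, mul_pow, hkK, ec, hB]
      ring
    have hks : k = s a := by
      have := hmul 1
      rw [mul_one] at this
      show k = (β a : F) / _
      rw [this, mul_div_cancel_right₀ _ hNu0]
    exact ⟨by rw [hkv, hks], fun _ c => by rw [hmul, hks]⟩
  have hsadd : ∀ a b, s (a + b) = s a + s b := fun a b => by
    simp only [s, map_add, Subfield.coe_add, add_div]
  have hsmul : ∀ a b, s (a * b) = s a * s b := fun a b => by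
    simp only [s]
    rw [(hlin 1 a).2 one_ne_zero b, mul_div_assoc]
  let r : F → F := fun z => α z / u
  have hr1 : r 1 = 1 := by simp only [r]; rw [← hu, div_self hu0]
  have hradd : ∀ z w, r (z + w) = r z + r w := fun z w => by simp only [r, map_add, add_div]
  have hra : ∀ (z : F) (a : ↥(fixedField h)), r (z * a) = r z * s a := fun z a => by
    simp only [r]; rw [(hlin z a).1]; ring
  have hrK : ∀ a : ↥(fixedField h), r a = s a := fun a => by
    rw [← one_mul ((a : F)), hra, hr1, one_mul]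
  obtain ⟨y, hy⟩ := UQ.exists_not_fixed (h := h)
  have hbasis : ∀ z : F, ∃ a b : ↥(fixedField h), z = a + y * b := by
    haveI := Fintype.ofFinite ↥(fixedField h)
    have hi : Function.Injective fun p : ↥(fixedField h) × ↥(fixedField h) => (p.1 : F) + y * p.2 := by
      rintro ⟨a, b⟩ ⟨a', b'⟩ e
      by_cases hb : b = b'
      · subst hb
        exact Prod.ext (Subtype.ext (add_right_cancel e)) rfl
      · refine absurd ?_ hy
        have hbne : (b : F) - b' ≠ 0 := sub_ne_zero.2 fun e2 => hb (Subtype.ext e2)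
        rw [show y = ((a' : F) - a) / ((b : F) - b') by
          rw [eq_div_iff hbne]; linear_combination e]
        exact mem_fixedField h |>.1 (div_mem (sub_mem a'.2 a.2) (sub_mem b.2 b'.2))
    intro z
    have hb := (Fintype.bijective_iff_injective_and_card _).2 ⟨hi, by
      rw [← Nat.card_eq_fintype_card, Nat.card_prod, card_fixedField, h.card, sq]⟩
    obtain ⟨⟨a, b⟩, e⟩ := hb.2 z
    exact ⟨a, b, e.symm⟩
  have hrq : ∀ z, r z ^ h.q = α z ^ h.q / u ^ h.q := fun z => div_pow _ _ _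
  obtain ⟨T, hT⟩ : ∃ T : ↥(fixedField h), (T : F) = y + y ^ h.q :=
    ⟨⟨y + y ^ h.q, by rw [mem_fixedField, h.add_pow', h.pow_pow', add_comm]⟩, rfl⟩
  obtain ⟨N, hNy⟩ : ∃ N : ↥(fixedField h), (N : F) = y * y ^ h.q := ⟨⟨_, hNK y⟩, rfl⟩
  have hsq : r y * r y = r y * s T + s N := by
    have e1 : s T = r y + r y ^ h.q := by
      show (β T : F) / _ = _
      rw [show T = ⟨_, hBK 1 y⟩ from Subtype.ext (by
        show (T : F) = 1 * y ^ h.q + y * 1 ^ h.q
        rw [hT, one_mul, one_pow, mul_one, add_comm]), hB, hrq, hNu, ← hu]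
      simp only [r]
      field_simp
      ring
    have e2 : s N = r y * r y ^ h.q := by
      show (β N : F) / _ = _
      rw [hN y N hNy, hrq, hNu]
      simp only [r]
      field_simp
    rw [e1, e2]
    linear_combination -(r y * r y ^ h.q) * h.two
  have hyy : y * y = y * T + N := by
    rw [hT, hNy]; linear_combination -(y * y ^ h.q) * h.two
  have hrmul : ∀ z w, r (z * w) = r z * r w := by
    intro z w
    obtain ⟨a, b, rfl⟩ := hbasis z
    obtain ⟨c, d, rfl⟩ := hbasis w
    rw [show ((a : F) + y * b) * (c + y * d) =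
        ((a * c + b * d * N : ↥(fixedField h)) : F) + y * ((a * d + b * c + b * d * T : ↥(fixedField h)) : F) by
      simp only [Subfield.coe_add, Subfield.coe_mul]
      linear_combination ((b : F) * d) * hyy]
    rw [hradd, hradd, hradd, hrK, hrK, hrK, hra, hra, hra]
    simp only [hsadd, hsmul]
    linear_combination -(s b * s d) * hsq
  have hrinj : Function.Injective r := fun z w e => by
    have e1 : α (z - w) = 0 := by
      simp only [r] at e
      rw [map_sub, (div_left_inj' hu0).1 e, sub_self]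
    exact sub_eq_zero.1 (hinj _ e1)
  let σ : F ≃+* F := RingEquiv.ofBijective
    ({ toFun := r, map_one' := hr1, map_mul' := hrmul,
       map_zero' := by simp only [r, map_zero, zero_div], map_add' := hradd } : F →+* F)
    ⟨hrinj, Finite.injective_iff_surjective.1 hrinj⟩
  exact ⟨Units.mk0 u hu0, σ, fun a => by
    show α a = u * (α a / u)
    rw [mul_div_cancel₀ _ hu0]⟩

/-- Every automorphism is semilinear modulo the centre. -/
theorem exists_semilinear (γ : MulAut h.UQ) :
    ∃ (l : Fˣ) (σ : F ≃+* F), ∀ x : h.UQ, (γ x).a = l * σ x.a := by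
  classical
  have hcen : ∀ (δ : MulAut h.UQ) (x : h.UQ), x.a = 0 → (δ x).a = 0 := by
    intro δ x hx
    rw [← UQ.mem_center_iff, Subgroup.mem_center_iff]
    intro y
    obtain ⟨y, rfl⟩ := δ.surjective y
    rw [← map_mul, ← map_mul, Subgroup.mem_center_iff.1 (UQ.mem_center_iff.2 hx) y]
  have hinv : ∀ x : h.UQ, x⁻¹.a = x.a := fun x => rfl
  have hsame : ∀ x y : h.UQ, x.a = y.a → (γ x).a = (γ y).a := by
    intro x y e
    have h1 := hcen γ (x⁻¹ * y) (by rw [UQ.mul_a, hinv, e, h.self_add])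
    rw [map_mul, map_inv, UQ.mul_a, hinv] at h1
    rw [← h.neg_eq (γ y).a]
    exact eq_neg_of_add_eq_zero_left h1
  let mk : F → h.UQ := fun a => (UQ.exists_mk (h := h) a).choose
  have hmk : ∀ a, (mk a).a = a := fun a => (UQ.exists_mk (h := h) a).choose_spec
  let α : F →+ F := AddMonoidHom.mk' (fun a => (γ (mk a)).a) fun a b => by
    rw [← UQ.mul_a, ← map_mul]
    exact hsame _ _ (by rw [hmk, UQ.mul_a, hmk, hmk])
  have hαa : ∀ x : h.UQ, α x.a = (γ x).a := fun x => hsame _ _ (hmk _)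
  let cz : ↥(fixedField h) → h.UQ := fun c => ⟨0, c, by
    rw [(c.2 : (c : F) ^ h.q = c), zero_mul, add_zero, h.self_add]⟩
  let β : ↥(fixedField h) →+ ↥(fixedField h) := AddMonoidHom.mk'
    (fun c => ⟨(γ (cz c)).b, UQ.b_fixed (hcen γ _ rfl)⟩) fun c d => Subtype.ext (by
      have e : cz (c + d) = cz c * cz d := UQ.ext (by simp [cz, UQ.mul_a])
        (by simp [cz, UQ.mul_b])
      show (γ (cz (c + d))).b = (γ (cz c)).b + (γ (cz d)).b
      rw [e, map_mul, UQ.mul_b, hcen γ (cz c) rfl, zero_mul, add_zero])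
  have hsq : ∀ x : h.UQ, (x * x).a = 0 ∧ (x * x).b = x.a * x.a ^ h.q := fun x => by
    refine ⟨by rw [UQ.mul_a, h.self_add], ?_⟩
    rw [UQ.mul_b, h.self_add, zero_add]
  obtain ⟨l, σ, hls⟩ := similitude_semilinear h α (fun a ha => by
      have h1 := hcen γ⁻¹ (γ (mk a)) ha
      rw [← MulAut.mul_apply, inv_mul_cancel, MulAut.one_apply, hmk] at h1
      exact h1) β fun a c e => by
      show (γ (cz c)).b = _
      have e1 : cz c = mk a * mk a := UQ.ext (hsq _).1.symm (by
        rw [(hsq _).2, hmk]; exact e)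
      rw [e1, map_mul, (hsq _).2, ← hαa, hmk]
  exact ⟨l, σ, fun x => by rw [← hαa, hls]⟩

/-- The automorphism attached to a semilinear map of the field. -/
def semiAut (l : Fˣ) (σ : F ≃+* F) : MulAut h.UQ where
  toFun x := ⟨l * σ x.a, (l : F) * (l : F) ^ h.q * σ x.b, by
    have e := congrArg σ x.ok
    rw [map_add, map_add, map_mul, map_pow, map_pow, map_zero] at e
    rw [mul_pow, mul_pow, mul_pow, h.pow_pow']
    linear_combination ((l : F) * (l : F) ^ h.q) * e⟩
  invFun x := ⟨σ.symm (((l⁻¹ : Fˣ) : F) * x.a), σ.symm (((l⁻¹ : Fˣ) : F) * ((l⁻¹ : Fˣ) : F) ^ h.q * x.b), by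
    rw [← map_pow, ← map_pow, ← map_mul, ← map_add, ← map_add, mul_pow, mul_pow, mul_pow, h.pow_pow',
      show (0 : F) = σ.symm 0 from (map_zero _).symm]
    congr 1
    linear_combination (((l⁻¹ : Fˣ) : F) * ((l⁻¹ : Fˣ) : F) ^ h.q) * x.ok⟩
  left_inv x := by
    ext
    · show σ.symm (((l⁻¹ : Fˣ) : F) * (l * σ x.a)) = x.a
      rw [← mul_assoc, Units.inv_mul, one_mul, RingEquiv.symm_apply_apply]
    · show σ.symm (((l⁻¹ : Fˣ) : F) * ((l⁻¹ : Fˣ) : F) ^ h.q * ((l : F) * (l : F) ^ h.q * σ x.b)) = x.b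
      rw [show ((l⁻¹ : Fˣ) : F) * ((l⁻¹ : Fˣ) : F) ^ h.q * ((l : F) * (l : F) ^ h.q * σ x.b) =
        (((l⁻¹ : Fˣ) : F) * l) * (((l⁻¹ : Fˣ) : F) * l) ^ h.q * σ x.b by rw [mul_pow]; ring,
        Units.inv_mul, one_pow, one_mul, one_mul, RingEquiv.symm_apply_apply]
  right_inv x := by
    ext
    · show (l : F) * σ (σ.symm (((l⁻¹ : Fˣ) : F) * x.a)) = x.a
      rw [RingEquiv.apply_symm_apply, ← mul_assoc, Units.mul_inv, one_mul]
    · show (l : F) * (l : F) ^ h.q * σ (σ.symm (((l⁻¹ : Fˣ) : F) * ((l⁻¹ : Fˣ) : F) ^ h.q * x.b)) = x.b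
      rw [RingEquiv.apply_symm_apply,
        show (l : F) * (l : F) ^ h.q * (((l⁻¹ : Fˣ) : F) * ((l⁻¹ : Fˣ) : F) ^ h.q * x.b) =
        ((l : F) * ((l⁻¹ : Fˣ) : F)) * ((l : F) * ((l⁻¹ : Fˣ) : F)) ^ h.q * x.b by rw [mul_pow]; ring,
        Units.mul_inv, one_pow, one_mul, one_mul]
  map_mul' x y := by
    ext
    · show (l : F) * σ (x * y).a = l * σ x.a + l * σ y.a
      rw [UQ.mul_a, map_add, mul_add]
    · show (l : F) * (l : F) ^ h.q * σ (x * y).b =
        (l : F) * (l : F) ^ h.q * σ x.b + (l : F) * (l : F) ^ h.q * σ y.b + l * σ x.a * ((l : F) * σ y.a) ^ h.q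
      rw [UQ.mul_b, map_add, map_add, map_mul, map_pow, mul_pow]
      ring

/-- The central automorphism attached to an additive map into the fixed field. -/
def centralAut (φ : F →+ ↥(fixedField h)) : MulAut h.UQ where
  toFun x := ⟨x.a, x.b + φ x.a, by
    rw [h.add_pow', ((φ x.a).2 : (φ x.a : F) ^ h.q = _)]
    linear_combination x.ok + (φ x.a : F) * h.two⟩
  invFun x := ⟨x.a, x.b + φ x.a, by
    rw [h.add_pow', ((φ x.a).2 : (φ x.a : F) ^ h.q = _)]
    linear_combination x.ok + (φ x.a : F) * h.two⟩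
  left_inv x := by
    ext
    · rfl
    · show x.b + φ x.a + φ x.a = x.b
      rw [add_assoc, h.self_add, add_zero]
  right_inv x := by
    ext
    · rfl
    · show x.b + φ x.a + φ x.a = x.b
      rw [add_assoc, h.self_add, add_zero]
  map_mul' x y := by
    ext
    · rfl
    · show x.b + y.b + x.a * y.a ^ h.q + (φ (x.a + y.a) : F) =
        x.b + φ x.a + (y.b + φ y.a) + x.a * y.a ^ h.q
      rw [map_add, Subfield.coe_add]
      ring

/-- The automorphisms acting trivially modulo the centre. -/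
def centralAuts : Subgroup (MulAut h.UQ) where
  carrier := {γ | ∀ x : h.UQ, (γ x).a = x.a}
  mul_mem' := fun {a b} ha hb x => by rw [MulAut.mul_apply, ha, hb]
  one_mem' := fun x => rfl
  inv_mem' := fun {a} ha x => by
    have := ha (a⁻¹ x)
    rw [← MulAut.mul_apply, mul_inv_cancel, MulAut.one_apply] at this
    exact this.symm

theorem mem_centralAuts {γ : MulAut h.UQ} : γ ∈ centralAuts h ↔ ∀ x : h.UQ, (γ x).a = x.a := Iff.rfl

theorem centralAuts_normal : (centralAuts h).Normal := ⟨fun γ hγ δ x => by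
  obtain ⟨l, σ, hls⟩ := exists_semilinear h δ
  rw [MulAut.mul_apply, MulAut.mul_apply, hls, hγ, ← hls, ← MulAut.mul_apply, mul_inv_cancel,
    MulAut.one_apply]⟩

theorem exists_centralAut {γ : MulAut h.UQ} (hγ : γ ∈ centralAuts h) : ∃ φ, γ = centralAut h φ := by
  classical
  have hsq : ∀ x : h.UQ, x.a = 0 → γ x = x := by
    intro x hx
    obtain ⟨c, hc, hcc⟩ := sqrt_mem h (UQ.b_fixed hx : x.b ∈ fixedField h)
    obtain ⟨y, hy⟩ := UQ.exists_mk (h := h) c
    have e : x = y * y := UQ.ext (by rw [UQ.mul_a, h.self_add, hx])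
      (by rw [UQ.mul_b, h.self_add, zero_add, hy, (hc : c ^ h.q = c), hcc])
    rw [e, map_mul]
    refine UQ.ext (by rw [UQ.mul_a, UQ.mul_a, hγ]) ?_
    rw [UQ.mul_b, UQ.mul_b, h.self_add, h.self_add, hγ]
  have hd : ∀ x : h.UQ, (γ x).b + x.b ∈ fixedField h := fun x => by
    have e1 := x.ok
    have e2 := (γ x).ok
    rw [hγ] at e2
    rw [mem_fixedField, h.add_pow']
    linear_combination e1 + e2 - ((γ x).b + x.b + x.a * x.a ^ h.q) * h.two
  have hwd : ∀ x y : h.UQ, x.a = y.a → (γ x).b + x.b = (γ y).b + y.b := by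
    intro x y e
    obtain ⟨z, hz⟩ : ∃ z, z = x⁻¹ * y := ⟨_, rfl⟩
    have hza : z.a = 0 := by rw [hz, UQ.mul_a, show x⁻¹.a = x.a from rfl, e, h.self_add]
    rw [show y = x * z by rw [hz, mul_inv_cancel_left], map_mul, hsq z hza, UQ.mul_b, UQ.mul_b, hza,
      zero_pow (show h.q ≠ 0 by positivity), mul_zero, mul_zero]
    linear_combination -z.b * h.two
  let mk : F → h.UQ := fun a => (UQ.exists_mk (h := h) a).choose
  have hmk : ∀ a, (mk a).a = a := fun a => (UQ.exists_mk (h := h) a).choose_spec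
  refine ⟨AddMonoidHom.mk' (fun a => ⟨(γ (mk a)).b + (mk a).b, hd _⟩) fun a b => Subtype.ext ?_, ?_⟩
  · show (γ (mk (a + b))).b + (mk (a + b)).b =
      (γ (mk a)).b + (mk a).b + ((γ (mk b)).b + (mk b).b)
    rw [hwd (mk (a + b)) (mk a * mk b) (by rw [hmk, UQ.mul_a, hmk, hmk]), map_mul, UQ.mul_b,
      UQ.mul_b, hγ, hγ]
    linear_combination ((mk a).a * (mk b).a ^ h.q) * h.two
  · ext1 x
    refine UQ.ext (hγ x) ?_
    show (γ x).b = x.b + ((γ (mk x.a)).b + (mk x.a).b)
    rw [hwd (mk x.a) x (hmk _)]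
    linear_combination -x.b * h.two

theorem semiAut_a (l : Fˣ) (σ : F ≃+* F) (x : h.UQ) : (semiAut h l σ x).a = l * σ x.a := rfl

/-- Parametrisation of all automorphisms. -/
theorem card_mulAut :
    Nat.card (MulAut h.UQ) = Nat.card (F →+ ↥(fixedField h)) * (Nat.card Fˣ * Nat.card (F ≃+* F)) := by
  classical
  rw [← Nat.card_prod, ← Nat.card_prod]
  refine (Nat.card_eq_of_bijective
    (fun p : (F →+ ↥(fixedField h)) × (Fˣ × (F ≃+* F)) => centralAut h p.1 * semiAut h p.2.1 p.2.2)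
    ⟨?_, ?_⟩).symm
  · rintro ⟨φ, l, σ⟩ ⟨φ', l', σ'⟩ e
    have ea : ∀ a, (l : F) * σ a = l' * σ' a := fun a => by
      obtain ⟨x, rfl⟩ := UQ.exists_mk (h := h) a
      exact congrArg (fun g : MulAut h.UQ => (g x).a) e
    have hl : l = l' := Units.ext (by simpa using ea 1)
    subst hl
    have hs : σ = σ' := RingEquiv.ext fun a => mul_left_cancel₀ l.ne_zero (ea a)
    subst hs
    have hφ : φ = φ' := by
      ext a
      obtain ⟨x, rfl⟩ := UQ.exists_mk (h := h) a
      have e' : (centralAut h φ (semiAut h l σ ((semiAut h l σ).symm x))).b =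
          (centralAut h φ' (semiAut h l σ ((semiAut h l σ).symm x))).b :=
        congrArg (fun g : MulAut h.UQ => (g ((semiAut h l σ).symm x)).b) e
      rw [MulEquiv.apply_symm_apply] at e'
      exact add_left_cancel e'
    rw [hφ]
  · intro γ
    obtain ⟨l, σ, hls⟩ := exists_semilinear h γ
    have hmem : γ * (semiAut h l σ)⁻¹ ∈ centralAuts h := fun x => by
      rw [MulAut.mul_apply, hls, ← semiAut_a, ← MulAut.mul_apply, mul_inv_cancel, MulAut.one_apply]
    obtain ⟨φ, hφ⟩ := exists_centralAut h hmem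
    exact ⟨⟨φ, l, σ⟩, by show centralAut h φ * _ = γ; rw [← hφ, inv_mul_cancel_right]⟩

theorem centralAuts_elem :
    Cfsg.IsElementaryAbelian 2 (centralAuts h) ∧
      Nat.card ↥(centralAuts h) = Nat.card (F →+ ↥(fixedField h)) := by
  classical
  have hmul : ∀ φ φ', centralAut h φ * centralAut h φ' = centralAut h (φ + φ') := fun φ φ' => by
    ext1 x
    refine UQ.ext rfl ?_
    show x.b + φ' x.a + φ x.a = x.b + ((φ x.a + φ' x.a : ↥(fixedField h)) : F)
    rw [Subfield.coe_add]; ring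
  refine ⟨⟨⟨⟨fun a b => ?_⟩⟩, fun a ha => ?_⟩, ?_⟩
  · obtain ⟨φ, hφ⟩ := exists_centralAut h a.2
    obtain ⟨φ', hφ'⟩ := exists_centralAut h b.2
    refine Subtype.ext ?_
    show (a : MulAut h.UQ) * b = b * a
    rw [hφ, hφ', hmul, hmul, add_comm]
  · obtain ⟨φ, hφ⟩ := exists_centralAut h ha
    rw [hφ, pow_two, hmul]
    ext1 x
    refine UQ.ext rfl ?_
    show x.b + ((φ x.a + φ x.a : ↥(fixedField h)) : F) = x.b
    rw [Subfield.coe_add, h.self_add, add_zero]
  · refine (Nat.card_eq_of_bijective (fun φ => (⟨centralAut h φ, fun x => rfl⟩ : ↥(centralAuts h)))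
      ⟨fun φ φ' e => ?_, fun γ => ?_⟩).symm
    · ext a
      obtain ⟨x, rfl⟩ := UQ.exists_mk (h := h) a
      exact add_left_cancel (congrArg (fun g : ↥(centralAuts h) => ((g : MulAut h.UQ) x).b) e)
    · obtain ⟨φ, hφ⟩ := exists_centralAut h γ.2
      exact ⟨φ, Subtype.ext hφ.symm⟩

theorem card_addHom : Nat.card (F →+ ↥(fixedField h)) = 2 ^ (2 * h.n ^ 2) := by
  haveI : CharP F 2 := CharTwo.of_one_ne_zero_of_two_eq_zero one_ne_zero h.two
  haveI : CharP ↥(fixedField h) 2 := CharP.subring F 2 (fixedField h).toSubring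
  letI : Algebra (ZMod 2) F := ZMod.algebra F 2
  letI : Algebra (ZMod 2) ↥(fixedField h) := ZMod.algebra _ 2
  haveI : Fact (Nat.Prime 2) := ⟨Nat.prime_two⟩
  rw [Nat.card_congr (AddMonoidHom.toZModLinearMapEquiv 2).toEquiv,
    Module.natCard_eq_pow_finrank (K := ZMod 2), Module.finrank_linearMap, Nat.card_zmod]
  have h1 := Module.natCard_eq_pow_finrank (K := ZMod 2) (V := F)
  have h2 := Module.natCard_eq_pow_finrank (K := ZMod 2) (V := ↥(fixedField h))
  rw [Nat.card_zmod, Nat.card_eq_fintype_card, h.card, ← pow_mul] at h1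
  rw [Nat.card_zmod, card_fixedField] at h2
  rw [← Nat.pow_right_injective le_rfl h1, ← Nat.pow_right_injective le_rfl h2]
  ring

theorem card_ringAut : Nat.card (F ≃+* F) = 2 * h.n := by
  haveI : CharP F 2 := CharTwo.of_one_ne_zero_of_two_eq_zero one_ne_zero h.two
  letI : Algebra (ZMod 2) F := ZMod.algebra F 2
  haveI : Fact (Nat.Prime 2) := ⟨Nat.prime_two⟩
  have e : (F ≃+* F) ≃ (F ≃ₐ[ZMod 2] F) :=
    { toFun := fun f => AlgEquiv.ofRingEquiv (f := f) fun x => by
        have : (f : F →+* F).comp (algebraMap (ZMod 2) F) = algebraMap (ZMod 2) F := Subsingleton.elim _ _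
        exact congrFun (congrArg DFunLike.coe this) x
      invFun := fun g => g.toRingEquiv
      left_inv := fun f => RingEquiv.ext fun _ => rfl
      right_inv := fun g => AlgEquiv.ext fun _ => rfl }
  rw [Nat.card_congr e, IsGalois.card_aut_eq_finrank]
  have h1 := Module.natCard_eq_pow_finrank (K := ZMod 2) (V := F)
  rw [Nat.card_zmod, Nat.card_eq_fintype_card, h.card, ← pow_mul] at h1
  rw [← Nat.pow_right_injective le_rfl h1]
  ring

/-- Normal two-subgroups of the automorphism group are central automorphisms. -/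
theorem le_centralAuts (P : Subgroup (MulAut h.UQ)) (hn : P.Normal) (hP : IsPGroup 2 ↥P) :
    P ≤ centralAuts h := by
  classical
  haveI : CharP F 2 := CharTwo.of_one_ne_zero_of_two_eq_zero one_ne_zero h.two
  have hscalar : ∀ (g : MulAut h.UQ), g ∈ P → ∀ μ : F, (∀ x, (g x).a = μ * x.a) → μ = 1 := by
    intro g hg μ hμ
    obtain ⟨k, hk⟩ := hP ⟨g, hg⟩
    have hk' : g ^ 2 ^ k = 1 := congrArg Subtype.val hk
    have e : ∀ (m : ℕ) (x : h.UQ), ((g ^ m) x).a = μ ^ m * x.a := by
      intro m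
      induction m with
      | zero => intro x; rw [pow_zero, pow_zero, one_mul, MulAut.one_apply]
      | succ m ih => intro x; rw [pow_succ', MulAut.mul_apply, hμ, ih, pow_succ', mul_assoc]
    obtain ⟨x, hx⟩ := UQ.exists_mk (h := h) 1
    have e1 := e (2 ^ k) x
    rw [hk', MulAut.one_apply, hx, mul_one] at e1
    exact iterateFrobenius_inj F 2 k (by simp [iterateFrobenius_def, ← e1])
  intro p hp
  obtain ⟨l, σ, hls⟩ := exists_semilinear h p
  have hσ : ∀ m : Fˣ, σ (m : F) = m := by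
    intro m
    set M := semiAut h m (RingEquiv.refl F) with hM
    have hc : p * (M * p⁻¹ * M⁻¹) ∈ P := P.mul_mem hp (hn.conj_mem _ (P.inv_mem hp) M)
    have e := hscalar _ hc (σ (m : F) * ((m⁻¹ : Fˣ) : F)) fun x => by
      obtain ⟨z, rfl⟩ := M.surjective x
      obtain ⟨y, rfl⟩ := p.surjective z
      have e1 : (p * (M * p⁻¹ * M⁻¹)) (M (p y)) = p (M y) := by
        show (p * (M * p⁻¹ * M⁻¹) * (M * p)) y = (p * M) y
        rw [show p * (M * p⁻¹ * M⁻¹) * (M * p) = p * M by group]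
      rw [e1, hls, hM, semiAut_a, semiAut_a, hls]
      simp only [RingEquiv.refl_apply, map_mul]
      field_simp
      simp [mul_comm, mul_assoc, mul_left_comm]
    rwa [Units.mul_inv_eq_one] at e
  have hσ' : ∀ a, σ a = a := fun a => by
    by_cases ha : a = 0
    · rw [ha, map_zero]
    · exact hσ (Units.mk0 a ha)
  have e := hscalar p hp l fun x => by rw [hls, hσ']
  intro x
  rw [hls, hσ', e, one_mul]

/-- The automorphism group, for any group isomorphic to the Sylow group. -/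
theorem mulAut_structure {S : Type*} [Group S] (e : S ≃* h.UQ) :
    Cfsg.IsElementaryAbelian 2 (Cfsg.pCore 2 (MulAut S)) ∧
      Nat.card ↥(Cfsg.pCore 2 (MulAut S)) = 2 ^ (2 * h.n ^ 2) ∧
      Nat.card (MulAut S) = 2 ^ (2 * h.n ^ 2) * (2 * h.n * (h.q ^ 2 - 1)) := by
  classical
  let c : MulAut h.UQ ≃* MulAut S := MulAut.congr e.symm
  obtain ⟨⟨hcm, hex⟩, hcard⟩ := centralAuts_elem h
  have hpc : Cfsg.pCore 2 (MulAut S) = (centralAuts h).map c.toMonoidHom := by
    refine le_antisymm (sSup_le fun N hN => ?_) (le_sSup ⟨?_, ?_⟩)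
    · haveI := hN.1
      have hle := le_centralAuts h (N.comap c.toMonoidHom) inferInstance
        (hN.2.comap_of_injective c.toMonoidHom c.injective)
      rintro g hg
      obtain ⟨g', rfl⟩ := c.surjective g
      exact ⟨g', hle hg, rfl⟩
    · exact (centralAuts_normal h).map c.toMonoidHom c.surjective
    · exact IsPGroup.map (fun g => ⟨1, Subtype.ext (by rw [pow_one]; exact hex g g.2)⟩) _
  have e2 := ((centralAuts h).equivMapOfInjective c.toMonoidHom c.injective)
  refine ⟨hpc ▸ ⟨⟨⟨fun a b => ?_⟩⟩, fun a ha => ?_⟩, ?_, ?_⟩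
  · obtain ⟨a, rfl⟩ := e2.surjective a
    obtain ⟨b, rfl⟩ := e2.surjective b
    rw [← map_mul, ← map_mul, hcm.is_comm.comm]
  · obtain ⟨b, hb, rfl⟩ := ha
    rw [← map_pow, hex b hb, map_one]
  · rw [hpc, ← Nat.card_congr e2.toEquiv, hcard, card_addHom]
  · rw [← Nat.card_congr c.toEquiv, card_mulAut, card_addHom, card_ringAut, Nat.card_units,
      Nat.card_eq_fintype_card, h.card]
    ring

end CfsgLib.InvChar.UnitarySylow
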