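import Mathlib
import Cfsg.Agent.Lib.InvChar.UnitarySylowInvolution

/-!
# Automorphisms of order three of the Sylow two-subgroups of `SU₃(2ⁿ)` fixing the centre

They are trivial when `3` is prime to `q + 1`; hence no symmetric group of degree three acts.
-/

set_option autoImplicit false

namespace CfsgLib.InvChar.UnitarySylow

open CfsgLib.Chev.PSUSyl CfsgLib.Chev.PSUSyl.QField

variable {F : Type*} [Field F] [Fintype F] (h : QField F)

/-- An isometry of order dividing three of the norm form is trivial. -/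
theorem isometry_eq_id (hco : Nat.Coprime 3 (h.q + 1)) (α : F →+ F)
    (hN : ∀ a, α a * α a ^ h.q = a * a ^ h.q) (h3 : ∀ a, α (α (α a)) = a) : ∀ a, α a = a := by
  have hB : ∀ a b : F, α a * α b ^ h.q + α b * α a ^ h.q = a * b ^ h.q + b * a ^ h.q := by
    intro a b
    have e := hN (a + b)
    rw [map_add, h.add_pow', h.add_pow'] at e
    linear_combination e - hN a - hN b
  set u := α 1 with hu
  have hu1 : u * u ^ h.q = 1 := by
    rw [hu, hN, one_mul, one_pow]
  have hu0 : u ≠ 0 := fun e => by rw [e, zero_mul] at hu1; exact zero_ne_one hu1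
  -- the normalised map
  have hroot : ∀ a, (α a / u + a) * (α a / u + a ^ h.q) = 0 := by
    intro a
    have hq : (α a / u) ^ h.q = α a ^ h.q * u := by
      rw [div_pow, div_eq_iff (pow_ne_zero _ hu0), mul_assoc, hu1, mul_one]
    have e1 : α a / u + (α a / u) ^ h.q = a + a ^ h.q := by
      rw [hq]
      have e := hB a 1
      rw [← hu, one_pow, mul_one, one_mul] at e
      rw [← e, show α a / u = α a * u ^ h.q by rw [div_eq_iff hu0, mul_assoc, mul_comm (u ^ h.q), hu1, mul_one]]
      ring
    have e2 : α a / u * (α a / u) ^ h.q = a * a ^ h.q := by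
      rw [hq, ← hN a]
      field_simp
    linear_combination (-(α a / u)) * e1 + e2 + ((α a / u) ^ 2 + a * a ^ h.q) * h.two
  have hor : ∀ a, α a = u * a ∨ α a = u * a ^ h.q := by
    intro a
    rcases mul_eq_zero.1 (hroot a) with e | e
    · left
      rw [← eq_neg_iff_add_eq_zero, h.neg_eq, div_eq_iff hu0] at e
      rw [e, mul_comm]
    · right
      rw [← eq_neg_iff_add_eq_zero, h.neg_eq, div_eq_iff hu0] at e
      rw [e, mul_comm]
  have hcase : (∀ a, α a = u * a) ∨ (∀ a, α a = u * a ^ h.q) := by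
    by_contra hno
    push Not at hno
    obtain ⟨⟨a, ha⟩, ⟨b, hb⟩⟩ := hno
    have ha' := (hor a).resolve_left ha
    have hb' := (hor b).resolve_right hb
    rcases hor (a + b) with e | e
    · rw [map_add, ha', hb', mul_add] at e
      exact ha (ha'.trans (add_right_cancel e))
    · rw [map_add, ha', hb', h.add_pow', mul_add] at e
      exact hb (hb'.trans (add_left_cancel e))
  rcases hcase with e | e
  · have hu3 : u ^ 3 = 1 := by
      have := h3 1
      rw [e, e, e] at this
      linear_combination this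
    have h1 : u = 1 := by
      rw [← orderOf_eq_one_iff]
      exact Nat.eq_one_of_dvd_coprimes hco (orderOf_dvd_of_pow_eq_one hu3)
        (orderOf_dvd_of_pow_eq_one (by rw [pow_succ', hu1]))
    intro a
    rw [e, h1, one_mul]
  · intro a
    have h2 : ∀ b, α (α b) = b := fun b => by
      rw [e, e, mul_pow, h.pow_pow', ← mul_assoc, hu1, one_mul]
    have := h3 a
    rwa [h2] at this

/-- An automorphism of order dividing three fixing the centre is trivial. -/
theorem aut_eq_one_of_fix_center (hco : Nat.Coprime 3 (h.q + 1)) (γ : MulAut h.UQ) (h3 : γ ^ 3 = 1)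
    (hfix : ∀ x : h.UQ, x.a = 0 → γ x = x) : γ = 1 := by
  classical
  have hinv : ∀ x : h.UQ, x⁻¹.a = x.a := fun x => rfl
  have hsame : ∀ x y : h.UQ, x.a = y.a → (γ x).a = (γ y).a := by
    intro x y e
    have e0 : (x⁻¹ * y).a = 0 := by rw [UQ.mul_a, hinv, e, h.self_add]
    have h1 : (γ (x⁻¹ * y)).a = 0 := by rw [hfix _ e0, e0]
    rw [map_mul, map_inv, UQ.mul_a, hinv] at h1
    rw [← h.neg_eq (γ y).a]
    exact eq_neg_of_add_eq_zero_left h1
  let mk : F → h.UQ := fun a => (UQ.exists_mk (h := h) a).choose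
  have hmk : ∀ a, (mk a).a = a := fun a => (UQ.exists_mk (h := h) a).choose_spec
  let α : F →+ F := AddMonoidHom.mk' (fun a => (γ (mk a)).a) fun a b => by
    rw [← UQ.mul_a, ← map_mul]
    exact hsame _ _ (by rw [hmk, UQ.mul_a, hmk, hmk])
  have hαa : ∀ x : h.UQ, α x.a = (γ x).a := fun x => hsame _ _ (hmk _)
  have h3' : ∀ x, γ (γ (γ x)) = x := fun x => by
    have := congrArg (fun f : MulAut h.UQ => f x) h3
    simpa [pow_succ, pow_zero] using this
  have hsq : ∀ x : h.UQ, (x * x).a = 0 ∧ (x * x).b = x.a * x.a ^ h.q := fun x => by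
    refine ⟨by rw [UQ.mul_a, h.self_add], ?_⟩
    rw [UQ.mul_b, h.self_add, zero_add]
  have key := isometry_eq_id h hco α (fun a => by
      show (γ (mk a)).a * (γ (mk a)).a ^ h.q = _
      rw [← (hsq _).2, ← map_mul, hfix _ (hsq _).1, (hsq _).2, hmk]) (fun a => by
      show α (α (γ (mk a)).a) = a
      rw [hαa, hαa, h3', hmk])
  ext1 x
  show γ x = x
  have hz : (x⁻¹ * γ x).a = 0 := by rw [UQ.mul_a, hinv, ← hαa, key, h.self_add]
  obtain ⟨z, hzd⟩ : ∃ z, z = x⁻¹ * γ x := ⟨_, rfl⟩
  rw [← hzd] at hz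
  have e1 : γ x = x * z := by rw [hzd, mul_inv_cancel_left]
  have e2 := h3' x
  rw [e1, map_mul, hfix z hz, e1, map_mul, map_mul, hfix z hz, e1, mul_assoc, mul_assoc,
    mul_eq_left, UQ.sq_of_center hz, mul_one] at e2
  rw [e1, e2, mul_one]

end CfsgLib.InvChar.UnitarySylow
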