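import Cfsg.Agent.Lib.Invol.ZStar
import Cfsg.Prelude.Def_Transfer
import Mathlib.LinearAlgebra.Eigenspace.Minpoly

/-!
A non-simplicity criterion: a weakly closed subgroup of the centre of a Sylow 2-subgroup lying in
`O_{2',2}` of the centralizers of the involutions in a coset.
-/

set_option autoImplicit false

namespace CfsgLib.InvChar.WCCoset

open Cfsg CfsgLib.Block CfsgLib.Invol
open scoped ComplexConjugate

universe u

variable {G : Type u} [Group G] [Finite G] (T : Sylow 2 G) (W : Subgroup G)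

/-- In a 2-group containing a weakly closed central `W`, conjugates of elements of `W` lie in `W`. -/
theorem strongly_closed (hWZ : W ≤ (T : Subgroup G) ⊓ Subgroup.centralizer ((T : Subgroup G) : Set G))
    (hwc : Cfsg.IsWeaklyClosed W (T : Subgroup G)) (R : Subgroup G) (hR : IsPGroup 2 ↥R) (hWR : W ≤ R)
    (w g : G) (hw : w ∈ W) (hu : g * w * g⁻¹ ∈ R) : g * w * g⁻¹ ∈ W := by
  haveI : Fact (Nat.Prime 2) := ⟨Nat.prime_two⟩
  obtain ⟨hWT, hW⟩ := hwc
  have hcen : ∀ a ∈ W, ∀ b ∈ (T : Subgroup G), b * a = a * b := fun a ha b hb =>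
    Subgroup.mem_centralizer_iff.1 (hWZ ha).2 b hb
  -- conjugates of `W` in a common Sylow subgroup coincide
  have heq : ∀ (a b : G) (T2 : Sylow 2 G), W.map (MulAut.conj a).toMonoidHom ≤ (T2 : Subgroup G) →
      W.map (MulAut.conj b).toMonoidHom ≤ (T2 : Subgroup G) →
      W.map (MulAut.conj a).toMonoidHom = W.map (MulAut.conj b).toMonoidHom := by
    intro a b T2 ha hb
    obtain ⟨k, hk⟩ := MulAction.exists_smul_eq G T T2
    have key : ∀ c : G, W.map (MulAut.conj c).toMonoidHom ≤ (T2 : Subgroup G) →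
        W.map (MulAut.conj c).toMonoidHom = W.map (MulAut.conj k).toMonoidHom := by
      intro c hc
      have h1 : W.map (MulAut.conj (k⁻¹ * c)).toMonoidHom ≤ (T : Subgroup G) := by
        rintro _ ⟨x, hx, rfl⟩
        have := hc (Subgroup.mem_map_of_mem _ hx)
        rw [← hk] at this
        obtain ⟨y, hy, hxy⟩ := this
        have e : y = k⁻¹ * (c * x * c⁻¹) * k := by
          rw [show c * x * c⁻¹ = k * y * k⁻¹ from hxy.symm]; group
        show k⁻¹ * c * x * (k⁻¹ * c)⁻¹ ∈ (T : Subgroup G)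
        rw [show k⁻¹ * c * x * (k⁻¹ * c)⁻¹ = k⁻¹ * (c * x * c⁻¹) * k by group, ← e]
        exact hy
      have h2 := congrArg (Subgroup.map (MulAut.conj k).toMonoidHom) (hW _ h1)
      rw [Subgroup.map_map] at h2
      rw [← h2]
      congr 1
      ext x
      simp [mul_assoc]
    rw [key a ha, key b hb]
  obtain ⟨T2, hT2⟩ := hR.exists_le_sylow
  set u := g * w * g⁻¹ with hudef
  -- `W` centralizes `u`
  have hWu : ∀ a ∈ W, a * u = u * a := by
    intro a ha
    obtain ⟨k, hk⟩ := MulAction.exists_smul_eq G T T2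
    have hWk : W.map (MulAut.conj k).toMonoidHom ≤ (T2 : Subgroup G) := by
      rw [← hk]
      exact Subgroup.map_mono hWT
    have hW1 : W.map (MulAut.conj (1 : G)).toMonoidHom = W := by
      ext x; simp
    have hWeq : W.map (MulAut.conj k).toMonoidHom = W := by
      have := heq k 1 T2 hWk (by rw [hW1]; exact hWR.trans hT2)
      rwa [hW1] at this
    rw [← hWeq] at ha
    obtain ⟨b, hb, rfl⟩ := ha
    have hu2 := hT2 hu
    rw [← hk] at hu2
    obtain ⟨y, hy, hyu⟩ := hu2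
    have := congrArg (MulAut.conj k) (hcen b hb y hy)
    rw [map_mul, map_mul] at this
    show MulAut.conj k b * u = u * MulAut.conj k b
    rw [show u = MulAut.conj k y from hyu.symm, this]
  -- Sylow argument in the centralizer of `u`
  set Cu := Subgroup.centralizer ({u} : Set G) with hCu
  have hWC : W ≤ Cu := fun a ha => Subgroup.mem_centralizer_singleton_iff.2 (hWu a ha)
  set Wg := W.map (MulAut.conj g).toMonoidHom with hWg
  have hWgC : Wg ≤ Cu := by
    rintro _ ⟨a, ha, rfl⟩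
    refine Subgroup.mem_centralizer_singleton_iff.2 ?_
    have := congrArg (MulAut.conj g) (hcen w hw a (hWT ha))
    rw [map_mul, map_mul] at this
    exact this
  have hp1 : IsPGroup 2 ↥W := T.isPGroup'.to_le hWT
  have hp2 : IsPGroup 2 ↥Wg := hp1.map _
  obtain ⟨R1, hR1⟩ := (hp1.comap_of_injective Cu.subtype Cu.subtype_injective).exists_le_sylow
  obtain ⟨R2, hR2⟩ := (hp2.comap_of_injective Cu.subtype Cu.subtype_injective).exists_le_sylow
  obtain ⟨c, hc⟩ := MulAction.exists_smul_eq ↥Cu R1 R2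
  obtain ⟨T3, hT3⟩ := (R2.isPGroup'.map Cu.subtype).exists_le_sylow
  have h3a : W.map (MulAut.conj (c : G)).toMonoidHom ≤ (T3 : Subgroup G) := by
    rintro _ ⟨a, ha, rfl⟩
    refine hT3 ⟨c * ⟨a, hWC ha⟩ * c⁻¹, ?_, rfl⟩
    rw [← hc]
    exact Subgroup.smul_mem_pointwise_smul _ (MulAut.conj c) _
      (hR1 (show (⟨a, hWC ha⟩ : ↥Cu) ∈ W.comap Cu.subtype from ha))
  have h3b : Wg ≤ (T3 : Subgroup G) := fun a ha =>
    hT3 ⟨⟨a, hWgC ha⟩, hR2 (show (⟨a, hWgC ha⟩ : ↥Cu) ∈ Wg.comap Cu.subtype from ha), rfl⟩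
  have huW : u ∈ Wg := ⟨w, hw, rfl⟩
  rw [hWg, heq g c T3 h3b h3a] at huW
  obtain ⟨a, ha, hau⟩ := huW
  have hcu : (c : G) * u = u * c := Subgroup.mem_centralizer_singleton_iff.1 c.2
  have hau' : (c : G) * a * (c : G)⁻¹ = (c : G) * u * (c : G)⁻¹ := by
    rw [hcu, mul_inv_cancel_right]; exact hau
  rwa [← mul_left_cancel (mul_right_cancel hau')]

/-- The product of an involution outside `W` with a conjugate of an involution of `W` is conjugate
to `t w'` times an element of the odd core of its centralizer. -/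
theorem mul_conj_invol (hWZ : W ≤ (T : Subgroup G) ⊓ Subgroup.centralizer ((T : Subgroup G) : Set G))
    (hwc : Cfsg.IsWeaklyClosed W (T : Subgroup G)) (t : G) (ht : orderOf t = 2)
    (htT : t ∈ (T : Subgroup G)) (htW : t ∉ W)
    (hcos : ∀ w ∈ W, orderOf (w * t) = 2 →
      W.subgroupOf (Subgroup.centralizer ({w * t} : Set G)) ≤
        Cfsg.pPrimePCore 2 ↥(Subgroup.centralizer ({w * t} : Set G)))
    (w : G) (hw : w ∈ W) (hwo : orderOf w = 2) (g : G) :
    ∃ c w' r : G, w' ∈ W ∧ orderOf w' = 2 ∧ orderOf (t * w') = 2 ∧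
      r ∈ Cfsg.centralizerPPrimeCore 2 (t * w') ∧
      c * (t * (g * w * g⁻¹)) * c⁻¹ = t * w' * r := by
  haveI : Fact (Nat.Prime 2) := ⟨Nat.prime_two⟩
  have hWT : W ≤ (T : Subgroup G) := hwc.1
  have htWc : ∀ a ∈ W, t * a = a * t := fun a ha =>
    Subgroup.mem_centralizer_iff.1 (hWZ ha).2 t htT
  set u := g * w * g⁻¹ with hu
  have huo : orderOf u = 2 := by rw [hu, orderOf_conj_eq, hwo]
  set y := t * u with hy
  have htt : t * t = 1 := invol_mul_self ht
  have hyt : t * y * t⁻¹ = y⁻¹ := conj_left_mul ht huo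
  have hyu : u * y * u⁻¹ = y⁻¹ := conj_right_mul ht huo
  have heven : Even (orderOf y) := by
    rw [← Nat.not_odd_iff_even]
    intro hodd
    obtain ⟨k, hk⟩ := isConj_iff.1 (isConj_of_odd ht huo hodd)
    apply htW
    have e : t = (k⁻¹ * g) * w * (k⁻¹ * g)⁻¹ := by
      rw [show (k⁻¹ * g) * w * (k⁻¹ * g)⁻¹ = k⁻¹ * u * k by rw [hu]; group, ← hk]; group
    rw [e] at htT ⊢
    exact strongly_closed T W hWZ hwc (T : Subgroup G) T.isPGroup' hWT w _ hw htT
  obtain ⟨a, M, hMo, haM⟩ := Nat.exists_eq_two_pow_mul_odd (orderOf_pos y).ne'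
  obtain ⟨k, hk⟩ := hMo
  set s := y ^ M with hs
  set u' := t * s with hu'
  -- `u'` is conjugate to `u`
  have hu'c : u' = (y ^ k)⁻¹ * u * y ^ k := by
    have h1 : u * y ^ k = (y ^ k)⁻¹ * u := by
      have := conj_pow_inv hyu k
      rw [← this]; simp [mul_assoc]
    have h2 : u = t * y := by rw [hy, ← mul_assoc, htt, one_mul]
    rw [← h1, mul_assoc, ← pow_add, h2, mul_assoc, ← pow_succ', hu', hs, hk, two_mul]
  have hs2a : s ^ 2 ^ a = 1 := by
    rw [hs, ← pow_mul, mul_comm, ← haM, pow_orderOf_eq_one]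
  have hts : t * s * t⁻¹ = s⁻¹ := by rw [hs]; exact conj_pow_inv hyt M
  have hsR : IsPGroup 2 ↥(Subgroup.zpowers s) := by
    intro x
    obtain ⟨i, hi⟩ := x.2
    refine ⟨a, Subtype.ext ?_⟩
    simp only [SubmonoidClass.coe_pow, OneMemClass.coe_one]
    rw [← hi, ← zpow_natCast, ← zpow_mul, mul_comm, zpow_mul, zpow_natCast, hs2a, one_zpow]
  have htR : IsPGroup 2 ↥(Subgroup.zpowers t) := isPGroup_zpowers_of_invol ht
  have htn : t ∈ Subgroup.normalizer ((Subgroup.zpowers s : Subgroup G) : Set G) := by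
    rw [Subgroup.mem_normalizer_iff]
    intro x
    have hc : ∀ i : ℤ, t * s ^ i * t⁻¹ = s ^ (-i) := fun i => by
      show MulAut.conj t (s ^ i) = _
      rw [map_zpow, MulAut.conj_apply, hts, inv_zpow, zpow_neg]
    constructor
    · rintro ⟨i, rfl⟩; exact ⟨-i, (hc i).symm⟩
    · rintro ⟨i, hi⟩
      refine ⟨-i, ?_⟩
      have h' := hc (-i)
      rw [neg_neg] at h'
      exact mul_left_cancel (mul_right_cancel (h'.trans hi))
  obtain ⟨T2, hT2⟩ := (htR.to_sup_of_normal_right' hsR (Subgroup.zpowers_le.2 htn)).exists_le_sylow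
  have ht2 : t ∈ (T2 : Subgroup G) :=
    hT2 ((le_sup_left : Subgroup.zpowers t ≤ _) (Subgroup.mem_zpowers t))
  have hu'2 : u' ∈ (T2 : Subgroup G) := mul_mem ht2
    (hT2 ((le_sup_right : Subgroup.zpowers s ≤ _) (Subgroup.mem_zpowers s)))
  -- `t` commutes with `u'`
  have hcomm : t * u' = u' * t := by
    obtain ⟨q, hq⟩ := MulAction.exists_smul_eq G T T2
    rw [← hq] at ht2 hu'2
    obtain ⟨t0, ht0, hte⟩ := ht2
    obtain ⟨v0, hv0, hve⟩ := hu'2
    have hv0W : v0 ∈ W := by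
      have e : v0 = (q⁻¹ * (y ^ k)⁻¹ * g) * w * (q⁻¹ * (y ^ k)⁻¹ * g)⁻¹ := by
        have h1 : (q⁻¹ * (y ^ k)⁻¹ * g) * w * (q⁻¹ * (y ^ k)⁻¹ * g)⁻¹ =
            q⁻¹ * ((y ^ k)⁻¹ * u * y ^ k) * q := by rw [hu]; group
        rw [h1, ← hu'c, show u' = q * v0 * q⁻¹ from hve.symm]; group
      rw [e] at hv0 ⊢
      exact strongly_closed T W hWZ hwc (T : Subgroup G) T.isPGroup' hWT w _ hw hv0
    have := congrArg (MulAut.conj q) (Subgroup.mem_centralizer_iff.1 (hWZ hv0W).2 t0 ht0)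
    rw [map_mul, map_mul] at this
    rw [show t = MulAut.conj q t0 from hte.symm, show u' = MulAut.conj q v0 from hve.symm]
    exact this
  have hcts : t * s = s * t := by
    have h := hcomm
    rw [hu', mul_assoc t s t] at h
    exact mul_left_cancel h
  have hss : s * s = 1 := by
    rw [hcts, mul_inv_cancel_right] at hts
    exact eq_inv_iff_mul_eq_one.1 hts
  have hsne : s ≠ 1 := by
    intro h
    have hd : orderOf y ∣ M := orderOf_dvd_of_pow_eq_one h
    have := heven.two_dvd.trans hd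
    omega
  have hord : orderOf y = 2 * M := by
    have hd : orderOf y ∣ 2 * M := orderOf_dvd_of_pow_eq_one (by
      rw [mul_comm, pow_mul, pow_two]; exact hss)
    rw [haM] at hd ⊢
    have ha : a ≠ 0 := by
      intro h0
      rw [haM, h0, pow_zero, one_mul] at heven
      exact Nat.not_even_iff_odd.2 ⟨k, hk⟩ heven
    have h2a := Nat.le_of_dvd two_pos (Nat.dvd_of_mul_dvd_mul_right (by omega) hd)
    have : a ≤ 1 := (Nat.pow_le_pow_iff_right (le_refl 2)).1 (h2a.trans (by norm_num))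
    rw [show a = 1 by omega, pow_one]
  -- move `u'` into `W` inside `C(t)`
  set Ct := Subgroup.centralizer ({t} : Set G) with hCt
  have hWC : W ≤ Ct := fun x hx => Subgroup.mem_centralizer_singleton_iff.2 (htWc x hx).symm
  have hu'o : orderOf u' = 2 := by
    rw [hu'c, show (y ^ k)⁻¹ * u * y ^ k = (y ^ k)⁻¹ * u * ((y ^ k)⁻¹)⁻¹ by rw [inv_inv],
      orderOf_conj_eq, huo]
  have hu'C : u' ∈ Ct := Subgroup.mem_centralizer_singleton_iff.2 hcomm.symm
  obtain ⟨R1, hR1⟩ := ((T.isPGroup'.to_le hWT).comap_of_injective Ct.subtype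
    Ct.subtype_injective).exists_le_sylow
  obtain ⟨R2, hR2⟩ := (isPGroup_zpowers_of_invol (show orderOf (⟨u', hu'C⟩ : ↥Ct) = 2 by
    rw [Subgroup.orderOf_mk, hu'o])).exists_le_sylow
  obtain ⟨c, hc⟩ := MulAction.exists_smul_eq ↥Ct R2 R1
  have hmem : c * ⟨u', hu'C⟩ * c⁻¹ ∈ (R1 : Subgroup ↥Ct) := by
    rw [← hc]
    exact Subgroup.smul_mem_pointwise_smul _ (MulAut.conj c) _ (hR2 (Subgroup.mem_zpowers _))
  set w' := (c : G) * u' * (c : G)⁻¹ with hw'
  have hw'W : w' ∈ W := by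
    have e : w' = ((c : G) * (y ^ k)⁻¹ * g) * w * ((c : G) * (y ^ k)⁻¹ * g)⁻¹ := by
      rw [show ((c : G) * (y ^ k)⁻¹ * g) * w * ((c : G) * (y ^ k)⁻¹ * g)⁻¹ =
        (c : G) * ((y ^ k)⁻¹ * u * y ^ k) * (c : G)⁻¹ by rw [hu]; group, ← hu'c]
    have hin : w' ∈ (R1 : Subgroup ↥Ct).map Ct.subtype := ⟨_, hmem, rfl⟩
    rw [e] at hin ⊢
    exact strongly_closed T W hWZ hwc _ (R1.isPGroup'.map _)
      (fun x hx => ⟨⟨x, hWC hx⟩, hR1 (show (⟨x, hWC hx⟩ : ↥Ct) ∈ W.comap Ct.subtype from hx), rfl⟩)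
      w _ hw hin
  have hw'o : orderOf w' = 2 := by rw [hw', orderOf_conj_eq, hu'o]
  have hct : (c : G) * t * (c : G)⁻¹ = t := by
    rw [Subgroup.mem_centralizer_singleton_iff.1 c.2, mul_inv_cancel_right]
  set y0 := (c : G) * y * (c : G)⁻¹ with hy0
  have hx : y0 ^ M = t * w' := by
    rw [hy0, conj_pow, ← hs, hw', hu']
    calc (c : G) * s * (c : G)⁻¹ = (c : G) * ((t * t) * s) * (c : G)⁻¹ := by rw [htt, one_mul]
      _ = (c : G) * t * (c : G)⁻¹ * ((c : G) * (t * s) * (c : G)⁻¹) := by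
          simp only [mul_assoc, inv_mul_cancel_left]
      _ = t * ((c : G) * (t * s) * (c : G)⁻¹) := by rw [hct]
  have hy0o : orderOf y0 = 2 * M := by rw [hy0, orderOf_conj_eq, hord]
  have hxo : orderOf (t * w') = 2 := by
    rw [← hx, orderOf_pow' _ (by omega), hy0o, Nat.gcd_eq_right ⟨2, by ring⟩,
      Nat.mul_div_cancel _ (by omega)]
  refine ⟨c, w', y0 ^ (M + 1), hw'W, hw'o, hxo, ?_, ?_⟩
  · -- the odd part lies in the odd core
    set Cx := Subgroup.centralizer ({t * w'} : Set G) with hCx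
    have hy0C : y0 ∈ Cx :=
      Subgroup.mem_centralizer_singleton_iff.2 (by rw [← hx, ← pow_succ', ← pow_succ])
    have hw'C : w' ∈ Cx :=
      Subgroup.mem_centralizer_singleton_iff.2 (by rw [← mul_assoc, ← htWc w' hw'W])
    have hCx' : Cx = Subgroup.centralizer ({w' * t} : Set G) := by rw [hCx, htWc w' hw'W]
    have hwP : (⟨w', hw'C⟩ : ↥Cx) ∈ Cfsg.pPrimePCore 2 ↥Cx := by
      have h := hcos w' hw'W (by rw [← htWc w' hw'W]; exact hxo)
      rw [← hCx'] at h
      exact h hw'W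
    have hinv : w' * y0 * w'⁻¹ = y0⁻¹ := by
      have h1 : u' * y * u'⁻¹ = y⁻¹ := by
        rw [hu'c]
        calc (y ^ k)⁻¹ * u * y ^ k * y * ((y ^ k)⁻¹ * u * y ^ k)⁻¹
            = (y ^ k)⁻¹ * u * (y ^ k * y * (y ^ k)⁻¹) * u⁻¹ * y ^ k := by group
          _ = (y ^ k)⁻¹ * (u * y * u⁻¹) * y ^ k := by
              rw [← pow_succ, pow_succ', mul_inv_cancel_right]; group
          _ = y⁻¹ := by rw [hyu, mul_assoc, ((Commute.refl y).inv_left.pow_right k).eq,
              inv_mul_cancel_left]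
      rw [hy0, hw']
      calc (c : G) * u' * (c : G)⁻¹ * ((c : G) * y * (c : G)⁻¹) * ((c : G) * u' * (c : G)⁻¹)⁻¹
          = (c : G) * (u' * y * u'⁻¹) * (c : G)⁻¹ := by group
        _ = ((c : G) * y * (c : G)⁻¹)⁻¹ := by rw [h1]; group
    set r : ↥Cx := ⟨y0, hy0C⟩ ^ (M + 1) with hr
    have hrw : (⟨w', hw'C⟩ : ↥Cx) * r * (⟨w', hw'C⟩ : ↥Cx)⁻¹ = r⁻¹ :=
      Subtype.ext (by
        simp only [hr, Subgroup.coe_mul, InvMemClass.coe_inv, SubmonoidClass.coe_pow]
        exact conj_pow_inv hinv (M + 1))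
    set O := Cfsg.pPrimeCore 2 ↥Cx with hO
    haveI hOn : O.Normal := CfsgLib.Solvable.pPrimeCore_normal 2 ↥Cx
    set π := QuotientGroup.mk' O with hπ
    have hP := CfsgLib.Solvable.pCore_isPGroup (G := ↥Cx ⧸ O) 2
    haveI hPn : (Cfsg.pCore 2 (↥Cx ⧸ O)).Normal := CfsgLib.Solvable.pCore_normal 2 _
    have hwbar : π ⟨w', hw'C⟩ ∈ Cfsg.pCore 2 (↥Cx ⧸ O) := hwP
    have hmem2 : (π r)⁻¹ * (π r)⁻¹ ∈ Cfsg.pCore 2 (↥Cx ⧸ O) := by
      have h := mul_mem hwbar (hPn.conj_mem _ (inv_mem hwbar) (π r))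
      rw [← mul_assoc, ← mul_assoc, ← map_inv π, ← map_mul, ← map_mul, hrw, map_inv] at h
      exact h
    have hoddr : Odd (orderOf r) := by
      have h1 : orderOf r ∣ M := by
        rw [← Subgroup.orderOf_coe]
        refine orderOf_dvd_of_pow_eq_one ?_
        simp only [hr, SubmonoidClass.coe_pow]
        rw [← pow_mul, show (M + 1) * M = orderOf y0 * (k + 1) by rw [hy0o, hk]; ring, pow_mul,
          pow_orderOf_eq_one, one_pow]
      exact (show Odd M from ⟨k, hk⟩).of_dvd_nat h1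
    have hoddπ : Odd (orderOf (π r)) := hoddr.of_dvd_nat (orderOf_map_dvd π r)
    obtain ⟨i, hi⟩ := hP ⟨_, hmem2⟩
    have hi' : ((π r)⁻¹ * (π r)⁻¹) ^ 2 ^ i = 1 := by simpa using congrArg Subtype.val hi
    have hr1 : π r = 1 := by
      rw [← _root_.mul_inv_rev, inv_pow, inv_eq_one, ← pow_two, ← pow_mul] at hi'
      refine orderOf_eq_one_iff.1 (Nat.eq_one_of_dvd_coprimes (a := 2 * 2 ^ i) ?_
        (orderOf_dvd_of_pow_eq_one hi') dvd_rfl)
      rw [← pow_succ']
      exact (Nat.coprime_two_left.2 hoddπ).pow_left _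
    exact ⟨r, (QuotientGroup.eq_one_iff r).1 hr1, by simp [hr]⟩
  · rw [← hx, ← hy0, ← pow_add, show M + (M + 1) = 2 * M + 1 by ring, pow_succ, ← hy0o,
      pow_orderOf_eq_one, one_mul]

/-- The non-simplicity criterion. -/
theorem not_simple (hW1 : W ≠ ⊥)
    (hWZ : W ≤ (T : Subgroup G) ⊓ Subgroup.centralizer ((T : Subgroup G) : Set G))
    (hwc : Cfsg.IsWeaklyClosed W (T : Subgroup G)) (t : G) (ht : orderOf t = 2)
    (htT : t ∈ (T : Subgroup G)) (htW : t ∉ W)
    (hcos : ∀ w ∈ W, orderOf (w * t) = 2 →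
      W.subgroupOf (Subgroup.centralizer ({w * t} : Set G)) ≤
        Cfsg.pPrimePCore 2 ↥(Subgroup.centralizer ({w * t} : Set G))) :
    ¬ IsSimpleGroup G := by
  classical
  intro hS
  haveI : Fact (Nat.Prime 2) := ⟨Nat.prime_two⟩
  have hWT := hwc.1
  have hWc : ∀ a ∈ W, ∀ b ∈ (T : Subgroup G), b * a = a * b := fun a ha b hb =>
    Subgroup.mem_centralizer_iff.1 (hWZ ha).2 b hb
  haveI : Nontrivial ↥W := (Subgroup.nontrivial_iff_ne_bot W).2 hW1
  obtain ⟨w, hw, hwo⟩ : ∃ w ∈ W, orderOf w = 2 := by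
    obtain ⟨j, hj, hj'⟩ := (T.isPGroup'.to_le hWT).nontrivial_iff_card.1 inferInstance
    obtain ⟨a, ha⟩ := exists_prime_orderOf_dvd_card' (G := ↥W) 2 (by
      rw [hj']; exact dvd_pow_self 2 hj.ne')
    exact ⟨a, a.2, by rw [Subgroup.orderOf_coe, ha]⟩
  let V := {v : G // v ∈ W ∧ v * v = 1}
  have htv : ∀ v : V, orderOf (t * v.1) = 2 ∧ t * v.1 ∈ (T : Subgroup G) ∧ t * v.1 ∉ W ∧
      ∀ w' ∈ W, orderOf (w' * (t * v.1)) = 2 →
        W.subgroupOf (Subgroup.centralizer ({w' * (t * v.1)} : Set G)) ≤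
          Cfsg.pPrimePCore 2 ↥(Subgroup.centralizer ({w' * (t * v.1)} : Set G)) := by
    intro v
    have hc : v.1 * t = t * v.1 := (hWc _ v.2.1 t htT).symm
    refine ⟨invol_of_mul_self ?_ ?_, mul_mem htT (hWT v.2.1),
      fun h => htW ((Subgroup.mul_mem_cancel_right W v.2.1).1 h), fun w' hw' ho => ?_⟩
    · rw [mul_assoc, ← mul_assoc v.1 t, hc, mul_assoc t v.1 v.1, v.2.2, mul_one, invol_mul_self ht]
    · intro h
      exact htW (by rw [eq_inv_of_mul_eq_one_left h]; exact inv_mem v.2.1)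
    · have e : w' * (t * v.1) = w' * v.1 * t := by rw [← hc, mul_assoc]
      rw [e] at ho ⊢
      exact hcos _ (mul_mem hw' v.2.1) ho
  have hgen : ∀ (v : V) (g : G), ∃ c w' r : G, w' ∈ W ∧ orderOf w' = 2 ∧
      r ∈ Cfsg.centralizerPPrimeCore 2 (t * v.1 * w') ∧
      c * (t * v.1 * (g * w * g⁻¹)) * c⁻¹ = t * v.1 * w' * r ∧ orderOf (t * v.1 * w') = 2 := by
    intro v g
    obtain ⟨h1, h2, h3, h4⟩ := htv v
    obtain ⟨c, w', r, a1, a2, a3, a4, a5⟩ := mul_conj_invol T W hWZ hwc _ h1 h2 h3 h4 w hw hwo g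
    exact ⟨c, w', r, a1, a2, a4, a5, a3⟩
  choose cc ww rr hww hwwo hrr heq hxo using hgen
  let nx : V → G → V := fun v g => ⟨v.1 * ww v g, mul_mem v.2.1 (hww v g), by
    have hc : ww v g * v.1 = v.1 * ww v g := hWc _ v.2.1 _ (hWT (hww v g))
    rw [mul_assoc, ← mul_assoc (ww v g) v.1, hc, mul_assoc v.1 (ww v g) (ww v g),
      invol_mul_self (hwwo v g), mul_one, v.2.2]⟩
  obtain ⟨Q, hQ⟩ := CfsgLib.BlockB.exists_isPModular (p := 2) Nat.prime_two
  have := isPrime_of_pmodular hQ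
  have := Fintype.ofFinite G
  have := Fintype.ofFinite (IrrCharacter G)
  set n : ℂ := (Nat.card G : ℂ) with hn
  have hn0 : n ≠ 0 := CfsgLib.Char.natCard_ne_zero (G := G)
  let L : Module.End ℂ (V → ℂ) :=
    { toFun := fun f v => n⁻¹ * ∑ g : G, f (nx v g)
      map_add' := fun f f' => funext fun v => by simp [Finset.sum_add_distrib, mul_add]
      map_smul' := fun a f => funext fun v => by
        simp only [Pi.smul_apply, smul_eq_mul, RingHom.id_apply, ← Finset.mul_sum]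
        ring }
  let B := Finset.univ.filter fun χ : IrrCharacter G => χ ∈ principalBlock Q G
  let f : IrrCharacter G → V → ℂ := fun χ v => (χ : G → ℂ) (t * v.1)
  let lam : IrrCharacter G → ℂ := fun χ => (χ : G → ℂ) w / (χ : G → ℂ) 1
  have hne : ∀ χ : IrrCharacter G, (χ : G → ℂ) 1 ≠ 0 := fun χ =>
    CfsgLib.Char.irr_apply_one_ne_zero χ.2
  have heig : ∀ χ ∈ B, L (f χ) = lam χ • f χ := by
    intro χ hχ
    funext v
    show n⁻¹ * ∑ g : G, (χ : G → ℂ) (t * (nx v g).1) = lam χ * (χ : G → ℂ) (t * v.1)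
    have h := CfsgLib.BlockB.sum_irr_mul_conj χ (t * v.1) w
    rw [Finset.sum_congr rfl (g := fun g => (χ : G → ℂ) (t * (nx v g).1)) fun g _ => ?_] at h
    · rw [h, ← hn, show lam χ = (χ : G → ℂ) w / (χ : G → ℂ) 1 from rfl]
      field_simp
    · rw [show t * (nx v g).1 = t * v.1 * ww v g from (mul_assoc _ _ _).symm,
        ← principal_const_on_core hQ ⟨1, by rw [hxo v g, pow_one]⟩ (hrr v g)
          (Finset.mem_filter.1 hχ).2]
      exact CfsgLib.Char.isClassFunction_isConj (CfsgLib.Char.irr_isClassFunction χ.2)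
        (isConj_iff.2 ⟨cc v g, heq v g⟩)
  have hsum : ∑ χ ∈ B, (χ : G → ℂ) 1 • f χ = 0 := by
    funext v
    rw [Finset.sum_apply]
    simp only [Pi.smul_apply, smul_eq_mul, Pi.zero_apply, f]
    have horth := sum_block_eq_zero_of_regular_singular hQ
      (isPBlock_principalBlock (M := Q) (G := G)) (g := 1) (h := t * v.1)
      (by rw [orderOf_one]; norm_num) (by rw [(htv v).1])
    rw [finsum_mem_eq_sum_of_subset (s := principalBlock Q G) (t := B)] at horth
    rotate_left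
    · intro χ hχ; simpa [B] using hχ.1
    · intro χ hχ; simpa [B] using hχ
    have := congrArg (starRingEnd ℂ) horth
    rw [map_sum, map_zero] at this
    rw [← this]
    refine Finset.sum_congr rfl fun χ _ => ?_
    obtain ⟨d, -, hd⟩ := CfsgLib.Char.irr_apply_one_pos χ.2
    rw [map_mul, hd, Complex.conj_natCast, Complex.conj_conj]
  have hlam : ∀ χ : IrrCharacter G, χ ≠ trivIrr → lam χ ≠ 1 := by
    intro χ hχ h1
    have hwk : w ∈ CfsgLib.BlockB.charKer χ :=
      CfsgLib.BlockB.mem_charKer.2 ((div_eq_one_iff_eq (hne χ)).1 h1)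
    rcases (CfsgLib.BlockB.charKer_normal χ).eq_bot_or_eq_top with h | h
    · rw [h, Subgroup.mem_bot] at hwk
      exact invol_ne_one hwo hwk
    · refine hχ (Subtype.ext (funext fun g => ?_))
      have hg : (χ : G → ℂ) g = (χ : G → ℂ) 1 := CfsgLib.BlockB.mem_charKer.1 (h ▸ Subgroup.mem_top g)
      have hd := CfsgLib.BlockB.degree_dvd_index_charKer χ
      rw [h, Subgroup.index_top, Nat.dvd_one] at hd
      rw [hg, ← CfsgLib.BlockB.irr_degree_cast χ, hd, Nat.cast_one]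
      rfl
  let P : Polynomial ℂ := ∏ χ ∈ B.erase trivIrr, (Polynomial.X - Polynomial.C (lam χ))
  have hP1 : P.eval 1 ≠ 0 := by
    rw [Polynomial.eval_prod, Finset.prod_ne_zero_iff]
    intro χ hχ
    simp only [Polynomial.eval_sub, Polynomial.eval_X, Polynomial.eval_C]
    exact sub_ne_zero.2 (Ne.symm (hlam χ (Finset.mem_erase.1 hχ).1))
  have hzero : ∀ χ ∈ B.erase trivIrr, Polynomial.aeval L P (f χ) = 0 := by
    intro χ hχ
    rw [Module.End.aeval_apply_of_mem_apply_eq_smul (p := P) (heig χ (Finset.mem_of_mem_erase hχ))]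
    rw [show P.eval (lam χ) = 0 by
      rw [Polynomial.eval_prod]
      exact Finset.prod_eq_zero hχ (by simp), zero_smul]
  have htriv : trivIrr ∈ B := Finset.mem_filter.2 ⟨Finset.mem_univ _, one_mem_principalBlock⟩
  rw [← Finset.add_sum_erase B _ htriv] at hsum
  have hf1 : ((trivIrr : IrrCharacter G) : G → ℂ) 1 • f trivIrr = fun _ => (1 : ℂ) := by
    funext v; simp [f, trivIrr]
  rw [hf1] at hsum
  have h0 := congrArg (Polynomial.aeval L P) hsum
  rw [map_add, map_sum, map_zero, Finset.sum_eq_zero (fun χ hχ => by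
    rw [map_smul, hzero χ hχ, smul_zero]), add_zero] at h0
  have hone : L (fun _ : V => (1 : ℂ)) = (1 : ℂ) • fun _ : V => (1 : ℂ) := by
    funext v
    show n⁻¹ * ∑ _g : G, (1 : ℂ) = (1 : ℂ) * 1
    rw [Finset.sum_const, Finset.card_univ, ← Nat.card_eq_fintype_card, nsmul_eq_mul, mul_one,
      mul_one, ← hn, inv_mul_cancel₀ hn0]
  rw [Module.End.aeval_apply_of_mem_apply_eq_smul (p := P) hone] at h0
  have := congrFun h0 ⟨1, one_mem W, one_mul 1⟩
  simp only [Pi.smul_apply, smul_eq_mul, mul_one, Pi.zero_apply] at this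
  exact hP1 this

end CfsgLib.InvChar.WCCoset
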